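import Mathlib.Algebra.CharP.Two
import Mathlib.FieldTheory.Finite.Basic
import Mathlib.FieldTheory.Perfect
import Mathlib
import Cfsg.Agent.Lib.SylowNormalInf
import Cfsg.Prelude.Def_TwoFusion
import Cfsg.Agent.StdU3.TransferTE
import Cfsg.Agent.Lib.GoldschmidtFusion
import Cfsg.Agent.S0111
import Cfsg.Agent.FastGrp
import Cfsg.Agent.Prune
set_option linter.all false

section
prune_inst 0x7ff0fefbaff8addfdf7f7e7dfededffc19d5dfffffdfff0bffe0e9efcfdf030a39e52b8d1de058ff0ee2629410b87803f9feceffea6bdc7ffffd5df41ffbee0fa5e7b50951d688340fbc0ff603f067ce7f3fffffffffffffffffffffffffffbefffdffffffff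

-- part: StdU3/Semilinear
section
set_option linter.all false
open scoped Cfsg.Agent.FastGrp

/-!
# Additive maps multiplying the norm form of a quadratic extension by an additive map (characteristic two)

`K` a finite field of characteristic two, `τ` an automorphism of order two of `K`, `A` an injective additive map with
`A b * τ (A b) = θ (b * τ b)` for a map `θ` which is additive on the fixed field. Then `A b = c * σ b` for a scalar `c`
and a field automorphism `σ`.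
-/

set_option autoImplicit false

namespace Cfsg.Agent.StdU3.Semilinear

variable {K : Type*} [Field K] [CharP K 2]

private theorem dbl (x : K) : x + x = 0 := CharTwo.add_self_eq_zero x

/-- Normalised version: `B 1 = 1`; the conclusion is that `B` is multiplicative. -/
theorem map_mul_of_norm (τ : K ≃+* K) (hτ : ∀ x, τ (τ x) = x) (hne : ∃ x, τ x ≠ x)
    (hsq : ∀ x : K, τ x = x → ∃ y, τ y = y ∧ y * y = x)
    (B : K →+ K) (hB : Function.Injective B) (hB1 : B 1 = 1) (η : K → K)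
    (hη : ∀ x y, τ x = x → τ y = y → η (x + y) = η x + η y)
    (h : ∀ b, B b * τ (B b) = η (b * τ b)) :
    (∀ x y : K, B (x * y) = B x * B y) ∧ ∀ x : K, τ x = x → τ (B x) = B x := by
  -- basic facts
  have fixN : ∀ b : K, τ (b * τ b) = b * τ b := fun b => by rw [map_mul, hτ, mul_comm]
  have fixT : ∀ b c : K, τ (b * τ c + c * τ b) = b * τ c + c * τ b := fun b c => by
    rw [map_add, map_mul, map_mul, hτ, hτ]; ring
  have η0 : η 0 = 0 := by
    have := hη 0 0 (map_zero τ) (map_zero τ)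
    rw [add_zero, dbl] at this
    exact this
  have η1 : η 1 = 1 := by
    have := h 1
    rw [hB1, map_one, one_mul] at this
    exact this.symm
  have hT : ∀ b c : K, B b * τ (B c) + B c * τ (B b) = η (b * τ c + c * τ b) := by
    intro b c
    have h1 := h (b + c)
    have e1 : (b + c) * τ (b + c) = (b * τ b + c * τ c) + (b * τ c + c * τ b) := by
      rw [map_add]; ring
    rw [e1, hη _ _ (by rw [map_add, fixN, fixN]) (fixT b c), hη _ _ (fixN b) (fixN c), ← h b, ← h c, map_add,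
      map_add] at h1
    have h2 : B b * τ (B c) + B c * τ (B b) =
        (B b + B c) * (τ (B b) + τ (B c)) + (B b * τ (B b) + B c * τ (B c)) := by
      have e2 := dbl (B b * τ (B b) + B c * τ (B c))
      linear_combination (-1 : K) * e2
    rw [h2, h1]
    have e3 := dbl (B b * τ (B b) + B c * τ (B c))
    linear_combination e3
  have hinj0 : ∀ b, b ≠ 0 → B b ≠ 0 := fun b hb h0 => hb (hB (by rw [h0, map_zero]))
  -- lines are preserved
  have hline : ∀ lam b : K, τ lam = lam → b ≠ 0 → ∃ μ, τ μ = μ ∧ B (lam * b) = μ * B b := by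
    intro lam b hl hb
    have h1 := hT b (lam * b)
    have e1 : b * τ (lam * b) + lam * b * τ b = 0 := by
      rw [map_mul, hl]
      have := dbl (lam * (b * τ b))
      linear_combination this
    rw [e1, η0] at h1
    have hb' := hinj0 b hb
    have hb'' : τ (B b) ≠ 0 := fun h0 => hb' (by rw [← hτ (B b), h0, map_zero])
    refine ⟨B (lam * b) / B b, ?_, by field_simp⟩
    rw [map_div₀, div_eq_div_iff hb'' hb']
    have e2 := dbl (B (lam * b) * τ (B b))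
    linear_combination h1 - e2
  have fixB : ∀ lam : K, τ lam = lam → τ (B lam) = B lam := by
    intro lam hl
    obtain ⟨μ, h1, h2⟩ := hline lam 1 hl one_ne_zero
    rw [mul_one, hB1, mul_one] at h2
    rw [h2, h1]
  -- a generator
  obtain ⟨ω, hω⟩ : ∃ ω : K, τ ω = ω + 1 := by
    obtain ⟨x, hx⟩ := hne
    have hd : x + τ x ≠ 0 := fun h0 => hx (by
      have := dbl x
      have h1 : τ x = x := by linear_combination h0 - this
      exact h1)
    have hd' : τ (x + τ x) = x + τ x := by rw [map_add, hτ, add_comm]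
    refine ⟨x / (x + τ x), ?_⟩
    rw [map_div₀, hd', div_add_one hd]
    congr 1
    have := dbl x
    linear_combination (-1 : K) * this
  have hBω : τ (B ω) = B ω + 1 := by
    have h1 := hT 1 ω
    rw [hB1, map_one, one_mul, mul_one, one_mul, mul_one, hω] at h1
    have e1 : ω + 1 + ω = 1 := by
      have := dbl ω
      linear_combination this
    rw [e1, η1] at h1
    have := dbl (B ω)
    linear_combination h1 - this
  -- coordinates are unique
  have huniq : ∀ a b : K, τ a = a → τ b = b → a * B ω = b → a = 0 := by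
    intro a b ha hb hab
    by_contra hne0
    have h1 : τ (a * B ω) = a * B ω := by rw [hab, hb]
    rw [map_mul, ha, hBω] at h1
    apply hne0
    linear_combination h1
  have hmulω : ∀ lam : K, τ lam = lam → B (lam * ω) = B lam * B ω := by
    intro lam hl
    have hω0 : ω ≠ 0 := by
      rintro rfl
      rw [map_zero, zero_add] at hω
      exact zero_ne_one hω
    have hω1 : (1 : K) + ω ≠ 0 := by
      intro h0
      have h1 : τ (1 + ω) = 0 := by rw [h0, map_zero]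
      rw [map_add, map_one, hω] at h1
      have : (1 : K) = 0 := by linear_combination h1 - h0
      exact one_ne_zero this
    obtain ⟨μ, h1, h2⟩ := hline lam ω hl hω0
    obtain ⟨μ', h3, h4⟩ := hline lam (1 + ω) hl hω1
    rw [mul_add, mul_one, map_add, map_add, hB1, h2] at h4
    have h5 : (μ - μ') * B ω = μ' - B lam := by linear_combination h4
    have h6 : μ - μ' = 0 := huniq _ _ (by rw [map_sub, h1, h3]) (by rw [map_sub, h3, fixB _ hl]) h5
    rw [h6, zero_mul] at h5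
    rw [h2]
    linear_combination (h6 + (-1 : K) * (h5 : (0 : K) = μ' - B lam)) * B ω
  have hmulfix : ∀ lam ρ : K, τ lam = lam → τ ρ = ρ → B (lam * ρ) = B lam * B ρ := by
    intro lam ρ hl hρ
    have hb : ρ + ω ≠ 0 := by
      intro h0
      have h1 : τ (ρ + ω) = 0 := by rw [h0, map_zero]
      rw [map_add, hρ, hω] at h1
      have : (1 : K) = 0 := by linear_combination h1 - h0
      exact one_ne_zero this
    obtain ⟨μ, h1, h2⟩ := hline lam (ρ + ω) hl hb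
    rw [mul_add, map_add, map_add, hmulω lam hl] at h2
    have h5 : (B lam - μ) * B ω = μ * B ρ - B (lam * ρ) := by linear_combination h2
    have h6 : B lam - μ = 0 := huniq _ _ (by rw [map_sub, h1, fixB _ hl])
      (by rw [map_sub, map_mul, h1, fixB _ hρ, fixB _ (by rw [map_mul, hl, hρ])]) h5
    rw [h6, zero_mul] at h5
    linear_combination (-1 : K) * h6 * B ρ + (h5 : (0 : K) = μ * B ρ - B (lam * ρ))
  -- the quadratic equation
  have hδ : τ (ω * ω + ω) = ω * ω + ω := by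
    rw [map_add, map_mul, hω]
    have := dbl ω
    have := dbl (1 : K)
    linear_combination dbl ω + dbl (1 : K)
  have hBδ : B ω * B ω + B ω = B (ω * ω + ω) := by
    obtain ⟨ρ, hρ, hρ2⟩ := hsq _ hδ
    have h1 := h ω
    rw [hω, hBω] at h1
    have e1 : ω * (ω + 1) = ρ * τ ρ := by rw [hρ, hρ2]; ring
    rw [e1, ← h ρ, fixB ρ hρ, ← hmulfix ρ ρ hρ hρ, hρ2] at h1
    linear_combination h1
  have hBω2 : B (ω * ω) = B ω * B ω := by
    rw [map_add] at hBδ
    linear_combination (-1 : K) * hBδ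
  have hmulω2 : ∀ lam : K, τ lam = lam → B (lam * (ω * ω)) = B lam * (B ω * B ω) := by
    intro lam hl
    have e1 : lam * (ω * ω) = lam * (ω * ω + ω) + lam * ω := by
      have := dbl (lam * ω)
      linear_combination (-1 : K) * this
    rw [e1, map_add, hmulfix lam _ hl hδ, hmulω lam hl, ← hBδ]
    have := dbl (B lam * B ω)
    linear_combination this
  -- decomposition
  have hdec : ∀ x : K, ∃ x0 x1, τ x0 = x0 ∧ τ x1 = x1 ∧ x = x0 + x1 * ω := by
    intro x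
    refine ⟨x + (x + τ x) * ω, x + τ x, ?_, by rw [map_add, hτ, add_comm], ?_⟩
    · rw [map_add, map_mul, map_add, hτ, hω]
      have := dbl (τ x)
      linear_combination dbl (τ x)
    · have := dbl ((x + τ x) * ω)
      linear_combination (-1 : K) * this
  refine ⟨fun x y => ?_, fixB⟩
  obtain ⟨x0, x1, hx0, hx1, rfl⟩ := hdec x
  obtain ⟨y0, y1, hy0, hy1, rfl⟩ := hdec y
  have e1 : (x0 + x1 * ω) * (y0 + y1 * ω) =
      x0 * y0 + (x0 * y1 + x1 * y0) * ω + (x1 * y1) * (ω * ω) := by ring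
  rw [e1, map_add, map_add, map_add, map_add, hmulfix x0 y0 hx0 hy0,
    hmulω _ (by rw [map_add, map_mul, map_mul, hx0, hx1, hy0, hy1]), hmulω2 _ (by rw [map_mul, hx1, hy1]),
    hmulω x1 hx1, hmulω y1 hy1, map_add, hmulfix x0 y1 hx0 hy1, hmulfix x1 y0 hx1 hy0, hmulfix x1 y1 hx1 hy1]
  ring

/-- **Semilinearity.** An injective additive map which multiplies the norm form of a quadratic extension of finite
fields of characteristic two by a map which is additive on the fixed field is a scalar times a field automorphism. -/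
theorem exists_semilinear [Finite K] (τ : K ≃+* K) (hτ : ∀ x, τ (τ x) = x) (hne : ∃ x, τ x ≠ x)
    (A : K →+ K) (hA : Function.Injective A) (θ : K → K)
    (hθ : ∀ x y, τ x = x → τ y = y → θ (x + y) = θ x + θ y)
    (h : ∀ b, A b * τ (A b) = θ (b * τ b)) :
    ∃ c : K, c ≠ 0 ∧ ∃ σ : K ≃+* K, (∀ b, A b = c * σ b) ∧ ∀ x, τ x = x → θ x = c * τ c * σ x := by
  classical
  have hc : A 1 ≠ 0 := fun h0 => one_ne_zero (hA (by rw [h0, map_zero]))
  have hc' : τ (A 1) ≠ 0 := fun h0 => hc (by rw [← hτ (A 1), h0, map_zero])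
  have hsq : ∀ x : K, τ x = x → ∃ y, τ y = y ∧ y * y = x := by
    intro x hx
    obtain ⟨y, hy⟩ : ∃ y : K, y ^ 2 = x := by
      have hs : Function.Surjective (fun y : K => y ^ 2) := by
        apply Finite.surjective_of_injective
        intro a b hab
        have h1 : (a - b) ^ 2 = 0 := by
          have h2 := CharTwo.add_sq a b
          have h3 : a ^ 2 = b ^ 2 := hab
          rw [CharTwo.sub_eq_add, h2, h3, dbl]
        exact sub_eq_zero.1 (pow_eq_zero_iff (two_ne_zero) |>.1 h1)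
      exact hs x
    refine ⟨y, ?_, by rw [← hy]; ring⟩
    have h1 : (τ y - y) ^ 2 = 0 := by
      rw [CharTwo.sub_eq_add, CharTwo.add_sq, ← map_pow, hy, hx, dbl]
    exact sub_eq_zero.1 (pow_eq_zero_iff (two_ne_zero) |>.1 h1)
  let B : K →+ K := (AddMonoidHom.mulLeft (A 1)⁻¹).comp A
  have hBdef : ∀ b, B b = (A 1)⁻¹ * A b := fun b => rfl
  have hBinj : Function.Injective B := by
    intro a b hab
    rw [hBdef, hBdef] at hab
    exact hA (mul_left_cancel₀ (inv_ne_zero hc) hab)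
  have hB1 : B 1 = 1 := by rw [hBdef, inv_mul_cancel₀ hc]
  obtain ⟨hmul, hfixB⟩ := map_mul_of_norm τ hτ hne hsq B hBinj hB1 (fun x => (A 1 * τ (A 1))⁻¹ * θ x)
    (fun x y hx hy => by
      show (A 1 * τ (A 1))⁻¹ * θ (x + y) = _
      rw [hθ x y hx hy, mul_add])
    (fun b => by
      show B b * τ (B b) = (A 1 * τ (A 1))⁻¹ * θ (b * τ b)
      rw [← h b, hBdef, map_mul, map_inv₀]
      field_simp)
  let σ0 : K →+* K :=
    { toFun := B, map_one' := hB1, map_mul' := hmul, map_zero' := map_zero B, map_add' := map_add B }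
  have hbij : Function.Bijective σ0 := Finite.injective_iff_bijective.1 hBinj
  let σ : K ≃+* K := RingEquiv.ofBijective σ0 hbij
  have hσ : ∀ b, σ b = B b := fun b => rfl
  have hAσ : ∀ b, A b = A 1 * σ b := by
    intro b
    rw [hσ, hBdef, ← mul_assoc, mul_inv_cancel₀ hc, one_mul]
  refine ⟨A 1, hc, σ, hAσ, ?_⟩
  intro x hx
  obtain ⟨y, hy, rfl⟩ := hsq x hx
  have h1 := h y
  rw [hy] at h1
  rw [← h1, hAσ y, map_mul, map_mul]
  have hfix : τ (σ y) = σ y := by rw [hσ]; exact hfixB y hy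
  rw [hfix]
  ring

end Cfsg.Agent.StdU3.Semilinear
end

-- part: StdU3/Field
section
set_option linter.all false
open scoped Cfsg.Agent.FastGrp

/-!
# The field `K = F_{q²}`, `q = 2 ^ n ≥ 4`: conjugation, norm and trace to `F_q`

`F_q` is the set of the `x : K` with `bar n x = x`.
-/

set_option autoImplicit false
set_option linter.unusedSectionVars false

namespace Cfsg.Agent.StdU3.Field

variable {K : Type*} [Field K]

/-- conjugation `x ↦ x ^ q` -/
def bar (n : ℕ) (x : K) : K := x ^ (2 ^ n)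

/-- norm -/
def N (n : ℕ) (x : K) : K := x * bar n x

/-- trace -/
def Tr (n : ℕ) (x : K) : K := x + bar n x

theorem bar_def (n : ℕ) (x : K) : bar n x = x ^ (2 ^ n) := rfl
theorem N_def (n : ℕ) (x : K) : N n x = x * bar n x := rfl
theorem Tr_def (n : ℕ) (x : K) : Tr n x = x + bar n x := rfl

theorem bar_zero (n : ℕ) : bar n (0 : K) = 0 := by
  rw [bar_def, zero_pow (by positivity)]

theorem bar_one (n : ℕ) : bar n (1 : K) = 1 := by rw [bar_def, one_pow]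

theorem bar_mul (n : ℕ) (x y : K) : bar n (x * y) = bar n x * bar n y := mul_pow x y _

theorem bar_inv (n : ℕ) (x : K) : bar n x⁻¹ = (bar n x)⁻¹ := inv_pow x _

theorem bar_pow (n : ℕ) (x : K) (k : ℕ) : bar n (x ^ k) = bar n x ^ k := by
  rw [bar_def, bar_def, ← pow_mul, ← pow_mul, mul_comm]

theorem bar_eq_zero {n : ℕ} {x : K} (h : bar n x = 0) : x = 0 :=
  (pow_eq_zero_iff (by positivity)).mp h

theorem N_mul (n : ℕ) (x y : K) : N n (x * y) = N n x * N n y := by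
  rw [N_def, N_def, N_def, bar_mul]; ring

theorem N_zero (n : ℕ) : N n (0 : K) = 0 := by rw [N_def, zero_mul]

theorem N_one (n : ℕ) : N n (1 : K) = 1 := by rw [N_def, bar_one, one_mul]

theorem N_inv (n : ℕ) (x : K) : N n x⁻¹ = (N n x)⁻¹ := by
  rw [N_def, N_def, bar_inv, mul_inv]

theorem N_eq_zero {n : ℕ} {x : K} (h : N n x = 0) : x = 0 := by
  rcases mul_eq_zero.mp h with h | h
  · exact h
  · exact bar_eq_zero h

theorem N_ne_zero {n : ℕ} {x : K} (h : x ≠ 0) : N n x ≠ 0 := fun h' => h (N_eq_zero h')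

theorem N_of_fixed {n : ℕ} {x : K} (h : bar n x = x) : N n x = x ^ 2 := by
  rw [N_def, h, sq]

section char

variable [CharP K 2]

theorem add_self (x : K) : x + x = 0 := CharTwo.add_self_eq_zero x

theorem add_eq_zero {x y : K} : x + y = 0 ↔ x = y := by
  constructor
  · intro h
    have := congrArg (fun z => z + y) h
    simpa only [add_assoc, add_self, add_zero, zero_add] using this
  · rintro rfl; exact add_self x

theorem add_add_self (x y : K) : x + y + y = x := by rw [add_assoc, add_self, add_zero]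

theorem bar_add (n : ℕ) (x y : K) : bar n (x + y) = bar n x + bar n y :=
  add_pow_char_pow x y 2 n

theorem Tr_add (n : ℕ) (x y : K) : Tr n (x + y) = Tr n x + Tr n y := by
  rw [Tr_def, Tr_def, Tr_def, bar_add]; ring

theorem Tr_zero (n : ℕ) : Tr n (0 : K) = 0 := by rw [Tr_def, bar_zero, add_zero]

theorem N_add (n : ℕ) (x y : K) : N n (x + y) = N n x + N n y + (x * bar n y + bar n x * y) := by
  rw [N_def, N_def, N_def, bar_add]; ring

theorem Tr_mul_fixed {n : ℕ} {c : K} (h : bar n c = c) (x : K) :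
    Tr n (c * x) = c * Tr n x := by
  rw [Tr_def, Tr_def, bar_mul, h]; ring

theorem Tr_of_fixed {n : ℕ} {c : K} (h : bar n c = c) : Tr n c = 0 := by
  rw [Tr_def, h, add_self]

theorem fixed_of_Tr {n : ℕ} {c : K} (h : Tr n c = 0) : bar n c = c :=
  (add_eq_zero.mp h).symm

theorem fixed_add {n : ℕ} {b c : K} (hb : bar n b = b) (hc : bar n c = c) :
    bar n (b + c) = b + c := by rw [bar_add, hb, hc]

end char

theorem fixed_mul {n : ℕ} {b c : K} (hb : bar n b = b) (hc : bar n c = c) :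
    bar n (b * c) = b * c := by rw [bar_mul, hb, hc]

theorem fixed_inv {n : ℕ} {b : K} (hb : bar n b = b) : bar n b⁻¹ = b⁻¹ := by rw [bar_inv, hb]

variable [Fintype K]

/-- the standing assumption: `K = F_{q²}`, `q = 2 ^ n`, `n ≥ 2`. -/
structure Qd (K : Type*) [Field K] [Fintype K] (n : ℕ) : Prop where
  hn : 2 ≤ n
  hK : Fintype.card K = (2 ^ n) ^ 2

variable {n : ℕ}

theorem bar_bar (h : Qd K n) (x : K) : bar n (bar n x) = x := by
  rw [bar_def, bar_def, ← pow_mul, ← sq, ← h.hK, FiniteField.pow_card]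

theorem bar_inj (h : Qd K n) {x y : K} (hxy : bar n x = bar n y) : x = y := by
  rw [← bar_bar h x, hxy, bar_bar h]

theorem fixed_N (h : Qd K n) (x : K) : bar n (N n x) = N n x := by
  rw [N_def, bar_mul, bar_bar h, mul_comm]

theorem N_bar (h : Qd K n) (x : K) : N n (bar n x) = N n x := by
  rw [N_def, N_def, bar_bar h, mul_comm]

section char2
variable [CharP K 2]

theorem fixed_Tr (h : Qd K n) (x : K) : bar n (Tr n x) = Tr n x := by
  rw [Tr_def, bar_add, bar_bar h, add_comm]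

theorem Tr_bar (h : Qd K n) (x : K) : Tr n (bar n x) = Tr n x := by
  rw [Tr_def, Tr_def, bar_bar h, add_comm]

/-- the polar form -/
theorem N_add' (h : Qd K n) (x y : K) : N n (x + y) = N n x + N n y + Tr n (x * bar n y) := by
  rw [N_add, Tr_def, bar_mul, bar_bar h]

theorem Tr_comm (h : Qd K n) (x y : K) : Tr n (x * bar n y) = Tr n (y * bar n x) := by
  rw [Tr_def, Tr_def, bar_mul, bar_mul, bar_bar h, bar_bar h]; ring

theorem Tr_self (h : Qd K n) (x : K) : Tr n (x * bar n x) = 0 :=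
  Tr_of_fixed (fixed_N h x)

/-- `Tr (x ȳ) = 0` means that `x` and `y` are proportional over `F_q`. -/
theorem fixed_div_of_Tr (h : Qd K n) {x y : K} (hxy : Tr n (x * bar n y) = 0) (hx : x ≠ 0) :
    bar n (y / x) = y / x := by
  have h1 : bar n (x * bar n y) = x * bar n y := fixed_of_Tr hxy
  rw [bar_mul, bar_bar h] at h1
  have hx' : bar n x ≠ 0 := fun h' => hx (bar_eq_zero h')
  rw [div_eq_mul_inv, bar_mul, bar_inv]
  field_simp
  linear_combination -h1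

end char2

theorem exists_generator (h : Qd K n) : ∃ g : Kˣ, orderOf g = 2 ^ n * 2 ^ n - 1 := by
  classical
  obtain ⟨g, hg⟩ := IsCyclic.exists_generator (α := Kˣ)
  refine ⟨g, ?_⟩
  have h1 := orderOf_eq_card_of_forall_mem_zpowers hg
  rw [h1, Nat.card_units, Nat.card_eq_fintype_card, h.hK, sq]

theorem four_le (h : Qd K n) : 4 ≤ 2 ^ n := by
  calc 4 = 2 ^ 2 := by norm_num
    _ ≤ 2 ^ n := Nat.pow_le_pow_right (by norm_num) h.hn

theorem card_factor (m : ℕ) (hm : 1 ≤ m) : m * m - 1 = (m - 1) * (m + 1) := by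
  obtain ⟨k, rfl⟩ := Nat.exists_eq_add_of_le hm
  have : 1 + k - 1 = k := by omega
  rw [this]
  have : (1 + k) * (1 + k) = k * (1 + k + 1) + 1 := by ring
  omega

/-- the norm on units is `x ^ (q + 1)` -/
theorem N_eq_pow (x : K) : N n x = x ^ (2 ^ n + 1) := by
  rw [N_def, bar_def, pow_succ, mul_comm]

/-- an element of norm one whose cube is not one -/
theorem exists_norm_one (h : Qd K n) : ∃ k : Kˣ, N n (k : K) = 1 ∧ (k : K) ^ 3 ≠ 1 ∧ k ≠ 1 := by
  obtain ⟨g, hg⟩ := exists_generator h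
  have h4 := four_le h
  have hf := card_factor (2 ^ n) (by omega)
  refine ⟨g ^ (2 ^ n - 1), ?_, ?_, ?_⟩
  · rw [N_eq_pow, Units.val_pow_eq_pow_val, ← pow_mul, ← hf, ← hg, ← Units.val_pow_eq_pow_val,
      pow_orderOf_eq_one, Units.val_one]
  · rw [Units.val_pow_eq_pow_val, ← pow_mul, ← Units.val_pow_eq_pow_val, Ne, Units.val_eq_one]
    intro h1
    have h2 := orderOf_dvd_of_pow_eq_one h1
    rw [hg, hf] at h2
    have h3 := Nat.dvd_of_mul_dvd_mul_left (by omega) h2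
    have h5 := Nat.le_of_dvd (by norm_num) h3
    omega
  · intro h1
    have h2 := orderOf_dvd_of_pow_eq_one h1
    rw [hg, hf] at h2
    have h3 : (2 ^ n - 1) * (2 ^ n + 1) ∣ (2 ^ n - 1) * 1 := by rwa [mul_one]
    have h4 := Nat.dvd_of_mul_dvd_mul_left (by omega) h3
    have h5 := Nat.le_of_dvd (by norm_num) h4
    omega

/-- the norm is surjective onto `F_q` -/
theorem exists_norm (h : Qd K n) {b : K} (hb : bar n b = b) : ∃ x : K, N n x = b := by
  by_cases h0 : b = 0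
  · exact ⟨0, by rw [h0, N_zero]⟩
  obtain ⟨g, hg⟩ := exists_generator h
  have h4 := four_le h
  have hf := card_factor (2 ^ n) (by omega)
  classical
  have hgen : ∀ x : Kˣ, x ∈ Subgroup.zpowers g := by
    intro x
    have h1 : Subgroup.zpowers g = ⊤ := by
      apply Subgroup.eq_top_of_card_eq
      rw [Nat.card_zpowers, hg, Nat.card_units, Nat.card_eq_fintype_card, h.hK, sq]
    rw [h1]; exact Subgroup.mem_top x
  obtain ⟨k, hk⟩ := (mem_powers_iff_mem_zpowers (x := g)).mpr (hgen (Units.mk0 b h0))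
  have hk' : ((g : K)) ^ k = b := by
    have := congrArg Units.val hk
    simpa using this
  have h1 : g ^ (k * (2 ^ n - 1)) = 1 := by
    apply Units.val_injective
    rw [Units.val_pow_eq_pow_val, pow_mul, hk', Units.val_one]
    have h2 : b ^ (2 ^ n - 1) * b = 1 * b := by
      rw [← pow_succ, one_mul, Nat.sub_add_cancel (by omega)]
      exact hb
    exact mul_right_cancel₀ h0 h2
  have h2 := orderOf_dvd_of_pow_eq_one h1
  rw [hg, hf, mul_comm k] at h2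
  obtain ⟨m, hm⟩ := Nat.dvd_of_mul_dvd_mul_left (by omega) h2
  refine ⟨(g : K) ^ m, ?_⟩
  rw [N_eq_pow, ← pow_mul, ← hk', hm, mul_comm]

/-- a fixed element different from `0` and `1` -/
theorem exists_fixed_ne (h : Qd K n) : ∃ l : Kˣ, bar n (l : K) = l ∧ (l : K) ≠ 1 := by
  obtain ⟨g, hg⟩ := exists_generator h
  have h4 := four_le h
  have hf := card_factor (2 ^ n) (by omega)
  refine ⟨g ^ (2 ^ n + 1), ?_, ?_⟩
  · rw [Units.val_pow_eq_pow_val, ← N_eq_pow, fixed_N h]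
  · rw [Ne, Units.val_eq_one]
    intro h1
    have h2 := orderOf_dvd_of_pow_eq_one h1
    rw [hg, hf] at h2
    have h3 : (2 ^ n + 1) * (2 ^ n - 1) ∣ (2 ^ n + 1) * 1 := by rw [mul_one, mul_comm]; exact h2
    have h4 := Nat.dvd_of_mul_dvd_mul_left (by omega) h3
    have h5 := Nat.le_of_dvd (by norm_num) h4
    omega

variable [CharP K 2]

theorem exists_Tr_one (h : Qd K n) : ∃ e : K, Tr n e = 1 := by
  obtain ⟨g, hg⟩ := exists_generator h
  have h4 := four_le h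
  have hf := card_factor (2 ^ n) (by omega)
  have h1 : Tr n (g : K) ≠ 0 := by
    intro h1
    have h2 := fixed_of_Tr h1
    have h3 : g ^ (2 ^ n - 1) = 1 := by
      apply Units.val_injective
      rw [Units.val_pow_eq_pow_val, Units.val_one]
      have h5 : (g : K) ^ (2 ^ n - 1) * g = 1 * g := by
        rw [← pow_succ, one_mul, Nat.sub_add_cancel (by omega)]
        exact h2
      exact mul_right_cancel₀ g.ne_zero h5
    have h5 := orderOf_dvd_of_pow_eq_one h3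
    rw [hg, hf] at h5
    have h6 : (2 ^ n - 1) * (2 ^ n + 1) ∣ (2 ^ n - 1) * 1 := by rwa [mul_one]
    have h7 := Nat.dvd_of_mul_dvd_mul_left (by omega) h6
    have h8 := Nat.le_of_dvd (by norm_num) h7
    omega
  refine ⟨(Tr n (g : K))⁻¹ * g, ?_⟩
  rw [Tr_mul_fixed (fixed_inv (fixed_Tr h _)), inv_mul_cancel₀ h1]

/-- the pairing `Tr (x ȳ)` is surjective in `y` -/
theorem exists_Tr_eq (h : Qd K n) {x : K} (hx : x ≠ 0) {b : K} (hb : bar n b = b) :
    ∃ y, Tr n (x * bar n y) = b := by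
  obtain ⟨e, he⟩ := exists_Tr_one h
  refine ⟨bar n (b * e / x), ?_⟩
  rw [bar_bar h, mul_div_cancel₀ _ hx, Tr_mul_fixed hb, he, mul_one]

/-- the pairing is nondegenerate -/
theorem eq_zero_of_Tr (h : Qd K n) {x : K} (hx : ∀ y, Tr n (x * bar n y) = 0) : x = 0 := by
  by_contra h0
  obtain ⟨y, hy⟩ := exists_Tr_eq h h0 (bar_one n)
  rw [hx y] at hy
  exact zero_ne_one hy

/-- if `y ≠ 0` there is `x ≠ 0` with `N (x + y) = N y` -/
theorem exists_N_add_eq (h : Qd K n) {y : K} (hy : y ≠ 0) : ∃ x, x ≠ 0 ∧ N n (x + y) = N n y := by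
  obtain ⟨k, hk, -, hk1⟩ := exists_norm_one h
  refine ⟨y * (k + 1), ?_, ?_⟩
  · intro h0
    rcases mul_eq_zero.mp h0 with h0 | h0
    · exact hy h0
    · rw [add_eq_zero] at h0
      exact hk1 (Units.val_injective (by rw [h0, Units.val_one]))
  · have : y * ((k : K) + 1) + y = y * k := by
      rw [mul_add, mul_one, add_add_self]
    rw [this, N_mul, hk, mul_one]

end Cfsg.Agent.StdU3.Field
end

-- part: StdU3/Kernel
section
prune_inst 0xc0100400502200080018201210001e4282000002000c0000e021020206c80c60a8452820b020051158022e44003d006013100040422000000a200c00011c05810088000081480000020096000180000000000000000000000000000000000000200000000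
set_option linter.all false
open scoped Cfsg.Agent.FastGrp

-- part: StdU3/PreDef
section
/-!
# Standard subgroups of type `U₃(q)`: the first level, data

`P` is a Sylow 2-subgroup of `A`, with coordinate `ca : P → K = F_{q²}` (kernel `Z = z '' F_q`),
`t` the involution centralizing `A`, `h` the torus, `Q = S₁` the first step of the growth.
The function `z` is additive on the whole of `K` (compose the embedding of `F_q` with
`b ↦ Tr (ε b)`, `Tr ε = 1`), only its values on `F_q` matter.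
-/

set_option autoImplicit false

namespace Cfsg.Agent.StdU3.PreDef

open Cfsg.Agent.StdU3.Field

/-- the weight of the torus on `P / Z` -/
def w {K : Type*} [Field K] (n : ℕ) (l : Kˣ) : K := (l : K) ^ 2 * (bar n (l : K))⁻¹

/-- the data of the first level. -/
structure Pre (G : Type*) [Group G] (K : Type*) [Field K] [Fintype K] [CharP K 2] (n : ℕ) where
  hq : Qd K n
  P : Subgroup G
  ca : G → K
  ca_mul : ∀ x ∈ P, ∀ y ∈ P, ca (x * y) = ca x + ca y
  ca_surj : ∀ a, ∃ x ∈ P, ca x = a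
  z : K → G
  z_mem : ∀ b, z b ∈ P
  z_add : ∀ b c, z (b + c) = z b * z c
  z_inj : ∀ b, bar n b = b → z b = 1 → b = 0
  ca_z : ∀ b, ca (z b) = 0
  exists_z : ∀ x ∈ P, ca x = 0 → ∃ b, bar n b = b ∧ x = z b
  P_sq : ∀ x ∈ P, x * x = z (N n (ca x))
  P_comm : ∀ x ∈ P, ∀ y ∈ P, x * y = z (Tr n (ca x * bar n (ca y))) * (y * x)
  h : Kˣ → G
  h_P : ∀ l, ∀ x ∈ P, h l * x * (h l)⁻¹ ∈ P
  h_ca : ∀ l, ∀ x ∈ P, ca (h l * x * (h l)⁻¹) = w n l * ca x
  t : G
  t_sq : t * t = 1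
  t_P : ∀ x ∈ P, t * x = x * t
  t_h : ∀ l, t * h l = h l * t
  t_not : t ∉ P
  Q : Subgroup G
  Q_two : IsPGroup 2 Q
  P_le : P ≤ Q
  Q_t : t ∈ Q
  Q_h : ∀ l, ∀ g ∈ Q, h l * g * (h l)⁻¹ ∈ Q
  h_mul : ∀ l l', ∀ g ∈ Q,
    h (l * l') * g * (h (l * l'))⁻¹ = h l * (h l' * g * (h l')⁻¹) * (h l)⁻¹
  Q_conj : ∀ g ∈ Q, ∃ u, bar n u = u ∧ g * t * g⁻¹ = z u * t
  Q_surj : ∀ u, bar n u = u → ∃ g ∈ Q, g * t * g⁻¹ = z u * t
  Q_Z : ∀ g ∈ Q, ∀ b, g * z b = z b * g
  Q_T : ∀ g ∈ Q, g * t = t * g → g ∈ P ∨ g * t ∈ P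
  Q_P : ∀ g ∈ Q, ∀ x ∈ P, ∃ y ∈ P, ca y = ca x ∧ (g * x * g⁻¹ = y ∨ g * x * g⁻¹ = y * t)

end Cfsg.Agent.StdU3.PreDef
end

-- part: StdU3/LevelOne
section
/-!
# The group `Q = S₁` of order `2 q ^ 4` (first step of the growth, type `U₃(q)`)

Homomorphisms `a : Q → K`, `u : Q → F_q`, `e : Q → Z/2`, with common kernel `Z = z '' F_q`, and a
constant `gam ∈ F_q` such that `g ^ 2 = z (N (a g) + gam u g + e g u g)` and
`[g, k] = z (Tr (a g (a k)^q) + e g u k + e k u g)`.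
-/

set_option autoImplicit false
set_option linter.unusedSectionVars false

namespace Cfsg.Agent.StdU3.LevelOne

open Cfsg.Agent.StdU3.Field Cfsg.Agent.StdU3.PreDef

variable {G : Type*} [Group G] {K : Type*} [Field K] [Fintype K] [CharP K 2] {n : ℕ}
variable (D : Pre G K n)

/-! ### Basic facts -/

theorem z_zero : D.z 0 = 1 := by
  have h := D.z_add 0 0
  rw [add_zero] at h
  exact mul_eq_left.mp h.symm

theorem z_self (b : K) : D.z b * D.z b = 1 := by rw [← D.z_add, add_self, z_zero]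

theorem z_inv (b : K) : (D.z b)⁻¹ = D.z b := by rw [inv_eq_iff_mul_eq_one, z_self]

theorem z_comm (b c : K) : D.z b * D.z c = D.z c * D.z b := by
  rw [← D.z_add, ← D.z_add, add_comm]

theorem z_eq {b c : K} (hb : bar n b = b) (hc : bar n c = c) (h : D.z b = D.z c) : b = c := by
  have h1 : D.z (b + c) = 1 := by rw [D.z_add, h, z_self]
  exact Field.add_eq_zero.mp (D.z_inj _ (fixed_add hb hc) h1)

theorem z_fixed (b : K) : ∃ c, bar n c = c ∧ D.z b = D.z c :=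
  D.exists_z _ (D.z_mem b) (D.ca_z b)

theorem ca_one : D.ca 1 = 0 := by
  have h := D.ca_mul 1 D.P.one_mem 1 D.P.one_mem
  rw [mul_one] at h
  have h2 := add_self (D.ca 1)
  rw [← h] at h2
  exact h2

theorem ca_inv {x : G} (hx : x ∈ D.P) : D.ca x⁻¹ = D.ca x := by
  have h := D.ca_mul x hx x⁻¹ (inv_mem hx)
  rw [mul_inv_cancel, ca_one] at h
  exact (Field.add_eq_zero.mp h.symm).symm

theorem t_inv : D.t⁻¹ = D.t := by rw [inv_eq_iff_mul_eq_one, D.t_sq]

theorem z_mem_Q (b : K) : D.z b ∈ D.Q := D.P_le (D.z_mem b)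

theorem t_z (b : K) : D.t * D.z b = D.z b * D.t := D.t_P _ (D.z_mem b)

theorem w_ne_zero (l : Kˣ) : w n l ≠ 0 := by
  unfold w
  apply mul_ne_zero (pow_ne_zero _ l.ne_zero)
  apply inv_ne_zero
  intro h
  exact l.ne_zero (bar_eq_zero h)

include D in
theorem N_w (l : Kˣ) : N n (w n l) = N n (l : K) := by
  unfold w
  have hl : (l : K) ≠ 0 := l.ne_zero
  have hb : bar n (l : K) ≠ 0 := fun h => hl (bar_eq_zero h)
  rw [N_mul, N_inv, N_bar D.hq, sq, N_mul, mul_assoc, mul_inv_cancel₀ (N_ne_zero hl), mul_one]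

/-- `P`: elements with the same coordinate differ by `Z`. -/
theorem eq_z_mul {x y : G} (hx : x ∈ D.P) (hy : y ∈ D.P) (h : D.ca x = D.ca y) :
    ∃ b, bar n b = b ∧ x = D.z b * y := by
  obtain ⟨b, hb, hb'⟩ := D.exists_z (x * y⁻¹) (mul_mem hx (inv_mem hy)) (by
    rw [D.ca_mul x hx _ (inv_mem hy), ca_inv D hy, h, add_self])
  exact ⟨b, hb, by rw [← hb']; group⟩

theorem h_z (l : Kˣ) {b : K} (hb : bar n b = b) :
    D.h l * D.z b * (D.h l)⁻¹ = D.z (N n (l : K) * b) := by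
  obtain ⟨a, ha⟩ := exists_norm D.hq hb
  obtain ⟨x, hx, rfl⟩ := D.ca_surj a
  have h1 := D.P_sq x hx
  have h2 := D.P_sq _ (D.h_P l x hx)
  rw [D.h_ca l x hx, N_mul, N_w D, ha] at h2
  rw [ha] at h1
  rw [← h1, ← h2]; group

/-- commuting with an element of `P` -/
theorem P_conj {x y : G} (hx : x ∈ D.P) (hy : y ∈ D.P) :
    x * y * x⁻¹ = D.z (Tr n (D.ca x * bar n (D.ca y))) * y := by
  rw [D.P_comm x hx y hy]; group

/-! ### The homomorphism `u` -/

open Classical in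
/-- `g t g⁻¹ = z (u g) t`. -/
noncomputable def u (g : G) : K :=
  if h : ∃ u, bar n u = u ∧ g * D.t * g⁻¹ = D.z u * D.t then Classical.choose h else 0

theorem u_spec {g : G} (hg : g ∈ D.Q) :
    bar n (u D g) = u D g ∧ g * D.t * g⁻¹ = D.z (u D g) * D.t := by
  unfold u
  rw [dif_pos (D.Q_conj g hg)]
  exact Classical.choose_spec (D.Q_conj g hg)

theorem u_fixed {g : G} (hg : g ∈ D.Q) : bar n (u D g) = u D g := (u_spec D hg).1

theorem u_conj {g : G} (hg : g ∈ D.Q) : g * D.t * g⁻¹ = D.z (u D g) * D.t := (u_spec D hg).2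

theorem u_eq {g : G} (hg : g ∈ D.Q) {v : K} (hv : bar n v = v)
    (h : g * D.t * g⁻¹ = D.z v * D.t) : u D g = v := by
  have h1 := u_conj D hg
  rw [h] at h1
  exact (z_eq D hv (u_fixed D hg) (mul_right_cancel h1)).symm

theorem u_mul {g k : G} (hg : g ∈ D.Q) (hk : k ∈ D.Q) : u D (g * k) = u D g + u D k := by
  apply u_eq D (mul_mem hg hk) (fixed_add (u_fixed D hg) (u_fixed D hk))
  have h1 : g * k * D.t * (g * k)⁻¹ = g * (k * D.t * k⁻¹) * g⁻¹ := by group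
  rw [h1, u_conj D hk]
  have h2 : g * (D.z (u D k) * D.t) * g⁻¹ = (g * D.z (u D k)) * D.t * g⁻¹ := by group
  rw [h2, D.Q_Z g hg]
  have h3 : D.z (u D k) * g * D.t * g⁻¹ = D.z (u D k) * (g * D.t * g⁻¹) := by group
  rw [h3, u_conj D hg, ← mul_assoc, ← D.z_add, add_comm]

theorem u_one : u D 1 = 0 :=
  u_eq D D.Q.one_mem (bar_zero n) (by rw [z_zero]; group)

theorem u_inv {g : G} (hg : g ∈ D.Q) : u D g⁻¹ = u D g := by
  have h := u_mul D hg (inv_mem hg)
  rw [mul_inv_cancel, u_one] at h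
  exact (Field.add_eq_zero.mp h.symm).symm

theorem u_t : u D D.t = 0 :=
  u_eq D D.Q_t (bar_zero n) (by rw [z_zero]; group)

theorem u_P {x : G} (hx : x ∈ D.P) : u D x = 0 := by
  apply u_eq D (D.P_le hx) (bar_zero n)
  rw [z_zero, one_mul, ← D.t_P x hx]; group

theorem u_z (b : K) : u D (D.z b) = 0 := u_P D (D.z_mem b)

theorem u_h (l : Kˣ) {g : G} (hg : g ∈ D.Q) :
    u D (D.h l * g * (D.h l)⁻¹) = N n (l : K) * u D g := by
  apply u_eq D (D.Q_h l g hg) (fixed_mul (fixed_N D.hq _) (u_fixed D hg))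
  have ht : (D.h l)⁻¹ * D.t * D.h l = D.t := by rw [mul_assoc, D.t_h]; group
  have h1 : D.h l * g * (D.h l)⁻¹ * D.t * (D.h l * g * (D.h l)⁻¹)⁻¹ =
      D.h l * (g * ((D.h l)⁻¹ * D.t * D.h l) * g⁻¹) * (D.h l)⁻¹ := by group
  rw [h1, ht, u_conj D hg]
  have h2 : D.h l * (D.z (u D g) * D.t) * (D.h l)⁻¹ =
      (D.h l * D.z (u D g) * (D.h l)⁻¹) * (D.h l * D.t * (D.h l)⁻¹) := by group
  rw [h2, h_z D l (u_fixed D hg), ← D.t_h]
  group

theorem mem_T_of_u {g : G} (hg : g ∈ D.Q) (h : u D g = 0) : g ∈ D.P ∨ g * D.t ∈ D.P := by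
  apply D.Q_T g hg
  have := u_conj D hg
  rw [h, z_zero, one_mul] at this
  exact mul_inv_eq_iff_eq_mul.mp this

/-- `t g t⁻¹ = z (u g) g` -/
theorem t_conj {g : G} (hg : g ∈ D.Q) : D.t * g * D.t⁻¹ = D.z (u D g) * g := by
  have h := u_conj D hg
  have h1 : g * D.t = D.z (u D g) * D.t * g := by rw [← h]; group
  have h2 : D.t * g = D.z (u D g) * (g * D.t) := by
    rw [h1, ← mul_assoc, ← mul_assoc, z_self, one_mul]
  rw [h2]; group

theorem u_surj_aux {v : K} (hv : bar n v = v) : ∃ g ∈ D.Q, u D g = v := by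
  obtain ⟨g, hg, h⟩ := D.Q_surj v hv
  exact ⟨g, hg, u_eq D hg hv h⟩

/-! ### Conjugation on `P` -/

theorem conj_P_aux {g : G} (hg : g ∈ D.Q) {x : G} (hx : x ∈ D.P) :
    ∃ c, bar n c = c ∧ (g * x * g⁻¹ = D.z c * x ∨ g * x * g⁻¹ = D.z c * x * D.t) := by
  obtain ⟨y, hy, hca, h⟩ := D.Q_P g hg x hx
  obtain ⟨c, hc, rfl⟩ := eq_z_mul D hy hx hca
  exact ⟨c, hc, h⟩

theorem conj_P {g : G} (hg : g ∈ D.Q) {x : G} (hx : x ∈ D.P) :
    ∃ c, bar n c = c ∧ g * x * g⁻¹ = D.z c * x := by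
  by_contra hcon
  push Not at hcon
  obtain ⟨c0, hc0, h0⟩ := conj_P_aux D hg hx
  have h0' : g * x * g⁻¹ = D.z c0 * x * D.t := h0.resolve_left (hcon c0 hc0)
  -- the action of `g ^ 2`
  have hgg : ∀ y ∈ D.P, (g * g) * y * (g * g)⁻¹ = y ∨
      (g * g) * y * (g * g)⁻¹ = D.z (u D g) * y := by
    intro y hy
    obtain ⟨c, hc, h⟩ := conj_P_aux D hg hy
    have e2 : g * D.z c * g⁻¹ = D.z c := by rw [D.Q_Z g hg]; group
    have e3 : (g * g) * y * (g * g)⁻¹ = g * (g * y * g⁻¹) * g⁻¹ := by group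
    rw [e3]
    rcases h with h | h
    · left
      have : g * (g * y * g⁻¹) * g⁻¹ = (g * D.z c * g⁻¹) * (g * y * g⁻¹) := by
        conv_lhs => rw [h]
        group
      rw [this, e2, h, ← mul_assoc, z_self, one_mul]
    · right
      have : g * (g * y * g⁻¹) * g⁻¹ = (g * D.z c * g⁻¹) * (g * y * g⁻¹) * (g * D.t * g⁻¹) := by
        conv_lhs => rw [h]
        group
      rw [this, e2, h, u_conj D hg]
      have e4 : D.z c * (D.z c * y * D.t) * (D.z (u D g) * D.t) =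
          (D.z c * D.z c) * y * ((D.t * D.z (u D g)) * D.t) := by group
      rw [e4, z_self, t_z, one_mul, mul_assoc (D.z (u D g)), D.t_sq, mul_one,
        D.Q_Z y (D.P_le hy)]
  have hx2 : (g * g) * x * (g * g)⁻¹ = D.z (u D g) * x := by
    have e2 : g * D.z c0 * g⁻¹ = D.z c0 := by rw [D.Q_Z g hg]; group
    have e3 : (g * g) * x * (g * g)⁻¹ = (g * D.z c0 * g⁻¹) * (g * x * g⁻¹) * (g * D.t * g⁻¹) := by
      have : (g * g) * x * (g * g)⁻¹ = g * (g * x * g⁻¹) * g⁻¹ := by group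
      rw [this]
      conv_lhs => rw [h0']
      group
    rw [e3, e2, h0', u_conj D hg]
    have e4 : D.z c0 * (D.z c0 * x * D.t) * (D.z (u D g) * D.t) =
        (D.z c0 * D.z c0) * x * ((D.t * D.z (u D g)) * D.t) := by group
    rw [e4, z_self, t_z, one_mul, mul_assoc (D.z (u D g)), D.t_sq, mul_one,
      D.Q_Z x (D.P_le hx)]
  -- `g ^ 2` acts as an element of `P`
  have hu2 : u D (g * g) = 0 := by rw [u_mul D hg hg, add_self]
  obtain ⟨p, hp, hact⟩ : ∃ p ∈ D.P, ∀ y ∈ D.P, (g * g) * y * (g * g)⁻¹ =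
      D.z (Tr n (D.ca p * bar n (D.ca y))) * y := by
    rcases mem_T_of_u D (mul_mem hg hg) hu2 with h | h
    · exact ⟨_, h, fun y hy => P_conj D h hy⟩
    · refine ⟨_, h, fun y hy => ?_⟩
      rw [← P_conj D h hy]
      have : g * g * D.t * y * (g * g * D.t)⁻¹ = g * g * (D.t * y * D.t⁻¹) * (g * g)⁻¹ := by group
      rw [this, D.t_P y hy]; group
  have hp0 : D.ca p = 0 := by
    by_contra hne
    obtain ⟨l, hl, hl1⟩ := exists_fixed_ne D.hq
    have key : ∀ b, bar n b = b → b = 0 ∨ b = u D g := by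
      intro b hb
      obtain ⟨y, hy⟩ := exists_Tr_eq D.hq hne hb
      obtain ⟨x', hx', rfl⟩ := D.ca_surj y
      have h1 := hact x' hx'
      rw [hy] at h1
      rcases hgg x' hx' with h2 | h2
      · left
        rw [h1] at h2
        exact D.z_inj b hb (mul_eq_right.mp h2)
      · right
        rw [h1] at h2
        exact z_eq D hb (u_fixed D hg) (mul_right_cancel h2)
    have h1 := (key 1 (bar_one n)).resolve_left one_ne_zero
    have h2 := (key l hl).resolve_left l.ne_zero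
    exact hl1 (h2.trans h1.symm)
  have hu0 : u D g = 0 := by
    have h1 := hact x hx
    rw [hp0, zero_mul, Tr_zero, z_zero, one_mul, hx2] at h1
    exact D.z_inj _ (u_fixed D hg) (mul_eq_right.mp h1)
  rcases mem_T_of_u D hg hu0 with h | h
  · exact hcon _ (fixed_Tr D.hq _) (P_conj D h hx)
  · have h3 : g * x * g⁻¹ = D.z (Tr n (D.ca (g * D.t) * bar n (D.ca x))) * x := by
      rw [← P_conj D h hx]
      have : g * D.t * x * (g * D.t)⁻¹ = g * (D.t * x * D.t⁻¹) * g⁻¹ := by group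
      rw [this, D.t_P x hx]; group
    exact hcon _ (fixed_Tr D.hq _) h3

open Classical in
/-- `g x g⁻¹ = z (β g (ca x)) x` for `x ∈ P`. -/
noncomputable def beta (g : G) (y : K) : K :=
  if h : ∃ c, bar n c = c ∧ ∀ x ∈ D.P, D.ca x = y → g * x * g⁻¹ = D.z c * x then
    Classical.choose h else 0

theorem beta_exists {g : G} (hg : g ∈ D.Q) (y : K) :
    ∃ c, bar n c = c ∧ ∀ x ∈ D.P, D.ca x = y → g * x * g⁻¹ = D.z c * x := by
  obtain ⟨x, hx, rfl⟩ := D.ca_surj y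
  obtain ⟨c, hc, h⟩ := conj_P D hg hx
  refine ⟨c, hc, fun x' hx' hca => ?_⟩
  obtain ⟨b, hb, rfl⟩ := eq_z_mul D hx' hx hca
  have : g * (D.z b * x) * g⁻¹ = (g * D.z b * g⁻¹) * (g * x * g⁻¹) := by group
  rw [this, h, D.Q_Z g hg, ← mul_assoc, ← mul_assoc, mul_assoc (D.z b), mul_inv_cancel, mul_one,
    z_comm D b c]

theorem beta_spec {g : G} (hg : g ∈ D.Q) (y : K) :
    bar n (beta D g y) = beta D g y ∧ ∀ x ∈ D.P, D.ca x = y →
      g * x * g⁻¹ = D.z (beta D g y) * x := by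
  unfold beta
  rw [dif_pos (beta_exists D hg y)]
  exact Classical.choose_spec (beta_exists D hg y)

theorem beta_conj {g : G} (hg : g ∈ D.Q) {x : G} (hx : x ∈ D.P) :
    g * x * g⁻¹ = D.z (beta D g (D.ca x)) * x := (beta_spec D hg _).2 x hx rfl

theorem beta_eq {g : G} (hg : g ∈ D.Q) {x : G} (hx : x ∈ D.P) {c : K} (hc : bar n c = c)
    (h : g * x * g⁻¹ = D.z c * x) : beta D g (D.ca x) = c := by
  rw [beta_conj D hg hx] at h
  exact z_eq D (beta_spec D hg _).1 hc (mul_right_cancel h)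

theorem beta_add {g : G} (hg : g ∈ D.Q) (y y' : K) :
    beta D g (y + y') = beta D g y + beta D g y' := by
  obtain ⟨x, hx, rfl⟩ := D.ca_surj y
  obtain ⟨x', hx', rfl⟩ := D.ca_surj y'
  rw [← D.ca_mul x hx x' hx']
  apply beta_eq D hg (mul_mem hx hx') (fixed_add (beta_spec D hg _).1 (beta_spec D hg _).1)
  have : g * (x * x') * g⁻¹ = (g * x * g⁻¹) * (g * x' * g⁻¹) := by group
  rw [this, beta_conj D hg hx, beta_conj D hg hx', D.z_add]
  have h2 : x * D.z (beta D g (D.ca x')) = D.z (beta D g (D.ca x')) * x :=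
    D.Q_Z x (D.P_le hx) _
  calc D.z (beta D g (D.ca x)) * x * (D.z (beta D g (D.ca x')) * x')
      = D.z (beta D g (D.ca x)) * (x * D.z (beta D g (D.ca x'))) * x' := by group
    _ = D.z (beta D g (D.ca x)) * D.z (beta D g (D.ca x')) * (x * x') := by rw [h2]; group

theorem beta_mul {g k : G} (hg : g ∈ D.Q) (hk : k ∈ D.Q) (y : K) :
    beta D (g * k) y = beta D g y + beta D k y := by
  obtain ⟨x, hx, rfl⟩ := D.ca_surj y
  apply beta_eq D (mul_mem hg hk) hx (fixed_add (beta_spec D hg _).1 (beta_spec D hk _).1)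
  have : g * k * x * (g * k)⁻¹ = g * (k * x * k⁻¹) * g⁻¹ := by group
  rw [this, beta_conj D hk hx]
  have h2 : g * D.z (beta D k (D.ca x)) = D.z (beta D k (D.ca x)) * g := D.Q_Z g hg _
  have : g * (D.z (beta D k (D.ca x)) * x) * g⁻¹ =
      (g * D.z (beta D k (D.ca x))) * x * g⁻¹ := by group
  rw [this, h2]
  have : D.z (beta D k (D.ca x)) * g * x * g⁻¹ = D.z (beta D k (D.ca x)) * (g * x * g⁻¹) := by
    group
  rw [this, beta_conj D hg hx, D.z_add, ← mul_assoc, z_comm D (beta D k (D.ca x))]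

theorem beta_P {p : G} (hp : p ∈ D.P) (y : K) : beta D p y = Tr n (D.ca p * bar n y) := by
  obtain ⟨x, hx, rfl⟩ := D.ca_surj y
  exact beta_eq D (D.P_le hp) hx (fixed_Tr D.hq _) (P_conj D hp hx)

theorem beta_t (y : K) : beta D D.t y = 0 := by
  obtain ⟨x, hx, rfl⟩ := D.ca_surj y
  apply beta_eq D D.Q_t hx (bar_zero n)
  rw [D.t_P x hx, z_zero]; group

theorem beta_h (l : Kˣ) {g : G} (hg : g ∈ D.Q) (y : K) :
    beta D (D.h l * g * (D.h l)⁻¹) (w n l * y) = N n (l : K) * beta D g y := by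
  obtain ⟨x, hx, rfl⟩ := D.ca_surj y
  rw [← D.h_ca l x hx]
  apply beta_eq D (D.Q_h l g hg) (D.h_P l x hx)
    (fixed_mul (fixed_N D.hq _) (beta_spec D hg _).1)
  have : D.h l * g * (D.h l)⁻¹ * (D.h l * x * (D.h l)⁻¹) * (D.h l * g * (D.h l)⁻¹)⁻¹ =
      D.h l * (g * x * g⁻¹) * (D.h l)⁻¹ := by group
  rw [this, beta_conj D hg hx, ← h_z D l (beta_spec D hg _).1]
  group

/-- conjugation by `g ∈ Q` on `P` is inner. -/
theorem exists_inner {g : G} (hg : g ∈ D.Q) :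
    ∃ c : K, ∀ y, beta D g y = Tr n (c * bar n y) := by
  obtain ⟨k, hk, hk3, -⟩ := exists_norm_one D.hq
  set kap := w n k with hkap
  have hkap1 : kap ≠ 1 := by
    intro h
    apply hk3
    have hb : bar n (k : K) ≠ 0 := fun h' => k.ne_zero (bar_eq_zero h')
    have h2 : (k : K) ^ 2 = bar n (k : K) := by
      have := h
      rw [hkap] at this
      unfold w at this
      rw [mul_inv_eq_one₀ hb] at this
      exact this
    rw [pow_succ, h2, mul_comm]; exact hk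
  set y := D.h k * g * (D.h k)⁻¹ with hy
  have hyQ : y ∈ D.Q := D.Q_h k g hg
  have hu : u D (y * g⁻¹) = 0 := by
    rw [u_mul D hyQ (inv_mem hg), u_inv D hg, hy, u_h D k hg, hk, one_mul, add_self]
  obtain ⟨p, hp, hb⟩ : ∃ p ∈ D.P, ∀ x, beta D y x = Tr n (D.ca p * bar n x) + beta D g x := by
    rcases mem_T_of_u D (mul_mem hyQ (inv_mem hg)) hu with h | h
    · refine ⟨_, h, fun x => ?_⟩
      rw [← beta_P D h, ← beta_mul D (D.P_le h) hg]
      congr 1; group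
    · refine ⟨_, h, fun x => ?_⟩
      rw [← beta_P D h, ← beta_mul D (D.P_le h) hg]
      have h1 : beta D (y * g⁻¹ * D.t * g) x = beta D (y * g⁻¹) x + beta D D.t x + beta D g x := by
        rw [beta_mul D (D.P_le h) hg, beta_mul D (mul_mem hyQ (inv_mem hg)) D.Q_t]
      rw [h1, beta_t, add_zero, ← beta_mul D (mul_mem hyQ (inv_mem hg)) hg]
      congr 1; group
  have hkey : ∀ x, beta D g ((kap + 1) * x) = Tr n (D.ca p * bar n (kap * x)) := by
    intro x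
    have h1 := beta_h D k hg x
    rw [hk, one_mul, ← hkap, ← hy, hb] at h1
    rw [add_mul, one_mul, beta_add D hg]
    have h2 : beta D g x + beta D g (kap * x) = Tr n (D.ca p * bar n (kap * x)) := by
      rw [← h1, add_assoc, add_self, add_zero]
    rw [add_comm, h2]
  have hk1 : kap + 1 ≠ 0 := fun h => hkap1 (Field.add_eq_zero.mp h)
  refine ⟨D.ca p * bar n (kap * (kap + 1)⁻¹), fun x => ?_⟩
  have h1 := hkey ((kap + 1)⁻¹ * x)
  rw [← mul_assoc, mul_inv_cancel₀ hk1, one_mul] at h1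
  rw [h1, ← mul_assoc kap, bar_mul n (kap * (kap + 1)⁻¹), mul_assoc]

open Classical in
/-- the coordinate `a : Q → K`; `a g = 0` iff `g` centralizes `P`. -/
noncomputable def a (g : G) : K :=
  if h : ∃ c : K, ∀ y, beta D g y = Tr n (c * bar n y) then Classical.choose h else 0

theorem a_spec {g : G} (hg : g ∈ D.Q) (y : K) : beta D g y = Tr n (a D g * bar n y) := by
  unfold a
  rw [dif_pos (exists_inner D hg)]
  exact Classical.choose_spec (exists_inner D hg) y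

include D in
theorem tr_inj {c c' : K} (h : ∀ y, Tr n (c * bar n y) = Tr n (c' * bar n y)) : c = c' := by
  have h1 : c + c' = 0 := by
    apply eq_zero_of_Tr D.hq
    intro y
    rw [add_mul, Tr_add, h y, add_self]
  exact Field.add_eq_zero.mp h1

theorem a_eq {g : G} (hg : g ∈ D.Q) {c : K} (h : ∀ y, beta D g y = Tr n (c * bar n y)) :
    a D g = c := tr_inj D fun y => by rw [← a_spec D hg, h]

theorem a_mul {g k : G} (hg : g ∈ D.Q) (hk : k ∈ D.Q) : a D (g * k) = a D g + a D k := by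
  apply a_eq D (mul_mem hg hk)
  intro y
  rw [beta_mul D hg hk, a_spec D hg, a_spec D hk, add_mul, Tr_add]

theorem a_one : a D 1 = 0 := by
  have h := a_mul D D.Q.one_mem D.Q.one_mem
  rw [mul_one] at h
  have h2 := add_self (a D 1)
  rw [← h] at h2
  exact h2

theorem a_inv {g : G} (hg : g ∈ D.Q) : a D g⁻¹ = a D g := by
  have h := a_mul D hg (inv_mem hg)
  rw [mul_inv_cancel, a_one] at h
  exact (Field.add_eq_zero.mp h.symm).symm

theorem a_P {p : G} (hp : p ∈ D.P) : a D p = D.ca p :=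
  a_eq D (D.P_le hp) fun y => beta_P D hp y

theorem a_t : a D D.t = 0 :=
  a_eq D D.Q_t fun y => by rw [beta_t, zero_mul, Tr_zero]

theorem a_z (b : K) : a D (D.z b) = 0 := by rw [a_P D (D.z_mem b), D.ca_z]

theorem a_h (l : Kˣ) {g : G} (hg : g ∈ D.Q) :
    a D (D.h l * g * (D.h l)⁻¹) = w n l * a D g := by
  have hw : w n l ≠ 0 := w_ne_zero l
  have hbw : bar n (w n l) ≠ 0 := fun h => hw (bar_eq_zero h)
  have h1 : a D (D.h l * g * (D.h l)⁻¹) * bar n (w n l) = N n (l : K) * a D g := by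
    apply tr_inj D
    intro y
    have h2 := beta_h D l hg y
    rw [a_spec D (D.Q_h l g hg), a_spec D hg, bar_mul] at h2
    rw [mul_assoc, h2, mul_assoc, Tr_mul_fixed (fixed_N D.hq _)]
  rw [← N_w D, N_def] at h1
  apply mul_right_cancel₀ hbw
  rw [h1]; ring

/-- elements with `a = 0` centralize `P`. -/
theorem comm_of_a {g : G} (hg : g ∈ D.Q) (ha : a D g = 0) {x : G} (hx : x ∈ D.P) :
    g * x = x * g := by
  have h := beta_conj D hg hx
  rw [a_spec D hg, ha, zero_mul, Tr_zero, z_zero, one_mul] at h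
  exact mul_inv_eq_iff_eq_mul.mp h

end Cfsg.Agent.StdU3.LevelOne
end

-- part: StdU3/LevelOneW
section
/-!
# The coordinates of `Q = S₁` (second half)

`W` = the part of `C_Q(P)` with `e = 0`, `V = P W`, `e : Q → {0, 1} ⊆ K`,
`g ^ 2 = z (N (a g) + gam u g + e g u g)`, `[g, k] = z (Tr (a g (a k)^q) + e g u k + e k u g)`.
-/

set_option autoImplicit false
set_option linter.unusedSectionVars false

namespace Cfsg.Agent.StdU3.LevelOneW

open Cfsg.Agent.StdU3.Field Cfsg.Agent.StdU3.PreDef Cfsg.Agent.StdU3.LevelOne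

variable {G : Type*} [Group G] {K : Type*} [Field K] [Fintype K] [CharP K 2] {n : ℕ}
variable (D : Pre G K n)

theorem t_ne_z (b : K) : D.t ≠ D.z b := fun h => D.t_not (h ▸ D.z_mem b)

theorem z_of_P {x : G} (hx : x ∈ D.P) (ha : a D x = 0) : ∃ b, bar n b = b ∧ x = D.z b :=
  D.exists_z x hx (by rw [← a_P D hx, ha])

theorem z_or_zt {y : G} (hy : y ∈ D.Q) (ha : a D y = 0) (hu : u D y = 0) :
    ∃ b, bar n b = b ∧ (y = D.z b ∨ y = D.z b * D.t) := by
  rcases mem_T_of_u D hy hu with h | h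
  · obtain ⟨b, hb, hb'⟩ := z_of_P D h ha
    exact ⟨b, hb, Or.inl hb'⟩
  · obtain ⟨b, hb, hb'⟩ := z_of_P D h (by rw [a_mul D hy D.Q_t, ha, a_t, add_zero])
    refine ⟨b, hb, Or.inr ?_⟩
    rw [← hb', mul_assoc, D.t_sq, mul_one]

theorem Y_sq {y : G} (hy : y ∈ D.Q) (ha : a D y = 0) : ∃ b, bar n b = b ∧ y * y = D.z b := by
  have hyy := mul_mem hy hy
  have ha2 : a D (y * y) = 0 := by rw [a_mul D hy hy, ha, add_zero]
  have hu2 : u D (y * y) = 0 := by rw [u_mul D hy hy, add_self]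
  obtain ⟨b, hb, h | h⟩ := z_or_zt D hyy ha2 hu2
  · exact ⟨b, hb, h⟩
  · exfalso
    have h1 : y * D.t = D.t * y := by
      have h2 : y * (D.z b * D.t) = (D.z b * D.t) * y := by rw [← h]; group
      have h3 : D.z b * (y * D.t) = D.z b * (D.t * y) := by
        rw [← mul_assoc, ← D.Q_Z y hy, mul_assoc, h2, mul_assoc]
      exact mul_left_cancel h3
    have hu : u D y = 0 := u_eq D hy (bar_zero n) (by rw [z_zero, one_mul, h1]; group)
    have hyy1 : y * y = 1 := by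
      obtain ⟨c, hc, h4 | h4⟩ := z_or_zt D hy ha hu
      · rw [h4, z_self]
      · rw [h4]
        have : D.z c * D.t * (D.z c * D.t) = D.z c * (D.t * D.z c) * D.t := by group
        rw [this, t_z, ← mul_assoc, z_self, one_mul, D.t_sq]
    rw [hyy1] at h
    apply t_ne_z D b
    rw [← mul_right_inj (D.z b), ← h, z_self]

theorem comm_of_sq {x y : G} (hx : x ∈ D.Q) (hy : y ∈ D.Q) {s s1 s2 : K}
    (h1 : x * x = D.z s1) (h2 : y * y = D.z s2) (h : x * y * (x * y) = D.z s) :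
    x * y = D.z (s + s1 + s2) * (y * x) := by
  have hx' : x⁻¹ = D.z s1 * x := by
    rw [inv_eq_iff_mul_eq_one, ← D.Q_Z x hx, ← mul_assoc, h1, z_self]
  have hy' : y⁻¹ = D.z s2 * y := by
    rw [inv_eq_iff_mul_eq_one, ← D.Q_Z y hy, ← mul_assoc, h2, z_self]
  have h3 : x * y = D.z s * (y⁻¹ * x⁻¹) := by rw [← h]; group
  rw [h3, hx', hy', D.z_add, D.z_add]
  have h4 : D.z s2 * y * (D.z s1 * x) = D.z s2 * (y * D.z s1) * x := by group
  rw [h4, D.Q_Z y hy, z_comm D s, mul_assoc (D.z s1 * D.z s)]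
  have h5 : D.z s2 * (D.z s1 * y) * x = D.z s2 * D.z s1 * (y * x) := by group
  have h6 : D.z s1 * D.z s * (D.z s2 * (y * x)) = D.z s1 * (D.z s * (D.z s2 * (y * x))) := by
    group
  rw [h5, h6, z_comm D s2 s1]
  have h7 : D.z s * (D.z s1 * D.z s2 * (y * x)) = (D.z s * D.z s1) * (D.z s2 * (y * x)) := by
    group
  rw [h7, z_comm D s s1]; group

theorem Y_comm {x y : G} (hx : x ∈ D.Q) (ax : a D x = 0) (hy : y ∈ D.Q) (ay : a D y = 0) :
    ∃ b, bar n b = b ∧ x * y = D.z b * (y * x) := by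
  obtain ⟨s1, hs1, h1⟩ := Y_sq D hx ax
  obtain ⟨s2, hs2, h2⟩ := Y_sq D hy ay
  obtain ⟨s, hs, h⟩ := Y_sq D (mul_mem hx hy) (by rw [a_mul D hx hy, ax, ay, add_zero])
  exact ⟨_, fixed_add (fixed_add hs hs1) hs2, comm_of_sq D hx hy h1 h2 h⟩

theorem Y_surj {v : K} (hv : bar n v = v) : ∃ y ∈ D.Q, a D y = 0 ∧ u D y = v := by
  obtain ⟨g, hg, hgu⟩ := u_surj_aux D hv
  obtain ⟨p, hp, hpa⟩ := D.ca_surj (a D g)
  have hpQ := D.P_le hp
  refine ⟨p⁻¹ * g, mul_mem (inv_mem hpQ) hg, ?_, ?_⟩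
  · rw [a_mul D (inv_mem hpQ) hg, a_inv D hpQ, a_P D hp, hpa, add_self]
  · rw [u_mul D (inv_mem hpQ) hg, u_inv D hpQ, u_P D hp, hgu, zero_add]

/-! ### The subgroup `W` -/

/-- a fixed non-trivial element of `F_q^*`. -/
noncomputable def l1 : Kˣ := Classical.choose (exists_fixed_ne D.hq)

theorem l1_fixed : bar n (l1 D : K) = l1 D := (Classical.choose_spec (exists_fixed_ne D.hq)).1

theorem l1_ne : (l1 D : K) ≠ 1 := (Classical.choose_spec (exists_fixed_ne D.hq)).2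

theorem N_l1 : N n (l1 D : K) + 1 ≠ 0 := by
  intro h
  have h1 : N n (l1 D : K) = 1 := Field.add_eq_zero.mp h
  rw [N_of_fixed (l1_fixed D)] at h1
  apply l1_ne D
  have h2 : ((l1 D : K) + 1) ^ 2 = 0 := by
    rw [add_sq, h1, one_pow, mul_one, add_comm (1 : K), add_assoc, add_self, add_zero]
    have : (2 : K) = 0 := CharTwo.two_eq_zero
    rw [this, zero_mul]
  have h3 : (l1 D : K) + 1 = 0 := by
    simpa using pow_eq_zero_iff (n := 2) (by norm_num) |>.mp h2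
  exact Field.add_eq_zero.mp h3

/-- `W = [Y, h l1] Z`. -/
noncomputable def W : Subgroup G where
  carrier := {y | ∃ v ∈ D.Q, a D v = 0 ∧
    ∃ b, y = D.z b * (D.h (l1 D) * v * (D.h (l1 D))⁻¹ * v⁻¹)}
  one_mem' := ⟨1, D.Q.one_mem, a_one D, 0, by rw [z_zero]; group⟩
  mul_mem' := by
    rintro y1 y2 ⟨v1, hv1, av1, b1, rfl⟩ ⟨v2, hv2, av2, b2, rfl⟩
    set h1 := D.h (l1 D) with hh1
    have hB : h1 * v2 * h1⁻¹ * v2⁻¹ ∈ D.Q := mul_mem (D.Q_h _ _ hv2) (inv_mem hv2)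
    have aB : a D (h1 * v2 * h1⁻¹ * v2⁻¹) = 0 := by
      rw [a_mul D (D.Q_h _ _ hv2) (inv_mem hv2), a_h D _ hv2, a_inv D hv2, av2, mul_zero, add_zero]
    obtain ⟨c, hc, hcomm⟩ := Y_comm D (inv_mem hv1) (by rw [a_inv D hv1, av1]) hB aB
    refine ⟨v1 * v2, mul_mem hv1 hv2, by rw [a_mul D hv1 hv2, av1, av2, add_zero],
      b1 + b2 + c, ?_⟩
    have hz : ∀ g ∈ D.Q, ∀ b, g * D.z b = D.z b * g := D.Q_Z
    have hA : h1 * v1 * h1⁻¹ ∈ D.Q := D.Q_h _ _ hv1
    calc D.z b1 * (h1 * v1 * h1⁻¹ * v1⁻¹) * (D.z b2 * (h1 * v2 * h1⁻¹ * v2⁻¹))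
        = D.z b1 * (((h1 * v1 * h1⁻¹ * v1⁻¹) * D.z b2) * (h1 * v2 * h1⁻¹ * v2⁻¹)) := by group
      _ = D.z b1 * (D.z b2 * (h1 * v1 * h1⁻¹ * v1⁻¹) * (h1 * v2 * h1⁻¹ * v2⁻¹)) := by
          rw [hz _ (mul_mem hA (inv_mem hv1))]
      _ = D.z b1 * D.z b2 * (h1 * v1 * h1⁻¹ * (v1⁻¹ * (h1 * v2 * h1⁻¹ * v2⁻¹))) := by group
      _ = D.z b1 * D.z b2 * ((h1 * v1 * h1⁻¹ * D.z c) * ((h1 * v2 * h1⁻¹ * v2⁻¹) * v1⁻¹)) := by
          rw [hcomm]; group
      _ = D.z b1 * D.z b2 * ((D.z c * (h1 * v1 * h1⁻¹)) * ((h1 * v2 * h1⁻¹ * v2⁻¹) * v1⁻¹)) := by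
          rw [hz _ hA]
      _ = D.z b1 * D.z b2 * D.z c * (h1 * (v1 * v2) * h1⁻¹ * (v1 * v2)⁻¹) := by group
      _ = _ := by rw [D.z_add, D.z_add]
  inv_mem' := by
    rintro y ⟨v, hv, av, b, rfl⟩
    set h1 := D.h (l1 D) with hh1
    set y := D.z b * (h1 * v * h1⁻¹ * v⁻¹) with hy
    have hyQ : y ∈ D.Q := mul_mem (z_mem_Q D b) (mul_mem (D.Q_h _ _ hv) (inv_mem hv))
    have ay : a D y = 0 := by
      rw [hy, a_mul D (z_mem_Q D b) (mul_mem (D.Q_h _ _ hv) (inv_mem hv)), a_z,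
        a_mul D (D.Q_h _ _ hv) (inv_mem hv), a_h D _ hv, a_inv D hv, av, mul_zero, add_zero,
        add_zero]
    obtain ⟨s, hs, h⟩ := Y_sq D hyQ ay
    refine ⟨v, hv, av, s + b, ?_⟩
    have h2 : y⁻¹ = D.z s * y := by
      rw [inv_eq_iff_mul_eq_one, ← D.Q_Z y hyQ, ← mul_assoc, h, z_self]
    rw [h2, hy, D.z_add]; group

theorem z_mem_W (b : K) : D.z b ∈ W D :=
  ⟨1, D.Q.one_mem, a_one D, b, by group⟩

theorem W_le {y : G} (hy : y ∈ W D) : y ∈ D.Q := by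
  obtain ⟨v, hv, av, b, rfl⟩ := hy
  exact mul_mem (z_mem_Q D b) (mul_mem (D.Q_h _ _ hv) (inv_mem hv))

theorem W_le' : W D ≤ D.Q := fun _ hy => W_le D hy

theorem a_W {y : G} (hy : y ∈ W D) : a D y = 0 := by
  obtain ⟨v, hv, av, b, rfl⟩ := hy
  rw [a_mul D (z_mem_Q D b) (mul_mem (D.Q_h _ _ hv) (inv_mem hv)), a_z,
    a_mul D (D.Q_h _ _ hv) (inv_mem hv), a_h D _ hv, a_inv D hv, av, mul_zero, add_zero, add_zero]

theorem h_z' (l : Kˣ) (b : K) : ∃ c, bar n c = c ∧ D.h l * D.z b * (D.h l)⁻¹ = D.z c := by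
  obtain ⟨c, hc, h⟩ := z_fixed D b
  exact ⟨_, fixed_mul (fixed_N D.hq _) hc, by rw [h, h_z D l hc]⟩

theorem z_of_W {y : G} (hy : y ∈ W D) (hu : u D y = 0) : ∃ b, bar n b = b ∧ y = D.z b := by
  obtain ⟨v, hv, av, b, rfl⟩ := hy
  have h1 : (N n (l1 D : K) + 1) * u D v = 0 := by
    rw [u_mul D (z_mem_Q D b) (mul_mem (D.Q_h _ _ hv) (inv_mem hv)), u_z,
      u_mul D (D.Q_h _ _ hv) (inv_mem hv), u_h D _ hv, u_inv D hv, zero_add] at hu
    rw [← hu]; ring
  have huv : u D v = 0 := (mul_eq_zero.mp h1).resolve_left (N_l1 D)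
  obtain ⟨c, hc, h | h⟩ := z_or_zt D hv av huv
  · obtain ⟨c', hc', h'⟩ := h_z' D (l1 D) c
    rw [h, h', z_inv, ← D.z_add, ← D.z_add]
    exact z_fixed D _
  · obtain ⟨c', hc', h'⟩ := h_z' D (l1 D) c
    have h2 : D.h (l1 D) * v * (D.h (l1 D))⁻¹ * v⁻¹ = D.z c' * (D.z c)⁻¹ := by
      rw [h]
      have e1 : D.h (l1 D) * (D.z c * D.t) * (D.h (l1 D))⁻¹ * (D.z c * D.t)⁻¹ =
        (D.h (l1 D) * D.z c * (D.h (l1 D))⁻¹) * (D.h (l1 D) * D.t * (D.h (l1 D))⁻¹) *
          (D.z c * D.t)⁻¹ := by group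
      rw [e1, h', ← D.t_h]; group
    rw [h2, z_inv, ← D.z_add, ← D.z_add]
    exact z_fixed D _

theorem W_surj {v : K} (hv : bar n v = v) : ∃ y ∈ W D, u D y = v := by
  have hN : bar n (N n (l1 D : K) + 1) = N n (l1 D : K) + 1 :=
    fixed_add (fixed_N D.hq _) (bar_one n)
  obtain ⟨y, hy, ay, uy⟩ := Y_surj D (fixed_mul hv (fixed_inv hN))
  refine ⟨D.z 0 * (D.h (l1 D) * y * (D.h (l1 D))⁻¹ * y⁻¹), ⟨y, hy, ay, 0, rfl⟩, ?_⟩
  rw [u_mul D (z_mem_Q D 0) (mul_mem (D.Q_h _ _ hy) (inv_mem hy)), u_z,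
    u_mul D (D.Q_h _ _ hy) (inv_mem hy), u_h D _ hy, u_inv D hy, zero_add, uy]
  have h0 := N_l1 D
  field_simp

theorem W_or {y : G} (hy : y ∈ D.Q) (ay : a D y = 0) : y ∈ W D ∨ y * D.t ∈ W D := by
  obtain ⟨w, hw, uw⟩ := W_surj D (u_fixed D hy)
  have hwQ := W_le D hw
  obtain ⟨b, hb, h | h⟩ := z_or_zt D (mul_mem hy (inv_mem hwQ))
    (by rw [a_mul D hy (inv_mem hwQ), a_inv D hwQ, ay, a_W D hw, add_zero])
    (by rw [u_mul D hy (inv_mem hwQ), u_inv D hwQ, uw, add_self])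
  · left
    rw [mul_inv_eq_iff_eq_mul.mp h]
    exact mul_mem (z_mem_W D b) hw
  · right
    rw [mul_inv_eq_iff_eq_mul.mp h]
    have e1 : D.z b * D.t * w * D.t = D.z b * (D.t * w * D.t⁻¹) := by rw [t_inv]; group
    rw [e1, t_conj D hwQ]
    exact mul_mem (z_mem_W D b) (mul_mem (z_mem_W D _) hw)

theorem W_h (l : Kˣ) {y : G} (hy : y ∈ W D) : D.h l * y * (D.h l)⁻¹ ∈ W D := by
  obtain ⟨v, hv, av, b, rfl⟩ := hy
  obtain ⟨c, hc, h⟩ := h_z' D l b
  refine ⟨D.h l * v * (D.h l)⁻¹, D.Q_h l v hv, by rw [a_h D l hv, av, mul_zero], c, ?_⟩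
  have e1 : D.h l * (D.h (l1 D) * v * (D.h (l1 D))⁻¹) * (D.h l)⁻¹ =
      D.h (l1 D) * (D.h l * v * (D.h l)⁻¹) * (D.h (l1 D))⁻¹ := by
    rw [← D.h_mul _ _ v hv, ← D.h_mul _ _ v hv, mul_comm]
  have e2 : D.h l * (D.z b * (D.h (l1 D) * v * (D.h (l1 D))⁻¹ * v⁻¹)) * (D.h l)⁻¹ =
      (D.h l * D.z b * (D.h l)⁻¹) * (D.h l * (D.h (l1 D) * v * (D.h (l1 D))⁻¹) * (D.h l)⁻¹) *
      (D.h l * v * (D.h l)⁻¹)⁻¹ := by group
  rw [e2, e1, h]; group

/-! ### The constant `gam` -/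

theorem exists_gam : ∃ c : K, bar n c = c ∧ ∀ y ∈ W D, y * y = D.z (c * u D y) := by
  obtain ⟨y1, hy1, uy1⟩ := W_surj D (bar_one n)
  obtain ⟨c, hc, hcc⟩ := Y_sq D (W_le D hy1) (a_W D hy1)
  refine ⟨c, hc, fun y hy => ?_⟩
  by_cases h0 : u D y = 0
  · obtain ⟨b, hb, rfl⟩ := z_of_W D hy h0
    rw [h0, mul_zero, z_zero, z_self]
  · obtain ⟨x, hx⟩ := exists_norm D.hq (u_fixed D (W_le D hy))
    have hx0 : x ≠ 0 := by
      rintro rfl
      rw [N_zero] at hx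
      exact h0 hx.symm
    set l := Units.mk0 x hx0 with hl
    have hlx : (l : K) = x := rfl
    have hy' := W_h D l hy1
    have hyQ := W_le D hy
    have hyQ' := W_le D hy'
    obtain ⟨b, hb, h⟩ := z_of_W D (mul_mem hy (inv_mem hy')) (by
      rw [u_mul D hyQ (inv_mem hyQ'), u_inv D hyQ', u_h D l (W_le D hy1), uy1, mul_one, hlx, hx,
        add_self])
    have h1 := mul_inv_eq_iff_eq_mul.mp h
    have h2 : y * y = D.h l * (y1 * y1) * (D.h l)⁻¹ := by
      rw [h1]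
      have : D.z b * (D.h l * y1 * (D.h l)⁻¹) * (D.z b * (D.h l * y1 * (D.h l)⁻¹)) =
        D.z b * ((D.h l * y1 * (D.h l)⁻¹) * D.z b) * (D.h l * y1 * (D.h l)⁻¹) := by group
      rw [this, D.Q_Z _ hyQ', ← mul_assoc (D.z b) (D.z b), z_self]; group
    rw [h2, hcc, h_z D l hc, hlx, hx, mul_comm]

/-- the constant of the square map on `W`. -/
noncomputable def gam : K := Classical.choose (exists_gam D)

theorem gam_fixed : bar n (gam D) = gam D := (Classical.choose_spec (exists_gam D)).1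

theorem W_sq {y : G} (hy : y ∈ W D) : y * y = D.z (gam D * u D y) :=
  (Classical.choose_spec (exists_gam D)).2 y hy

theorem W_comm {x y : G} (hx : x ∈ W D) (hy : y ∈ W D) : x * y = y * x := by
  have hxQ := W_le D hx
  have hyQ := W_le D hy
  have h := comm_of_sq D hxQ hyQ (W_sq D hx) (W_sq D hy) (W_sq D (mul_mem hx hy))
  rw [u_mul D hxQ hyQ] at h
  have h2 : gam D * (u D x + u D y) + gam D * u D x + gam D * u D y = 0 := by
    rw [mul_add, add_assoc, add_self]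
  rw [h2, z_zero, one_mul] at h
  exact h

theorem P_W_comm {x y : G} (hx : x ∈ D.P) (hy : y ∈ W D) : x * y = y * x :=
  (comm_of_a D (W_le D hy) (a_W D hy) hx).symm

/-! ### The subgroup `V = P W` and the homomorphism `e` -/

/-- `V = P W`. -/
noncomputable def V : Subgroup G where
  carrier := {g | ∃ x ∈ D.P, ∃ y ∈ W D, g = x * y}
  one_mem' := ⟨1, D.P.one_mem, 1, (W D).one_mem, by rw [mul_one]⟩
  mul_mem' := by
    rintro g k ⟨x, hx, y, hy, rfl⟩ ⟨x', hx', y', hy', rfl⟩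
    refine ⟨x * x', mul_mem hx hx', y * y', mul_mem hy hy', ?_⟩
    have : x * y * (x' * y') = x * (y * x') * y' := by group
    rw [this, ← P_W_comm D hx' hy]; group
  inv_mem' := by
    rintro g ⟨x, hx, y, hy, rfl⟩
    refine ⟨x⁻¹, inv_mem hx, y⁻¹, inv_mem hy, ?_⟩
    rw [P_W_comm D (inv_mem hx) (inv_mem hy), mul_inv_rev]

theorem V_le : V D ≤ D.Q := by
  rintro g ⟨x, hx, y, hy, rfl⟩
  exact mul_mem (D.P_le hx) (W_le D hy)

theorem P_le_V : D.P ≤ V D := fun x hx => ⟨x, hx, 1, (W D).one_mem, by rw [mul_one]⟩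

theorem W_le_V : W D ≤ V D := fun y hy => ⟨1, D.P.one_mem, y, hy, by rw [one_mul]⟩

theorem V_or {g : G} (hg : g ∈ D.Q) : g ∈ V D ∨ g * D.t ∈ V D := by
  obtain ⟨p, hp, hpa⟩ := D.ca_surj (a D g)
  have hpQ := D.P_le hp
  rcases W_or D (mul_mem (inv_mem hpQ) hg)
    (by rw [a_mul D (inv_mem hpQ) hg, a_inv D hpQ, a_P D hp, hpa, add_self]) with h | h
  · left
    exact ⟨p, hp, _, h, by group⟩
  · right
    exact ⟨p, hp, _, h, by group⟩

theorem t_not_V : D.t ∉ V D := by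
  rintro ⟨x, hx, y, hy, h⟩
  have h1 : u D y = 0 := by
    have h2 := u_t D
    rw [h, u_mul D (D.P_le hx) (W_le D hy), u_P D hx, zero_add] at h2
    exact h2
  obtain ⟨b, -, hb⟩ := z_of_W D hy h1
  apply D.t_not
  rw [h, hb]
  exact mul_mem hx (D.z_mem b)

theorem V_h (l : Kˣ) {g : G} (hg : g ∈ V D) : D.h l * g * (D.h l)⁻¹ ∈ V D := by
  obtain ⟨x, hx, y, hy, rfl⟩ := hg
  exact ⟨_, D.h_P l x hx, _, W_h D l hy, by group⟩

theorem V_t {g : G} (hg : g ∈ V D) : D.t * g * D.t⁻¹ ∈ V D := by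
  rw [t_conj D (V_le D hg)]
  exact mul_mem (P_le_V D (D.z_mem _)) hg

open Classical in
/-- `e : Q → {0, 1} ⊆ K`, kernel `V`. -/
noncomputable def e (g : G) : K := if g ∈ V D then 0 else 1

theorem e_zero {g : G} (hg : g ∈ V D) : e D g = 0 := by unfold e; rw [if_pos hg]

theorem e_one' {g : G} (hg : g ∉ V D) : e D g = 1 := by unfold e; rw [if_neg hg]

theorem e_cases (g : G) : (e D g = 0 ∧ g ∈ V D) ∨ (e D g = 1 ∧ g ∉ V D) := by
  by_cases h : g ∈ V D
  · exact Or.inl ⟨e_zero D h, h⟩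
  · exact Or.inr ⟨e_one' D h, h⟩

theorem e_eq_zero_iff {g : G} : e D g = 0 ↔ g ∈ V D := by
  rcases e_cases D g with ⟨h1, h2⟩ | ⟨h1, h2⟩
  · exact ⟨fun _ => h2, fun _ => h1⟩
  · exact ⟨fun h => absurd (h1.symm.trans h) one_ne_zero, fun h => absurd h h2⟩

theorem e_fixed (g : G) : bar n (e D g) = e D g := by
  rcases e_cases D g with ⟨h1, h2⟩ | ⟨h1, h2⟩
  · rw [h1, bar_zero]
  · rw [h1, bar_one]

theorem V_of_not {g : G} (hg : g ∈ D.Q) (h : g ∉ V D) : g * D.t ∈ V D :=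
  (V_or D hg).resolve_left h

theorem e_mul {g k : G} (hg : g ∈ D.Q) (hk : k ∈ D.Q) : e D (g * k) = e D g + e D k := by
  rcases e_cases D g with ⟨h1, h2⟩ | ⟨h1, h2⟩ <;> rcases e_cases D k with ⟨h3, h4⟩ | ⟨h3, h4⟩
  · rw [h1, h3, add_zero, e_zero D (mul_mem h2 h4)]
  · rw [h1, h3, zero_add]
    apply e_one'
    intro h
    apply h4
    have := mul_mem (inv_mem h2) h
    rwa [← mul_assoc, inv_mul_cancel, one_mul] at this
  · rw [h1, h3, add_zero]
    apply e_one'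
    intro h
    apply h2
    have := mul_mem h (inv_mem h4)
    rwa [mul_assoc, mul_inv_cancel, mul_one] at this
  · rw [h1, h3, add_self]
    apply e_zero
    have h5 := V_of_not D hg h2
    have h6 := V_of_not D hk h4
    have h7 := mul_mem h5 (V_t D h6)
    have h8 : g * D.t * (D.t * (k * D.t) * D.t⁻¹) = g * (D.t * D.t) * k := by
      rw [show g * D.t * (D.t * (k * D.t) * D.t⁻¹) = g * (D.t * D.t) * k by group]
    rw [h8, D.t_sq, mul_one] at h7
    exact h7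

theorem e_one : e D 1 = 0 := e_zero D (V D).one_mem

theorem e_inv {g : G} (hg : g ∈ D.Q) : e D g⁻¹ = e D g := by
  have h := e_mul D hg (inv_mem hg)
  rw [mul_inv_cancel, e_one] at h
  exact (Field.add_eq_zero.mp h.symm).symm

theorem e_t : e D D.t = 1 := e_one' D (t_not_V D)

theorem e_P {x : G} (hx : x ∈ D.P) : e D x = 0 := e_zero D (P_le_V D hx)

theorem e_W {x : G} (hx : x ∈ W D) : e D x = 0 := e_zero D (W_le_V D hx)

theorem e_z (b : K) : e D (D.z b) = 0 := e_P D (D.z_mem b)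

theorem e_h (l : Kˣ) {g : G} (hg : g ∈ D.Q) : e D (D.h l * g * (D.h l)⁻¹) = e D g := by
  rcases e_cases D g with ⟨h1, h2⟩ | ⟨h1, h2⟩
  · rw [h1, e_zero D (V_h D l h2)]
  · have h3 := V_h D l (V_of_not D hg h2)
    have h4 : D.h l * (g * D.t) * (D.h l)⁻¹ = D.h l * g * (D.h l)⁻¹ * D.t := by
      have : D.h l * (g * D.t) * (D.h l)⁻¹ = D.h l * g * (D.h l)⁻¹ * (D.h l * D.t * (D.h l)⁻¹) := by
        group
      rw [this, ← D.t_h]; group
    rw [h4] at h3
    have h5 := e_mul D (D.Q_h l g hg) D.Q_t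
    rw [e_zero D h3, e_t] at h5
    rw [h1, Field.add_eq_zero.mp h5.symm]

/-! ### The structure of `Q` -/

/-- decomposition of the elements of `Q` -/
theorem exists_decomp {g : G} (hg : g ∈ D.Q) :
    ∃ x ∈ D.P, ∃ y ∈ D.Q, g = x * y ∧ D.ca x = a D g ∧ a D y = 0 ∧ u D y = u D g ∧
      e D y = e D g ∧ (y ∈ W D ∧ e D g = 0 ∨ y * D.t ∈ W D ∧ e D g = 1) := by
  obtain ⟨p, hp, hpa⟩ := D.ca_surj (a D g)
  have hpQ := D.P_le hp
  have hy : p⁻¹ * g ∈ D.Q := mul_mem (inv_mem hpQ) hg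
  have ay : a D (p⁻¹ * g) = 0 := by
    rw [a_mul D (inv_mem hpQ) hg, a_inv D hpQ, a_P D hp, hpa, add_self]
  have ey : e D (p⁻¹ * g) = e D g := by
    rw [e_mul D (inv_mem hpQ) hg, e_inv D hpQ, e_P D hp, zero_add]
  refine ⟨p, hp, p⁻¹ * g, hy, by group, hpa, ay, ?_, ey, ?_⟩
  · rw [u_mul D (inv_mem hpQ) hg, u_inv D hpQ, u_P D hp, zero_add]
  · rcases W_or D hy ay with h | h
    · left
      refine ⟨h, ?_⟩
      rw [← ey, e_W D h]
    · right
      refine ⟨h, ?_⟩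
      have h1 := e_W D h
      rw [e_mul D hy D.Q_t, e_t] at h1
      rw [← ey]
      exact Field.add_eq_zero.mp h1

theorem Y_sq_eq {y : G} (hy : y ∈ D.Q) (ay : a D y = 0) :
    y * y = D.z (gam D * u D y + e D y * u D y) := by
  rcases W_or D hy ay with h | h
  · rw [W_sq D h, e_W D h, zero_mul, add_zero]
  · have h1 := e_W D h
    rw [e_mul D hy D.Q_t, e_t] at h1
    have h2 : e D y = 1 := Field.add_eq_zero.mp h1
    rw [h2, one_mul]
    have h3 := W_sq D h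
    rw [u_mul D hy D.Q_t, u_t, add_zero] at h3
    have h4 : y * D.t * (y * D.t) = y * (D.t * y * D.t⁻¹) := by rw [t_inv]; group
    rw [h4, t_conj D hy, ← mul_assoc, D.Q_Z y hy, mul_assoc] at h3
    have h5 : D.z (u D y) * (D.z (u D y) * (y * y)) = D.z (u D y) * D.z (gam D * u D y) := by
      rw [h3]
    rw [← mul_assoc, z_self, one_mul, ← D.z_add, add_comm] at h5
    exact h5

theorem Y_comm_eq {x y : G} (hx : x ∈ D.Q) (ax : a D x = 0) (hy : y ∈ D.Q) (ay : a D y = 0) :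
    x * y = D.z (e D x * u D y + e D y * u D x) * (y * x) := by
  have h := comm_of_sq D hx hy (Y_sq_eq D hx ax) (Y_sq_eq D hy ay)
    (Y_sq_eq D (mul_mem hx hy) (by rw [a_mul D hx hy, ax, ay, add_zero]))
  rw [u_mul D hx hy, e_mul D hx hy] at h
  have h2 : gam D * (u D x + u D y) + (e D x + e D y) * (u D x + u D y) +
      (gam D * u D x + e D x * u D x) + (gam D * u D y + e D y * u D y) =
      e D x * u D y + e D y * u D x := by
    have h3 : gam D * (u D x + u D y) + (e D x + e D y) * (u D x + u D y) +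
      (gam D * u D x + e D x * u D x) + (gam D * u D y + e D y * u D y) =
      e D x * u D y + e D y * u D x + ((gam D * u D x + e D x * u D x) +
        (gam D * u D x + e D x * u D x)) + ((gam D * u D y + e D y * u D y) +
        (gam D * u D y + e D y * u D y)) := by ring
    rw [h3, add_self, add_self, add_zero, add_zero]
  rw [h2] at h
  exact h

theorem sq_eq {g : G} (hg : g ∈ D.Q) :
    g * g = D.z (N n (a D g) + gam D * u D g + e D g * u D g) := by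
  obtain ⟨x, hx, y, hy, rfl, hxa, ay, uy, ey, -⟩ := exists_decomp D hg
  have h1 : x * y * (x * y) = (x * x) * (y * y) := by
    have : x * y * (x * y) = x * (y * x) * y := by group
    rw [this, comm_of_a D hy ay hx]; group
  rw [← uy, ← ey, ← hxa, h1, D.P_sq x hx, Y_sq_eq D hy ay, ← D.z_add, add_assoc (N n (D.ca x))]

theorem comm_eq {g k : G} (hg : g ∈ D.Q) (hk : k ∈ D.Q) :
    g * k = D.z (Tr n (a D g * bar n (a D k)) + (e D g * u D k + e D k * u D g)) * (k * g) := by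
  obtain ⟨x, hx, y, hy, rfl, hxa, ay, uy, ey, -⟩ := exists_decomp D hg
  obtain ⟨x', hx', y', hy', rfl, hxa', ay', uy', ey', -⟩ := exists_decomp D hk
  rw [← uy, ← ey, ← hxa, ← uy', ← ey', ← hxa', D.z_add]
  have h1 := D.P_comm x hx x' hx'
  have h2 := Y_comm_eq D hy ay hy' ay'
  have c1 : y * x' = x' * y := comm_of_a D hy ay hx'
  have c2 : y' * x = x * y' := comm_of_a D hy' ay' hx
  set c := Tr n (D.ca x * bar n (D.ca x')) with hc
  set d := e D y * u D y' + e D y' * u D y with hd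
  have hz : (x' * x) * D.z d = D.z d * (x' * x) :=
    D.Q_Z _ (D.P_le (mul_mem hx' hx)) _
  calc x * y * (x' * y') = x * (y * x') * y' := by group
    _ = (x * x') * (y * y') := by rw [c1]; group
    _ = D.z c * ((x' * x) * D.z d) * (y' * y) := by rw [h1, h2]; group
    _ = D.z c * D.z d * (x' * (x * y') * y) := by rw [hz]; group
    _ = D.z c * D.z d * (x' * y' * (x * y)) := by rw [← c2]; group

theorem ker_eq {g : G} (hg : g ∈ D.Q) (ha : a D g = 0) (hu : u D g = 0) (he : e D g = 0) :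
    ∃ b, bar n b = b ∧ g = D.z b := by
  obtain ⟨b, hb, h | h⟩ := z_or_zt D hg ha hu
  · exact ⟨b, hb, h⟩
  · exfalso
    rw [h, e_mul D (z_mem_Q D b) D.Q_t, e_z, e_t, zero_add] at he
    exact one_ne_zero he

theorem surj {a0 u0 e0 : K} (hu0 : bar n u0 = u0) (he0 : e0 = 0 ∨ e0 = 1) :
    ∃ g ∈ D.Q, a D g = a0 ∧ u D g = u0 ∧ e D g = e0 := by
  obtain ⟨p, hp, rfl⟩ := D.ca_surj a0
  obtain ⟨y, hy, rfl⟩ := W_surj D hu0
  have hpQ := D.P_le hp
  have hyQ := W_le D hy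
  rcases he0 with rfl | rfl
  · refine ⟨p * y, mul_mem hpQ hyQ, ?_, ?_, ?_⟩
    · rw [a_mul D hpQ hyQ, a_P D hp, a_W D hy, add_zero]
    · rw [u_mul D hpQ hyQ, u_P D hp, zero_add]
    · rw [e_mul D hpQ hyQ, e_P D hp, e_W D hy, add_zero]
  · refine ⟨p * y * D.t, mul_mem (mul_mem hpQ hyQ) D.Q_t, ?_, ?_, ?_⟩
    · rw [a_mul D (mul_mem hpQ hyQ) D.Q_t, a_mul D hpQ hyQ, a_P D hp, a_W D hy, a_t, add_zero,
        add_zero]
    · rw [u_mul D (mul_mem hpQ hyQ) D.Q_t, u_mul D hpQ hyQ, u_P D hp, u_t, zero_add, add_zero]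
    · rw [e_mul D (mul_mem hpQ hyQ) D.Q_t, e_mul D hpQ hyQ, e_P D hp, e_W D hy, e_t, zero_add,
        zero_add]

end Cfsg.Agent.StdU3.LevelOneW
end

-- part: StdU3/NormQ
section
/-!
# The action of the normalizer of `Q = S₁` on `Q`

`s` normalizes `Q`.  Then `s` normalizes `Z`, `W`, `V`, acts on `V / W = K` by a semilinear map
`A s`, on `Z` by `th s`, and on the class of `t` as described below.
-/

set_option autoImplicit false
set_option linter.unusedSectionVars false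

namespace Cfsg.Agent.StdU3.NormQ

open Cfsg.Agent.StdU3.Field Cfsg.Agent.StdU3.PreDef Cfsg.Agent.StdU3.LevelOne
open Cfsg.Agent.StdU3.LevelOneW

variable {G : Type*} [Group G] {K : Type*} [Field K] [Fintype K] [CharP K 2] {n : ℕ}
variable (D : Pre G K n)

/-- `s` normalizes `Q`. -/
structure Norm (s : G) : Prop where
  fwd : ∀ g ∈ D.Q, s * g * s⁻¹ ∈ D.Q
  bwd : ∀ g ∈ D.Q, s⁻¹ * g * s ∈ D.Q

theorem Norm.mul {s r : G} (hs : Norm D s) (hr : Norm D r) : Norm D (s * r) := by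
  refine ⟨fun g hg => ?_, fun g hg => ?_⟩
  · have : s * r * g * (s * r)⁻¹ = s * (r * g * r⁻¹) * s⁻¹ := by group
    rw [this]; exact hs.fwd _ (hr.fwd g hg)
  · have : (s * r)⁻¹ * g * (s * r) = r⁻¹ * (s⁻¹ * g * s) * r := by group
    rw [this]; exact hr.bwd _ (hs.bwd g hg)

theorem Norm.inv {s : G} (hs : Norm D s) : Norm D s⁻¹ := by
  refine ⟨fun g hg => ?_, fun g hg => ?_⟩
  · rw [inv_inv]; exact hs.bwd g hg
  · rw [inv_inv]; exact hs.fwd g hg

theorem Norm.of_mem {s : G} (hs : s ∈ D.Q) : Norm D s :=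
  ⟨fun _ hg => mul_mem (mul_mem hs hg) (inv_mem hs),
    fun _ hg => mul_mem (mul_mem (inv_mem hs) hg) hs⟩

theorem Norm.one : Norm D 1 := Norm.of_mem D D.Q.one_mem

/-- conjugating `Q` into itself is enough in a finite group. -/
theorem norm_of_fwd [Finite G] {s : G} (h : ∀ g ∈ D.Q, s * g * s⁻¹ ∈ D.Q) : Norm D s := by
  refine ⟨h, ?_⟩
  have h1 : D.Q.map (MulAut.conj s).toMonoidHom ≤ D.Q := by
    rintro _ ⟨g, hg, rfl⟩
    exact h g hg
  have h2 : D.Q.map (MulAut.conj s).toMonoidHom = D.Q := by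
    apply Subgroup.eq_of_le_of_card_ge h1
    rw [Subgroup.card_map_of_injective (MulAut.conj s).injective]
  intro g hg
  rw [← h2] at hg
  obtain ⟨x, hx, rfl⟩ := hg
  have : s⁻¹ * (MulAut.conj s).toMonoidHom x * s = x := by
    show s⁻¹ * (s * x * s⁻¹) * s = x
    group
  rw [this]; exact hx

theorem norm_h [Finite G] (l : Kˣ) : Norm D (D.h l) := norm_of_fwd D (D.Q_h l)

/-! ### Characterizations of `Z`, `W`, `V` -/

theorem comm_z {g : G} (hg : g ∈ D.Q) (b : K) : g * D.z b = D.z b * g := D.Q_Z g hg b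

/-- the commutator. -/
theorem cmt_eq {g k : G} (hg : g ∈ D.Q) (hk : k ∈ D.Q) :
    g * k * g⁻¹ * k⁻¹ =
      D.z (Tr n (a D g * bar n (a D k)) + (e D g * u D k + e D k * u D g)) := by
  rw [comm_eq D hg hk]; group

theorem mem_Z_iff {g : G} (hg : g ∈ D.Q) :
    (∀ k ∈ D.Q, g * k = k * g) ↔ ∃ b, bar n b = b ∧ g = D.z b := by
  constructor
  · intro h
    have hc : ∀ k ∈ D.Q, Tr n (a D g * bar n (a D k)) + (e D g * u D k + e D k * u D g) = 0 := by
      intro k hk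
      apply D.z_inj _ (fixed_add (fixed_Tr D.hq _) (fixed_add
        (fixed_mul (e_fixed D g) (u_fixed D hk)) (fixed_mul (e_fixed D k) (u_fixed D hg))))
      rw [← cmt_eq D hg hk, h k hk]; group
    apply ker_eq D hg
    · apply eq_zero_of_Tr D.hq
      intro y
      obtain ⟨x, hx, rfl⟩ := D.ca_surj y
      have := hc x (D.P_le hx)
      rw [a_P D hx, u_P D hx, e_P D hx, mul_zero, zero_mul, add_zero, add_zero] at this
      exact this
    · have := hc D.t D.Q_t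
      rw [a_t, u_t, e_t, bar_zero, mul_zero, Tr_zero, mul_zero, one_mul, zero_add, zero_add] at this
      exact this
    · obtain ⟨y, hy, uy⟩ := W_surj D (bar_one n)
      have := hc y (W_le D hy)
      rw [a_W D hy, e_W D hy, uy, bar_zero, mul_zero, Tr_zero, zero_mul, mul_one, zero_add,
        add_zero] at this
      exact this
  · rintro ⟨b, -, rfl⟩ k hk
    exact (D.Q_Z k hk b).symm

theorem W_of_ae {g : G} (hg : g ∈ D.Q) (ha : a D g = 0) (he : e D g = 0) : g ∈ W D := by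
  rcases W_or D hg ha with h | h
  · exact h
  · exfalso
    have h1 := e_W D h
    rw [e_mul D hg D.Q_t, he, e_t, zero_add] at h1
    exact one_ne_zero h1

theorem mem_W_iff {g : G} (hg : g ∈ D.Q) :
    g ∈ W D ↔ ∃ z0, ∀ k ∈ D.Q, g * k * g⁻¹ * k⁻¹ = 1 ∨ g * k * g⁻¹ * k⁻¹ = z0 := by
  constructor
  · intro h
    refine ⟨D.z (u D g), fun k hk => ?_⟩
    rw [cmt_eq D hg hk, a_W D h, e_W D h, zero_mul, Tr_zero, zero_mul, zero_add, zero_add]
    rcases e_cases D k with ⟨h1, -⟩ | ⟨h1, -⟩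
    · left; rw [h1, zero_mul, z_zero]
    · right; rw [h1, one_mul]
  · rintro ⟨z0, h⟩
    -- no element has all commutators
    have hno : ¬ (∀ b, bar n b = b → ∃ k ∈ D.Q, g * k * g⁻¹ * k⁻¹ = D.z b) := by
      intro hall
      obtain ⟨l, hl, hl1⟩ := exists_fixed_ne D.hq
      have hz : ∀ b, bar n b = b → b ≠ 0 → D.z b = z0 := by
        intro b hb hb0
        obtain ⟨k, hk, hkb⟩ := hall b hb
        rcases h k hk with h1 | h1
        · exfalso
          rw [hkb] at h1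
          exact hb0 (D.z_inj b hb h1)
        · rw [← hkb, h1]
      have h1 := hz 1 (bar_one n) one_ne_zero
      have h2 := hz l hl l.ne_zero
      exact hl1 (z_eq D hl (bar_one n) (h2.trans h1.symm))
    have ha : a D g = 0 := by
      by_contra ha
      apply hno
      intro b hb
      obtain ⟨y, hy⟩ := exists_Tr_eq D.hq ha hb
      obtain ⟨x, hx, rfl⟩ := D.ca_surj y
      refine ⟨x, D.P_le hx, ?_⟩
      rw [cmt_eq D hg (D.P_le hx), a_P D hx, u_P D hx, e_P D hx, mul_zero, zero_mul, add_zero,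
        add_zero, hy]
    have he : e D g = 0 := by
      rcases e_cases D g with ⟨h1, -⟩ | ⟨h1, -⟩
      · exact h1
      · exfalso
        apply hno
        intro b hb
        obtain ⟨y, hy, uy⟩ := W_surj D hb
        refine ⟨y, W_le D hy, ?_⟩
        rw [cmt_eq D hg (W_le D hy), ha, h1, e_W D hy, uy, zero_mul, Tr_zero, zero_mul, one_mul,
          add_zero, zero_add]
    exact W_of_ae D hg ha he

theorem mem_V_iff {g : G} (hg : g ∈ D.Q) : g ∈ V D ↔ ∀ k ∈ W D, g * k = k * g := by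
  constructor
  · intro h k hk
    have h1 := comm_eq D hg (W_le D hk)
    rw [a_W D hk, e_W D hk, e_zero D h, bar_zero, mul_zero, Tr_zero, zero_mul, zero_mul,
      add_zero, add_zero, z_zero, one_mul] at h1
    exact h1
  · intro h
    rcases e_cases D g with ⟨-, h1⟩ | ⟨h1, -⟩
    · exact h1
    · exfalso
      obtain ⟨y, hy, uy⟩ := W_surj D (bar_one n)
      have h2 := comm_eq D hg (W_le D hy)
      rw [a_W D hy, e_W D hy, h1, uy, bar_zero, mul_zero, Tr_zero, zero_mul, one_mul,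
        add_zero, zero_add, h y hy] at h2
      have h3 := mul_eq_right.mp h2.symm
      exact one_ne_zero (D.z_inj 1 (bar_one n) h3)

/-- `bar` as an automorphism. -/
def barE (h : Qd K n) : K ≃+* K where
  toFun := bar n
  invFun := bar n
  left_inv := bar_bar h
  right_inv := bar_bar h
  map_mul' := bar_mul n
  map_add' := bar_add n

section action
variable {s : G}

theorem conj_z (h : Norm D s) (b : K) : ∃ c, bar n c = c ∧ s * D.z b * s⁻¹ = D.z c := by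
  have h1 : s * D.z b * s⁻¹ ∈ D.Q := h.fwd _ (z_mem_Q D b)
  apply (mem_Z_iff D h1).mp
  intro k hk
  have h2 := comm_z D (h.bwd k hk) b
  calc s * D.z b * s⁻¹ * k = s * (D.z b * (s⁻¹ * k * s)) * s⁻¹ := by group
    _ = s * ((s⁻¹ * k * s) * D.z b) * s⁻¹ := by rw [h2]
    _ = k * (s * D.z b * s⁻¹) := by group

theorem conj_W (h : Norm D s) {g : G} (hg : g ∈ W D) : s * g * s⁻¹ ∈ W D := by
  have hgQ := W_le D hg
  rw [mem_W_iff D (h.fwd g hgQ)]
  obtain ⟨z0, hz0⟩ := (mem_W_iff D hgQ).mp hg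
  refine ⟨s * z0 * s⁻¹, fun k hk => ?_⟩
  have h1 : s * g * s⁻¹ * k * (s * g * s⁻¹)⁻¹ * k⁻¹ =
      s * (g * (s⁻¹ * k * s) * g⁻¹ * (s⁻¹ * k * s)⁻¹) * s⁻¹ := by group
  rw [h1]
  rcases hz0 _ (h.bwd k hk) with h2 | h2
  · left; rw [h2]; group
  · right; rw [h2]

theorem conj_V (h : Norm D s) {g : G} (hg : g ∈ V D) : s * g * s⁻¹ ∈ V D := by
  have hgQ := V_le D hg
  rw [mem_V_iff D (h.fwd g hgQ)]
  intro k hk
  have h1 := (mem_V_iff D hgQ).mp hg (s⁻¹ * k * s) (by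
    have := conj_W D (Norm.inv D h) hk
    rwa [inv_inv] at this)
  calc s * g * s⁻¹ * k = s * (g * (s⁻¹ * k * s)) * s⁻¹ := by group
    _ = s * ((s⁻¹ * k * s) * g) * s⁻¹ := by rw [h1]
    _ = k * (s * g * s⁻¹) := by group

theorem conj_V_iff (h : Norm D s) {g : G} : s * g * s⁻¹ ∈ V D ↔ g ∈ V D := by
  refine ⟨fun h1 => ?_, conj_V D h⟩
  have h2 := conj_V D (Norm.inv D h) h1
  have h3 : s⁻¹ * (s * g * s⁻¹) * s⁻¹⁻¹ = g := by group
  rwa [h3] at h2

theorem e_conj (h : Norm D s) (g : G) : e D (s * g * s⁻¹) = e D g := by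
  rcases e_cases D g with ⟨h1, h2⟩ | ⟨h1, h2⟩
  · rw [h1, e_zero D (conj_V D h h2)]
  · rw [h1, e_one' D (fun h3 => h2 ((conj_V_iff D h).mp h3))]

open Classical in
/-- the action on `Z`. -/
noncomputable def th (s : G) (b : K) : K :=
  if h : ∃ c, bar n c = c ∧ s * D.z b * s⁻¹ = D.z c then Classical.choose h else 0

theorem th_spec (h : Norm D s) (b : K) :
    bar n (th D s b) = th D s b ∧ s * D.z b * s⁻¹ = D.z (th D s b) := by
  unfold th
  rw [dif_pos (conj_z D h b)]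
  exact Classical.choose_spec (conj_z D h b)

theorem th_fixed (h : Norm D s) (b : K) : bar n (th D s b) = th D s b := (th_spec D h b).1

theorem th_conj (h : Norm D s) (b : K) : s * D.z b * s⁻¹ = D.z (th D s b) := (th_spec D h b).2

theorem th_eq (h : Norm D s) {b c : K} (hc : bar n c = c) (h1 : s * D.z b * s⁻¹ = D.z c) :
    th D s b = c := z_eq D (th_fixed D h b) hc (by rw [← th_conj D h, h1])

theorem th_add (h : Norm D s) (b c : K) : th D s (b + c) = th D s b + th D s c := by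
  apply th_eq D h (fixed_add (th_fixed D h b) (th_fixed D h c))
  rw [D.z_add, D.z_add, ← th_conj D h, ← th_conj D h]; group

theorem th_zero (h : Norm D s) : th D s 0 = 0 := by
  apply th_eq D h (bar_zero n)
  rw [z_zero]; group

theorem th_eq_zero (h : Norm D s) {b : K} (hb : bar n b = b) (h1 : th D s b = 0) : b = 0 := by
  have h2 := th_conj D h b
  rw [h1, z_zero] at h2
  apply D.z_inj b hb
  have : D.z b = s⁻¹ * (s * D.z b * s⁻¹) * s := by group
  rw [this, h2]; group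

/-- the action on `V / W = K`. -/
noncomputable def A (s : G) (b : K) : K := a D (s * Classical.choose (D.ca_surj b) * s⁻¹)

/-- the `u`-part of the conjugates of elements of `P`. -/
noncomputable def psi (s : G) (b : K) : K := u D (s * Classical.choose (D.ca_surj b) * s⁻¹)

theorem conj_mul (s g k : G) : s * (g * k) * s⁻¹ = (s * g * s⁻¹) * (s * k * s⁻¹) := by group

theorem A_spec (h : Norm D s) {g : G} (hg : g ∈ V D) : a D (s * g * s⁻¹) = A D s (a D g) := by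
  unfold A
  obtain ⟨hx, hxa⟩ := Classical.choose_spec (D.ca_surj (a D g))
  set x := Classical.choose (D.ca_surj (a D g)) with hxd
  have hgQ := V_le D hg
  have hxQ := D.P_le hx
  have h1 : x⁻¹ * g ∈ W D := by
    apply W_of_ae D (mul_mem (inv_mem hxQ) hgQ)
    · rw [a_mul D (inv_mem hxQ) hgQ, a_inv D hxQ, a_P D hx, hxa, add_self]
    · rw [e_mul D (inv_mem hxQ) hgQ, e_inv D hxQ, e_P D hx, e_zero D hg, add_zero]
  have h2 : s * g * s⁻¹ = (s * x * s⁻¹) * (s * (x⁻¹ * g) * s⁻¹) := by group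
  rw [h2, a_mul D (h.fwd x hxQ) (h.fwd _ (W_le D h1)), a_W D (conj_W D h h1), add_zero]

theorem psi_spec (h : Norm D s) {x : G} (hx : x ∈ D.P) : u D (s * x * s⁻¹) = psi D s (D.ca x) := by
  unfold psi
  obtain ⟨hy, hya⟩ := Classical.choose_spec (D.ca_surj (D.ca x))
  set y := Classical.choose (D.ca_surj (D.ca x)) with hyd
  obtain ⟨b, hb, h1⟩ := eq_z_mul D hx hy hya.symm
  rw [h1, conj_mul, u_mul D (h.fwd _ (z_mem_Q D b)) (h.fwd _ (D.P_le hy)), th_conj D h, u_z,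
    zero_add]

theorem A_P (h : Norm D s) {x : G} (hx : x ∈ D.P) : a D (s * x * s⁻¹) = A D s (D.ca x) := by
  rw [A_spec D h (P_le_V D hx), a_P D hx]

theorem A_add (h : Norm D s) (b c : K) : A D s (b + c) = A D s b + A D s c := by
  obtain ⟨x, hx, rfl⟩ := D.ca_surj b
  obtain ⟨y, hy, rfl⟩ := D.ca_surj c
  rw [← D.ca_mul x hx y hy, ← A_P D h hx, ← A_P D h hy, ← A_P D h (mul_mem hx hy), conj_mul,
    a_mul D (h.fwd x (D.P_le hx)) (h.fwd y (D.P_le hy))]

theorem A_zero (h : Norm D s) : A D s 0 = 0 := by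
  have h1 := A_P D h D.P.one_mem
  rw [ca_one] at h1
  rw [← h1]
  have : s * 1 * s⁻¹ = 1 := by group
  rw [this, a_one]

theorem psi_add (h : Norm D s) (b c : K) : psi D s (b + c) = psi D s b + psi D s c := by
  obtain ⟨x, hx, rfl⟩ := D.ca_surj b
  obtain ⟨y, hy, rfl⟩ := D.ca_surj c
  rw [← D.ca_mul x hx y hy, ← psi_spec D h hx, ← psi_spec D h hy, ← psi_spec D h (mul_mem hx hy),
    conj_mul, u_mul D (h.fwd x (D.P_le hx)) (h.fwd y (D.P_le hy))]

theorem psi_fixed (h : Norm D s) (b : K) : bar n (psi D s b) = psi D s b := by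
  obtain ⟨x, hx, rfl⟩ := D.ca_surj b
  rw [← psi_spec D h hx]
  exact u_fixed D (h.fwd x (D.P_le hx))

/-- the relation of the squares of elements of `P`. -/
theorem rel_sq (h : Norm D s) (b : K) :
    th D s (N n b) = N n (A D s b) + gam D * psi D s b := by
  obtain ⟨x, hx, rfl⟩ := D.ca_surj b
  have hxQ := D.P_le hx
  apply th_eq D h (fixed_add (fixed_N D.hq _) (fixed_mul (gam_fixed D) (psi_fixed D h _)))
  rw [← D.P_sq x hx, conj_mul, sq_eq D (h.fwd x hxQ), e_conj D h, e_P D hx, zero_mul, add_zero,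
    A_P D h hx, psi_spec D h hx]

/-- the commutator relation on `P`. -/
theorem rel_comm (h : Norm D s) (b c : K) :
    th D s (Tr n (b * bar n c)) = Tr n (A D s b * bar n (A D s c)) := by
  obtain ⟨x, hx, rfl⟩ := D.ca_surj b
  obtain ⟨y, hy, rfl⟩ := D.ca_surj c
  have hxQ := D.P_le hx
  have hyQ := D.P_le hy
  apply th_eq D h (fixed_Tr D.hq _)
  have h1 : D.z (Tr n (D.ca x * bar n (D.ca y))) = x * y * x⁻¹ * y⁻¹ := by
    rw [D.P_comm x hx y hy]; group
  have h2 : s * (x * y * x⁻¹ * y⁻¹) * s⁻¹ =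
      (s * x * s⁻¹) * (s * y * s⁻¹) * (s * x * s⁻¹)⁻¹ * (s * y * s⁻¹)⁻¹ := by group
  rw [h1, h2, cmt_eq D (h.fwd x hxQ) (h.fwd y hyQ), e_conj D h, e_conj D h, e_P D hx, e_P D hy,
    zero_mul, zero_mul, add_zero, add_zero, A_P D h hx, A_P D h hy]

/-- `t` commutes with `P`. -/
theorem rel_psi (h : Norm D s) (b : K) :
    psi D s b = Tr n (a D (s * D.t * s⁻¹) * bar n (A D s b)) := by
  obtain ⟨x, hx, rfl⟩ := D.ca_surj b
  have hxQ := D.P_le hx
  have h1 := cmt_eq D (h.fwd D.t D.Q_t) (h.fwd x hxQ)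
  have h2 : s * D.t * s⁻¹ * (s * x * s⁻¹) * (s * D.t * s⁻¹)⁻¹ * (s * x * s⁻¹)⁻¹ =
      s * (D.t * x * D.t⁻¹ * x⁻¹) * s⁻¹ := by group
  have h3 : D.t * x * D.t⁻¹ * x⁻¹ = 1 := by rw [D.t_P x hx]; group
  rw [h2, h3, mul_one, mul_inv_cancel, e_conj D h, e_conj D h, e_t, e_P D hx, one_mul, zero_mul,
    add_zero, A_P D h hx, psi_spec D h hx] at h1
  have h4 := D.z_inj _ (fixed_add (fixed_Tr D.hq _) (psi_fixed D h _)) h1.symm
  exact (Field.add_eq_zero.mp h4).symm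

/-- `t` is an involution. -/
theorem rel_t (h : Norm D s) :
    N n (a D (s * D.t * s⁻¹)) = (gam D + 1) * u D (s * D.t * s⁻¹) := by
  have h1 := sq_eq D (h.fwd D.t D.Q_t)
  rw [← conj_mul, D.t_sq, mul_one, mul_inv_cancel, e_conj D h, e_t] at h1
  have hu := u_fixed D (h.fwd D.t D.Q_t)
  have h4 := D.z_inj _ (fixed_add (fixed_add (fixed_N D.hq _) (fixed_mul (gam_fixed D) hu))
    (fixed_mul (bar_one n) hu)) h1.symm
  rw [add_assoc, ← add_mul] at h4
  exact Field.add_eq_zero.mp h4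

/-- the action on `W / Z`. -/
theorem u_conj_W (h : Norm D s) {y : G} (hy : y ∈ W D) : u D (s * y * s⁻¹) = th D s (u D y) := by
  have hyQ := W_le D hy
  have h1 : D.t * y * D.t⁻¹ * y⁻¹ = D.z (u D y) := by rw [t_conj D hyQ]; group
  have h2 : s * (D.t * y * D.t⁻¹ * y⁻¹) * s⁻¹ =
      s * D.t * s⁻¹ * (s * y * s⁻¹) * (s * D.t * s⁻¹)⁻¹ * (s * y * s⁻¹)⁻¹ := by group
  symm
  apply th_eq D h (u_fixed D (h.fwd y hyQ))
  rw [← h1, h2, cmt_eq D (h.fwd D.t D.Q_t) (h.fwd y hyQ), e_conj D h, e_conj D h, e_t, e_W D hy,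
    a_W D (conj_W D h hy), bar_zero, mul_zero, Tr_zero, one_mul, zero_mul, add_zero, zero_add]

theorem A_inj (h : Norm D s) : Function.Injective (A D s) := by
  intro b c hbc
  have h0 : A D s (b + c) = 0 := by rw [A_add D h, hbc, add_self]
  have h1 : ∀ y, Tr n ((b + c) * bar n y) = 0 := by
    intro y
    apply th_eq_zero D h (fixed_Tr D.hq _)
    rw [rel_comm D h, h0, zero_mul, Tr_zero]
  exact Field.add_eq_zero.mp (eq_zero_of_Tr D.hq h1)

theorem A_surj (h : Norm D s) : Function.Surjective (A D s) :=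
  Finite.injective_iff_surjective.mp (A_inj D h)

/-- if `gam ≠ 0` then `a (s t s⁻¹) = 0`. -/
theorem a_t_of_gam (h : Norm D s) (hg : gam D ≠ 0) : a D (s * D.t * s⁻¹) = 0 := by
  by_contra ha
  set a0 := a D (s * D.t * s⁻¹) with ha0
  obtain ⟨x, hx0, hx⟩ := exists_N_add_eq D.hq (mul_ne_zero hg ha)
  obtain ⟨b, hb⟩ := A_surj D h x
  have h1 := rel_sq D h b
  rw [rel_psi D h, hb, ← ha0] at h1
  have h2 : N n x + gam D * Tr n (a0 * bar n x) = 0 := by
    rw [N_add' D.hq, Tr_comm D.hq, mul_assoc, Tr_mul_fixed (gam_fixed D)] at hx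
    have h3 : N n x + gam D * Tr n (a0 * bar n x) + N n (gam D * a0) = N n (gam D * a0) := by
      linear_combination hx
    exact add_eq_right.mp h3
  rw [h2] at h1
  have h3 := N_eq_zero (th_eq_zero D h (fixed_N D.hq _) h1)
  rw [h3, A_zero D h] at hb
  exact hx0 hb.symm

theorem u_t_of_gam (h : Norm D s) (hg : gam D ≠ 0) (hg1 : gam D ≠ 1) :
    u D (s * D.t * s⁻¹) = 0 := by
  have h1 := rel_t D h
  rw [a_t_of_gam D h hg, N_zero] at h1
  rcases mul_eq_zero.mp h1.symm with h2 | h2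
  · exact absurd (Field.add_eq_zero.mp h2) hg1
  · exact h2

theorem u_t_zero (h : Norm D s) (hg : gam D = 0) :
    u D (s * D.t * s⁻¹) = N n (a D (s * D.t * s⁻¹)) := by
  rw [rel_t D h, hg, zero_add, one_mul]

theorem psi_eq_zero (h : Norm D s) (hg : gam D ≠ 0) (b : K) : psi D s b = 0 := by
  rw [rel_psi D h, a_t_of_gam D h hg, zero_mul, Tr_zero]

theorem gam_psi (h : Norm D s) (b : K) : gam D * psi D s b = 0 := by
  by_cases hg : gam D = 0
  · rw [hg, zero_mul]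
  · rw [psi_eq_zero D h hg, mul_zero]

/-- `A s` is a similitude of the norm form. -/
theorem N_A (h : Norm D s) (b : K) : N n (A D s b) = th D s (N n b) := by
  rw [rel_sq D h, gam_psi D h, add_zero]

/-- if `gam ≠ 0` then `P` is normal in the normalizer of `Q`. -/
theorem conj_P_mem (h : Norm D s) (hg : gam D ≠ 0) {x : G} (hx : x ∈ D.P) : s * x * s⁻¹ ∈ D.P := by
  have hxQ := D.P_le hx
  have hu : u D (s * x * s⁻¹) = 0 := by rw [psi_spec D h hx, psi_eq_zero D h hg]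
  rcases mem_T_of_u D (h.fwd x hxQ) hu with h1 | h1
  · exact h1
  · exfalso
    have h2 := e_P D h1
    rw [e_mul D (h.fwd x hxQ) D.Q_t, e_conj D h, e_P D hx, e_t, zero_add] at h2
    exact one_ne_zero h2

/-- the general formulas. -/
theorem a_conj (h : Norm D s) {g : G} (hg : g ∈ D.Q) :
    a D (s * g * s⁻¹) = A D s (a D g) + e D g * a D (s * D.t * s⁻¹) := by
  rcases e_cases D g with ⟨h1, h2⟩ | ⟨h1, h2⟩
  · rw [A_spec D h h2, h1, zero_mul, add_zero]
  · have h3 := V_of_not D hg h2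
    have h4 : s * g * s⁻¹ = (s * (g * D.t) * s⁻¹) * (s * D.t * s⁻¹) := by
      have : s * g * s⁻¹ = s * (g * (D.t * D.t)) * s⁻¹ := by rw [D.t_sq, mul_one]
      rw [this]; group
    rw [h4, a_mul D (h.fwd _ (mul_mem hg D.Q_t)) (h.fwd _ D.Q_t), A_spec D h h3,
      a_mul D hg D.Q_t, a_t, add_zero, h1, one_mul]

theorem u_conj' (h : Norm D s) {g : G} (hg : g ∈ D.Q) :
    u D (s * g * s⁻¹) = th D s (u D g) + psi D s (a D g) + e D g * u D (s * D.t * s⁻¹) := by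
  have hV : ∀ g ∈ V D, u D (s * g * s⁻¹) = th D s (u D g) + psi D s (a D g) := by
    rintro _ ⟨x, hx, y, hy, rfl⟩
    have hxQ := D.P_le hx
    have hyQ := W_le D hy
    rw [conj_mul, u_mul D (h.fwd x hxQ) (h.fwd y hyQ), psi_spec D h hx, u_conj_W D h hy,
      u_mul D hxQ hyQ, u_P D hx, zero_add, a_mul D hxQ hyQ, a_P D hx, a_W D hy, add_zero,
      add_comm]
  rcases e_cases D g with ⟨h1, h2⟩ | ⟨h1, h2⟩
  · rw [hV g h2, h1, zero_mul, add_zero]
  · have h3 := V_of_not D hg h2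
    have h4 : s * g * s⁻¹ = (s * (g * D.t) * s⁻¹) * (s * D.t * s⁻¹) := by
      have : s * g * s⁻¹ = s * (g * (D.t * D.t)) * s⁻¹ := by rw [D.t_sq, mul_one]
      rw [this]; group
    rw [h4, u_mul D (h.fwd _ (mul_mem hg D.Q_t)) (h.fwd _ D.Q_t), hV _ h3,
      a_mul D hg D.Q_t, a_t, add_zero, u_mul D hg D.Q_t, u_t, add_zero, h1, one_mul]

/-- `A s` is semilinear. -/
theorem exists_semilin (h : Norm D s) : ∃ c : K, c ≠ 0 ∧ ∃ σ : K ≃+* K,
    (∀ b, A D s b = c * σ b) ∧ ∀ x, bar n x = x → th D s x = N n c * σ x := by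
  obtain ⟨c, hc, σ, h1, h2⟩ := Semilinear.exists_semilinear (barE D.hq) (fun x => bar_bar D.hq x)
    (by
      obtain ⟨x, hx⟩ := exists_Tr_one D.hq
      refine ⟨x, fun h' => ?_⟩
      have h3 : bar n x = x := h'
      rw [Tr_of_fixed h3] at hx
      exact zero_ne_one hx)
    (AddMonoidHom.mk' (A D s) (A_add D h)) (A_inj D h) (th D s)
    (fun x y _ _ => th_add D h x y) (fun b => N_A D h b)
  exact ⟨c, hc, σ, h1, h2⟩

end action

end Cfsg.Agent.StdU3.NormQ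
end

-- part: StdU3/Kernel
section
/-!
# The kernel `N2` of `N(Q)` on `V / W`, and the principle

Either all elements of `N(Q)` normalize `t Z`, or `gam ∈ {0, 1}` and `N2` is transitive on the
possible classes of conjugates of `t` in `Q`.
-/

set_option autoImplicit false
set_option linter.unusedSectionVars false

namespace Cfsg.Agent.StdU3.Kernel

open Cfsg.Agent.StdU3.Field Cfsg.Agent.StdU3.PreDef Cfsg.Agent.StdU3.LevelOne
open Cfsg.Agent.StdU3.LevelOneW Cfsg.Agent.StdU3.NormQ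

section field
variable {K : Type*} [Field K] [Fintype K] [CharP K 2] {n : ℕ}

theorem w_of_fixed {l : Kˣ} (hl : bar n (l : K) = l) : w n l = l := by
  unfold w
  rw [hl, sq, mul_assoc, mul_inv_cancel₀ l.ne_zero, mul_one]

theorem w_of_norm_one {k : Kˣ} (hk : N n (k : K) = 1) : w n k = (k : K) ^ 3 := by
  have hb : bar n (k : K) ≠ 0 := fun h => k.ne_zero (bar_eq_zero h)
  unfold w
  rw [N_def] at hk
  have h1 : (bar n (k : K))⁻¹ = k := (eq_inv_of_mul_eq_one_left hk).symm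
  rw [h1]; ring

/-- an additive subgroup of `K` invariant under the torus is trivial or everything. -/
theorem mem_of_closed (h : Qd K n) (M : AddSubgroup K) (hM : ∀ l : Kˣ, ∀ m ∈ M, w n l * m ∈ M)
    {m : K} (hm : m ∈ M) (hm0 : m ≠ 0) (x : K) : x ∈ M := by
  obtain ⟨k, hk, hk3, -⟩ := exists_norm_one h
  set c : K := (k : K) ^ 3 with hc
  have hcN : N n c = 1 := by
    have : N n c = (N n (k : K)) ^ 3 := by rw [hc, N_def, N_def, bar_pow]; ring
    rw [this, hk, one_pow]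
  have hcf : bar n c ≠ c := by
    intro h1
    apply hk3
    rw [N_def, h1] at hcN
    have h2 : (c + 1) * (c + 1) = 0 := by
      have : (c + 1) * (c + 1) = c * c + (c + c) + 1 := by ring
      rw [this, hcN, add_self, add_zero, add_self]
    have h3 := mul_self_eq_zero.mp h2
    exact Field.add_eq_zero.mp h3
  have hT : Tr n c ≠ 0 := fun h1 => hcf (fixed_of_Tr h1)
  have hfix : ∀ b : K, bar n b = b → ∀ m ∈ M, b * m ∈ M := by
    intro b hb m hm
    by_cases hb0 : b = 0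
    · rw [hb0, zero_mul]; exact M.zero_mem
    · have h1 := hM (Units.mk0 b hb0) m hm
      rw [w_of_fixed (show bar n ((Units.mk0 b hb0 : Kˣ) : K) = (Units.mk0 b hb0 : Kˣ) from hb)]
        at h1
      exact h1
  have hcm : ∀ m ∈ M, c * m ∈ M := by
    intro m hm
    have h1 := hM k m hm
    rw [w_of_norm_one hk] at h1
    exact h1
  -- `x = (α + β c) m`
  set y := x * m⁻¹ with hy
  set β := Tr n y * (Tr n c)⁻¹ with hβ
  have hβf : bar n β = β := fixed_mul (fixed_Tr h _) (fixed_inv (fixed_Tr h _))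
  set α := y + β * c with hα
  have hαf : bar n α = α := by
    apply fixed_of_Tr
    rw [hα, Tr_add, Tr_mul_fixed hβf, hβ, mul_assoc, inv_mul_cancel₀ hT, mul_one, add_self]
  have hx : x = α * m + β * (c * m) := by
    have h1 : y = α + β * c := by rw [hα, add_assoc, add_self, add_zero]
    have h2 : x = y * m := by rw [hy, mul_assoc, inv_mul_cancel₀ hm0, mul_one]
    rw [h2, h1]; ring
  rw [hx]
  exact M.add_mem (hfix _ hαf _ hm) (hfix _ hβf _ (hcm _ hm))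

/-- the same for `F_q`. -/
theorem mem_of_closed' (h : Qd K n) (M : AddSubgroup K)
    (hM : ∀ l : Kˣ, ∀ m ∈ M, N n (l : K) * m ∈ M) {m : K} (hm : m ∈ M) (hmf : bar n m = m)
    (hm0 : m ≠ 0) {x : K} (hx : bar n x = x) : x ∈ M := by
  obtain ⟨y, hy⟩ := exists_norm h (fixed_mul hx (fixed_inv hmf))
  by_cases hy0 : y = 0
  · rw [hy0, N_zero] at hy
    have : x = 0 := (mul_eq_zero.mp hy.symm).resolve_right (inv_ne_zero hm0)
    rw [this]; exact M.zero_mem
  · have h1 := hM (Units.mk0 y hy0) m hm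
    have h2 : N n ((Units.mk0 y hy0 : Kˣ) : K) = x * m⁻¹ := hy
    rw [h2, mul_assoc, inv_mul_cancel₀ hm0, mul_one] at h1
    exact h1

end field

variable {G : Type*} [Group G] {K : Type*} [Field K] [Fintype K] [CharP K 2] {n : ℕ}
variable (D : Pre G K n)

/-! ### The maps `A s` -/

theorem A_mul {s r : G} (hs : Norm D s) (hr : Norm D r) (b : K) :
    A D (s * r) b = A D s (A D r b) := by
  obtain ⟨x, hx, rfl⟩ := D.ca_surj b
  rw [← A_P D (Norm.mul D hs hr) hx, ← A_P D hr hx, ← A_spec D hs (conj_V D hr (P_le_V D hx))]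
  congr 1
  group

theorem A_of_mem {s : G} (hs : s ∈ D.Q) (b : K) : A D s b = b := by
  obtain ⟨x, hx, rfl⟩ := D.ca_surj b
  have hxQ := D.P_le hx
  rw [← A_P D (Norm.of_mem D hs) hx, a_mul D (mul_mem hs hxQ) (inv_mem hs), a_mul D hs hxQ,
    a_inv D hs, a_P D hx, add_comm (a D s), add_assoc, add_self, add_zero]

theorem A_one (b : K) : A D 1 b = b := A_of_mem D D.Q.one_mem b

theorem A_inv_left {s : G} (hs : Norm D s) (b : K) : A D s⁻¹ (A D s b) = b := by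
  rw [← A_mul D (Norm.inv D hs) hs, inv_mul_cancel, A_one]

theorem A_inv_right {s : G} (hs : Norm D s) (b : K) : A D s (A D s⁻¹ b) = b := by
  rw [← A_mul D hs (Norm.inv D hs), mul_inv_cancel, A_one]

theorem A_h [Finite G] (l : Kˣ) (b : K) : A D (D.h l) b = w n l * b := by
  obtain ⟨x, hx, rfl⟩ := D.ca_surj b
  rw [← A_P D (norm_h D l) hx, a_h D l (D.P_le hx), a_P D hx]

/-- the normalizer of `Q`. -/
def NQ : Subgroup G where
  carrier := {s | Norm D s}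
  mul_mem' := fun ha hb => Norm.mul D ha hb
  one_mem' := Norm.one D
  inv_mem' := fun ha => Norm.inv D ha

/-- the kernel of the action on `V / W`. -/
def N2 : Subgroup G where
  carrier := {s | Norm D s ∧ ∀ b, A D s b = b}
  mul_mem' := fun {s r} hs hr => ⟨Norm.mul D hs.1 hr.1, fun b => by
    rw [A_mul D hs.1 hr.1, hr.2, hs.2]⟩
  one_mem' := ⟨Norm.one D, A_one D⟩
  inv_mem' := fun {s} hs => ⟨Norm.inv D hs.1, fun b => by
    have h1 := A_inv_left D hs.1 b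
    rwa [hs.2] at h1⟩

theorem N2_le : N2 D ≤ NQ D := fun _ h => h.1

theorem Q_le_N2 : D.Q ≤ N2 D := fun _ hg => ⟨Norm.of_mem D hg, A_of_mem D hg⟩

theorem Q_le_NQ : D.Q ≤ NQ D := fun _ hg => Norm.of_mem D hg

theorem N2_conj {s r : G} (hs : Norm D s) (hr : r ∈ N2 D) : s * r * s⁻¹ ∈ N2 D := by
  refine ⟨Norm.mul D (Norm.mul D hs hr.1) (Norm.inv D hs), fun b => ?_⟩
  rw [A_mul D (Norm.mul D hs hr.1) (Norm.inv D hs), A_mul D hs hr.1, hr.2, A_inv_right D hs]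

/-- elements of `N2` act trivially on `Z`. -/
theorem th_N2 {s : G} (hs : s ∈ N2 D) {b : K} (hb : bar n b = b) : th D s b = b := by
  obtain ⟨x, rfl⟩ := exists_norm D.hq hb
  rw [← N_A D hs.1, hs.2]

theorem N2_z {s : G} (hs : s ∈ N2 D) (b : K) : s * D.z b = D.z b * s := by
  obtain ⟨c, hc, h⟩ := z_fixed D b
  rw [h]
  have h1 := th_conj D hs.1 c
  rw [th_N2 D hs hc] at h1
  exact mul_inv_eq_iff_eq_mul.mp h1

/-- elements of `Q` in the same class modulo `Z`. -/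
theorem exists_z_mul {g k : G} (hg : g ∈ D.Q) (hk : k ∈ D.Q) (ha : a D g = a D k)
    (hu : u D g = u D k) (he : e D g = e D k) : ∃ b, bar n b = b ∧ g = D.z b * k := by
  obtain ⟨b, hb, h⟩ := ker_eq D (mul_mem hg (inv_mem hk))
    (by rw [a_mul D hg (inv_mem hk), a_inv D hk, ha, add_self])
    (by rw [u_mul D hg (inv_mem hk), u_inv D hk, hu, add_self])
    (by rw [e_mul D hg (inv_mem hk), e_inv D hk, he, add_self])
  exact ⟨b, hb, mul_inv_eq_iff_eq_mul.mp h⟩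

/-- `s` normalizes `t Z`. -/
def Fx (s : G) : Prop := a D (s * D.t * s⁻¹) = 0 ∧ u D (s * D.t * s⁻¹) = 0

theorem Fx_iff {s : G} (hs : Norm D s) :
    Fx D s ↔ ∃ b, bar n b = b ∧ s * D.t * s⁻¹ = D.z b * D.t := by
  constructor
  · rintro ⟨h1, h2⟩
    exact exists_z_mul D (hs.fwd _ D.Q_t) D.Q_t (by rw [h1, a_t]) (by rw [h2, u_t])
      (by rw [e_conj D hs])
  · rintro ⟨b, -, h⟩
    refine ⟨?_, ?_⟩
    · rw [h, a_mul D (z_mem_Q D b) D.Q_t, a_z, a_t, add_zero]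
    · rw [h, u_mul D (z_mem_Q D b) D.Q_t, u_z, u_t, add_zero]

theorem Fx_iff' {s : G} (hs : Norm D s) :
    Fx D s ↔ ∃ g ∈ D.Q, (g⁻¹ * s) * D.t = D.t * (g⁻¹ * s) := by
  rw [Fx_iff D hs]
  constructor
  · rintro ⟨b, hb, h⟩
    obtain ⟨g, hg, hgb⟩ := D.Q_surj b hb
    refine ⟨g, hg, ?_⟩
    have h2 : s * D.t * s⁻¹ = g * D.t * g⁻¹ := by rw [h, hgb]
    have h3 : s * D.t = g * D.t * g⁻¹ * s := by rw [← h2]; group
    rw [mul_assoc, h3]; group
  · rintro ⟨g, hg, h1⟩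
    refine ⟨u D g, u_fixed D hg, ?_⟩
    have h2 : s * D.t * s⁻¹ = g * ((g⁻¹ * s) * D.t) * s⁻¹ := by group
    have h3 : s * D.t * s⁻¹ = g * D.t * g⁻¹ := by rw [h2, h1]; group
    rw [h3, u_conj D hg]

theorem conj_sub (s r g : G) : (s * r) * g * (s * r)⁻¹ = s * (r * g * r⁻¹) * s⁻¹ := by group

/-- a class fixed by the torus is the class of `t`. -/
theorem Fx_of_h [Finite G] {s : G} (hs : Norm D s)
    (h : a D (D.h (l1 D) * (s * D.t * s⁻¹) * (D.h (l1 D))⁻¹) = a D (s * D.t * s⁻¹) ∧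
      u D (D.h (l1 D) * (s * D.t * s⁻¹) * (D.h (l1 D))⁻¹) = u D (s * D.t * s⁻¹)) : Fx D s := by
  have hQ := hs.fwd _ D.Q_t
  rw [a_h D _ hQ, u_h D _ hQ, w_of_fixed (l1_fixed D)] at h
  refine ⟨?_, ?_⟩
  · have h1 : ((l1 D : K) + 1) * a D (s * D.t * s⁻¹) = 0 := by
      rw [add_mul, one_mul, h.1, add_self]
    exact (mul_eq_zero.mp h1).resolve_left fun h2 => l1_ne D (Field.add_eq_zero.mp h2)
  · have h1 : (N n (l1 D : K) + 1) * u D (s * D.t * s⁻¹) = 0 := by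
      rw [add_mul, one_mul, h.2, add_self]
    exact (mul_eq_zero.mp h1).resolve_left (N_l1 D)

/-- **The principle**: if `N2` normalizes `t Z`, then so does `N(Q)`. -/
theorem all_fix [Finite G] (H : ∀ r ∈ N2 D, Fx D r) {s : G} (hs : Norm D s) : Fx D s := by
  -- step 1: `N2` fixes all classes of conjugates of `t`
  have H1 : ∀ r ∈ N2 D, ∀ s, Norm D s →
      ∃ b, bar n b = b ∧ r * (s * D.t * s⁻¹) * r⁻¹ = D.z b * (s * D.t * s⁻¹) := by
    intro r hr s hs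
    have h1 : s⁻¹ * r * s ∈ N2 D := by
      have := N2_conj D (Norm.inv D hs) hr
      rwa [inv_inv] at this
    obtain ⟨b, hb, h2⟩ := (Fx_iff D h1.1).mp (H _ h1)
    refine ⟨th D s b, th_fixed D hs b, ?_⟩
    have h3 : r * (s * D.t * s⁻¹) * r⁻¹ = s * (s⁻¹ * r * s * D.t * (s⁻¹ * r * s)⁻¹) * s⁻¹ := by
      group
    rw [h3, h2, NormQ.conj_mul, th_conj D hs]
  -- step 2: elements acting as scalars
  have H2 : ∀ s, Norm D s → (∃ c, ∀ b, A D s b = c * b) → Fx D s := by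
    rintro s hs ⟨c, hc⟩
    have hd := norm_h D (l1 D)
    set d := D.h (l1 D) with hdd
    have hcomm : s * d * s⁻¹ * d⁻¹ ∈ N2 D := by
      refine ⟨Norm.mul D (Norm.mul D (Norm.mul D hs hd) (Norm.inv D hs)) (Norm.inv D hd),
        fun b => ?_⟩
      rw [A_mul D (Norm.mul D (Norm.mul D hs hd) (Norm.inv D hs)) (Norm.inv D hd),
        A_mul D (Norm.mul D hs hd) (Norm.inv D hs), A_mul D hs hd]
      have e1 : ∀ b, A D s (A D d b) = A D d (A D s b) := by
        intro b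
        rw [hdd, A_h, hc, hc, A_h]; ring
      rw [e1, A_inv_right D hs, A_inv_right D hd]
    obtain ⟨b, hb, h1⟩ := H1 _ hcomm (d * s) (Norm.mul D hd hs)
    have h2 : s * d * s⁻¹ * d⁻¹ * (d * s * D.t * (d * s)⁻¹) * (s * d * s⁻¹ * d⁻¹)⁻¹ =
        s * (d * D.t * d⁻¹) * s⁻¹ := by group
    have h3 : d * D.t * d⁻¹ = D.t := by rw [hdd, ← D.t_h]; group
    rw [h2, h3, conj_sub] at h1
    have hQ := hd.fwd _ (hs.fwd _ D.Q_t)
    apply Fx_of_h D hs
    rw [← hdd]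
    refine ⟨?_, ?_⟩
    · conv_rhs => rw [h1, a_mul D (z_mem_Q D b) hQ, a_z, zero_add]
    · conv_rhs => rw [h1, u_mul D (z_mem_Q D b) hQ, u_z, zero_add]
  -- step 3: arbitrary elements
  have hd := norm_h D (l1 D)
  set d := D.h (l1 D) with hdd
  obtain ⟨c, hc, σ, hA, -⟩ := exists_semilin D hs
  have hn : Norm D (s⁻¹ * d * s) := Norm.mul D (Norm.mul D (Norm.inv D hs) hd) hs
  have h1 : Fx D (s⁻¹ * d * s) := by
    apply H2 _ hn
    refine ⟨σ.symm (w n (l1 D)), fun b => ?_⟩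
    rw [A_mul D (Norm.mul D (Norm.inv D hs) hd) hs, A_mul D (Norm.inv D hs) hd, hdd, A_h]
    have e1 : w n (l1 D) * A D s b = A D s (σ.symm (w n (l1 D)) * b) := by
      rw [hA, hA, map_mul, RingEquiv.apply_symm_apply]; ring
    rw [e1, A_inv_left D hs]
  obtain ⟨b, hb, h2⟩ := (Fx_iff D hn).mp h1
  have hQ := hs.fwd _ D.Q_t
  have h3 : d * (s * D.t * s⁻¹) * d⁻¹ = D.z (th D s b) * (s * D.t * s⁻¹) := by
    have e1 : d * (s * D.t * s⁻¹) * d⁻¹ = s * (s⁻¹ * d * s * D.t * (s⁻¹ * d * s)⁻¹) * s⁻¹ := by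
      group
    rw [e1, h2, NormQ.conj_mul, th_conj D hs]
  apply Fx_of_h D hs
  rw [← hdd]
  refine ⟨?_, ?_⟩
  · rw [h3, a_mul D (z_mem_Q D _) hQ, a_z, zero_add]
  · rw [h3, u_mul D (z_mem_Q D _) hQ, u_z, zero_add]

/-! ### Transitivity of `N2` -/

theorem a_t_mul {s r : G} (hs : s ∈ N2 D) (hr : Norm D r) :
    a D (s * r * D.t * (s * r)⁻¹) = a D (r * D.t * r⁻¹) + a D (s * D.t * s⁻¹) := by
  rw [conj_sub, a_conj D hs.1 (hr.fwd _ D.Q_t), hs.2, e_conj D hr, e_t, one_mul]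

theorem u_t_mul {s r : G} (hs : s ∈ N2 D) (hr : Norm D r) (h : a D (r * D.t * r⁻¹) = 0) :
    u D (s * r * D.t * (s * r)⁻¹) = u D (r * D.t * r⁻¹) + u D (s * D.t * s⁻¹) := by
  have hQ := hr.fwd _ D.Q_t
  rw [conj_sub, u_conj' D hs.1 hQ, th_N2 D hs (u_fixed D hQ), h, e_conj D hr, e_t, one_mul]
  have h1 : psi D s 0 = 0 := by
    have := psi_add D hs.1 0 0
    rw [add_zero, add_self] at this
    exact this
  rw [h1, add_zero]

theorem t_conj_h [Finite G] (l : Kˣ) (s : G) : (D.h l * s * (D.h l)⁻¹) * D.t *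
    (D.h l * s * (D.h l)⁻¹)⁻¹ = D.h l * (s * D.t * s⁻¹) * (D.h l)⁻¹ := by
  have h1 : (D.h l)⁻¹ * D.t * D.h l = D.t := by rw [mul_assoc, D.t_h]; group
  have h2 : (D.h l * s * (D.h l)⁻¹) * D.t * (D.h l * s * (D.h l)⁻¹)⁻¹ =
    D.h l * (s * ((D.h l)⁻¹ * D.t * D.h l) * s⁻¹) * (D.h l)⁻¹ := by group
  rw [h2, h1]

theorem trans_zero [Finite G] {r : G} (hr : r ∈ N2 D) (h : a D (r * D.t * r⁻¹) ≠ 0) (c : K) :
    ∃ s ∈ N2 D, a D (s * D.t * s⁻¹) = c := by
  let M : AddSubgroup K :=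
    { carrier := {c | ∃ s ∈ N2 D, a D (s * D.t * s⁻¹) = c}
      zero_mem' := ⟨1, one_mem _, by rw [one_mul, inv_one, mul_one, a_t]⟩
      add_mem' := by
        rintro x y ⟨s, hs, rfl⟩ ⟨r, hr, rfl⟩
        exact ⟨r * s, mul_mem hr hs, a_t_mul D hr hs.1⟩
      neg_mem' := by
        rintro x ⟨s, hs, rfl⟩
        exact ⟨s, hs, (CharTwo.neg_eq _).symm⟩ }
  have hM : ∀ l : Kˣ, ∀ m ∈ M, w n l * m ∈ M := by
    rintro l m ⟨s, hs, rfl⟩
    refine ⟨_, N2_conj D (norm_h D l) hs, ?_⟩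
    rw [t_conj_h D, a_h D l (hs.1.fwd _ D.Q_t)]
  exact mem_of_closed D.hq M hM ⟨r, hr, rfl⟩ h c

theorem trans_one [Finite G] (hg : gam D ≠ 0) {r : G} (hr : r ∈ N2 D)
    (h : u D (r * D.t * r⁻¹) ≠ 0) {c : K} (hc : bar n c = c) :
    ∃ s ∈ N2 D, u D (s * D.t * s⁻¹) = c := by
  let M : AddSubgroup K :=
    { carrier := {c | ∃ s ∈ N2 D, u D (s * D.t * s⁻¹) = c}
      zero_mem' := ⟨1, one_mem _, by rw [one_mul, inv_one, mul_one, u_t]⟩
      add_mem' := by
        rintro x y ⟨s, hs, rfl⟩ ⟨r, hr, rfl⟩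
        exact ⟨r * s, mul_mem hr hs, u_t_mul D hr hs.1 (a_t_of_gam D hs.1 hg)⟩
      neg_mem' := by
        rintro x ⟨s, hs, rfl⟩
        exact ⟨s, hs, (CharTwo.neg_eq _).symm⟩ }
  have hM : ∀ l : Kˣ, ∀ m ∈ M, N n (l : K) * m ∈ M := by
    rintro l m ⟨s, hs, rfl⟩
    refine ⟨_, N2_conj D (norm_h D l) hs, ?_⟩
    rw [t_conj_h D, u_h D l (hs.1.fwd _ D.Q_t)]
  exact mem_of_closed' D.hq M hM ⟨r, hr, rfl⟩ (u_fixed D (hr.1.fwd _ D.Q_t)) h hc

end Cfsg.Agent.StdU3.Kernel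
end
end

-- part: StdU3/Next
section
prune_inst 0xf0104100452202080018201210003e4282000002000f0001e161030206884c60ad062e21802005115812aa5400350060111000500000000000200c00011d05a180a842029348a10426009f801180000000000000000000000000000000000000200000000
set_option linter.all false
open scoped Cfsg.Agent.FastGrp

/-!
# The next level: a Sylow 2-subgroup `S` of `N2`

`O` is the odd part of the centralizer of `A` in `C(t)`; elements of `C(t)` acting trivially on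
`P / Z` are products of an element of `Q` and an element of `O`.
-/

set_option autoImplicit false
set_option linter.unusedSectionVars false
set_option linter.dupNamespace false
set_option linter.style.haveILetI false

namespace Cfsg.Agent.StdU3.Next

open Cfsg.Agent.StdU3.Field Cfsg.Agent.StdU3.PreDef Cfsg.Agent.StdU3.LevelOne
open Cfsg.Agent.StdU3.LevelOneW Cfsg.Agent.StdU3.NormQ Cfsg.Agent.StdU3.Kernel

variable {G : Type*} [Group G] {K : Type*} [Field K] [Fintype K] [CharP K 2] {n : ℕ}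
variable (D : Pre G K n)

/-- what is used about `C_G(t)`. -/
structure Amb (O : Subgroup G) : Prop where
  odd : Odd (Nat.card O)
  O_P : ∀ k ∈ O, ∀ x ∈ D.P, k * x = x * k
  O_t : ∀ k ∈ O, k * D.t = D.t * k
  dec : ∀ g, g * D.t = D.t * g →
    (∀ x ∈ D.P, g * x * g⁻¹ ∈ D.P ∧ D.ca (g * x * g⁻¹) = D.ca x) →
    ∃ x ∈ D.Q, ∃ k ∈ O, g = x * k

variable {O : Subgroup G}

theorem pow_card_O {k : G} (hk : k ∈ O) : k ^ Nat.card O = 1 := by
  have : (⟨k, hk⟩ : O) ^ Nat.card O = 1 := pow_card_eq_one'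
  exact congrArg Subtype.val this

/-- elements of odd order and 2-power order are trivial. -/
theorem eq_one_of_O (hO : Amb D O) {d : G} (hd : d ∈ O) {k : ℕ} (h : d ^ (2 ^ k) = 1) : d = 1 := by
  have h2 := pow_card_O hd
  have hcop : Nat.Coprime (Nat.card O) (2 ^ k) :=
    (Nat.coprime_two_right.mpr hO.odd).pow_right k
  have h6 : orderOf d ∣ Nat.gcd (Nat.card O) (2 ^ k) :=
    Nat.dvd_gcd (orderOf_dvd_of_pow_eq_one h2) (orderOf_dvd_of_pow_eq_one h)
  rw [Nat.Coprime.gcd_eq_one hcop, Nat.dvd_one, orderOf_eq_one_iff] at h6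
  exact h6

/-- elements of `O` normalising `Q` centralise `Q`. -/
theorem comm_of_O (hO : Amb D O) {k : G} (hk : k ∈ O) (hn : Norm D k) {g : G} (hg : g ∈ D.Q) :
    k * g = g * k := by
  have hkx : ∀ x ∈ D.P, k * x * k⁻¹ = x := by
    intro x hx
    rw [hO.O_P k hk x hx]; group
  have hkt : k * D.t * k⁻¹ = D.t := by rw [hO.O_t k hk]; group
  have hA : ∀ b, A D k b = b := by
    intro b
    obtain ⟨x, hx, rfl⟩ := D.ca_surj b
    rw [← A_P D hn hx, hkx x hx, a_P D hx]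
  have hkN : k ∈ N2 D := ⟨hn, hA⟩
  have hpsi : ∀ b, psi D k b = 0 := by
    intro b
    obtain ⟨x, hx, rfl⟩ := D.ca_surj b
    rw [← psi_spec D hn hx, hkx x hx, u_P D hx]
  obtain ⟨b, hb, h⟩ := exists_z_mul D (hn.fwd g hg) hg
    (by rw [a_conj D hn hg, hkt, hA, a_t, mul_zero, add_zero])
    (by rw [u_conj' D hn hg, hkt, hpsi, u_t, mul_zero, add_zero, add_zero,
      th_N2 D hkN (u_fixed D hg)])
    (by rw [e_conj D hn])
  have hpow : ∀ m : ℕ, k ^ m * g * (k ^ m)⁻¹ = (D.z b) ^ m * g := by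
    intro m
    induction m with
    | zero => simp
    | succ m ih =>
      have e1 : k ^ (m + 1) * g * (k ^ (m + 1))⁻¹ = k * (k ^ m * g * (k ^ m)⁻¹) * k⁻¹ := by
        rw [pow_succ']; group
      have e2 : Commute k (D.z b) := hO.O_P k hk _ (D.z_mem b)
      have e3 : k * ((D.z b) ^ m * g) * k⁻¹ = (D.z b) ^ m * (k * g * k⁻¹) := by
        rw [← mul_assoc, (e2.pow_right m).eq]; group
      rw [e1, ih, e3, h, pow_succ]; group
  obtain ⟨j, hj⟩ := hO.odd
  have h1 := hpow (Nat.card O)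
  rw [pow_card_O hk, one_mul, inv_one, mul_one, hj, pow_succ, pow_mul, pow_two, z_self, one_pow,
    one_mul] at h1
  have h2 : D.z b = 1 := (mul_eq_right.mp h1.symm)
  rw [h2, one_mul] at h
  exact mul_inv_eq_iff_eq_mul.mp h

/-- the part of `O` centralizing `Q`. -/
def D1 (O : Subgroup G) : Subgroup G := O ⊓ Subgroup.centralizer (D.Q : Set G)

theorem mem_D1 {k : G} : k ∈ D1 D O ↔ k ∈ O ∧ ∀ g ∈ D.Q, g * k = k * g := by
  unfold D1
  rw [Subgroup.mem_inf, Subgroup.mem_centralizer_iff]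
  rfl

theorem norm_of_comm {c : G} (hc : ∀ g ∈ D.Q, g * c = c * g) : Norm D c := by
  refine ⟨fun g hg => ?_, fun g hg => ?_⟩
  · rw [← hc g hg, mul_assoc, mul_inv_cancel, mul_one]; exact hg
  · rw [mul_assoc, hc g hg, inv_mul_cancel_left]; exact hg

theorem N2_of_comm {c : G} (hc : ∀ g ∈ D.Q, g * c = c * g) : c ∈ N2 D := by
  refine ⟨norm_of_comm D hc, fun b => ?_⟩
  obtain ⟨x, hx, rfl⟩ := D.ca_surj b
  rw [← A_P D (norm_of_comm D hc) hx, ← hc x (D.P_le hx), mul_assoc, mul_inv_cancel, mul_one,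
    a_P D hx]

theorem D1_le : D1 D O ≤ N2 D := fun _ hd => N2_of_comm D ((mem_D1 D).mp hd).2

/-- elements of `C(t) ∩ N2`. -/
theorem dec_of_comm (hO : Amb D O) {c : G} (hc : c ∈ N2 D) (hct : c * D.t = D.t * c) :
    ∃ x ∈ D.Q, ∃ k ∈ D1 D O, c = x * k := by
  obtain ⟨x, hx, k, hk, he⟩ := hO.dec c hct (by
    intro x hx
    have hxQ := hc.1.fwd x (D.P_le hx)
    have hu : u D (c * x * c⁻¹) = 0 := by
      apply u_eq D hxQ (bar_zero n)
      have e1 : c⁻¹ * D.t * c = D.t := by rw [mul_assoc, ← hct]; group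
      have e2 : c * x * c⁻¹ * D.t * (c * x * c⁻¹)⁻¹ = c * (x * (c⁻¹ * D.t * c) * x⁻¹) * c⁻¹ := by
        group
      rw [e2, e1, ← D.t_P x hx, z_zero, one_mul]
      have e3 : c * (D.t * x * x⁻¹) * c⁻¹ = c * D.t * c⁻¹ := by group
      rw [e3, hct]; group
    have hxP : c * x * c⁻¹ ∈ D.P := by
      rcases mem_T_of_u D hxQ hu with h1 | h1
      · exact h1
      · exfalso
        have h2 := e_P D h1
        rw [e_mul D hxQ D.Q_t, e_conj D hc.1, e_P D hx, e_t, zero_add] at h2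
        exact one_ne_zero h2
    refine ⟨hxP, ?_⟩
    rw [← a_P D hxP, A_P D hc.1 hx, hc.2])
  have hkn : Norm D k := by
    have : k = x⁻¹ * c := by rw [he]; group
    rw [this]
    exact Norm.mul D (Norm.of_mem D (inv_mem hx)) hc.1
  exact ⟨x, hx, k, (mem_D1 D).mpr ⟨hk, fun g hg => (comm_of_O D hO hk hkn hg).symm⟩, he⟩

/-- the stabiliser of `t Z` in `N2` is `Q D1`. -/
theorem stab_dec (hO : Amb D O) {s : G} (hs : s ∈ N2 D) (h1 : Fx D s) :
    ∃ g ∈ D.Q, ∃ d ∈ D1 D O, s = g * d := by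
  obtain ⟨g, hg, hc⟩ := (Fx_iff' D hs.1).mp h1
  obtain ⟨x, hx, k, hk, he⟩ := dec_of_comm D hO (mul_mem (inv_mem (Q_le_N2 D hg)) hs) hc
  exact ⟨g * x, mul_mem hg hx, k, hk, by rw [mul_assoc, ← he, mul_inv_cancel_left]⟩

/-- decomposition of the centralizer of `Q`. -/
theorem cent_Q (hO : Amb D O) {c : G} (hc : ∀ g ∈ D.Q, g * c = c * g) :
    ∃ b, bar n b = b ∧ ∃ k ∈ D1 D O, c = D.z b * k := by
  have hcN := N2_of_comm D hc
  obtain ⟨x, hx, k, hk, he⟩ := dec_of_comm D hO hcN (hc _ D.Q_t).symm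
  have hk' := (mem_D1 D).mp hk
  have hxz : ∃ b, bar n b = b ∧ x = D.z b := by
    apply (mem_Z_iff D hx).mp
    intro g hg
    have h1 := hc g hg
    rw [he, ← mul_assoc] at h1
    have h2 : x * k * g = x * g * k := by rw [mul_assoc, ← hk'.2 g hg, ← mul_assoc]
    rw [h2] at h1
    exact (mul_right_cancel h1).symm
  obtain ⟨b, hb, rfl⟩ := hxz
  exact ⟨b, hb, k, hk, he⟩

/-- `D1` is normalised by `N(Q)`. -/
theorem D1_normal (hO : Amb D O) {s : G} (hs : Norm D s) {d : G}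
    (hd : d ∈ D1 D O) : s * d * s⁻¹ ∈ D1 D O := by
  have hd' := (mem_D1 D).mp hd
  have hc : ∀ g ∈ D.Q, g * (s * d * s⁻¹) = (s * d * s⁻¹) * g := by
    intro g hg
    have h1 := hd'.2 _ (hs.bwd g hg)
    calc g * (s * d * s⁻¹) = s * ((s⁻¹ * g * s) * d) * s⁻¹ := by group
      _ = s * (d * (s⁻¹ * g * s)) * s⁻¹ := by rw [h1]
      _ = (s * d * s⁻¹) * g := by group
  obtain ⟨b, hb, k, hk, he⟩ := cent_Q D hO hc
  have hk' := (mem_D1 D).mp hk
  have h1 : (s * d * s⁻¹) ^ Nat.card O = 1 := by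
    rw [conj_pow, pow_card_O hd'.1, mul_one, mul_inv_cancel]
  have h2 : k ^ Nat.card O = 1 := pow_card_O hk'.1
  have hcomm : Commute (D.z b) k := hk'.2 _ (z_mem_Q D b)
  rw [he, hcomm.mul_pow, h2, mul_one] at h1
  obtain ⟨j, hj⟩ := hO.odd
  have h3 : D.z b = 1 := by
    rw [hj, pow_succ, pow_mul, pow_two, z_self, one_pow, one_mul] at h1
    exact h1
  rw [he, h3, one_mul]
  exact hk

/-- squares of elements of `N2` normalize `t Z`. -/
theorem Fx_sq {s : G} (hs : s ∈ N2 D) : Fx D (s * s) := by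
  have ha : a D (s * s * D.t * (s * s)⁻¹) = 0 := by rw [a_t_mul D hs hs.1, add_self]
  refine ⟨ha, ?_⟩
  by_cases hg : gam D = 0
  · rw [u_t_zero D (mul_mem hs hs : s * s ∈ N2 D).1 hg, ha, N_zero]
  · rw [u_t_mul D hs hs.1 (a_t_of_gam D hs.1 hg), add_self]

theorem pow_mem_D1 (hO : Amb D O) {s : G} (hs : s ∈ N2 D) : ∃ k, s ^ (2 ^ k) ∈ D1 D O := by
  obtain ⟨g, hg, d, hd, h⟩ := stab_dec D hO (mul_mem hs hs) (Fx_sq D hs)
  obtain ⟨j, hj⟩ := D.Q_two ⟨g, hg⟩
  have hj' : g ^ (2 ^ j) = 1 := congrArg Subtype.val hj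
  have hcomm : Commute g d := ((mem_D1 D).mp hd).2 g hg
  refine ⟨j + 1, ?_⟩
  have : s ^ (2 ^ (j + 1)) = d ^ (2 ^ j) := by
    rw [pow_succ' 2 j, pow_mul, pow_two, h, hcomm.mul_pow, hj', one_mul]
  rw [this]
  exact pow_mem hd _

/-- the data of the next level. -/
structure Next (O : Subgroup G) where
  S : Subgroup G
  S_two : IsPGroup 2 S
  Q_le : D.Q ≤ S
  S_N2 : S ≤ N2 D
  N2_dec : ∀ s ∈ N2 D, ∃ x ∈ S, ∃ k ∈ D1 D O, s = x * k
  h' : Kˣ → G
  h'_t : ∀ l, h' l * D.t = D.t * h' l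
  h'_Q : ∀ l, ∀ g ∈ D.Q, h' l * g * (h' l)⁻¹ = D.h l * g * (D.h l)⁻¹
  h'_S : ∀ l, ∀ s ∈ S, h' l * s * (h' l)⁻¹ ∈ S
  h'_mul : ∀ l l', ∀ s ∈ S,
    h' (l * l') * s * (h' (l * l'))⁻¹ = h' l * (h' l' * s * (h' l')⁻¹) * (h' l)⁻¹
  frat : ∀ x, Norm D x → ∃ d ∈ D1 D O, ∀ s ∈ S, (d * x) * s * (d * x)⁻¹ ∈ S

theorem exists_next [Finite G] (hO : Amb D O) (R : Subgroup G) (hR : IsPGroup 2 R)
    (hRN : R ≤ NQ D) : ∃ X : Next D O, ∀ r ∈ R, ∀ s ∈ X.S, r * s * r⁻¹ ∈ X.S := by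
  classical
  haveI : Fact (Nat.Prime 2) := ⟨Nat.prime_two⟩
  let N2' : Subgroup (NQ D) := (N2 D).subgroupOf (NQ D)
  let D1' : Subgroup (NQ D) := (D1 D O).subgroupOf (NQ D)
  let Q' : Subgroup (NQ D) := D.Q.subgroupOf (NQ D)
  haveI hN2n : N2'.Normal := ⟨by
    intro s hs g
    rw [Subgroup.mem_subgroupOf] at hs ⊢
    exact N2_conj D g.2 hs⟩
  haveI hD1n : D1'.Normal := ⟨by
    intro s hs g
    rw [Subgroup.mem_subgroupOf] at hs ⊢
    exact D1_normal D hO g.2 hs⟩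
  haveI hQn : Q'.Normal := ⟨by
    intro s hs g
    rw [Subgroup.mem_subgroupOf] at hs ⊢
    exact (g.2 : Norm D (g : G)).fwd _ hs⟩
  have hQ2 : IsPGroup 2 Q' := D.Q_two.comap_subtype
  have hR2 : IsPGroup 2 (R.subgroupOf (NQ D)) := hR.comap_subtype
  obtain ⟨T, hT⟩ := hR2.exists_le_sylow
  have hQT : Q' ≤ (T : Subgroup (NQ D)) := by
    have h1 : IsPGroup 2 ((T : Subgroup (NQ D)) ⊔ Q' : Subgroup (NQ D)) :=
      IsPGroup.to_sup_of_normal_right T.isPGroup' hQ2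
    have h2 := T.is_maximal' h1 le_sup_left
    rw [← h2]; exact le_sup_right
  let S0 : Subgroup (NQ D) := (T : Subgroup (NQ D)) ⊓ N2'
  have hS0 : IsPGroup 2 S0 := T.isPGroup'.to_le inf_le_left
  have hdec : N2' ≤ D1' ⊔ S0 := by
    apply Cfsg.Agent.Lib.SylowNormalInf.le_sup_inf
    intro x hx
    obtain ⟨k, hk⟩ := pow_mem_D1 D hO hx
    exact ⟨k, hk⟩
  let S : Subgroup G := S0.map (NQ D).subtype
  have hS2 : IsPGroup 2 S := hS0.map _
  have hmemS : ∀ x : NQ D, (x : G) ∈ S ↔ x ∈ S0 := by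
    intro x
    constructor
    · rintro ⟨y, hy, he⟩
      have : y = x := Subtype.ext he
      rw [← this]; exact hy
    · intro hx
      exact ⟨x, hx, rfl⟩
  have hSN2 : S ≤ N2 D := by
    rintro _ ⟨x, hx, rfl⟩
    exact hx.2
  have hQS : D.Q ≤ S := by
    intro g hg
    have : (⟨g, Q_le_NQ D hg⟩ : NQ D) ∈ S0 := ⟨hQT hg, Q_le_N2 D hg⟩
    exact (hmemS _).mpr this
  have hN2dec : ∀ s ∈ N2 D, ∃ x ∈ S, ∃ k ∈ D1 D O, s = x * k := by
    intro s hs
    have h1 : (⟨s, hs.1⟩ : NQ D) ∈ D1' ⊔ S0 := hdec hs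
    rw [sup_comm] at h1
    obtain ⟨x, hx, k, hk, he⟩ := Subgroup.mem_sup_of_normal_right.mp h1
    exact ⟨x, (hmemS x).mpr hx, k, hk, (congrArg Subtype.val he).symm⟩
  have hfrat : ∀ x, Norm D x → ∃ d ∈ D1 D O, ∀ s ∈ S, (d * x) * s * (d * x)⁻¹ ∈ S := by
    intro x hx
    have h1 : (⟨x, hx⟩ : NQ D) ∈ Subgroup.normalizer (S0 : Set (NQ D)) ⊔ N2' := by
      rw [Cfsg.Agent.Lib.SylowNormalInf.normalizer_inf_sup_eq_top T N2']
      trivial
    rw [sup_comm] at h1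
    obtain ⟨m, hm, y, hy, he⟩ := Subgroup.mem_sup_of_normal_left.mp h1
    obtain ⟨s0, hs0, k, hk, hmk⟩ := hN2dec m hm
    have he' : x = s0 * k * y := by
      have := congrArg Subtype.val he
      rw [← hmk]; exact this.symm
    refine ⟨s0 * k⁻¹ * s0⁻¹, D1_normal D hO (hSN2 hs0).1 (inv_mem hk), fun s hs => ?_⟩
    have e1 : s0 * k⁻¹ * s0⁻¹ * x = s0 * y := by rw [he']; group
    rw [e1]
    have hys : (y : G) * s * (y : G)⁻¹ ∈ S := by
      have hsN : s ∈ NQ D := N2_le D (hSN2 hs)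
      have h2 := (Subgroup.mem_normalizer_iff.mp hy ⟨s, hsN⟩).mp ((hmemS ⟨s, hsN⟩).mp hs)
      exact (hmemS _).mpr h2
    have e2 : s0 * y * s * (s0 * y : G)⁻¹ = s0 * (y * s * (y : G)⁻¹) * s0⁻¹ := by group
    rw [e2]
    exact mul_mem (mul_mem hs0 hys) (inv_mem hs0)
  choose dl hdl hdlS using fun l : Kˣ => hfrat (D.h l) (norm_h D l)
  have hdQ : ∀ l, ∀ g ∈ D.Q, (dl l * D.h l) * g * (dl l * D.h l)⁻¹ = D.h l * g * (D.h l)⁻¹ := by
    intro l g hg
    have h2 := ((mem_D1 D).mp (hdl l)).2 _ (D.Q_h l g hg)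
    have h3 : (dl l * D.h l) * g * (dl l * D.h l)⁻¹ = dl l * (D.h l * g * (D.h l)⁻¹) * (dl l)⁻¹ := by
      group
    rw [h3, ← h2]; group
  refine ⟨⟨S, hS2, hQS, hSN2, hN2dec, fun l => dl l * D.h l, ?_, hdQ, hdlS, ?_, hfrat⟩, ?_⟩
  · intro l
    rw [mul_assoc, ← D.t_h, ← mul_assoc, hO.O_t _ ((mem_D1 D).mp (hdl l)).1, mul_assoc]
  · intro l l' s hs
    set c := (dl (l * l') * D.h (l * l'))⁻¹ * ((dl l * D.h l) * (dl l' * D.h l')) with hc
    have hcQ : ∀ g ∈ D.Q, g * c = c * g := by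
      intro g hg
      have e1 := D.h_mul l l' g hg
      rw [← hdQ _ g hg, ← hdQ l' g hg, ← hdQ l _ (by rw [hdQ l' g hg]; exact D.Q_h _ _ hg)] at e1
      have e2 : c * g * c⁻¹ = g := by
        rw [hc]
        have : (dl (l * l') * D.h (l * l'))⁻¹ * (dl l * D.h l * (dl l' * D.h l')) * g *
            ((dl (l * l') * D.h (l * l'))⁻¹ * (dl l * D.h l * (dl l' * D.h l')))⁻¹ =
            (dl (l * l') * D.h (l * l'))⁻¹ * (dl l * D.h l * (dl l' * D.h l' * g *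
              (dl l' * D.h l')⁻¹) * (dl l * D.h l)⁻¹) * (dl (l * l') * D.h (l * l')) := by group
        rw [this, ← e1]; group
      exact (mul_inv_eq_iff_eq_mul.mp e2).symm
    obtain ⟨b, hb, d, hd, hcd⟩ := cent_Q D hO hcQ
    have hbij : ∀ l, ∀ x ∈ S, (dl l * D.h l)⁻¹ * x * (dl l * D.h l) ∈ S := by
      intro l x hx
      have h2 : S.map (MulAut.conj (dl l * D.h l)).toMonoidHom ≤ S := by
        rintro _ ⟨g, hg, rfl⟩
        exact hdlS l g hg
      have h3 : S.map (MulAut.conj (dl l * D.h l)).toMonoidHom = S := by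
        have h4 : Nat.card (S.map (MulAut.conj (dl l * D.h l)).toMonoidHom) = Nat.card S :=
          Nat.card_congr (S.equivMapOfInjective (MulAut.conj (dl l * D.h l)).toMonoidHom
            (MulAut.conj (dl l * D.h l)).injective).symm.toEquiv
        exact Subgroup.eq_of_le_of_card_ge h2 h4.ge
      rw [← h3] at hx
      obtain ⟨y, hy, rfl⟩ := hx
      have : (dl l * D.h l)⁻¹ * (MulAut.conj (dl l * D.h l)).toMonoidHom y * (dl l * D.h l) = y := by
        show (dl l * D.h l)⁻¹ * ((dl l * D.h l) * y * (dl l * D.h l)⁻¹) * (dl l * D.h l) = y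
        group
      rw [this]; exact hy
    have hcS : c * s * c⁻¹ ∈ S := by
      have e1 : c * s * c⁻¹ = (dl (l * l') * D.h (l * l'))⁻¹ * ((dl l * D.h l) * ((dl l' * D.h l') *
          s * (dl l' * D.h l')⁻¹) * (dl l * D.h l)⁻¹) * (dl (l * l') * D.h (l * l')) := by
        rw [hc]; group
      rw [e1]
      exact hbij _ _ (hdlS l _ (hdlS l' _ hs))
    have hdS : d * s * d⁻¹ ∈ S := by
      have e1 : d = (D.z b)⁻¹ * c := by rw [hcd]; group
      have e2 : d * s * d⁻¹ = (D.z b)⁻¹ * (c * s * c⁻¹) * D.z b := by rw [e1]; group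
      rw [e2]
      exact mul_mem (mul_mem (inv_mem (hQS (z_mem_Q D b))) hcS) (hQS (z_mem_Q D b))
    have hds : d * s * d⁻¹ = s := by
      have e1 : d * s * d⁻¹ * s⁻¹ ∈ S := mul_mem hdS (inv_mem hs)
      have e2 : d * s * d⁻¹ * s⁻¹ ∈ D1 D O := by
        have : d * s * d⁻¹ * s⁻¹ = d * (s * d⁻¹ * s⁻¹) := by group
        rw [this]
        exact mul_mem hd (D1_normal D hO (hSN2 hs).1 (inv_mem hd))
      obtain ⟨k, hk⟩ := hS2 ⟨_, e1⟩
      have e3 := eq_one_of_O D hO ((mem_D1 D).mp e2).1 (congrArg Subtype.val hk)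
      exact mul_inv_eq_one.mp e3
    have hcs : c * s * c⁻¹ = s := by
      have : c * s * c⁻¹ = D.z b * (d * s * d⁻¹) * (D.z b)⁻¹ := by rw [hcd]; group
      rw [this, hds, ← N2_z D (hSN2 hs) b]; group
    have e4 : (dl l * D.h l) * ((dl l' * D.h l') * s * (dl l' * D.h l')⁻¹) * (dl l * D.h l)⁻¹ =
        (dl (l * l') * D.h (l * l')) * (c * s * c⁻¹) * (dl (l * l') * D.h (l * l'))⁻¹ := by
      rw [hc]; group
    rw [e4, hcs]
  · intro r hr s hs
    have hrT : (⟨r, hRN hr⟩ : NQ D) ∈ (T : Subgroup (NQ D)) := hT hr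
    have hsN : s ∈ NQ D := N2_le D (hSN2 hs)
    have hs0 := (hmemS ⟨s, hsN⟩).mp hs
    have hs0T : (⟨s, hsN⟩ : NQ D) ∈ (T : Subgroup (NQ D)) := hs0.1
    have h1 : (⟨r, hRN hr⟩ : NQ D) * ⟨s, hsN⟩ * (⟨r, hRN hr⟩ : NQ D)⁻¹ ∈ S0 :=
      Subgroup.mem_inf.mpr
        ⟨mul_mem (mul_mem hrT hs0T) (inv_mem hrT), hN2n.conj_mem _ hs0.2 _⟩
    exact (hmemS _).mpr h1

/-! ### Consequences -/

variable {D} (X : Next D O)

include X in
theorem Next.stab (hO : Amb D O) {s : G} (hs : s ∈ X.S) (h : Fx D s) : s ∈ D.Q := by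
  obtain ⟨g, hg, d, hd, he⟩ := stab_dec D hO (X.S_N2 hs) h
  have hdS : d ∈ X.S := by
    have : d = g⁻¹ * s := by rw [he]; group
    rw [this]
    exact mul_mem (inv_mem (X.Q_le hg)) hs
  obtain ⟨k, hk⟩ := X.S_two ⟨d, hdS⟩
  have h1 := eq_one_of_O D hO ((mem_D1 D).mp hd).1 (congrArg Subtype.val hk)
  rw [he, h1, mul_one]; exact hg

include X in
theorem Next.conj_of_N2 {s : G} (hs : s ∈ N2 D) :
    ∃ x ∈ X.S, x * D.t * x⁻¹ = s * D.t * s⁻¹ := by
  obtain ⟨x, hx, k, hk, he⟩ := X.N2_dec s hs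
  refine ⟨x, hx, ?_⟩
  have h1 : D.t * k = k * D.t := ((mem_D1 D).mp hk).2 _ D.Q_t
  have h2 : s * D.t * s⁻¹ = x * (k * D.t * k⁻¹) * x⁻¹ := by rw [he]; group
  rw [h2, ← h1]; group

theorem Next.surj_zero [Finite G] {r : G} (hr : r ∈ N2 D) (h : a D (r * D.t * r⁻¹) ≠ 0) (c : K) :
    ∃ s ∈ X.S, a D (s * D.t * s⁻¹) = c := by
  obtain ⟨s, hs, h1⟩ := trans_zero D hr h c
  obtain ⟨x, hx, h2⟩ := X.conj_of_N2 hs
  exact ⟨x, hx, by rw [h2, h1]⟩

theorem Next.surj_one [Finite G] (hg : gam D ≠ 0) {r : G} (hr : r ∈ N2 D)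
    (h : u D (r * D.t * r⁻¹) ≠ 0) {c : K} (hc : bar n c = c) :
    ∃ s ∈ X.S, u D (s * D.t * s⁻¹) = c := by
  obtain ⟨s, hs, h1⟩ := trans_one D hg hr h hc
  obtain ⟨x, hx, h2⟩ := X.conj_of_N2 hs
  exact ⟨x, hx, by rw [h2, h1]⟩

/-- the alternative: everything in `N(Q)` fixes the class of `t`, or `gam = 0`, or `gam = 1`, and the
next level is really bigger. -/
theorem cases_of [Finite G] (D : Pre G K n) (O : Subgroup G) :
    (∀ s, Norm D s → ∃ g ∈ D.Q, (g⁻¹ * s) * D.t = D.t * (g⁻¹ * s)) ∨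
    (gam D = 0 ∧ ∀ X : Next D O, ∀ c, ∃ s ∈ X.S, a D (s * D.t * s⁻¹) = c) ∨
    (gam D = 1 ∧ ∀ X : Next D O, ∀ c, bar n c = c → ∃ s ∈ X.S, u D (s * D.t * s⁻¹) = c) := by
  by_cases H : ∀ r ∈ N2 D, Fx D r
  · left
    intro s hs
    exact (Fx_iff' D hs).mp (all_fix D H hs)
  · right
    push Not at H
    obtain ⟨r, hr, hfx⟩ := H
    by_cases hg : gam D = 0
    · left
      refine ⟨hg, fun X c => X.surj_zero hr ?_ c⟩
      intro h
      exact hfx ⟨h, by rw [u_t_zero D hr.1 hg, h, N_zero]⟩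
    · right
      have ha := a_t_of_gam D hr.1 hg
      have hg1 : gam D = 1 := by
        by_contra hg1
        exact hfx ⟨ha, u_t_of_gam D hr.1 hg hg1⟩
      refine ⟨hg1, fun X c hc => X.surj_one hg hr ?_ hc⟩
      intro h
      exact hfx ⟨ha, h⟩

end Cfsg.Agent.StdU3.Next
end

-- part: StdU3/FldDef
section
set_option linter.all false

/-!
# What is known on `C_G(t)`: the structure `Fld`

Produced by `StdU3.LZero` (from the hypotheses of S1771), used for the field automorphism part.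
-/

set_option autoImplicit false

namespace Cfsg.Agent.StdU3.FldDef

open Cfsg.Agent.StdU3.Field Cfsg.Agent.StdU3.PreDef Cfsg.Agent.StdU3.Next
open Cfsg.Agent.StdU3.NormQ

variable {G : Type*} [Group G] {K : Type*} [Field K] [Fintype K] [CharP K 2] {n : ℕ}

/-- the centralizer of `t`. `A` is the standard subgroup, `O` the odd part of `C(A) ∩ C(t)`,
`Sg` a Sylow 2-subgroup of `C(t)` containing `⟨t⟩ P`, `chi` the Galois component. -/
structure Fld (D : Pre G K n) where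
  A : Subgroup G
  P_A : D.P ≤ A
  A_t : ∀ a ∈ A, a * D.t = D.t * a
  t_A : D.t ∉ A
  /-- `C(t)` normalizes `A` -/
  A_norm : ∀ g, g * D.t = D.t * g → ∀ a ∈ A, g * a * g⁻¹ ∈ A
  /-- 2-subgroups of `A` are conjugate in `A` into `P` -/
  syl : ∀ X : Subgroup G, IsPGroup 2 X → X ≤ A → ∃ a ∈ A, ∀ x ∈ X, a⁻¹ * x * a ∈ D.P
  /-- `P` is a TI subgroup for `C(t)` -/
  ti : ∀ g, g * D.t = D.t * g → ∀ x ∈ D.P, x ≠ 1 → g * x * g⁻¹ ∈ D.P → ∀ y ∈ D.P, g * y * g⁻¹ ∈ D.P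
  /-- Frattini -/
  frat : ∀ g, g * D.t = D.t * g → ∃ a ∈ A, ∃ m, g = a * m ∧ ∀ y ∈ D.P, m * y * m⁻¹ ∈ D.P
  O : Subgroup G
  amb : Amb D O
  O_A : ∀ k ∈ O, ∀ a ∈ A, k * a = a * k
  O_dec : ∀ g, g * D.t = D.t * g → (∀ a ∈ A, g * a = a * g) → ∃ k ∈ O, g = k ∨ g = k * D.t
  O_conj : ∀ g, g * D.t = D.t * g → ∀ k ∈ O, g * k * g⁻¹ ∈ O
  Sg : Subgroup G
  Sg_two : IsPGroup 2 Sg
  Sg_t : ∀ s ∈ Sg, s * D.t = D.t * s
  P_Sg : D.P ≤ Sg
  t_Sg : D.t ∈ Sg
  Sg_P : ∀ s ∈ Sg, ∀ x ∈ D.P, s * x * s⁻¹ ∈ D.P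
  /-- `Sg` normalizes `Q` -/
  Sg_norm : ∀ s ∈ Sg, Norm D s
  /-- 2-subgroups of `C(t)` are conjugate in `C(t)` into `Sg` -/
  Sg_conj : ∀ X : Subgroup G, IsPGroup 2 X → (∀ x ∈ X, x * D.t = D.t * x) →
    ∃ g, g * D.t = D.t * g ∧ ∀ x ∈ X, g⁻¹ * x * g ∈ Sg
  chi : Subgroup.centralizer ({D.t} : Set G) →* (K ≃+* K)
  chi_A : ∀ g : Subgroup.centralizer ({D.t} : Set G), (g : G) ∈ A → chi g = 1
  chi_C : ∀ g : Subgroup.centralizer ({D.t} : Set G), (∀ a ∈ A, (g : G) * a = a * g) → chi g = 1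
  /-- the semilinear action on `P / Z` and `Z` of the elements of `C(t)` normalizing `P` -/
  chi_ca : ∀ g : Subgroup.centralizer ({D.t} : Set G), (∀ x ∈ D.P, (g : G) * x * (g : G)⁻¹ ∈ D.P) →
    ∃ c : K, c ≠ 0 ∧ (∀ x ∈ D.P, D.ca ((g : G) * x * (g : G)⁻¹) = c * chi g (D.ca x)) ∧
      ∀ b, bar n b = b → (g : G) * D.z b * (g : G)⁻¹ = D.z (N n c * chi g b)
  /-- 2-elements without Galois component are in `⟨t⟩ P` -/
  chi_one : ∀ g : Subgroup.centralizer ({D.t} : Set G), (g : G) ∈ Sg → chi g = 1 →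
    (g : G) ∈ D.P ∨ (g : G) * D.t ∈ D.P
  /-- the kernel of `chi` modulo `A O ⟨t⟩` has exponent 3 -/
  chi_ker : ∀ g : Subgroup.centralizer ({D.t} : Set G), chi g = 1 →
    ∃ a ∈ A, ∃ k ∈ O, (g : G) ^ 3 = a * k ∨ (g : G) ^ 3 = a * k * D.t
  /-- torus elements inside `A` -/
  tor : ∀ l : Kˣ, ∃ a ∈ A, Odd (orderOf a) ∧
    ∀ x ∈ D.P, a * x * a⁻¹ ∈ D.P ∧ D.ca (a * x * a⁻¹) = w n l * D.ca x
  h_dec : ∀ l : Kˣ, ∃ k ∈ O, ∃ a ∈ A, D.h l = k * a

end Cfsg.Agent.StdU3.FldDef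
end

-- part: StdU3/FieldAut
section
set_option linter.all false
open scoped Cfsg.Agent.FastGrp

/-!
# Automorphisms of `F_{q²}`
-/

set_option autoImplicit false
set_option linter.unusedSectionVars false

namespace Cfsg.Agent.StdU3.FieldAut

open Cfsg.Agent.StdU3.Field

theorem unique_of_cyclic {X : Type*} [Group X] [Finite X] [IsCyclic X] {r s : X}
    (hr2 : r * r = 1) (hs2 : s * s = 1) (hr1 : r ≠ 1) (hs1 : s ≠ 1) : r = s := by
  classical
  by_contra hne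
  have : Fintype X := Fintype.ofFinite X
  have h1 := IsCyclic.card_pow_eq_one_le (α := X) (n := 2) (by norm_num)
  have h2 : ({1, r, s} : Finset X) ⊆ Finset.univ.filter (fun a : X => a ^ 2 = 1) := by
    intro a ha
    rw [Finset.mem_filter]
    refine ⟨Finset.mem_univ _, ?_⟩
    simp only [Finset.mem_insert, Finset.mem_singleton] at ha
    rcases ha with rfl | rfl | rfl
    · exact one_pow 2
    · rw [pow_two, hr2]
    · rw [pow_two, hs2]
  have h3 : ({1, r, s} : Finset X).card = 3 := by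
    rw [Finset.card_eq_three]
    exact ⟨1, r, s, fun h => hr1 h.symm, fun h => hs1 h.symm, hne, rfl⟩
  have h4 := Finset.card_le_card h2
  omega

variable {F : Type*} [Field F]

/-- the inclusion of the ring automorphisms in the Galois group over the prime field -/
noncomputable def toGal (p : ℕ) [Fact p.Prime] [Algebra (ZMod p) F] : (F ≃+* F) →* (F ≃ₐ[ZMod p] F) where
  toFun τ := AlgEquiv.ofRingEquiv (f := τ) (by
    intro r
    have h : (τ : F →+* F).comp (algebraMap (ZMod p) F) = algebraMap (ZMod p) F :=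
      Subsingleton.elim _ _
    exact congrArg (fun f : ZMod p →+* F => f r) h)
  map_one' := by ext x; rfl
  map_mul' a b := by ext x; rfl

theorem isCyclic [Finite F] [CharP F 2] : IsCyclic (F ≃+* F) := by
  have : Fact (Nat.Prime 2) := ⟨Nat.prime_two⟩
  letI : Algebra (ZMod 2) F := ZMod.algebra F 2
  have hinj : Function.Injective (toGal (F := F) 2) := by
    intro a b h
    ext x
    exact congrArg (fun f : F ≃ₐ[ZMod 2] F => f x) h
  exact isCyclic_of_injective _ hinj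

theorem finite_aut [Finite F] : Finite (F ≃+* F) :=
  Finite.of_injective (fun τ : F ≃+* F => (τ : F → F)) (fun a b h => RingEquiv.ext (congrFun h))

theorem comm [Finite F] [CharP F 2] (τ τ' : F ≃+* F) : τ * τ' = τ' * τ := by
  have h := isCyclic (F := F)
  exact (@IsCyclic.commGroup _ _ h).mul_comm τ τ'

variable [Fintype F] [CharP F 2] {n : ℕ}

/-- `bar` as an automorphism -/
noncomputable def barE (h : Qd F n) : F ≃+* F where
  toFun := bar n
  invFun := bar n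
  left_inv := bar_bar h
  right_inv := bar_bar h
  map_mul' := bar_mul n
  map_add' := bar_add n

theorem barE_apply (h : Qd F n) (x : F) : barE h x = bar n x := rfl

theorem barE_ne_one (h : Qd F n) : barE h ≠ 1 := by
  intro h1
  obtain ⟨e, he⟩ := exists_Tr_one h
  have h2 : bar n e = e := by
    rw [← barE_apply h, h1]; rfl
  rw [Tr_def, h2, Field.add_self] at he
  exact zero_ne_one he

/-- `bar` is the only automorphism of order two -/
theorem eq_bar (h : Qd F n) {τ : F ≃+* F} (h2 : τ * τ = 1) (h1 : τ ≠ 1) : τ = barE h := by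
  have := isCyclic (F := F)
  have := finite_aut (F := F)
  apply unique_of_cyclic h2 _ h1 (barE_ne_one h)
  ext x
  show bar n (bar n x) = x
  exact bar_bar h x

/-- the fixed field of a nontrivial automorphism has at most `q` elements -/
theorem card_fix_le (h : Qd F n) {τ : F ≃+* F} (h1 : τ ≠ 1) :
    Nat.card {x : F // τ x = x} ≤ 2 ^ n := by
  classical
  let E : Subfield F :=
    { carrier := {x | τ x = x}
      mul_mem' := by
        intro a b ha hb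
        show τ (a * b) = a * b
        rw [map_mul, show τ a = a from ha, show τ b = b from hb]
      one_mem' := map_one τ
      add_mem' := by
        intro a b ha hb
        show τ (a + b) = a + b
        rw [map_add, show τ a = a from ha, show τ b = b from hb]
      zero_mem' := map_zero τ
      neg_mem' := by
        intro a ha
        show τ (-a) = -a
        rw [map_neg, show τ a = a from ha]
      inv_mem' := by
        intro a ha
        show τ a⁻¹ = a⁻¹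
        rw [map_inv₀, show τ a = a from ha] }
  have hE : Nat.card {x : F // τ x = x} = Nat.card E := rfl
  rw [hE]
  have hfr : Nat.card F = Nat.card E ^ Module.finrank E F := Module.natCard_eq_pow_finrank
  have hr : 2 ≤ Module.finrank E F := by
    by_contra hlt
    have hpos : 0 < Module.finrank E F := Module.finrank_pos
    have h2 : Module.finrank E F = 1 := by omega
    rw [h2, pow_one] at hfr
    apply h1
    ext x
    have h4 : (E : Set F) = Set.univ := by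
      apply Set.eq_of_subset_of_ncard_le (Set.subset_univ _)
      rw [Set.ncard_univ, hfr]
      exact le_rfl
    have h5 : x ∈ (E : Set F) := by rw [h4]; trivial
    exact h5
  have hF : Nat.card F = (2 ^ n) ^ 2 := by rw [Nat.card_eq_fintype_card, h.hK]
  rw [hF] at hfr
  have hpos : 0 < Nat.card E := Nat.card_pos
  by_contra hlt
  push Not at hlt
  have h6 : (2 ^ n) ^ 2 < Nat.card E ^ 2 := Nat.pow_lt_pow_left hlt (by norm_num)
  have h7 : Nat.card E ^ 2 ≤ Nat.card E ^ Module.finrank E F := Nat.pow_le_pow_right hpos hr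
  omega

/-- a semilinear map `x ↦ c τ x` with more than `q` fixed points is the identity -/
theorem eq_one_of_fixed (h : Qd F n) {τ : F ≃+* F} {c : F} {S : Set F} (hS : 2 ^ n < S.ncard)
    (hfix : ∀ x ∈ S, c * τ x = x) : τ = 1 ∧ c = 1 := by
  classical
  -- a nonzero element of `S`
  obtain ⟨s, hs, hs0⟩ : ∃ s ∈ S, s ≠ 0 := by
    by_contra hcon
    push Not at hcon
    have h1 : S ⊆ {0} := fun x hx => hcon x hx
    have h2 := Set.ncard_le_ncard h1 (Set.finite_singleton 0)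
    rw [Set.ncard_singleton] at h2
    have := Nat.one_le_two_pow (n := n)
    omega
  have hτ : τ = 1 := by
    by_contra hne
    have h1 := card_fix_le h hne
    have h2 : (fun x => x / s) '' S ⊆ {x : F | τ x = x} := by
      rintro _ ⟨x, hx, rfl⟩
      show τ (x / s) = x / s
      have e1 := hfix x hx
      have e2 := hfix s hs
      have hc : c ≠ 0 := by
        rintro rfl
        rw [zero_mul] at e2
        exact hs0 e2.symm
      have hτs : τ s ≠ 0 := fun h0 => hs0 ((map_eq_zero τ).mp h0)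
      rw [map_div₀, div_eq_div_iff hτs hs0]
      have h3 : c * (τ x * s) = c * (x * τ s) := by
        rw [← mul_assoc, e1, mul_left_comm, e2]
      exact mul_left_cancel₀ hc h3
    have h3 := Set.ncard_le_ncard h2 (Set.toFinite _)
    rw [Set.ncard_image_of_injective _ (fun x y hxy => by
      have hxy : x / s = y / s := hxy
      field_simp at hxy
      exact hxy)] at h3
    have h4 : Set.ncard {x : F | τ x = x} = Nat.card {x : F // τ x = x} :=
      (Nat.card_coe_set_eq _).symm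
    omega
  subst hτ
  refine ⟨rfl, ?_⟩
  have := hfix s hs
  exact mul_right_cancel₀ hs0 (by rw [one_mul]; exact this)

end Cfsg.Agent.StdU3.FieldAut
end

-- part: StdU3/Card
section
prune_inst 0x20100400512200080000201210001e4282000002000f0001e061000205c84c608d062e208820061158028a0420350060131000104008000000200c00011d0581008802029148a000020096809180000000000000000000000000000000000000200000000
set_option linter.all false
open scoped Cfsg.Agent.FastGrp

-- part: StdU3/LevelTwo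
section
/-!
# The second level, `gam = 0`

`X : Next D O` with `{a (s t s⁻¹) | s ∈ S} = K`.  `U = C_S(W)` has index 2 in `S`, does not
contain `t`, `U' ≤ W ≤ Z(U)`, the squares of the elements of `U` are in `W`, and the involutions
of `t U` are the conjugates of `t` under `U`.
-/

set_option autoImplicit false
set_option linter.unusedSectionVars false

namespace Cfsg.Agent.StdU3.LevelTwo

open Cfsg.Agent.StdU3.Field Cfsg.Agent.StdU3.PreDef Cfsg.Agent.StdU3.LevelOne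
open Cfsg.Agent.StdU3.LevelOneW Cfsg.Agent.StdU3.NormQ Cfsg.Agent.StdU3.Kernel
open Cfsg.Agent.StdU3.Next

variable {G : Type*} [Group G] {K : Type*} [Field K] [Fintype K] [CharP K 2] {n : ℕ}
variable (D : Pre G K n) {O : Subgroup G}

/-- the `V/W`-part of the conjugate of `t`. -/
noncomputable def b (s : G) : K := a D (s * D.t * s⁻¹)

theorem b_mul {s r : G} (hs : s ∈ N2 D) (hr : r ∈ N2 D) : b D (s * r) = b D s + b D r := by
  unfold b
  rw [a_t_mul D hs hr.1, add_comm]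

theorem b_Q {s : G} (hs : s ∈ D.Q) : b D s = 0 := by
  unfold b
  rw [u_conj D hs, a_mul D (z_mem_Q D _) D.Q_t, a_z, a_t, add_zero]

theorem b_one : b D 1 = 0 := b_Q D D.Q.one_mem

theorem b_inv {s : G} (hs : s ∈ N2 D) : b D s⁻¹ = b D s := by
  have h := b_mul D hs (inv_mem hs)
  rw [mul_inv_cancel, b_one] at h
  exact (Field.add_eq_zero.mp h.symm).symm

theorem a_conj_N2 {s g : G} (hs : s ∈ N2 D) (hg : g ∈ D.Q) :
    a D (s * g * s⁻¹) = a D g + e D g * b D s := by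
  rw [a_conj D hs.1 hg, hs.2]; rfl

theorem u_conj_N2 (hg0 : gam D = 0) {s g : G} (hs : s ∈ N2 D) (hg : g ∈ D.Q) :
    u D (s * g * s⁻¹) = u D g + Tr n (b D s * bar n (a D g)) + e D g * N n (b D s) := by
  rw [u_conj' D hs.1 hg, th_N2 D hs (u_fixed D hg), rel_psi D hs.1, hs.2, u_t_zero D hs.1 hg0]
  rfl

theorem b_h (X : Next D O) (l : Kˣ) {s : G} (hs : s ∈ X.S) :
    b D (X.h' l * s * (X.h' l)⁻¹) = w n l * b D s := by
  have hsN := (X.S_N2 hs).1
  unfold b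
  have ht : (X.h' l)⁻¹ * D.t * X.h' l = D.t := by rw [mul_assoc, ← X.h'_t]; group
  have h1 : X.h' l * s * (X.h' l)⁻¹ * D.t * (X.h' l * s * (X.h' l)⁻¹)⁻¹ =
      X.h' l * (s * ((X.h' l)⁻¹ * D.t * X.h' l) * s⁻¹) * (X.h' l)⁻¹ := by group
  rw [h1, ht, X.h'_Q l _ (hsN.fwd _ D.Q_t), a_h D l (hsN.fwd _ D.Q_t)]

/-! ### Squares and commutators of `S` are in `V` -/

theorem mem_Q_of_b (hg0 : gam D = 0) (hO : Amb D O) (X : Next D O) {s : G} (hs : s ∈ X.S)
    (h : b D s = 0) : s ∈ D.Q := by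
  apply X.stab hO hs
  refine ⟨h, ?_⟩
  rw [u_t_zero D (X.S_N2 hs).1 hg0]
  have h' : a D (s * D.t * s⁻¹) = 0 := h
  rw [h', N_zero]

theorem sq_mem_V (hg0 : gam D = 0) (hO : Amb D O) (X : Next D O) {s : G} (hs : s ∈ X.S) :
    s * s ∈ V D := by
  have hsN := X.S_N2 hs
  have hQ : s * s ∈ D.Q := mem_Q_of_b D hg0 hO X (mul_mem hs hs) (by
    rw [b_mul D hsN hsN, add_self])
  rcases e_cases D (s * s) with ⟨-, h⟩ | ⟨h, -⟩
  · exact h
  · exfalso
    have h1 := a_conj_N2 D hsN hQ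
    have h2 : s * (s * s) * s⁻¹ = s * s := by group
    rw [h2, h, one_mul] at h1
    have h3 : b D s = 0 := by
      have := add_eq_left.mp h1.symm
      exact this
    have h4 := mem_Q_of_b D hg0 hO X hs h3
    rw [e_mul D h4 h4, add_self] at h
    exact zero_ne_one h

/-- `[S, V] ≤ W`. -/
theorem cmt_V_mem_W {s g : G} (hs : s ∈ N2 D) (hg : g ∈ V D) : s * g * s⁻¹ * g⁻¹ ∈ W D := by
  have hgQ := V_le D hg
  have hc := hs.1.fwd g hgQ
  apply W_of_ae D (mul_mem hc (inv_mem hgQ))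
  · rw [a_mul D hc (inv_mem hgQ), a_conj_N2 D hs hgQ, e_zero D hg, zero_mul, add_zero,
      a_inv D hgQ, add_self]
  · rw [e_mul D hc (inv_mem hgQ), e_conj D hs.1, e_inv D hgQ, add_self]

/-! ### The subgroup `U = C_S(W)` -/

/-- `U = C_S(W)`. -/
def U (X : Next D O) : Subgroup G := X.S ⊓ Subgroup.centralizer (W D : Set G)

theorem mem_U {X : Next D O} {s : G} : s ∈ U D X ↔ s ∈ X.S ∧ ∀ y ∈ W D, y * s = s * y := by
  unfold U
  rw [Subgroup.mem_inf, Subgroup.mem_centralizer_iff]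
  rfl

theorem U_le (X : Next D O) : U D X ≤ X.S := inf_le_left

theorem V_le_U (X : Next D O) : V D ≤ U D X := fun _ hg =>
  (mem_U D).mpr ⟨X.Q_le (V_le D hg), fun y hy => ((mem_V_iff D (V_le D hg)).mp hg y hy).symm⟩

theorem W_le_U (X : Next D O) : W D ≤ U D X := (W_le_V D).trans (V_le_U D X)

theorem t_not_U (X : Next D O) : D.t ∉ U D X := by
  intro h
  obtain ⟨y, hy, uy⟩ := W_surj D (bar_one n)
  have h1 := t_conj D (W_le D hy)
  rw [← ((mem_U D).mp h).2 y hy, uy] at h1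
  have h2 : D.z 1 = 1 := mul_eq_right.mp (h1.symm.trans (by group))
  exact one_ne_zero (D.z_inj 1 (bar_one n) h2)

theorem U_Q {X : Next D O} {s : G} (hs : s ∈ U D X) (hsQ : s ∈ D.Q) : s ∈ V D := by
  rw [mem_V_iff D hsQ]
  intro k hk
  exact (((mem_U D).mp hs).2 k hk).symm

/-- conjugation of `S` on `W`. -/
theorem conj_W_eq {s y : G} (hs : s ∈ N2 D) (hy : y ∈ W D) :
    ∃ c, bar n c = c ∧ s * y * s⁻¹ = D.z c * y := by
  have hyQ := W_le D hy
  apply exists_z_mul D (hs.1.fwd y hyQ) hyQ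
  · rw [a_W D (conj_W D hs.1 hy), a_W D hy]
  · rw [u_conj_W D hs.1 hy, th_N2 D hs (u_fixed D hyQ)]
  · rw [e_conj D hs.1]

/-- `K0` kills `[S, h'] × W → Z`. -/
theorem cmt_h_mem_U (X : Next D O) {k : Kˣ} (hk : N n (k : K) = 1) {s : G} (hs : s ∈ X.S) :
    X.h' k * s * (X.h' k)⁻¹ * s⁻¹ ∈ U D X := by
  rw [mem_U]
  refine ⟨mul_mem (X.h'_S k s hs) (inv_mem hs), fun y hy => ?_⟩
  have hyQ := W_le D hy
  have hsN := X.S_N2 hs
  -- `h' y h'⁻¹ = z c y`
  obtain ⟨c, hc, h1⟩ : ∃ c, bar n c = c ∧ X.h' k * y * (X.h' k)⁻¹ = D.z c * y := by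
    rw [X.h'_Q k y hyQ]
    apply exists_z_mul D (D.Q_h k y hyQ) hyQ
    · rw [a_h D k hyQ, a_W D hy, mul_zero]
    · rw [u_h D k hyQ, hk, one_mul]
    · rw [e_h D k hyQ]
  obtain ⟨d, hd, h2⟩ := conj_W_eq D hsN hy
  have hsN' : X.h' k * s * (X.h' k)⁻¹ ∈ N2 D := X.S_N2 (X.h'_S k s hs)
  -- the action of `h' s h'⁻¹`
  have h3 : (X.h' k * s * (X.h' k)⁻¹) * y * (X.h' k * s * (X.h' k)⁻¹)⁻¹ = D.z d * y := by
    have hz : ∀ b, X.h' k * D.z b * (X.h' k)⁻¹ = D.z b := by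
      intro b
      obtain ⟨b', hb', hbb⟩ := z_fixed D b
      rw [hbb, X.h'_Q k _ (z_mem_Q D b'), h_z D k hb', hk, one_mul]
    have hs' := N2_z D hsN'
    have e1 : y = D.z c * (X.h' k * y * (X.h' k)⁻¹) := by
      rw [h1, ← mul_assoc, z_self, one_mul]
    have e2 : (X.h' k * s * (X.h' k)⁻¹) * y * (X.h' k * s * (X.h' k)⁻¹)⁻¹ =
        D.z c * (X.h' k * (s * y * s⁻¹) * (X.h' k)⁻¹) := by
      conv_lhs => rw [e1]
      rw [← mul_assoc (X.h' k * s * (X.h' k)⁻¹), hs' c]; group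
    rw [e2, h2]
    have e3 : D.z c * (X.h' k * (D.z d * y) * (X.h' k)⁻¹) =
        D.z c * (X.h' k * D.z d * (X.h' k)⁻¹) * (X.h' k * y * (X.h' k)⁻¹) := by group
    rw [e3, hz, h1, z_comm D c d, mul_assoc, ← mul_assoc (D.z c) (D.z c), z_self, one_mul]
  -- combine
  have h4 : s⁻¹ * y * s = D.z d * y := by
    have e1 : s⁻¹ * D.z d = D.z d * s⁻¹ := N2_z D (inv_mem hsN) d
    have e2 : y = D.z d * (s⁻¹ * y * s) := by
      calc y = s⁻¹ * (s * y * s⁻¹) * s := by group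
        _ = s⁻¹ * D.z d * y * s := by rw [h2]; group
        _ = D.z d * (s⁻¹ * y * s) := by rw [e1]; group
    have e3 : D.z d * y = D.z d * (D.z d * (s⁻¹ * y * s)) := by rw [← e2]
    rw [e3, ← mul_assoc, z_self, one_mul]
  have h5 : (X.h' k * s * (X.h' k)⁻¹ * s⁻¹) * y * (X.h' k * s * (X.h' k)⁻¹ * s⁻¹)⁻¹ = y := by
    have e1 : (X.h' k * s * (X.h' k)⁻¹ * s⁻¹) * y * (X.h' k * s * (X.h' k)⁻¹ * s⁻¹)⁻¹ =
      (X.h' k * s * (X.h' k)⁻¹) * (s⁻¹ * y * s) * (X.h' k * s * (X.h' k)⁻¹)⁻¹ := by group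
    rw [e1, h4, ← mul_assoc, N2_z D hsN' d, mul_assoc, mul_assoc]
    have e2 : D.z d * ((X.h' k * s * (X.h' k)⁻¹) * (y * (X.h' k * s * (X.h' k)⁻¹)⁻¹)) =
      D.z d * ((X.h' k * s * (X.h' k)⁻¹) * y * (X.h' k * s * (X.h' k)⁻¹)⁻¹) := by group
    rw [e2, h3, ← mul_assoc, z_self, one_mul]
  exact (mul_inv_eq_iff_eq_mul.mp h5).symm

theorem U_or_aux (hg0 : gam D = 0) (hO : Amb D O) (X : Next D O)
    (hsurj : ∀ c, ∃ s ∈ X.S, a D (s * D.t * s⁻¹) = c) {s : G} (hs : s ∈ X.S) :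
    ∃ r ∈ U D X, b D r = b D s ∧ (r⁻¹ * s ∈ V D ∨ r⁻¹ * s * D.t ∈ V D) := by
  obtain ⟨k, hk, hk3, -⟩ := exists_norm_one D.hq
  have hw : w n k + 1 ≠ 0 := by
    intro h
    apply hk3
    rw [w_of_norm_one hk] at h
    exact Field.add_eq_zero.mp h
  obtain ⟨s0, hs0, h0⟩ := hsurj (b D s * (w n k + 1)⁻¹)
  have hb0 : b D s0 = b D s * (w n k + 1)⁻¹ := h0
  have hr := cmt_h_mem_U D X hk hs0
  set r := X.h' k * s0 * (X.h' k)⁻¹ * s0⁻¹ with hrd
  have hbr : b D r = b D s := by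
    rw [hrd, b_mul D (X.S_N2 (X.h'_S k s0 hs0)) (inv_mem (X.S_N2 hs0)), b_h D X k hs0,
      b_inv D (X.S_N2 hs0), hb0]
    field_simp
  have hrS := U_le D X hr
  have hq : r⁻¹ * s ∈ D.Q := mem_Q_of_b D hg0 hO X (mul_mem (inv_mem hrS) hs) (by
    rw [b_mul D (inv_mem (X.S_N2 hrS)) (X.S_N2 hs), b_inv D (X.S_N2 hrS), hbr, add_self])
  exact ⟨r, hr, hbr, V_or D hq⟩

theorem U_surj (hg0 : gam D = 0) (hO : Amb D O) (X : Next D O)
    (hsurj : ∀ c, ∃ s ∈ X.S, a D (s * D.t * s⁻¹) = c) (c : K) : ∃ s ∈ U D X, b D s = c := by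
  obtain ⟨s, hs, hc⟩ := hsurj c
  obtain ⟨r, hr, hb, -⟩ := U_or_aux D hg0 hO X hsurj hs
  exact ⟨r, hr, hb.trans hc⟩

theorem a_zero_of_comm {g : G} (hg : g ∈ D.Q) (h : ∀ x ∈ D.P, g * x = x * g) : a D g = 0 := by
  apply eq_zero_of_Tr D.hq
  intro y
  obtain ⟨x, hx, rfl⟩ := D.ca_surj y
  have h1 := cmt_eq D hg (D.P_le hx)
  rw [h x hx, a_P D hx, u_P D hx, e_P D hx, mul_zero, zero_mul, add_zero, add_zero] at h1
  apply D.z_inj _ (fixed_Tr D.hq _)
  rw [← h1]; group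

/-- the squares of elements of `U` are in `W`. -/
theorem sq_mem_W (hg0 : gam D = 0) (hO : Amb D O) (X : Next D O) {s : G} (hs : s ∈ U D X) :
    s * s ∈ W D := by
  have hsS := U_le D X hs
  have hV := sq_mem_V D hg0 hO X hsS
  apply W_of_ae D (V_le D hV) _ (e_zero D hV)
  apply a_zero_of_comm D (V_le D hV)
  intro x hx
  have hy := cmt_V_mem_W D (X.S_N2 hsS) (P_le_V D hx)
  set y := s * x * s⁻¹ * x⁻¹ with hyd
  have h1 : s * x * s⁻¹ = y * x := by rw [hyd]; group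
  have h2 : y * y = 1 := by rw [W_sq D hy, hg0, zero_mul, z_zero]
  have h3 : s * y * s⁻¹ = y := by rw [← ((mem_U D).mp hs).2 y hy]; group
  have h4 : s * s * x * (s * s)⁻¹ = x := by
    have e1 : s * s * x * (s * s)⁻¹ = s * (s * x * s⁻¹) * s⁻¹ := by group
    have e2 : s * (y * x) * s⁻¹ = (s * y * s⁻¹) * (s * x * s⁻¹) := by group
    rw [e1, h1, e2, h3, h1, ← mul_assoc, h2, one_mul]
  exact mul_inv_eq_iff_eq_mul.mp h4

theorem cmt_mem_W (hg0 : gam D = 0) (hO : Amb D O) (X : Next D O) {s r : G} (hs : s ∈ U D X)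
    (hr : r ∈ U D X) : s * r * s⁻¹ * r⁻¹ ∈ W D := by
  have hrN := (X.S_N2 (U_le D X hr)).1
  have h1 := sq_mem_W D hg0 hO X (mul_mem hs hr)
  have h2 : s * r * s⁻¹ * r⁻¹ = (s * r * (s * r)) * (r * r)⁻¹ * (r * (s * s) * r⁻¹)⁻¹ := by group
  rw [h2]
  exact mul_mem (mul_mem h1 (inv_mem (sq_mem_W D hg0 hO X hr)))
    (inv_mem (conj_W D hrN (sq_mem_W D hg0 hO X hs)))

/-- elements normalizing `Q` and `S` normalize `U`. -/
theorem conj_U (X : Next D O) {f : G} (hf : Norm D f) (hfS : ∀ s ∈ X.S, f * s * f⁻¹ ∈ X.S) {r : G}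
    (hr : r ∈ U D X) : f * r * f⁻¹ ∈ U D X := by
  rw [mem_U] at hr ⊢
  refine ⟨hfS r hr.1, fun y hy => ?_⟩
  have h1 : f⁻¹ * y * f ∈ W D := by
    have := conj_W D (Norm.inv D hf) hy
    rwa [inv_inv] at this
  have h2 := hr.2 _ h1
  calc y * (f * r * f⁻¹) = f * ((f⁻¹ * y * f) * r) * f⁻¹ := by group
    _ = f * (r * (f⁻¹ * y * f)) * f⁻¹ := by rw [h2]
    _ = f * r * f⁻¹ * y := by group

theorem conj_U_S (X : Next D O) {s : G} (hs : s ∈ X.S) {r : G} (hr : r ∈ U D X) :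
    s * r * s⁻¹ ∈ U D X :=
  conj_U D X (X.S_N2 hs).1 (fun _ hr => mul_mem (mul_mem hs hr) (inv_mem hs)) hr

/-- the involutions of `t U` are conjugate to `t` under `U`. -/
theorem invol_conj (hg0 : gam D = 0) (hO : Amb D O) (X : Next D O)
    (hsurj : ∀ c, ∃ s ∈ X.S, a D (s * D.t * s⁻¹) = c) {s : G} (hs : s ∈ U D X)
    (h : (D.t * s) * (D.t * s) = 1) : ∃ r ∈ U D X, D.t * s = r * D.t * r⁻¹ := by
  have hsS := U_le D X hs
  have hsN := X.S_N2 hsS
  have htS : D.t ∈ X.S := X.Q_le D.Q_t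
  -- `b s = 0`
  have hb : b D s = 0 := by
    have e1 : (D.t * s) * (D.t * s) = (D.t * (s * D.t * s⁻¹)) * (s * s) := by group
    have hss := sq_mem_W D hg0 hO X hs
    have hQ1 : D.t * (s * D.t * s⁻¹) ∈ D.Q := mul_mem D.Q_t (hsN.1.fwd _ D.Q_t)
    rw [e1] at h
    have h2 := a_mul D hQ1 (W_le D hss)
    rw [h, a_one, a_W D hss, add_zero, a_mul D D.Q_t (hsN.1.fwd _ D.Q_t), a_t, zero_add] at h2
    exact h2.symm
  have hsV := U_Q D hs (mem_Q_of_b D hg0 hO X hsS hb)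
  have hsQ := V_le D hsV
  have htsQ : D.t * s ∈ D.Q := mul_mem D.Q_t hsQ
  have hu : u D s = N n (a D s) := by
    have h2 := sq_eq D htsQ
    rw [h, e_mul D D.Q_t hsQ, e_t, e_zero D hsV, add_zero, one_mul, hg0, zero_mul, add_zero,
      a_mul D D.Q_t hsQ, a_t, zero_add, u_mul D D.Q_t hsQ, u_t, zero_add] at h2
    have h3 := D.z_inj _ (fixed_add (fixed_N D.hq _) (u_fixed D hsQ)) h2.symm
    exact (Field.add_eq_zero.mp h3).symm
  obtain ⟨r, hr, hbr⟩ := U_surj D hg0 hO X hsurj (a D s)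
  have hrN := X.S_N2 (U_le D X hr)
  obtain ⟨c, hc, h3⟩ := exists_z_mul D htsQ (hrN.1.fwd _ D.Q_t)
    (by rw [a_mul D D.Q_t hsQ, a_t, zero_add]; exact hbr.symm)
    (by
      rw [u_mul D D.Q_t hsQ, u_t, zero_add, u_t_zero D hrN.1 hg0, hu]
      have : a D (r * D.t * r⁻¹) = a D s := hbr
      rw [this])
    (by rw [e_mul D D.Q_t hsQ, e_t, e_zero D hsV, add_zero, e_conj D hrN.1, e_t])
  obtain ⟨y, hy, uy⟩ := W_surj D hc
  refine ⟨r * y, mul_mem hr (W_le_U D X hy), ?_⟩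
  have h4 := u_conj D (W_le D hy)
  rw [h3, conj_sub, h4, uy]
  have h5 : r * (D.z c * D.t) * r⁻¹ = r * D.z c * D.t * r⁻¹ := by group
  rw [h5, N2_z D hrN]; group

theorem mem_P_of_comm (hg0 : gam D = 0) (hO : Amb D O) (X : Next D O) {s : G} (hs : s ∈ U D X)
    (h : s * D.t = D.t * s) : s ∈ D.P := by
  have hsS := U_le D X hs
  have hb : b D s = 0 := by
    unfold b
    rw [h, mul_assoc, mul_inv_cancel, mul_one, a_t]
  have hsV := U_Q D hs (mem_Q_of_b D hg0 hO X hsS hb)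
  have hsQ := V_le D hsV
  rcases D.Q_T s hsQ h with h1 | h1
  · exact h1
  · exfalso
    have h2 := e_P D h1
    rw [e_mul D hsQ D.Q_t, e_zero D hsV, e_t, zero_add] at h2
    exact one_ne_zero h2

end Cfsg.Agent.StdU3.LevelTwo
end

-- part: StdU3/Card
section
/-!
# Orders of the groups of the first two levels (type `U₃(q)`)

`|F_q| = q`, `|Z| = q`, `|P| = q³`, `|W| = q²`, `|V| = q⁴`, `|Q| = 2 q⁴`, and, at the second level
(`gam = 0`), `|U| = q⁶`, where `q = 2 ^ n`.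
-/

set_option autoImplicit false
set_option linter.unusedSectionVars false

namespace Cfsg.Agent.StdU3.Card

open Cfsg.Agent.StdU3.Field Cfsg.Agent.StdU3.PreDef Cfsg.Agent.StdU3.LevelOne
open Cfsg.Agent.StdU3.LevelOneW Cfsg.Agent.StdU3.NormQ Cfsg.Agent.StdU3.Kernel
open Cfsg.Agent.StdU3.Next Cfsg.Agent.StdU3.LevelTwo

/-! ### Abstract counting -/

section abs

variable {G : Type*} [Group G] {M : Type*} [AddCommGroup M]

/-- `|H| = |ker| |im|` for a function which is additive on `H`. -/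
theorem card_of_hom (H N : Subgroup G) (f : G → M) (B : AddSubgroup M)
    (hmul : ∀ x ∈ H, ∀ y ∈ H, f (x * y) = f x + f y)
    (hN : ∀ x, x ∈ N ↔ x ∈ H ∧ f x = 0) (hB : ∀ x ∈ H, f x ∈ B)
    (hs : ∀ m ∈ B, ∃ x ∈ H, f x = m) : Nat.card H = Nat.card N * Nat.card B := by
  let φ : H →* Multiplicative B :=
    MonoidHom.mk' (fun x => Multiplicative.ofAdd ⟨f x.1, hB x.1 x.2⟩) (fun x y => by
      apply Multiplicative.toAdd.injective
      apply Subtype.ext
      exact hmul x.1 x.2 y.1 y.2)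
  have hφ : ∀ x : H, φ x = Multiplicative.ofAdd ⟨f x.1, hB x.1 x.2⟩ := fun _ => rfl
  have hsur : Function.Surjective φ := by
    intro m
    obtain ⟨x, hx, h⟩ := hs (Multiplicative.toAdd m).1 (Multiplicative.toAdd m).2
    refine ⟨⟨x, hx⟩, ?_⟩
    rw [hφ]
    apply Multiplicative.toAdd.injective
    exact Subtype.ext h
  have h1 : φ.ker.map H.subtype = N := by
    ext x
    rw [hN x, Subgroup.mem_map]
    constructor
    · rintro ⟨y, hy, rfl⟩
      refine ⟨y.2, ?_⟩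
      rw [MonoidHom.mem_ker, hφ] at hy
      have := congrArg Multiplicative.toAdd hy
      exact congrArg Subtype.val this
    · rintro ⟨hx, h0⟩
      refine ⟨⟨x, hx⟩, ?_, rfl⟩
      rw [MonoidHom.mem_ker, hφ]
      apply Multiplicative.toAdd.injective
      exact Subtype.ext h0
  have h2 : Nat.card φ.ker = Nat.card N := by
    rw [← h1]
    exact (Nat.card_congr (φ.ker.equivMapOfInjective H.subtype H.subtype_injective).toEquiv)
  have h3 : φ.ker.index = Nat.card B := by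
    rw [Subgroup.index_ker, MonoidHom.range_eq_top.mpr hsur, Subgroup.card_top]
    exact Nat.card_congr Multiplicative.toAdd
  rw [← Subgroup.card_mul_index φ.ker, h2, h3]

/-- `|H| ≤ |ker| |im|` for a function which is additive on `H`. -/
theorem card_le_of_hom [Finite G] [Finite M] (H N : Subgroup G) (f : G → M) (B : AddSubgroup M)
    (hmul : ∀ x ∈ H, ∀ y ∈ H, f (x * y) = f x + f y)
    (hN : ∀ x, x ∈ H → f x = 0 → x ∈ N) (hB : ∀ x ∈ H, f x ∈ B) :
    Nat.card H ≤ Nat.card N * Nat.card B := by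
  let φ : H →* Multiplicative B :=
    MonoidHom.mk' (fun x => Multiplicative.ofAdd ⟨f x.1, hB x.1 x.2⟩) (fun x y => by
      apply Multiplicative.toAdd.injective
      apply Subtype.ext
      exact hmul x.1 x.2 y.1 y.2)
  have hφ : ∀ x : H, φ x = Multiplicative.ofAdd ⟨f x.1, hB x.1 x.2⟩ := fun _ => rfl
  have h1 : φ.ker.map H.subtype ≤ N := by
    rw [Subgroup.map_le_iff_le_comap]
    intro x hx
    rw [Subgroup.mem_comap]
    apply hN x.1 x.2
    rw [MonoidHom.mem_ker, hφ] at hx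
    have := congrArg Multiplicative.toAdd hx
    exact congrArg Subtype.val this
  have h2 : Nat.card φ.ker ≤ Nat.card N := by
    rw [Nat.card_congr (φ.ker.equivMapOfInjective H.subtype H.subtype_injective).toEquiv]
    exact Nat.card_le_card_of_injective _ (Subgroup.inclusion_injective h1)
  have h3 : φ.ker.index ≤ Nat.card B := by
    rw [Subgroup.index_ker]
    have h4 := Nat.card_le_card_of_injective (fun x : φ.range => Multiplicative.toAdd x.1)
      (fun x y hxy => Subtype.ext (Multiplicative.toAdd.injective hxy))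
    exact h4
  rw [← Subgroup.card_mul_index φ.ker]
  exact Nat.mul_le_mul h2 h3

/-- if `[H, v] ⊆ B` then `|H| ≤ |C_H(v)| |B|`. -/
theorem card_le_cent [Finite G] (H B : Subgroup G) (v : G)
    (h : ∀ x ∈ H, x * v * x⁻¹ * v⁻¹ ∈ B) :
    Nat.card H ≤ Nat.card ↥(H ⊓ Subgroup.centralizer {v}) * Nat.card B := by
  set C := H ⊓ Subgroup.centralizer {v} with hC
  -- the fibres of `x ↦ [x, v]` are cosets of `C`
  have hfib : ∀ x ∈ H, ∀ y ∈ H, x * v * x⁻¹ * v⁻¹ = y * v * y⁻¹ * v⁻¹ → y⁻¹ * x ∈ C := by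
    intro x hx y hy hxy
    rw [hC, Subgroup.mem_inf, Subgroup.mem_centralizer_iff]
    refine ⟨mul_mem (inv_mem hy) hx, ?_⟩
    intro v' hv'
    rw [Set.mem_singleton_iff.mp hv']
    have h1 := mul_right_cancel hxy
    calc v * (y⁻¹ * x) = y⁻¹ * (y * v * y⁻¹) * x := by group
      _ = y⁻¹ * (x * v * x⁻¹) * x := by rw [h1]
      _ = y⁻¹ * x * v := by group
  classical
  let g : B → G := fun b => if hb : ∃ x ∈ H, x * v * x⁻¹ * v⁻¹ = b then Classical.choose hb else 1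
  have hg : ∀ b : B, (∃ x ∈ H, x * v * x⁻¹ * v⁻¹ = b) → g b ∈ H ∧
      g b * v * (g b)⁻¹ * v⁻¹ = b := by
    intro b hb
    have : g b = Classical.choose hb := dif_pos hb
    rw [this]
    exact Classical.choose_spec hb
  let f : H → C × B := fun x =>
    ⟨⟨(g ⟨_, h x.1 x.2⟩)⁻¹ * x.1, by
      have h1 := hg ⟨_, h x.1 x.2⟩ ⟨x.1, x.2, rfl⟩
      exact hfib x.1 x.2 _ h1.1 h1.2.symm⟩, ⟨_, h x.1 x.2⟩⟩
  have hf : Function.Injective f := by
    intro x y hxy
    have h1 : (⟨_, h x.1 x.2⟩ : B) = ⟨_, h y.1 y.2⟩ := congrArg Prod.snd hxy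
    have h2 := congrArg Subtype.val (congrArg Prod.fst hxy)
    have h3 : (g ⟨_, h x.1 x.2⟩)⁻¹ * x.1 = (g ⟨_, h y.1 y.2⟩)⁻¹ * y.1 := h2
    rw [h1] at h3
    exact Subtype.ext (mul_left_cancel h3)
  have h4 := Nat.card_le_card_of_injective f hf
  rwa [Nat.card_prod] at h4

end abs

/-! ### The field -/

variable {K : Type*} [Field K] [Fintype K] [CharP K 2] {n : ℕ}

/-- `F_q` as an additive subgroup of `K`. -/
def Fq (K : Type*) [Field K] [CharP K 2] (n : ℕ) : AddSubgroup K where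
  carrier := {x | bar n x = x}
  add_mem' := fun ha hb => fixed_add ha hb
  zero_mem' := bar_zero n
  neg_mem' := fun {x} hx => by
    have : -x = x := CharTwo.neg_eq x
    rw [this]; exact hx

theorem mem_Fq {x : K} : x ∈ Fq K n ↔ bar n x = x := Iff.rfl

theorem card_top_K (h : Qd K n) : Nat.card (⊤ : AddSubgroup K) = (2 ^ n) ^ 2 := by
  rw [AddSubgroup.card_top, Nat.card_eq_fintype_card, h.hK]

theorem card_Fq (h : Qd K n) : Nat.card (Fq K n) = 2 ^ n := by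
  let φ : K →+ K := AddMonoidHom.mk' (fun x => Tr n x) (fun x y => Tr_add n x y)
  have h1 : φ.ker = Fq K n := by
    ext x
    rw [AddMonoidHom.mem_ker, mem_Fq]
    exact ⟨fun h => fixed_of_Tr h, fun h => Tr_of_fixed h⟩
  have h2 : φ.range = Fq K n := by
    ext x
    rw [AddMonoidHom.mem_range, mem_Fq]
    constructor
    · rintro ⟨y, rfl⟩; exact fixed_Tr h y
    · intro hx
      obtain ⟨y, hy⟩ := exists_Tr_eq h one_ne_zero hx
      exact ⟨bar n y, by rw [← hy, one_mul]; rfl⟩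
  have h3 := AddSubgroup.card_mul_index φ.ker
  rw [AddSubgroup.index_ker, h1, h2, Nat.card_eq_fintype_card (α := K), h.hK, ← sq] at h3
  exact Nat.pow_left_injective (n := 2) (by norm_num) h3

/-! ### The groups of the first level -/

variable {G : Type*} [Group G] (D : Pre G K n) {O : Subgroup G}

/-- `Z = z '' F_q` -/
def Z : Subgroup G where
  carrier := {x | ∃ b, bar n b = b ∧ x = D.z b}
  one_mem' := ⟨0, bar_zero n, (z_zero D).symm⟩
  mul_mem' := by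
    rintro _ _ ⟨b, hb, rfl⟩ ⟨c, hc, rfl⟩
    exact ⟨b + c, fixed_add hb hc, (D.z_add b c).symm⟩
  inv_mem' := by
    rintro _ ⟨b, hb, rfl⟩
    exact ⟨b, hb, z_inv D b⟩

theorem z_mem_Z (b : K) : D.z b ∈ Z D := z_fixed D b

theorem Z_le_P : Z D ≤ D.P := by
  rintro _ ⟨b, -, rfl⟩; exact D.z_mem b

theorem card_Z : Nat.card (Z D) = 2 ^ n := by
  rw [← card_Fq D.hq]
  symm
  apply Nat.card_congr
  refine Equiv.ofBijective (fun b : Fq K n => (⟨D.z b.1, b.1, b.2, rfl⟩ : Z D)) ⟨?_, ?_⟩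
  · intro b c hbc
    exact Subtype.ext (z_eq D b.2 c.2 (congrArg Subtype.val hbc))
  · rintro ⟨_, b, hb, rfl⟩
    exact ⟨⟨b, hb⟩, rfl⟩

theorem card_P : Nat.card D.P = (2 ^ n) ^ 3 := by
  rw [card_of_hom D.P (Z D) D.ca ⊤ D.ca_mul _ (fun _ _ => AddSubgroup.mem_top _)
    (fun m _ => D.ca_surj m), card_Z, card_top_K D.hq]
  · ring
  · intro x
    constructor
    · rintro ⟨b, -, rfl⟩
      exact ⟨D.z_mem b, D.ca_z b⟩
    · rintro ⟨hx, h0⟩
      exact D.exists_z x hx h0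

theorem card_W : Nat.card (W D) = (2 ^ n) ^ 2 := by
  rw [card_of_hom (W D) (Z D) (u D) (Fq K n)
    (fun x hx y hy => u_mul D (W_le D hx) (W_le D hy)) _ (fun x hx => u_fixed D (W_le D hx))
    (fun m hm => W_surj D hm), card_Z, card_Fq D.hq]
  · ring
  · intro x
    constructor
    · rintro ⟨b, -, rfl⟩
      exact ⟨z_mem_W D b, u_z D b⟩
    · rintro ⟨hx, h0⟩
      exact z_of_W D hx h0

theorem card_V : Nat.card (V D) = (2 ^ n) ^ 4 := by
  rw [card_of_hom (V D) (W D) (a D) ⊤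
    (fun x hx y hy => a_mul D (V_le D hx) (V_le D hy)) _ (fun _ _ => AddSubgroup.mem_top _) _,
    card_W, card_top_K D.hq]
  · ring
  · intro x
    constructor
    · intro hx
      exact ⟨W_le_V D hx, a_W D hx⟩
    · rintro ⟨hx, h0⟩
      exact W_of_ae D (V_le D hx) h0 (e_zero D hx)
  · intro m _
    obtain ⟨x, hx, rfl⟩ := D.ca_surj m
    exact ⟨x, P_le_V D hx, a_P D hx⟩

/-- `{0, 1}` as an additive subgroup of `K`. -/
def Two (K : Type*) [Field K] [CharP K 2] : AddSubgroup K where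
  carrier := {x | x = 0 ∨ x = 1}
  add_mem' := by
    rintro _ _ (rfl | rfl) (rfl | rfl)
    · left; rw [add_zero]
    · right; rw [zero_add]
    · right; rw [add_zero]
    · left; exact add_self 1
  zero_mem' := Or.inl rfl
  neg_mem' := fun {x} hx => by
    have : -x = x := CharTwo.neg_eq x
    rw [this]; exact hx

theorem mem_Two {x : K} : x ∈ Two K ↔ x = 0 ∨ x = 1 := Iff.rfl

theorem card_Two : Nat.card (Two K) = 2 := by
  classical
  have h1 : ((Two K : AddSubgroup K) : Set K) = {0, 1} := by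
    ext x
    rw [SetLike.mem_coe, mem_Two, Set.mem_insert_iff, Set.mem_singleton_iff]
  have h2 : Nat.card (Two K) = Nat.card ((Two K : AddSubgroup K) : Set K) := rfl
  rw [h2, h1, Nat.card_coe_set_eq]
  exact Set.ncard_pair zero_ne_one

theorem card_Q : Nat.card D.Q = 2 * (2 ^ n) ^ 4 := by
  rw [card_of_hom D.Q (V D) (e D) (Two K) (fun x hx y hy => e_mul D hx hy) _ _ _,
    card_V, card_Two]
  · ring
  · intro x
    constructor
    · intro hx
      exact ⟨V_le D hx, e_zero D hx⟩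
    · rintro ⟨hx, h0⟩
      exact (e_eq_zero_iff D).mp h0
  · intro x _
    rcases e_cases D x with ⟨h, -⟩ | ⟨h, -⟩
    · exact Or.inl h
    · exact Or.inr h
  · rintro m (rfl | rfl)
    · exact ⟨1, D.Q.one_mem, e_one D⟩
    · exact ⟨D.t, D.Q_t, e_t D⟩

/-- `T = P ⟨t⟩` as a set: the centralizer of `t` in `Q` has order `2 q³`. -/
theorem card_CQ_t : Nat.card ↥(D.Q ⊓ Subgroup.centralizer {D.t}) = 2 * (2 ^ n) ^ 3 := by
  have hmem : ∀ x, x ∈ D.Q ⊓ Subgroup.centralizer {D.t} ↔ x ∈ D.Q ∧ u D x = 0 := by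
    intro x
    rw [Subgroup.mem_inf, Subgroup.mem_centralizer_iff]
    constructor
    · rintro ⟨hx, h⟩
      refine ⟨hx, u_eq D hx (bar_zero n) ?_⟩
      rw [z_zero, one_mul, ← h D.t rfl]; group
    · rintro ⟨hx, h⟩
      refine ⟨hx, ?_⟩
      rintro _ rfl
      have h1 := u_conj D hx
      rw [h, z_zero, one_mul] at h1
      exact (mul_inv_eq_iff_eq_mul.mp h1).symm
  have h1 := card_of_hom D.Q _ (u D) (Fq K n) (fun x hx y hy => u_mul D hx hy) hmem
    (fun x hx => u_fixed D hx) (fun m hm => u_surj_aux D hm)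
  rw [card_Q, card_Fq D.hq] at h1
  have h2 : 2 * (2 ^ n) ^ 4 = 2 * (2 ^ n) ^ 3 * 2 ^ n := by ring
  rw [h2] at h1
  exact (Nat.eq_of_mul_eq_mul_right (by positivity) h1).symm

/-- the centralizer of an element of `Q` in a subgroup `H` of `Q` has index at most `q`. -/
theorem card_le_cent_Q [Finite G] {H : Subgroup G} (hH : H ≤ D.Q) {v : G} (hv : v ∈ D.Q) :
    Nat.card H ≤ Nat.card ↥(H ⊓ Subgroup.centralizer {v}) * 2 ^ n := by
  rw [← card_Z D]
  apply card_le_cent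
  intro x hx
  rw [cmt_eq D (hH hx) hv]
  exact z_mem_Z D _

/-! ### The second level -/

variable {D}

theorem card_U (hg0 : gam D = 0) (hO : Amb D O) (X : Next D O)
    (hsurj : ∀ c, ∃ s ∈ X.S, a D (s * D.t * s⁻¹) = c) : Nat.card (U D X) = (2 ^ n) ^ 6 := by
  rw [card_of_hom (U D X) (V D) (b D) ⊤
    (fun x hx y hy => b_mul D (X.S_N2 (U_le D X hx)) (X.S_N2 (U_le D X hy))) _
    (fun _ _ => AddSubgroup.mem_top _) (fun m _ => U_surj D hg0 hO X hsurj m),
    card_V, card_top_K D.hq]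
  · ring
  · intro x
    constructor
    · intro hx
      exact ⟨V_le_U D X hx, b_Q D (V_le D hx)⟩
    · rintro ⟨hx, h0⟩
      exact U_Q D hx (mem_Q_of_b D hg0 hO X (U_le D X hx) h0)

/-- the centralizers in `U` have order at least `q⁴`. -/
theorem card_le_cent_U [Finite G] (hg0 : gam D = 0) (hO : Amb D O) (X : Next D O)
    (hsurj : ∀ c, ∃ s ∈ X.S, a D (s * D.t * s⁻¹) = c) {v : G} (hv : v ∈ U D X) :
    (2 ^ n) ^ 4 ≤ Nat.card ↥(U D X ⊓ Subgroup.centralizer {v}) := by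
  have h1 := card_le_cent (U D X) (W D) v (fun x hx => cmt_mem_W D hg0 hO X hx hv)
  rw [card_U hg0 hO X hsurj, card_W] at h1
  have h2 : (2 ^ n) ^ 6 = (2 ^ n) ^ 4 * (2 ^ n) ^ 2 := by ring
  rw [h2] at h1
  exact Nat.le_of_mul_le_mul_right h1 (by positivity)

end Cfsg.Agent.StdU3.Card
end
end

-- part: StdU3/TermTwo_mg
section
prune_inst 0xd0100500552200080000201210001e4282000002000f0001e121030207c84c618d422e20b820061158020204003d0060131000104000000000200400011c05810088000281480000000096008880000000000000000000000000000000000000200000000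
set_option linter.all false
open scoped Cfsg.Agent.FastGrp

-- part: StdU3/TermDef
section
/-!
# The terminal group of the growth, interface

`U` is the part of the terminal group `S = U ∪ t U` which does not contain `t`.
-/

set_option autoImplicit false

namespace Cfsg.Agent.StdU3.TermDef

open Cfsg.Agent.StdU3.Field Cfsg.Agent.StdU3.PreDef

variable {G : Type*} [Group G] {K : Type*} [Field K] [Fintype K] [CharP K 2] {n : ℕ}

/-- the terminal group. -/
structure Term (D : Pre G K n) where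
  U : Subgroup G
  U_two : IsPGroup 2 U
  P_le : D.P ≤ U
  /-- commutators are central -/
  class_two : ∀ x ∈ U, ∀ y ∈ U, ∀ g ∈ U, (x * y * x⁻¹ * y⁻¹) * g = g * (x * y * x⁻¹ * y⁻¹)
  t_not : D.t ∉ U
  t_conj : ∀ g ∈ U, D.t * g * D.t⁻¹ ∈ U
  comm_t : ∀ g ∈ U, g * D.t = D.t * g → g ∈ D.P
  /-- the involutions of `U` outside `Z` -/
  two : ∀ v ∈ U, v * v = 1 → (∀ b, v ≠ D.z b) →
    ∃ C : Subgroup G, C ≤ U ∧ (∀ c ∈ C, c * v = v * c) ∧ (2 ^ n) ^ 3 ≤ Nat.card C ∧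
      ∃ B : Subgroup G, B ≤ C ∧ (∀ b ∈ B, b * b = 1) ∧ (∀ b ∈ B, ∀ c ∈ C, b * c = c * b) ∧
        (2 ^ n) ^ 2 ≤ Nat.card B
  /-- the involutions of `U t` -/
  three : ∀ g ∈ U, (g * D.t) * (g * D.t) = 1 →
    (∃ y ∈ U, y * D.t * y⁻¹ = g * D.t) ∨ (∀ y : G, y * D.t * y⁻¹ ≠ g * D.t)
  /-- the involutions of the outer cosets of `U` -/
  four : ∀ x, x * D.t = D.t * x → x * x = 1 →
    (∃ c, ∀ p ∈ D.P, x * p * x⁻¹ ∈ D.P ∧ D.ca (x * p * x⁻¹) = c * bar n (D.ca p)) →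
    (∀ g ∈ U, x * g * x⁻¹ ∈ U) →
    ∀ g ∈ U, (g * x) * (g * x) = 1 →
      (∃ y ∈ U, y * x * y⁻¹ = g * x) ∨
      ∃ B : Subgroup G, B ≤ U ∧ (∀ b ∈ B, b * b = 1) ∧ (∀ b ∈ B, b * (g * x) = (g * x) * b) ∧
        (∀ b ∈ B, ∀ c ∈ B, b * c = c * b) ∧ g * x ∉ B ∧ (2 ^ n) ^ 2 ≤ Nat.card B

end Cfsg.Agent.StdU3.TermDef
end

-- part: StdU3/TermTwo
section
/-!
# The field `two` of `TermDef.Term` for the first two levels

An involution `v` of `U`, not in `Z`, centralizes a subgroup `C` of `U` of order at least `q³`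
whose centre contains an elementary abelian subgroup of order at least `q²`.
-/

set_option autoImplicit false
set_option linter.unusedSectionVars false

namespace Cfsg.Agent.StdU3.TermTwo

open Cfsg.Agent.StdU3.Field Cfsg.Agent.StdU3.PreDef Cfsg.Agent.StdU3.LevelOne
open Cfsg.Agent.StdU3.LevelOneW Cfsg.Agent.StdU3.NormQ Cfsg.Agent.StdU3.Kernel
open Cfsg.Agent.StdU3.Next Cfsg.Agent.StdU3.LevelTwo Cfsg.Agent.StdU3.Card

variable {K : Type*} [Field K] [Fintype K] [CharP K 2] {n : ℕ}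
variable {G : Type*} [Group G] (D : Pre G K n) {O : Subgroup G}

/-- the conclusion of `Term.two` for `v`. -/
def HasTwo (U : Subgroup G) (v : G) : Prop :=
  ∃ C : Subgroup G, C ≤ U ∧ (∀ c ∈ C, c * v = v * c) ∧ (2 ^ n) ^ 3 ≤ Nat.card C ∧
    ∃ B : Subgroup G, B ≤ C ∧ (∀ b ∈ B, b * b = 1) ∧ (∀ b ∈ B, ∀ c ∈ C, b * c = c * b) ∧
      (2 ^ n) ^ 2 ≤ Nat.card B

theorem mem_cent {U : Subgroup G} {v g : G} :
    g ∈ U ⊓ Subgroup.centralizer {v} ↔ g ∈ U ∧ g * v = v * g := by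
  rw [Subgroup.mem_inf, Subgroup.mem_centralizer_iff]
  constructor
  · rintro ⟨h1, h2⟩
    exact ⟨h1, (h2 v rfl).symm⟩
  · rintro ⟨h1, h2⟩
    refine ⟨h1, fun x hx => ?_⟩
    rw [Set.mem_singleton_iff.mp hx, h2]

/-- squares in `V` -/
theorem sq_V {g : G} (hg : g ∈ V D) : g * g = D.z (N n (a D g) + gam D * u D g) := by
  rw [sq_eq D (V_le D hg), e_zero D hg, zero_mul, add_zero]

theorem V_sq_one {g : G} (hg : g ∈ V D) (h : g * g = 1) : N n (a D g) + gam D * u D g = 0 := by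
  rw [sq_V D hg] at h
  exact D.z_inj _ (fixed_add (fixed_N D.hq _) (fixed_mul (gam_fixed D) (u_fixed D (V_le D hg)))) h

theorem V_comm {g k : G} (hg : g ∈ V D) (hk : k ∈ V D) :
    g * k = D.z (Tr n (a D g * bar n (a D k))) * (k * g) := by
  rw [comm_eq D (V_le D hg) (V_le D hk), e_zero D hg, e_zero D hk, zero_mul, zero_mul, add_zero,
    add_zero]

theorem V_comm_iff {g k : G} (hg : g ∈ V D) (hk : k ∈ V D) :
    g * k = k * g ↔ Tr n (a D g * bar n (a D k)) = 0 := by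
  constructor
  · intro h
    have h1 := V_comm D hg hk
    rw [h] at h1
    have h2 : D.z (Tr n (a D g * bar n (a D k))) = 1 := mul_eq_right.mp h1.symm
    exact D.z_inj _ (fixed_Tr D.hq _) h2
  · intro h
    rw [V_comm D hg hk, h, z_zero, one_mul]

theorem W_V_comm {y g : G} (hy : y ∈ W D) (hg : g ∈ V D) : y * g = g * y := by
  rw [V_comm_iff D (W_le_V D hy) hg, a_W D hy, zero_mul, Tr_zero]

/-- **level 1** -/
theorem levelOne [Finite G] {v : G} (hv : v ∈ V D) (h1 : v * v = 1) (hz : ∀ b, v ≠ D.z b) :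
    HasTwo (n := n) (V D) v := by
  have hq := four_le D.hq
  have h0 := V_sq_one D hv h1
  by_cases hg : gam D = 0
  · rw [hg, zero_mul, add_zero] at h0
    have hvW : v ∈ W D := W_of_ae D (V_le D hv) (N_eq_zero h0) (e_zero D hv)
    refine ⟨V D, le_rfl, fun c hc => (W_V_comm D hvW hc).symm, ?_, W D, W_le_V D, ?_, ?_, ?_⟩
    · rw [card_V]
      exact Nat.pow_le_pow_right (by omega) (by norm_num)
    · intro y hy
      rw [W_sq D hy, hg, zero_mul, z_zero]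
    · intro y hy g hg
      exact W_V_comm D hy hg
    · rw [card_W]
  · have hav : a D v ≠ 0 := by
      intro h
      rw [h, N_zero, zero_add] at h0
      have hu : u D v = 0 := (mul_eq_zero.mp h0).resolve_left hg
      obtain ⟨b, -, hb⟩ := ker_eq D (V_le D hv) h hu (e_zero D hv)
      exact hz b hb
    have hCf : ∀ g ∈ V D ⊓ Subgroup.centralizer {v}, bar n (a D g / a D v) = a D g / a D v := by
      intro g hg
      rw [mem_cent] at hg
      apply fixed_div_of_Tr D.hq _ hav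
      rw [Tr_comm D.hq]
      exact (V_comm_iff D hg.1 hv).mp hg.2
    have hCf' : ∀ g ∈ V D, bar n (a D g / a D v) = a D g / a D v →
        g ∈ V D ⊓ Subgroup.centralizer {v} := by
      intro g hg hf
      rw [mem_cent]
      refine ⟨hg, ?_⟩
      rw [V_comm_iff D hg hv]
      have : a D g * bar n (a D v) = (a D g / a D v) * N n (a D v) := by
        rw [N_def]; field_simp
      rw [this, Tr_mul_fixed hf, Tr_of_fixed (fixed_N D.hq _), mul_zero]
    have hCc : ∀ g ∈ V D ⊓ Subgroup.centralizer {v}, ∀ k ∈ V D ⊓ Subgroup.centralizer {v},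
        g * k = k * g := by
      intro g hg k hk
      have hg' := mem_cent.mp hg
      have hk' := mem_cent.mp hk
      rw [V_comm_iff D hg'.1 hk'.1]
      have h2 : a D g * bar n (a D k) = (a D g / a D v * (a D k / a D v)) * N n (a D v) := by
        have h3 : bar n (a D k) = (a D k / a D v) * bar n (a D v) := by
          rw [← hCf k hk, ← bar_mul, div_mul_cancel₀ _ hav]
        rw [h3, N_def]; field_simp
      rw [h2, Tr_mul_fixed (fixed_mul (hCf g hg) (hCf k hk)), Tr_of_fixed (fixed_N D.hq _),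
        mul_zero]
    let B : Subgroup G :=
      { carrier := {g | g ∈ V D ⊓ Subgroup.centralizer {v} ∧ g * g = 1}
        one_mem' := ⟨one_mem _, one_mul 1⟩
        mul_mem' := by
          rintro x y ⟨hx, hx1⟩ ⟨hy, hy1⟩
          refine ⟨mul_mem hx hy, ?_⟩
          have : x * y * (x * y) = x * (y * x) * y := by group
          rw [this, ← hCc x hx y hy]
          have : x * (x * y) * y = (x * x) * (y * y) := by group
          rw [this, hx1, hy1, one_mul]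
        inv_mem' := by
          rintro x ⟨hx, hx1⟩
          refine ⟨inv_mem hx, ?_⟩
          rw [← mul_inv_rev, hx1, inv_one] }
    have hB : ∀ g, g ∈ B ↔ g ∈ V D ⊓ Subgroup.centralizer {v} ∧ g * g = 1 := fun _ => Iff.rfl
    refine ⟨V D ⊓ Subgroup.centralizer {v}, inf_le_left, fun c hc => (mem_cent.mp hc).2, ?_, B,
      fun g hg => ((hB g).mp hg).1, fun g hg => ((hB g).mp hg).2, ?_, ?_⟩
    · have h3 := card_le_cent_Q D (V_le D) (V_le D hv)
      rw [card_V] at h3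
      have h4 : (2 ^ n) ^ 4 = (2 ^ n) ^ 3 * 2 ^ n := by ring
      rw [h4] at h3
      exact Nat.le_of_mul_le_mul_right h3 (by positivity)
    · intro g hg c hc
      exact hCc g ((hB g).mp hg).1 c hc
    · have h3 := card_of_hom B (Z D) (fun g => a D g / a D v) (Fq K n) (by
        intro x hx y hy
        have hx' := V_le D (mem_cent.mp ((hB x).mp hx).1).1
        have hy' := V_le D (mem_cent.mp ((hB y).mp hy).1).1
        show a D (x * y) / a D v = a D x / a D v + a D y / a D v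
        rw [a_mul D hx' hy', add_div]) (by
        intro x
        constructor
        · rintro ⟨b, hb, rfl⟩
          refine ⟨?_, ?_⟩
          · rw [hB]
            refine ⟨hCf' _ (W_le_V D (z_mem_W D b)) ?_, z_self D b⟩
            rw [a_z, zero_div, bar_zero]
          · show a D (D.z b) / a D v = 0
            rw [a_z, zero_div]
        · rintro ⟨hx, h5⟩
          rw [hB] at hx
          have hxV := (mem_cent.mp hx.1).1
          have h6 : a D x = 0 := (div_eq_zero_iff.mp h5).resolve_right hav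
          have h7 := V_sq_one D hxV hx.2
          rw [h6, N_zero, zero_add] at h7
          exact ker_eq D (V_le D hxV) h6 ((mul_eq_zero.mp h7).resolve_left hg) (e_zero D hxV))
        (by
          intro x hx
          exact hCf x ((hB x).mp hx).1) (by
        intro m hm
        have hgi : bar n (gam D)⁻¹ = (gam D)⁻¹ := fixed_inv (gam_fixed D)
        obtain ⟨g, hg1, hg2, hg3, hg4⟩ := surj D (a0 := m * a D v)
          (u0 := (gam D)⁻¹ * N n (m * a D v)) (e0 := 0) (fixed_mul hgi (fixed_N D.hq _))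
          (Or.inl rfl)
        have hgV : g ∈ V D := (e_eq_zero_iff D).mp hg4
        have h5 : a D g / a D v = m := by rw [hg2, mul_div_cancel_right₀ _ hav]
        refine ⟨g, ?_, h5⟩
        rw [hB]
        refine ⟨hCf' g hgV (by rw [h5]; exact hm), ?_⟩
        rw [sq_V D hgV, hg2, hg3, ← mul_assoc, mul_inv_cancel₀ hg, one_mul, add_self, z_zero])
      rw [h3, card_Z, card_Fq D.hq, sq]

variable {D} in
/-- **level 2** -/
theorem levelTwo [Finite G] (hg0 : gam D = 0) (hO : Amb D O) (X : Next D O)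
    (hsurj : ∀ c, ∃ s ∈ X.S, a D (s * D.t * s⁻¹) = c) {v : G} (hv : v ∈ U D X) :
    HasTwo (n := n) (U D X) v := by
  have hq := four_le D.hq
  refine ⟨U D X ⊓ Subgroup.centralizer {v}, inf_le_left, fun c hc => (mem_cent.mp hc).2, ?_,
    W D, ?_, ?_, ?_, ?_⟩
  · exact (Nat.pow_le_pow_right (by omega) (by norm_num)).trans (card_le_cent_U hg0 hO X hsurj hv)
  · intro y hy
    rw [mem_cent]
    exact ⟨W_le_U D X hy, ((mem_U D).mp hv).2 y hy⟩
  · intro y hy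
    rw [W_sq D hy, hg0, zero_mul, z_zero]
  · intro y hy c hc
    exact ((mem_U D).mp (mem_cent.mp hc).1).2 y hy
  · rw [card_W]

end Cfsg.Agent.StdU3.TermTwo
end

-- part: StdU3/Outer
section
/-!
# Involutions of `C(t)` acting on `P / Z` as `b ↦ c bar b`
-/

set_option autoImplicit false
set_option linter.unusedSectionVars false

namespace Cfsg.Agent.StdU3.Outer

open Cfsg.Agent.StdU3.Field Cfsg.Agent.StdU3.PreDef Cfsg.Agent.StdU3.LevelOne
open Cfsg.Agent.StdU3.LevelOneW Cfsg.Agent.StdU3.NormQ Cfsg.Agent.StdU3.Kernel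
open Cfsg.Agent.StdU3.Next Cfsg.Agent.StdU3.LevelTwo

section field
variable {K : Type*} [Field K] [Fintype K] [CharP K 2] {n : ℕ}

/-- fixed elements are fourth powers of fixed elements. -/
theorem exists_fourth (h : Qd K n) {m : K} (hm : bar n m = m) : ∃ l, bar n l = l ∧ l ^ 4 = m := by
  refine ⟨m ^ (2 ^ (n - 2)), by rw [bar_pow, hm], ?_⟩
  have h2 := h.hn
  have h3 : 2 ^ (n - 2) * 4 = 2 ^ n := by
    have : n = (n - 2) + 2 := by omega
    conv_rhs => rw [this]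
    rw [pow_add]
    norm_num
  rw [← pow_mul, h3]
  exact hm

/-- Hilbert 90. -/
theorem exists_line (h : Qd K n) {c : K} (hc : N n c = 1) : ∃ c0, c0 ≠ 0 ∧ c * bar n c0 = c0 := by
  obtain ⟨x, hx⟩ := exists_Tr_one h
  by_cases h1 : c = 1
  · exact ⟨1, one_ne_zero, by rw [h1, bar_one, mul_one]⟩
  · refine ⟨1 + c, fun h2 => h1 (Field.add_eq_zero.mp h2).symm, ?_⟩
    rw [bar_add, bar_one, mul_add, mul_one, ← N_def, hc, add_comm]

theorem line_eq {c c0 : K} (hc0 : c0 ≠ 0) (h0 : c * bar n c0 = c0) {x : K}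
    (hx : c * bar n x = x) : ∃ l, bar n l = l ∧ x = l * c0 := by
  refine ⟨x * c0⁻¹, ?_, by rw [mul_assoc, inv_mul_cancel₀ hc0, mul_one]⟩
  have hc : c ≠ 0 := by
    rintro rfl
    rw [zero_mul] at h0
    exact hc0 h0.symm
  have hb0 : bar n c0 ≠ 0 := fun h' => hc0 (bar_eq_zero h')
  rw [bar_mul, bar_inv]
  have e1 : bar n x = c⁻¹ * x := by
    rw [eq_inv_mul_iff_mul_eq₀ hc]; exact hx
  have e2 : bar n c0 = c⁻¹ * c0 := by
    rw [eq_inv_mul_iff_mul_eq₀ hc]; exact h0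
  rw [e1, e2]
  field_simp

theorem exists_coboundary (h : Qd K n) {c x : K} (hc : N n c = 1) (hx : c * bar n x = x) :
    ∃ r, r + c * bar n r = x := by
  obtain ⟨c0, hc0, h0⟩ := exists_line h hc
  obtain ⟨l, hl, rfl⟩ := line_eq hc0 h0 hx
  obtain ⟨y, hy⟩ := exists_Tr_one h
  refine ⟨l * y * c0, ?_⟩
  have : c * bar n (l * y * c0) = (bar n (l * y)) * (c * bar n c0) := by
    rw [bar_mul n (l * y) c0]; ring
  rw [this, h0, bar_mul, hl]
  rw [Tr_def] at hy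
  have : l * y * c0 + l * bar n y * c0 = l * (y + bar n y) * c0 := by ring
  rw [this, hy, mul_one]

theorem Tr_line {c x y : K} (h : Qd K n) (hc : N n c = 1) (hx : c * bar n x = x)
    (hy : c * bar n y = y) : Tr n (x * bar n y) = 0 := by
  obtain ⟨c0, hc0, h0⟩ := exists_line h hc
  obtain ⟨l, hl, rfl⟩ := line_eq hc0 h0 hx
  obtain ⟨m, hm, rfl⟩ := line_eq hc0 h0 hy
  have : l * c0 * bar n (m * c0) = (l * m) * N n c0 := by
    rw [bar_mul, hm, N_def]; ring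
  rw [this, Tr_of_fixed (fixed_mul (fixed_mul hl hm) (fixed_N h _))]

/-- norms of the elements of the line. -/
theorem exists_N_line (h : Qd K n) {c b : K} (hc : N n c = 1) (hb : bar n b = b) :
    ∃ x, c * bar n x = x ∧ N n x = b := by
  obtain ⟨c0, hc0, h0⟩ := exists_line h hc
  obtain ⟨l, hl, h4⟩ := exists_fourth h (fixed_mul hb (fixed_inv (fixed_N h c0)))
  refine ⟨l ^ 2 * c0, ?_, ?_⟩
  · rw [bar_mul, bar_pow, hl]
    calc c * (l ^ 2 * bar n c0) = l ^ 2 * (c * bar n c0) := by ring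
      _ = l ^ 2 * c0 := by rw [h0]
  · have hl2 : bar n (l ^ 2) = l ^ 2 := by rw [bar_pow, hl]
    rw [N_mul, N_of_fixed hl2, ← pow_mul, h4, mul_assoc, inv_mul_cancel₀ (N_ne_zero hc0), mul_one]

end field

variable {G : Type*} [Group G] {K : Type*} [Field K] [Fintype K] [CharP K 2] {n : ℕ}
variable {D : Pre G K n} {O : Subgroup G}

/-- an outer involution of `C(t)`. -/
structure Out (D : Pre G K n) (x : G) (c : K) : Prop where
  comm : x * D.t = D.t * x
  sq : x * x = 1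
  norm : Norm D x
  act : ∀ b, A D x b = c * bar n b

variable {x : G} {c : K} (h : Out D x c)

include h

theorem Out.N_c : N n c = 1 := by
  have h1 : A D (x * x) 1 = A D x (A D x 1) := A_mul D h.norm h.norm 1
  rw [h.sq, A_one, h.act, h.act, bar_one, mul_one] at h1
  exact h1.symm

theorem Out.c_ne : c ≠ 0 := by
  rintro rfl
  have := h.N_c
  rw [N_zero] at this
  exact zero_ne_one this

theorem Out.conj_t : x * D.t * x⁻¹ = D.t := by rw [h.comm]; group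

theorem Out.inv_eq : x⁻¹ = x := by rw [inv_eq_iff_mul_eq_one, h.sq]

theorem Out.th_eq {b : K} (hb : bar n b = b) : th D x b = b := by
  obtain ⟨y, rfl⟩ := exists_norm D.hq hb
  rw [← N_A D h.norm, h.act, N_mul, h.N_c, one_mul, N_bar D.hq]

theorem Out.conj_z (b : K) : x * D.z b * x⁻¹ = D.z b := by
  obtain ⟨b', hb', hbb⟩ := z_fixed D b
  rw [hbb, th_conj D h.norm, h.th_eq hb']

theorem Out.comm_z (b : K) : x * D.z b = D.z b * x := mul_inv_eq_iff_eq_mul.mp (h.conj_z b)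

theorem Out.a_conj {g : G} (hg : g ∈ D.Q) : a D (x * g * x⁻¹) = c * bar n (a D g) := by
  rw [NormQ.a_conj D h.norm hg, h.act, h.conj_t, a_t, mul_zero, add_zero]

theorem Out.psi_eq (b : K) : psi D x b = 0 := by
  rw [rel_psi D h.norm, h.conj_t, a_t, zero_mul, Tr_zero]

theorem Out.u_conj {g : G} (hg : g ∈ D.Q) : u D (x * g * x⁻¹) = u D g := by
  rw [u_conj' D h.norm hg, h.psi_eq, h.conj_t, u_t, mul_zero, add_zero, add_zero,
    h.th_eq (u_fixed D hg)]

theorem Out.P_mem {p : G} (hp : p ∈ D.P) : x * p * x⁻¹ ∈ D.P := by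
  have hpQ := D.P_le hp
  have hu : u D (x * p * x⁻¹) = 0 := by rw [h.u_conj hpQ, u_P D hp]
  rcases mem_T_of_u D (h.norm.fwd p hpQ) hu with h1 | h1
  · exact h1
  · exfalso
    have h2 := e_P D h1
    rw [e_mul D (h.norm.fwd p hpQ) D.Q_t, e_conj D h.norm, e_P D hp, e_t, zero_add] at h2
    exact one_ne_zero h2

theorem Out.ca_conj {p : G} (hp : p ∈ D.P) : D.ca (x * p * x⁻¹) = c * bar n (D.ca p) := by
  rw [← a_P D (h.P_mem hp), h.a_conj (D.P_le hp), a_P D hp]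

theorem Out.not_N2 : x ∉ N2 D := by
  intro hx
  have h1 := hx.2
  have hc : c = 1 := by
    have := h1 1
    rw [h.act, bar_one, mul_one] at this
    exact this
  obtain ⟨y, hy⟩ := exists_Tr_one D.hq
  have h2 := h1 y
  rw [h.act, hc, one_mul] at h2
  rw [Tr_of_fixed h2] at hy
  exact zero_ne_one hy

/-! ### The action on `W` -/

theorem Out.exists_rho (v : K) (hv : bar n v = v) :
    ∃ r, bar n r = r ∧ ∀ y ∈ W D, u D y = v → x * y * x⁻¹ = D.z r * y := by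
  obtain ⟨y, hy, rfl⟩ := W_surj D hv
  have hyQ := W_le D hy
  obtain ⟨r, hr, h1⟩ := exists_z_mul D (h.norm.fwd y hyQ) hyQ
    (by rw [h.a_conj hyQ, a_W D hy, bar_zero, mul_zero])
    (by rw [h.u_conj hyQ]) (by rw [e_conj D h.norm])
  refine ⟨r, hr, fun y' hy' hu => ?_⟩
  have hyQ' := W_le D hy'
  obtain ⟨b, hb, h2⟩ := exists_z_mul D hyQ' hyQ (by rw [a_W D hy, a_W D hy']) hu
    (by rw [e_W D hy, e_W D hy'])
  rw [h2, NormQ.conj_mul, h.conj_z, h1, ← mul_assoc, ← mul_assoc, z_comm D b r]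

/-- `x` acts on `W` by `w ↦ z (r u(w)) w`. -/
theorem Out.exists_r [Finite G] (hO : Amb D O) :
    ∃ r, bar n r = r ∧ ∀ y ∈ W D, x * y * x⁻¹ = D.z (r * u D y) * y := by
  classical
  choose rho hrf hrs using h.exists_rho
  -- `rho` on multiples
  have hkey : ∀ (l : Kˣ) (hl : bar n (l : K) = l) (v : K) (hv : bar n v = v),
      ∃ j : K, ∀ (v : K) (hv : bar n v = v) (hv' : bar n ((l : K) ^ 2 * v) = (l : K) ^ 2 * v),
        rho ((l : K) ^ 2 * v) hv' = (l : K) ^ 2 * (rho v hv + j * v) := by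
    intro l hl v0 hv0
    have hd := norm_h D l
    set d := D.h l with hdd
    have hyN : x * d * x⁻¹ * d⁻¹ ∈ N2 D := by
      refine ⟨Norm.mul D (Norm.mul D (Norm.mul D h.norm hd) (Norm.inv D h.norm)) (Norm.inv D hd),
        fun b => ?_⟩
      rw [A_mul D (Norm.mul D (Norm.mul D h.norm hd) (Norm.inv D h.norm)) (Norm.inv D hd),
        A_mul D (Norm.mul D h.norm hd) (Norm.inv D h.norm), A_mul D h.norm hd]
      have e1 : ∀ b, A D x (A D d b) = A D d (A D x b) := by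
        intro b
        rw [hdd, A_h, h.act, h.act, A_h, bar_mul, w_of_fixed hl, hl]; ring
      rw [e1, A_inv_right D h.norm, A_inv_right D hd]
    have hdt : d * D.t = D.t * d := by rw [hdd]; exact (D.t_h l).symm
    have hyt : x * d * x⁻¹ * d⁻¹ * D.t = D.t * (x * d * x⁻¹ * d⁻¹) := by
      have c1 : Commute x D.t := h.comm
      have c2 : Commute d D.t := hdt
      exact (((c1.mul_left c2).mul_left c1.inv_left).mul_left c2.inv_left)
    obtain ⟨q, hq, k, hk, hqk⟩ := dec_of_comm D hO hyN hyt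
    refine ⟨e D q, fun v hv hv' => ?_⟩
    obtain ⟨y, hy, rfl⟩ := W_surj D hv
    have hyQ := W_le D hy
    have hdy : d * y * d⁻¹ ∈ W D := by rw [hdd]; exact W_h D l hy
    have hud : u D (d * y * d⁻¹) = (l : K) ^ 2 * u D y := by
      rw [hdd, u_h D l hyQ, N_of_fixed hl]
    have h1 := hrs _ hv' _ hdy hud
    have hk' := ((mem_D1 D).mp hk).2
    -- the action of `q k` on `W`
    have hact : ∀ y ∈ W D, (x * d * x⁻¹ * d⁻¹) * y * (x * d * x⁻¹ * d⁻¹)⁻¹ =
        D.z (e D q * u D y) * y := by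
      intro y hy
      have hyQ := W_le D hy
      rw [hqk]
      have e1 : q * k * y * (q * k)⁻¹ = q * (k * y * k⁻¹) * q⁻¹ := by group
      have e2 : k * y * k⁻¹ = y := by rw [← hk' y hyQ]; group
      rw [e1, e2, comm_eq D hq hyQ, a_W D hy, e_W D hy, bar_zero, mul_zero, Tr_zero, zero_mul,
        add_zero, zero_add]
      group
    have h2 : x * (d * y * d⁻¹) * x⁻¹ = (x * d * x⁻¹ * d⁻¹) * (d * (x * y * x⁻¹) * d⁻¹) *
        (x * d * x⁻¹ * d⁻¹)⁻¹ := by group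
    have h3 : d * (x * y * x⁻¹) * d⁻¹ = D.z ((l : K) ^ 2 * rho (u D y) hv) * (d * y * d⁻¹) := by
      rw [hrs _ hv y hy rfl, NormQ.conj_mul, hdd, h_z D l (hrf _ hv), N_of_fixed hl]
    rw [h2, h3, NormQ.conj_mul, hact _ hdy, hud] at h1
    have hz := N2_z D hyN ((l : K) ^ 2 * rho (u D y) hv)
    have h4 : (x * d * x⁻¹ * d⁻¹) * D.z ((l : K) ^ 2 * rho (u D y) hv) *
        (x * d * x⁻¹ * d⁻¹)⁻¹ = D.z ((l : K) ^ 2 * rho (u D y) hv) := by
      rw [hz]; group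
    rw [h4, ← mul_assoc, ← D.z_add] at h1
    have h5 := z_eq D (fixed_add (fixed_mul (by rw [bar_pow, hl]) (hrf _ hv))
      (fixed_mul (e_fixed D q) hv')) (hrf _ hv') (mul_right_cancel h1)
    rw [← h5]; ring
  have hkey2 : ∀ (v : K) (hv : bar n v = v), rho v hv = v * rho 1 (bar_one n) := by
    intro v hv
    by_cases hv0 : v = 0
    · subst hv0
      rw [zero_mul]
      have h1 := hrs 0 hv 1 (W D).one_mem (u_one D)
      have h2 : D.z (rho 0 hv) = 1 := by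
        have : x * 1 * x⁻¹ = 1 := by group
        rw [this, mul_one] at h1
        exact h1.symm
      exact D.z_inj _ (hrf _ hv) h2
    · obtain ⟨l, hl, h4⟩ := exists_fourth D.hq hv
      have hl0 : l ≠ 0 := by
        rintro rfl
        rw [zero_pow (by norm_num)] at h4
        exact hv0 h4.symm
      obtain ⟨j, hj⟩ := hkey (Units.mk0 l hl0) hl 1 (bar_one n)
      have hl2 : bar n (l ^ 2) = l ^ 2 := by rw [bar_pow, hl]
      have h1 := hj 1 (bar_one n) (by show bar n (l ^ 2 * 1) = l ^ 2 * 1; rw [mul_one, hl2])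
      have h2 := hj (l ^ 2 * 1) (by rw [mul_one, hl2]) (by
        show bar n (l ^ 2 * (l ^ 2 * 1)) = l ^ 2 * (l ^ 2 * 1)
        rw [mul_one, bar_mul, hl2])
      have hl' : ((Units.mk0 l hl0 : Kˣ) : K) = l := rfl
      simp only [hl'] at h1 h2
      rw [h1] at h2
      have h3 : l ^ 2 * (l ^ 2 * 1) = v := by rw [← h4]; ring
      simp only [h3] at h2
      rw [h2]
      have h5 : l ^ 2 * (l ^ 2 * (rho 1 (bar_one n) + j * 1) + j * (l ^ 2 * 1)) =
          l ^ 4 * rho 1 (bar_one n) + (l ^ 4 * j + l ^ 4 * j) := by ring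
      rw [h5, add_self, add_zero, h4]
  refine ⟨rho 1 (bar_one n), hrf _ _, fun y hy => ?_⟩
  have h1 := hrs (u D y) (u_fixed D (W_le D hy)) y hy rfl
  rw [hkey2] at h1
  rw [h1, mul_comm (u D y)]

/-! ### The action on `P` -/

/-- `x` inverts the preimage of the fixed line. -/
theorem Out.inverts {p : G} (hp : p ∈ D.P) (hl : c * bar n (D.ca p) = D.ca p) :
    x * p * x⁻¹ = p⁻¹ := by
  obtain ⟨r, hr⟩ := exists_coboundary D.hq h.N_c hl
  obtain ⟨p1, hp1, rfl⟩ := D.ca_surj r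
  have hm : p1⁻¹ * (x * p1 * x⁻¹) ∈ D.P := mul_mem (inv_mem hp1) (h.P_mem hp1)
  have hca : D.ca (p1⁻¹ * (x * p1 * x⁻¹)) = D.ca p := by
    rw [D.ca_mul _ (inv_mem hp1) _ (h.P_mem hp1), ca_inv D hp1, h.ca_conj hp1, hr]
  obtain ⟨b, hb, h1⟩ := eq_z_mul D hp hm hca.symm
  have h2 : x * (p1⁻¹ * (x * p1 * x⁻¹)) * x⁻¹ = (p1⁻¹ * (x * p1 * x⁻¹))⁻¹ := by
    have e1 : x * (p1⁻¹ * (x * p1 * x⁻¹)) * x⁻¹ = x * p1⁻¹ * (x * p1 * (x * x)⁻¹) := by group
    have e2 : (p1⁻¹ * (x * p1 * x⁻¹))⁻¹ = x * p1⁻¹ * (x⁻¹ * p1) := by group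
    rw [e1, e2, h.sq, inv_one, mul_one, h.inv_eq]
  have h3 : (D.z b * (p1⁻¹ * (x * p1 * x⁻¹)))⁻¹ = D.z b * (p1⁻¹ * (x * p1 * x⁻¹))⁻¹ := by
    rw [mul_inv_rev (D.z b), z_inv, D.Q_Z _ (inv_mem (D.P_le hm))]
  rw [h1, NormQ.conj_mul, h.conj_z, h2, h3]

/-- the elements `p x`, `p` in the preimage of the fixed line, are conjugate to `x` under `P`. -/
theorem Out.conj_P {p : G} (hp : p ∈ D.P) (hl : c * bar n (D.ca p) = D.ca p) :
    ∃ y ∈ D.P, y * x * y⁻¹ = p * x := by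
  obtain ⟨r, hr⟩ := exists_coboundary D.hq h.N_c hl
  obtain ⟨p1, hp1, rfl⟩ := D.ca_surj r
  have hm : p1⁻¹ * (x * p1 * x⁻¹) ∈ D.P := mul_mem (inv_mem hp1) (h.P_mem hp1)
  have hca : D.ca (p1⁻¹ * (x * p1 * x⁻¹)) = D.ca p := by
    rw [D.ca_mul _ (inv_mem hp1) _ (h.P_mem hp1), ca_inv D hp1, h.ca_conj hp1, hr]
  obtain ⟨b, hb, h1⟩ := eq_z_mul D hp hm hca.symm
  obtain ⟨s, hs, hsb⟩ := exists_N_line D.hq h.N_c hb
  obtain ⟨p2, hp2, rfl⟩ := D.ca_surj s
  -- `p2 x p2⁻¹ = p2² x = z b x`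
  have h2 : p2 * x * p2⁻¹ = D.z b * x := by
    have e1 := h.inverts (inv_mem hp2) (by rw [ca_inv D hp2]; exact hs)
    have e2 : x * p2⁻¹ = p2 * x := by
      have := mul_inv_eq_iff_eq_mul.mp e1
      rw [this, inv_inv]
    rw [mul_assoc, e2, ← mul_assoc, D.P_sq p2 hp2, hsb]
  refine ⟨p1⁻¹ * p2, mul_mem (inv_mem hp1) hp2, ?_⟩
  have h3 : p1⁻¹ * p2 * x * (p1⁻¹ * p2)⁻¹ = p1⁻¹ * (p2 * x * p2⁻¹) * p1 := by group
  rw [h3, h2, h1]
  have h4 : p1⁻¹ * D.z b = D.z b * p1⁻¹ := D.Q_Z _ (inv_mem (D.P_le hp1)) b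
  have h5 : p1⁻¹ * (D.z b * x) * p1 = (p1⁻¹ * D.z b) * x * p1 := by group
  rw [h5, h4]; group

end Cfsg.Agent.StdU3.Outer
end
end

-- part: StdU3/MainDef
section
set_option linter.all false

/-!
# The local analysis of S1771: interfaces of the final assembly

`G = E ⟨t⟩`, `E` normal and perfect. Output: `t ∉ E` and a strongly closed subgroup in a Sylow
2-subgroup of `E`, either of class two and nonabelian (`NonAb`), or abelian (`Ab`).
-/

set_option autoImplicit false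

namespace Cfsg.Agent.StdU3.MainDef

open Subgroup

variable {G : Type*} [Group G]

/-- `G = E ⟨t⟩` with `E` normal and perfect. -/
structure Glob (t : G) (E : Subgroup G) : Prop where
  normal : E.Normal
  gen : ∀ g : G, g ∈ E ∨ t * g ∈ E
  perf : commutator E = ⊤

/-- the nonabelian output. -/
def NonAb (E : Subgroup G) : Prop := ∃ (S : Sylow 2 E) (U : Subgroup E),
  Cfsg.IsStronglyClosed U (S : Subgroup E) ∧ ¬ IsMulCommutative U ∧
  ⁅(⊤ : Subgroup U), ⊤⁆ ≤ Subgroup.center U ∧ 16 ≤ Nat.card U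

/-- the abelian output (the Sylow 2-subgroups of `E` are not commutative in our situation). -/
def Ab (E : Subgroup G) : Prop := ∃ (S : Sylow 2 E) (W : Subgroup E),
  Cfsg.IsStronglyClosed W (S : Subgroup E) ∧ IsMulCommutative W ∧ W ≠ ⊥ ∧
  16 ≤ Nat.card (S : Subgroup E)

/-- **the output of the local analysis.** -/
def Out (t : G) (E : Subgroup G) : Prop := t ∉ E ∧ (NonAb E ∨ Ab E)

end Cfsg.Agent.StdU3.MainDef
end

-- part: StdU3/Tower/GBase_mg
section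
prune_inst 0xc0100000400000080000201210001e4282000002000c0000c001000004880c600d002820802000115800020400310060130000000000000000200000011c04810008000000008000000000000000000000000000000000000000000000000000200000000
set_option linter.all false
open scoped Cfsg.Agent.FastGrp

-- part: StdU3/Tower/Pairing
section
/-!
# Equivariant biadditive maps of a finite field of characteristic two

`f (ν x) (ν y) = ν f x y` for all `ν ≠ 0` implies `f x y ^ 2 = c x y` (Hua's identity).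
-/

set_option autoImplicit false

namespace Cfsg.Agent.StdU3.Tower.Pairing

section field

variable {F : Type*} [Field F] [CharP F 2]

theorem sq_of_hua (φ : F → F) (hadd : ∀ x y, φ (x + y) = φ x + φ y)
    (hadd' : ∀ x y, x ≠ 0 → y ≠ 0 → x + y ≠ 0 →
      (x + y) * φ ((x + y)⁻¹) = x * φ x⁻¹ + y * φ y⁻¹) (x : F) (hx : x ≠ 0) :
    x * x * φ ((x * x)⁻¹) = x * φ 1 := by
  have h2 : ∀ a : F, a + a = 0 := fun a => CharTwo.add_self_eq_zero a
  by_cases h1 : x = 1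
  · subst h1; simp
  have hx1 : x + 1 ≠ 0 := by
    intro h
    apply h1
    have := h2 (1 : F)
    linear_combination h - this
  have hxx : x * x + x ≠ 0 := by
    have : x * x + x = x * (x + 1) := by ring
    rw [this]; exact mul_ne_zero hx hx1
  -- `1/x + 1/(x+1) = 1/(x²+x)`
  have e1 : x⁻¹ + (x + 1)⁻¹ = (x * x + x)⁻¹ := by
    field_simp
    have := h2 x
    linear_combination this
  have e2 : φ x⁻¹ + φ (x + 1)⁻¹ = φ (x * x + x)⁻¹ := by rw [← hadd, e1]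
  have e3 := hadd' x 1 hx one_ne_zero hx1
  have e4 := hadd' (x * x) x (mul_ne_zero hx hx) hx hxx
  rw [← e2] at e4
  rw [inv_one, one_mul] at e3
  have e5 : (x * x + x) * (φ x⁻¹ + φ (x + 1)⁻¹) =
      (x + 1) * (x * φ x⁻¹) + x * ((x + 1) * φ (x + 1)⁻¹) := by ring
  rw [e5, e3] at e4
  have h3 := h2 (x * (x * φ x⁻¹))
  linear_combination -e4 + h3

theorem biadditive_aux (f : F → F → F) (h1 : ∀ x x' y, f (x + x') y = f x y + f x' y)
    (h2 : ∀ x y y', f x (y + y') = f x y + f x y') (heq : ∀ ν x y, ν ≠ 0 → f (ν * x) (ν * y) = ν * f x y)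
    (hsq : ∀ a : F, ∃ b, a = b * b) (x y : F) : f x y * f x y = f 1 1 * f 1 1 * (x * y) := by
  have hz1 : ∀ y, f 0 y = 0 := by
    intro y
    have := h1 0 0 y
    rw [add_zero] at this
    exact left_eq_add.1 this
  have hz2 : ∀ x, f x 0 = 0 := by
    intro x
    have := h2 x 0 0
    rw [add_zero] at this
    exact left_eq_add.1 this
  have hstar : ∀ x, x ≠ 0 → f x 1 = x * f 1 x⁻¹ := by
    intro x hx
    rw [← heq x 1 x⁻¹ hx, mul_one, mul_inv_cancel₀ hx]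
  have key : ∀ a, f a 1 * f a 1 = f 1 1 * f 1 1 * a := by
    intro a
    obtain ⟨b, rfl⟩ := hsq a
    by_cases hb : b = 0
    · subst hb; simp [hz1]
    have e1 := sq_of_hua (f 1) (h2 1) (fun x y hx hy hxy => by
      rw [← hstar x hx, ← hstar y hy, ← hstar _ hxy, h1]) b hb
    rw [hstar _ (mul_ne_zero hb hb), e1]
    ring
  by_cases hy : y = 0
  · subst hy; simp [hz2]
  have e1 : f x y = y * f (x * y⁻¹) 1 := by
    rw [← heq y _ _ hy, mul_one, mul_comm x, mul_inv_cancel_left₀ hy]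
  rw [e1]
  have e2 := key (x * y⁻¹)
  calc y * f (x * y⁻¹) 1 * (y * f (x * y⁻¹) 1) = y * y * (f (x * y⁻¹) 1 * f (x * y⁻¹) 1) := by ring
    _ = y * y * (f 1 1 * f 1 1 * (x * y⁻¹)) := by rw [e2]
    _ = f 1 1 * f 1 1 * (x * (y * (y * y⁻¹))) := by ring
    _ = _ := by rw [mul_inv_cancel₀ hy, mul_one]

/-- every element of a finite field of characteristic two is a square -/
theorem exists_sq [Finite F] (a : F) : ∃ b, a = b * b := by
  have : Function.Injective (fun b : F => b * b) := by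
    intro b c h
    have h1 : (b + c) * (b + c) = 0 := by
      have h2 : b * b = c * c := h
      have h3 := CharTwo.add_self_eq_zero (c * c)
      have h4 := CharTwo.add_self_eq_zero (b * c)
      linear_combination h2 + h3 + h4
    have h2 : b + c = 0 := by simpa only [] using mul_self_eq_zero.1 h1
    have h3 := CharTwo.add_self_eq_zero c
    linear_combination h2 - h3
  obtain ⟨b, hb⟩ := Finite.surjective_of_injective this a
  exact ⟨b, hb.symm⟩

theorem biadditive [Finite F] (f : F → F → F) (h1 : ∀ x x' y, f (x + x') y = f x y + f x' y)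
    (h2 : ∀ x y y', f x (y + y') = f x y + f x y')
    (heq : ∀ ν x y, ν ≠ 0 → f (ν * x) (ν * y) = ν * f x y) :
    ∃ c, ∀ x y, f x y * f x y = c * (x * y) :=
  ⟨_, fun x y => biadditive_aux f h1 h2 heq exists_sq x y⟩

end field

/-- The group theoretic form. -/
theorem pairing {G : Type*} [Group G] {F : Type*} [Field F] [CharP F 2] [Finite F] (z : F → G)
    (z_add : ∀ b c, z (b + c) = z b * z c) (z_inj : ∀ b c, z b = z c → b = c)
    (A B : Subgroup G) (α β : G → F) (γ : G → G → G)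
    (hα : ∀ a ∈ A, ∀ a' ∈ A, α (a * a') = α a + α a')
    (hβ : ∀ a ∈ B, ∀ a' ∈ B, β (a * a') = β a + β a')
    (hαs : ∀ x, ∃ a ∈ A, α a = x) (hβs : ∀ x, ∃ a ∈ B, β a = x)
    (hγ : ∀ a ∈ A, ∀ b ∈ B, ∃ u, γ a b = z u)
    (hγ1 : ∀ a ∈ A, ∀ a' ∈ A, ∀ b ∈ B, γ (a * a') b = γ a b * γ a' b)
    (hγ2 : ∀ a ∈ A, ∀ b ∈ B, ∀ b' ∈ B, γ a (b * b') = γ a b * γ a b')
    (hk1 : ∀ a ∈ A, ∀ b ∈ B, α a = 0 → γ a b = 1) (hk2 : ∀ a ∈ A, ∀ b ∈ B, β b = 0 → γ a b = 1)
    (heq : ∀ ν : F, ν ≠ 0 → ∃ h : G, (∀ a ∈ A, h * a * h⁻¹ ∈ A ∧ α (h * a * h⁻¹) = ν * α a) ∧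
      (∀ b ∈ B, h * b * h⁻¹ ∈ B ∧ β (h * b * h⁻¹) = ν * β b) ∧
      ∀ a ∈ A, ∀ b ∈ B, ∀ u, γ a b = z u → γ (h * a * h⁻¹) (h * b * h⁻¹) = z (ν * u)) :
    ∃ c : F, ∀ a ∈ A, ∀ b ∈ B, ∀ u, γ a b = z u → u * u = c * (α a * β b) := by
  choose s hsA hs using hαs
  choose r hrB hr using hβs
  have hz0 : z 0 = 1 := by
    have := z_add 0 0
    rw [add_zero] at this
    exact left_eq_mul.1 this
  have hα1 : α 1 = 0 := by
    have := hα 1 A.one_mem 1 A.one_mem
    rw [mul_one] at this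
    exact left_eq_add.1 this
  have hβ1 : β 1 = 0 := by
    have := hβ 1 B.one_mem 1 B.one_mem
    rw [mul_one] at this
    exact left_eq_add.1 this
  have h2 : ∀ a : F, a + a = 0 := fun a => CharTwo.add_self_eq_zero a
  have hinvα : ∀ a ∈ A, α a⁻¹ = α a := by
    intro a ha
    have := hα a ha a⁻¹ (A.inv_mem ha)
    rw [mul_inv_cancel, hα1] at this
    have h3 := h2 (α a)
    linear_combination -this - h3
  have hinvβ : ∀ a ∈ B, β a⁻¹ = β a := by
    intro a ha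
    have := hβ a ha a⁻¹ (B.inv_mem ha)
    rw [mul_inv_cancel, hβ1] at this
    have h3 := h2 (β a)
    linear_combination -this - h3
  -- `γ` depends on the coordinates only
  have hind1 : ∀ a ∈ A, ∀ a' ∈ A, ∀ b ∈ B, α a = α a' → γ a b = γ a' b := by
    intro a ha a' ha' b hb h
    have e1 : a = (a * a'⁻¹) * a' := by group
    have e2 : α (a * a'⁻¹) = 0 := by
      rw [hα a ha _ (A.inv_mem ha'), hinvα a' ha', h, h2]
    rw [e1, hγ1 _ (A.mul_mem ha (A.inv_mem ha')) _ ha' b hb,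
      hk1 _ (A.mul_mem ha (A.inv_mem ha')) b hb e2, one_mul]
  have hind2 : ∀ a ∈ A, ∀ b ∈ B, ∀ b' ∈ B, β b = β b' → γ a b = γ a b' := by
    intro a ha b hb b' hb' h
    have e1 : b = (b * b'⁻¹) * b' := by group
    have e2 : β (b * b'⁻¹) = 0 := by
      rw [hβ b hb _ (B.inv_mem hb'), hinvβ b' hb', h, h2]
    rw [e1, hγ2 a ha _ (B.mul_mem hb (B.inv_mem hb')) _ hb',
      hk2 a ha _ (B.mul_mem hb (B.inv_mem hb')) e2, one_mul]
  have hind : ∀ a ∈ A, ∀ a' ∈ A, ∀ b ∈ B, ∀ b' ∈ B, α a = α a' → β b = β b' → γ a b = γ a' b' :=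
    fun a ha a' ha' b hb b' hb' h h' => (hind1 a ha a' ha' b hb h).trans (hind2 a' ha' b hb b' hb' h')
  choose g hg using fun x y => hγ (s x) (hsA x) (r y) (hrB y)
  obtain ⟨c, hc⟩ := biadditive g (fun x x' y => by
      apply z_inj
      rw [z_add, ← hg, ← hg, ← hg, ← hγ1 _ (hsA x) _ (hsA x') _ (hrB y)]
      exact hind1 _ (hsA _) _ (A.mul_mem (hsA x) (hsA x')) _ (hrB y)
        (by rw [hα _ (hsA x) _ (hsA x'), hs, hs, hs]))
    (fun x y y' => by
      apply z_inj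
      rw [z_add, ← hg, ← hg, ← hg, ← hγ2 _ (hsA x) _ (hrB y) _ (hrB y')]
      exact hind2 _ (hsA _) _ (hrB _) _ (B.mul_mem (hrB y) (hrB y'))
        (by rw [hβ _ (hrB y) _ (hrB y'), hr, hr, hr]))
    (fun ν x y hν => by
      apply z_inj
      obtain ⟨h, h3, h4, h5⟩ := heq ν hν
      rw [← h5 _ (hsA x) _ (hrB y) _ (hg x y), ← hg]
      refine hind _ (hsA _) _ (h3 _ (hsA x)).1 _ (hrB _) _ (h4 _ (hrB y)).1 ?_ ?_
      · rw [(h3 _ (hsA x)).2, hs, hs]
      · rw [(h4 _ (hrB y)).2, hr, hr])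
  refine ⟨c, fun a ha b hb u hu => ?_⟩
  have h6 : u = g (α a) (β b) := by
    apply z_inj
    rw [← hu, ← hg]
    exact hind _ ha _ (hsA _) _ hb _ (hrB _) (hs _).symm (hr _).symm
  rw [h6]
  exact hc _ _

end Cfsg.Agent.StdU3.Tower.Pairing
end

-- part: StdU3/Tower/Base
section
/-!
# The tower in `H = C_G(P)`

`HB`: a group `H` with an involution `t` whose centraliser in `H` is `⟨t⟩ × Z × K0`, `K0` of odd order,
`Z = z(F)` central in `H`, and a torus acting on it.  `Lvl B k`: a homocyclic abelian subgroup `W` of exponent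
`2 ^ (k + 1)` with `Ω₁(W) = Z`, inverted by `t`.
-/

set_option autoImplicit false
set_option linter.unusedSectionVars false

namespace Cfsg.Agent.StdU3.Tower.Base

/-- the base of the tower -/
structure HB (G : Type*) [Group G] (F : Type*) [Field F] (ι : Type*) [CommGroup ι] where
  H : Subgroup G
  z : F → G
  z_add : ∀ b c, z (b + c) = z b * z c
  z_inj : ∀ b, z b = 1 → b = 0
  z_mem : ∀ b, z b ∈ H
  z_cen : ∀ g ∈ H, ∀ b, g * z b = z b * g
  t : G
  t_mem : t ∈ H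
  t_sq : t * t = 1
  t_not : ∀ b, z b ≠ t
  K0 : Subgroup G
  K0_odd : Odd (Nat.card K0)
  K0_le : K0 ≤ H
  K0_t : ∀ k ∈ K0, k * t = t * k
  dec : ∀ g ∈ H, g * t = t * g → ∃ b, ∃ k ∈ K0, g = z b * k ∨ g = t * z b * k
  h : ι → G
  wt : ι → F
  h_H : ∀ i g, g ∈ H ↔ h i * g * (h i)⁻¹ ∈ H
  h_t : ∀ i, h i * t = t * h i
  h_z : ∀ i b, h i * z b * (h i)⁻¹ = z (wt i * b)
  h_e : ∀ i j, (h (i * j))⁻¹ * (h i * h j) ∈ H
  wt_surj : ∀ ν, ν ≠ 0 → ∃ i, wt i = ν

variable {G : Type*} [Group G] {F : Type*} [Field F] {ι : Type*} [CommGroup ι]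

/-- a `2`-group acting on the whole situation -/
structure Rg (B : HB G F ι) (R : Subgroup G) : Prop where
  two : IsPGroup 2 R
  H : ∀ r ∈ R, ∀ g ∈ B.H, r * g * r⁻¹ ∈ B.H
  t : ∀ r ∈ R, r * B.t = B.t * r
  z : ∀ r ∈ R, ∀ b, ∃ c, r * B.z b * r⁻¹ = B.z c
  h : ∀ r ∈ R, ∀ i, ∃ j, ∃ q κ, (∀ g ∈ B.H, q * g = g * q) ∧ κ ∈ B.K0 ∧
    (r * B.h i * r⁻¹ = q * κ * B.h j ∨ r * B.h i * r⁻¹ = q * B.t * κ * B.h j)

/-- a level of the tower -/
structure Lvl (B : HB G F ι) (k : ℕ) where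
  W : Subgroup G
  W_le : W ≤ B.H
  comm : ∀ x ∈ W, ∀ y ∈ W, x * y = y * x
  inv : ∀ x ∈ W, B.t * x * B.t⁻¹ = x⁻¹
  z_mem : ∀ b, B.z b ∈ W
  pw : ∀ x ∈ W, ∃ u, x ^ 2 ^ k = B.z u
  pw_surj : ∀ u, ∃ x ∈ W, x ^ 2 ^ k = B.z u
  pw_ker : ∀ x ∈ W, x ^ 2 ^ k = 1 → ∃ y ∈ W, x = y * y
  h : ι → G
  h_eq : ∀ i, ∃ c ∈ B.K0, h i = c * B.h i
  h_W : ∀ i, ∀ x ∈ W, h i * x * (h i)⁻¹ ∈ W
  h_mul : ∀ i j, ∀ x ∈ W, h (i * j) * x * (h (i * j))⁻¹ = h i * (h j * x * (h j)⁻¹) * (h i)⁻¹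

namespace HB

variable (B : HB G F ι)

theorem t_inv : B.t⁻¹ = B.t := inv_eq_of_mul_eq_one_left B.t_sq

theorem z_zero : B.z 0 = 1 := by
  have := B.z_add 0 0
  rw [add_zero] at this
  exact left_eq_mul.1 this

theorem z_injective {b c : F} (h : B.z b = B.z c) : b = c := by
  have h1 : B.z (b - c) = 1 := by
    have := B.z_add (b - c) c
    rw [sub_add_cancel, h] at this
    exact right_eq_mul.1 this
  have h2 := B.z_inj _ h1
  linear_combination h2

theorem t_ne : B.t ≠ 1 := by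
  intro h
  exact B.t_not 0 (by rw [z_zero, h])

variable [CharP F 2]

theorem z_sq (b : F) : B.z b * B.z b = 1 := by
  rw [← B.z_add, CharTwo.add_self_eq_zero, z_zero]

theorem z_inv (b : F) : (B.z b)⁻¹ = B.z b := inv_eq_of_mul_eq_one_left (B.z_sq b)

/-- the odd group centralises a `2`-group normalised by it if it centralises `Z`: one step. -/
theorem K0_fix {κ x : G} (hκ : κ ∈ B.K0) {u : F} (h : κ * x * κ⁻¹ = x * B.z u) : u = 0 := by
  have hκH := B.K0_le hκ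
  have key : ∀ m : ℕ, κ ^ m * x * (κ ^ m)⁻¹ = x * (B.z u) ^ m := by
    intro m
    induction m with
    | zero => simp
    | succ m ih =>
      have e1 : κ ^ (m + 1) * x * (κ ^ (m + 1))⁻¹ = κ * (κ ^ m * x * (κ ^ m)⁻¹) * κ⁻¹ := by
        rw [pow_succ']; group
      have e2 : κ * (B.z u) ^ m * κ⁻¹ = (B.z u) ^ m := by
        have h3 : Commute κ (B.z u) := B.z_cen κ hκH u
        rw [(h3.pow_right m).eq, mul_inv_cancel_right]
      rw [e1, ih]
      calc κ * (x * B.z u ^ m) * κ⁻¹ = (κ * x * κ⁻¹) * (κ * B.z u ^ m * κ⁻¹) := by group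
        _ = _ := by rw [h, e2, pow_succ', mul_assoc]
  have h1 : κ ^ Nat.card B.K0 = 1 := by
    have h2 : (⟨κ, hκ⟩ : B.K0) ^ Nat.card B.K0 = 1 := pow_card_eq_one'
    exact congrArg Subtype.val h2
  have h2 := key (Nat.card B.K0)
  rw [h1] at h2
  obtain ⟨m, hm⟩ := B.K0_odd
  have h3 : (B.z u) ^ Nat.card B.K0 = B.z u := by
    rw [hm, pow_succ, pow_mul, pow_two, B.z_sq, one_pow, one_mul]
  rw [h3, inv_one, mul_one, one_mul] at h2
  exact B.z_inj _ (left_eq_mul.1 h2)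

end HB

namespace Lvl

variable {B : HB G F ι} {k : ℕ} (L : Lvl B k)

theorem inv' {x : G} (hx : x ∈ L.W) : B.t * x * B.t = x⁻¹ := by
  rw [← L.inv x hx, B.t_inv]

variable [CharP F 2]

theorem t_not (hk : 1 ≤ k) : B.t ∉ L.W := by
  intro ht
  obtain ⟨x, hx, h1⟩ := L.pw_surj 1
  have h2 := L.inv x hx
  rw [L.comm _ ht _ hx, mul_inv_cancel_right] at h2
  have h3 : x ^ 2 = 1 := by
    rw [pow_two]; nth_rewrite 1 [h2]; group
  obtain ⟨m, rfl⟩ : ∃ m, k = m + 1 := ⟨k - 1, by omega⟩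
  rw [pow_succ', pow_mul, h3, one_pow] at h1
  exact one_ne_zero (B.z_inj 1 h1.symm)

/-- the group `⟨t⟩ W` -/
def Y : Subgroup G where
  carrier := {x | x ∈ L.W ∨ x * B.t ∈ L.W}
  one_mem' := Or.inl L.W.one_mem
  mul_mem' := by
    rintro x y (hx | hx) (hy | hy)
    · exact Or.inl (L.W.mul_mem hx hy)
    · right
      rw [mul_assoc]; exact L.W.mul_mem hx hy
    · right
      have e : x * y * B.t = (x * B.t) * (B.t * y * B.t) := by
        have := B.t_sq
        calc x * y * B.t = x * (1 : G) * y * B.t := by group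
          _ = x * (B.t * B.t) * y * B.t := by rw [this]
          _ = _ := by group
      rw [e, L.inv' hy]
      exact L.W.mul_mem hx (L.W.inv_mem hy)
    · left
      have e : x * y = (x * B.t) * (B.t * (y * B.t) * B.t) := by
        have := B.t_sq
        calc x * y = x * (1 : G) * y * (1 : G) := by group
          _ = x * (B.t * B.t) * y * (B.t * B.t) := by rw [this]
          _ = _ := by group
      rw [e, L.inv' hy]
      exact L.W.mul_mem hx (L.W.inv_mem hy)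
  inv_mem' := by
    rintro x (hx | hx)
    · exact Or.inl (L.W.inv_mem hx)
    · right
      have e : x⁻¹ * B.t = B.t * (x * B.t)⁻¹ * B.t := by
        rw [mul_inv_rev, B.t_inv]
        have := B.t_sq
        calc x⁻¹ * B.t = (1 : G) * x⁻¹ * B.t := by group
          _ = (B.t * B.t) * x⁻¹ * B.t := by rw [this]
          _ = _ := by group
      rw [e, L.inv' (L.W.inv_mem hx), inv_inv]
      exact hx

theorem W_le_Y : L.W ≤ L.Y := fun _ h => Or.inl h

theorem t_mem_Y : B.t ∈ L.Y := Or.inr (by rw [B.t_sq]; exact L.W.one_mem)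

theorem Y_le : L.Y ≤ B.H := by
  rintro x (h | h)
  · exact L.W_le h
  · have := B.H.mul_mem (L.W_le h) B.t_mem
    rwa [mul_assoc, B.t_sq, mul_one] at this

theorem wt_sq {x : G} (hx : x * B.t ∈ L.W) : x * x = 1 := by
  have h1 := L.inv' hx
  have h2 : x * x = (x * B.t) * (B.t * (x * B.t) * B.t) := by
    have := B.t_sq
    calc x * x = x * (1 : G) * x * (1 : G) := by group
      _ = x * (B.t * B.t) * x * (B.t * B.t) := by rw [this]
      _ = _ := by group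
  rw [h2, h1, mul_inv_cancel]

/-- the coordinate of an element of `W` -/
noncomputable def β (_L : Lvl B k) (x : G) : F := by
  classical
  exact if h : ∃ u, x ^ 2 ^ k = B.z u then h.choose else 0

theorem β_spec {x : G} (hx : x ∈ L.W) : x ^ 2 ^ k = B.z (L.β x) := by
  have h := L.pw x hx
  rw [β, dif_pos h]
  exact h.choose_spec

theorem β_eq {x : G} (hx : x ∈ L.W) {u : F} (h : x ^ 2 ^ k = B.z u) : L.β x = u :=
  B.z_injective (by rw [← L.β_spec hx, h])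

theorem β_mul {x y : G} (hx : x ∈ L.W) (hy : y ∈ L.W) : L.β (x * y) = L.β x + L.β y := by
  apply L.β_eq (L.W.mul_mem hx hy)
  have h : Commute x y := L.comm x hx y hy
  rw [h.mul_pow, L.β_spec hx, L.β_spec hy, B.z_add]

theorem β_one : L.β 1 = 0 := L.β_eq L.W.one_mem (by rw [one_pow, B.z_zero])

theorem β_inv {x : G} (hx : x ∈ L.W) : L.β x⁻¹ = L.β x := by
  have h := L.β_mul (L.W.inv_mem hx) hx
  rw [inv_mul_cancel, L.β_one] at h
  have := CharTwo.add_self_eq_zero (L.β x)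
  linear_combination -h - this

theorem β_sq {x : G} (hx : x ∈ L.W) : L.β (x * x) = 0 := by
  rw [L.β_mul hx hx, CharTwo.add_self_eq_zero]

theorem β_eq_zero {x : G} (hx : x ∈ L.W) (h : L.β x = 0) : ∃ y ∈ L.W, x = y * y :=
  L.pw_ker x hx (by rw [L.β_spec hx, h, B.z_zero])

theorem β_surj (u : F) : ∃ x ∈ L.W, L.β x = u := by
  obtain ⟨x, hx, h⟩ := L.pw_surj u
  exact ⟨x, hx, L.β_eq hx h⟩

theorem β_conj {g x : G} (hg : g ∈ B.H) (hx : x ∈ L.W) (hgx : g * x * g⁻¹ ∈ L.W) :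
    L.β (g * x * g⁻¹) = L.β x := by
  apply L.β_eq hgx
  rw [conj_pow, L.β_spec hx, B.z_cen g hg, mul_inv_cancel_right]

theorem β_z (hk : 1 ≤ k) (b : F) : L.β (B.z b) = 0 := by
  apply L.β_eq (L.z_mem b)
  obtain ⟨m, rfl⟩ : ∃ m, k = m + 1 := ⟨k - 1, by omega⟩
  rw [pow_succ', pow_mul, pow_two, B.z_sq, one_pow, B.z_zero]

/-- `Ω₁(W) = Z`. -/
theorem omega_aux (j : ℕ) : ∀ (i : ℕ), i + j = k → ∀ x ∈ L.W, x ^ 2 ^ i = 1 →
    ∃ y ∈ L.W, x = y ^ 2 ^ (j + 1) := by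
  induction j with
  | zero =>
    intro i hi x hx h
    rw [add_zero] at hi; subst hi
    obtain ⟨y, hy, rfl⟩ := L.pw_ker x hx h
    exact ⟨y, hy, by rw [zero_add, pow_one, pow_two]⟩
  | succ j ih =>
    intro i hi x hx h
    obtain ⟨y, hy, rfl⟩ := ih (i + 1) (by omega) x hx (by rw [pow_succ, pow_mul, h, one_pow])
    have h1 : y ^ 2 ^ k = 1 := by
      rw [← pow_mul, ← pow_add] at h
      rw [← h]; congr 2; omega
    obtain ⟨v, hv, rfl⟩ := L.pw_ker y hy h1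
    exact ⟨v, hv, by rw [← pow_two, ← pow_mul, ← pow_succ']⟩

theorem omega (hk : 1 ≤ k) {x : G} (hx : x ∈ L.W) (h : x * x = 1) : ∃ b, x = B.z b := by
  obtain ⟨y, hy, rfl⟩ := L.omega_aux (k - 1) 1 (by omega) x hx (by rw [pow_one, pow_two]; exact h)
  have e : k - 1 + 1 = k := by omega
  rw [e]
  exact ⟨_, L.β_spec hy⟩

/-- elements of `H` normalising `Y` -/
def NH : Subgroup G where
  carrier := {g | g ∈ B.H ∧ ∀ y, y ∈ L.Y ↔ g * y * g⁻¹ ∈ L.Y}
  one_mem' := ⟨B.H.one_mem, fun y => by simp⟩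
  mul_mem' := by
    rintro a b ⟨ha, ha'⟩ ⟨hb, hb'⟩
    refine ⟨B.H.mul_mem ha hb, fun y => ?_⟩
    rw [hb' y, ha' (b * y * b⁻¹)]
    have : a * (b * y * b⁻¹) * a⁻¹ = a * b * y * (a * b)⁻¹ := by group
    rw [this]
  inv_mem' := by
    rintro a ⟨ha, ha'⟩
    refine ⟨B.H.inv_mem ha, fun y => ?_⟩
    rw [ha' (a⁻¹ * y * a⁻¹⁻¹)]
    have : a * (a⁻¹ * y * a⁻¹⁻¹) * a⁻¹ = y := by group
    rw [this]

theorem mem_NH {g : G} : g ∈ L.NH ↔ g ∈ B.H ∧ ∀ y, y ∈ L.Y ↔ g * y * g⁻¹ ∈ L.Y := Iff.rfl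

theorem Y_le_NH : L.Y ≤ L.NH := fun g hg => ⟨L.Y_le hg, fun y =>
  ⟨fun hy => L.Y.mul_mem (L.Y.mul_mem hg hy) (L.Y.inv_mem hg), fun h => by
    have h1 := L.Y.mul_mem (L.Y.mul_mem (L.Y.inv_mem hg) h) hg
    have : g⁻¹ * (g * y * g⁻¹) * g = y := by group
    rwa [this] at h1⟩⟩

/-- an element (of `G`) normalising `Y` normalises `W` -/
theorem conj_W (hk : 1 ≤ k) {g : G} (hg : ∀ y, y ∈ L.Y → g * y * g⁻¹ ∈ L.Y)
    (hz : ∀ b, g * B.z b * g⁻¹ ∈ L.W) {x : G} (hx : x ∈ L.W) : g * x * g⁻¹ ∈ L.W := by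
  rcases hg x (L.W_le_Y hx) with h | h
  · exact h
  · have h1 := L.wt_sq h
    have h2 : x * x = 1 := by
      have : g * x * g⁻¹ * (g * x * g⁻¹) = g * (x * x) * g⁻¹ := by group
      rw [this] at h1
      have h3 : x * x = g⁻¹ * (g * (x * x) * g⁻¹) * g := by group
      rw [h3, h1]; group
    obtain ⟨b, rfl⟩ := L.omega hk hx h2
    exact hz b

theorem NH_conj_W (hk : 1 ≤ k) {g : G} (hg : g ∈ L.NH) {x : G} (hx : x ∈ L.W) :
    g * x * g⁻¹ ∈ L.W :=
  L.conj_W hk (fun y hy => (hg.2 y).1 hy) (fun b => by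
    rw [B.z_cen g hg.1, mul_inv_cancel_right]; exact L.z_mem b) hx

/-- the commutator of `g` and `t` -/
def a (_L : Lvl B k) (g : G) : G := g * B.t * g⁻¹ * B.t

theorem a_mem (hk : 1 ≤ k) {g : G} (hg : g ∈ L.NH) : L.a g ∈ L.W := by
  rcases (hg.2 B.t).1 L.t_mem_Y with h | h
  · exfalso
    have h1 := L.NH_conj_W hk (L.NH.inv_mem hg) h
    have : g⁻¹ * (g * B.t * g⁻¹) * g⁻¹⁻¹ = B.t := by group
    rw [this] at h1
    exact L.t_not hk h1
  · exact h

theorem conj_t (g : G) : g * B.t * g⁻¹ = L.a g * B.t := by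
  rw [a, mul_assoc _ B.t B.t, B.t_sq, mul_one]

theorem a_mul (g g' : G) : L.a (g * g') = (g * L.a g' * g⁻¹) * L.a g := by
  have h1 : g * L.a g' * g⁻¹ * L.a g = g * (L.a g') * (B.t * g⁻¹ * B.t) := by rw [a, a]; group
  rw [h1, a, a]
  have := B.t_sq
  calc g * g' * B.t * (g * g')⁻¹ * B.t = g * (g' * B.t * g'⁻¹) * (1 : G) * g⁻¹ * B.t := by group
    _ = g * (g' * B.t * g'⁻¹) * (B.t * B.t) * g⁻¹ * B.t := by rw [this]
    _ = _ := by group

theorem a_W {x : G} (hx : x ∈ L.W) : L.a x = x * x := by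
  have := L.inv' (L.W.inv_mem hx)
  rw [inv_inv] at this
  rw [a]
  calc x * B.t * x⁻¹ * B.t = x * (B.t * x⁻¹ * B.t) := by group
    _ = _ := by rw [this]

theorem a_t : L.a B.t = 1 := by
  rw [a, mul_inv_cancel_right, B.t_sq]

/-- the homomorphism `N_H(Y) → F` -/
noncomputable def ψ (L : Lvl B k) (g : G) : F := L.β (L.a g)

theorem ψ_mul (hk : 1 ≤ k) {g g' : G} (hg : g ∈ L.NH) (hg' : g' ∈ L.NH) :
    L.ψ (g * g') = L.ψ g + L.ψ g' := by
  have h1 := L.a_mem hk hg'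
  have h2 := L.NH_conj_W hk hg h1
  rw [ψ, a_mul, L.β_mul h2 (L.a_mem hk hg), L.β_conj hg.1 h1 h2, add_comm]
  rfl

theorem ψ_W {x : G} (hx : x ∈ L.W) : L.ψ x = 0 := by
  rw [ψ, L.a_W hx, L.β_sq hx]

theorem ψ_t : L.ψ B.t = 0 := by rw [ψ, L.a_t, L.β_one]

theorem ψ_Y (hk : 1 ≤ k) {x : G} (hx : x ∈ L.Y) : L.ψ x = 0 := by
  rcases hx with h | h
  · exact L.ψ_W h
  · have h1 := L.ψ_mul hk (L.Y_le_NH (Or.inl h)) (L.Y_le_NH L.t_mem_Y)
    rw [mul_assoc, B.t_sq, mul_one, L.ψ_W h, L.ψ_t, add_zero] at h1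
    exact h1

/-- the kernel of `ψ` -/
theorem of_ψ_eq_zero (hk : 1 ≤ k) {g : G} (hg : g ∈ L.NH) (h : L.ψ g = 0) :
    ∃ y ∈ L.Y, ∃ κ ∈ B.K0, g = y * κ := by
  obtain ⟨y, hy, h1⟩ := L.β_eq_zero (L.a_mem hk hg) h
  have h2 : (y⁻¹ * g) * B.t = B.t * (y⁻¹ * g) := by
    have h3 : g * B.t * g⁻¹ = y * B.t * y⁻¹ := by
      rw [L.conj_t, L.conj_t, h1, L.a_W hy]
    calc (y⁻¹ * g) * B.t = y⁻¹ * (g * B.t * g⁻¹) * g := by group
      _ = _ := by rw [h3]; group
  obtain ⟨b, κ, hκ, h4 | h4⟩ := B.dec _ (B.H.mul_mem (B.H.inv_mem (L.W_le hy)) hg.1) h2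
  · refine ⟨y * B.z b, L.Y.mul_mem (L.W_le_Y hy) (L.W_le_Y (L.z_mem b)), κ, hκ, ?_⟩
    rw [mul_assoc, ← h4]; group
  · refine ⟨y * (B.t * B.z b), L.Y.mul_mem (L.W_le_Y hy)
      (L.Y.mul_mem L.t_mem_Y (L.W_le_Y (L.z_mem b))), κ, hκ, ?_⟩
    rw [mul_assoc, ← h4]; group

/-! ### the torus -/

theorem h_t (i : ι) : L.h i * B.t = B.t * L.h i := by
  obtain ⟨c, hc, h⟩ := L.h_eq i
  rw [h, mul_assoc, B.h_t, ← mul_assoc, B.K0_t c hc, mul_assoc]

theorem h_z (i : ι) (b : F) : L.h i * B.z b * (L.h i)⁻¹ = B.z (B.wt i * b) := by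
  obtain ⟨c, hc, h⟩ := L.h_eq i
  have e : c * B.h i * B.z b * (c * B.h i)⁻¹ = c * (B.h i * B.z b * (B.h i)⁻¹) * c⁻¹ := by group
  rw [h, e, B.h_z, B.z_cen c (B.K0_le hc), mul_inv_cancel_right]

theorem h_H (i : ι) (g : G) : g ∈ B.H ↔ L.h i * g * (L.h i)⁻¹ ∈ B.H := by
  obtain ⟨c, hc, h⟩ := L.h_eq i
  have hcH := B.K0_le hc
  rw [h, B.h_H i]
  constructor
  · intro h1
    have h2 := B.H.mul_mem (B.H.mul_mem hcH h1) (B.H.inv_mem hcH)
    have e : c * (B.h i * g * (B.h i)⁻¹) * c⁻¹ = c * B.h i * g * (c * B.h i)⁻¹ := by group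
    rwa [e] at h2
  · intro h1
    have h2 := B.H.mul_mem (B.H.mul_mem (B.H.inv_mem hcH) h1) hcH
    have e : c⁻¹ * (c * B.h i * g * (c * B.h i)⁻¹) * c = B.h i * g * (B.h i)⁻¹ := by group
    rwa [e] at h2

theorem β_h (i : ι) {x : G} (hx : x ∈ L.W) : L.β (L.h i * x * (L.h i)⁻¹) = B.wt i * L.β x := by
  apply L.β_eq (L.h_W i x hx)
  rw [conj_pow, L.β_spec hx, L.h_z]

theorem h_Y (i : ι) {x : G} (hx : x ∈ L.Y) : L.h i * x * (L.h i)⁻¹ ∈ L.Y := by
  rcases hx with h | h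
  · exact Or.inl (L.h_W i x h)
  · right
    have h1 := L.h_W i _ h
    have h2 := L.h_t i
    have e : L.h i * (x * B.t) * (L.h i)⁻¹ = L.h i * x * (L.h i)⁻¹ * B.t := by
      calc L.h i * (x * B.t) * (L.h i)⁻¹ = L.h i * x * (L.h i)⁻¹ * (L.h i * B.t) * (L.h i)⁻¹ := by group
        _ = _ := by rw [h2]; group
    rwa [e] at h1

variable [Finite G]

theorem h_Y_iff (i : ι) (x : G) : x ∈ L.Y ↔ L.h i * x * (L.h i)⁻¹ ∈ L.Y := by
  refine ⟨L.h_Y i, fun h => ?_⟩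
  have hf : Function.Injective (fun x : L.Y => (⟨L.h i * x * (L.h i)⁻¹, L.h_Y i x.2⟩ : L.Y)) := by
    intro a b hab
    have := congrArg Subtype.val hab
    simp only [mul_left_inj, mul_right_inj] at this
    exact Subtype.ext this
  obtain ⟨y, hy⟩ := Finite.surjective_of_injective hf ⟨_, h⟩
  have h1 := congrArg Subtype.val hy
  simp only [mul_left_inj, mul_right_inj] at h1
  rw [← h1]; exact y.2

theorem h_NH (i : ι) (g : G) : g ∈ L.NH ↔ L.h i * g * (L.h i)⁻¹ ∈ L.NH := by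
  rw [mem_NH, mem_NH, ← L.h_H i]
  refine and_congr_right fun _ => ?_
  have key : ∀ y, L.h i * g * (L.h i)⁻¹ * y * (L.h i * g * (L.h i)⁻¹)⁻¹ =
      L.h i * (g * ((L.h i)⁻¹ * y * L.h i) * g⁻¹) * (L.h i)⁻¹ := by intro y; group
  have key2 : ∀ y, L.h i * ((L.h i)⁻¹ * y * L.h i) * (L.h i)⁻¹ = y := by intro y; group
  constructor
  · intro h y
    rw [key, ← L.h_Y_iff, ← h, L.h_Y_iff i ((L.h i)⁻¹ * y * L.h i), key2]
  · intro h y
    have h1 := h (L.h i * y * (L.h i)⁻¹)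
    rw [key, ← L.h_Y_iff, ← L.h_Y_iff] at h1
    have e : (L.h i)⁻¹ * (L.h i * y * (L.h i)⁻¹) * L.h i = y := by group
    rwa [e] at h1

theorem a_h (i : ι) (g : G) : L.a (L.h i * g * (L.h i)⁻¹) = L.h i * L.a g * (L.h i)⁻¹ := by
  have h1 := L.h_t i
  have h2 : (L.h i)⁻¹ * B.t = B.t * (L.h i)⁻¹ := by
    rw [inv_mul_eq_iff_eq_mul, ← mul_assoc, h1, mul_inv_cancel_right]
  rw [a, a]
  calc L.h i * g * (L.h i)⁻¹ * B.t * (L.h i * g * (L.h i)⁻¹)⁻¹ * B.t
      = L.h i * g * ((L.h i)⁻¹ * B.t) * L.h i * g⁻¹ * ((L.h i)⁻¹ * B.t) := by group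
    _ = _ := by rw [h2]; group

theorem ψ_h (hk : 1 ≤ k) (i : ι) {g : G} (hg : g ∈ L.NH) :
    L.ψ (L.h i * g * (L.h i)⁻¹) = B.wt i * L.ψ g := by
  rw [ψ, L.a_h, L.β_h i (L.a_mem hk hg)]; rfl

/-- either `t` is fixed modulo squares or all translations occur. -/
theorem dichotomy (hk : 1 ≤ k) : (∀ g ∈ L.NH, L.ψ g = 0) ∨ (∀ u, ∃ g ∈ L.NH, L.ψ g = u) := by
  by_cases h : ∀ g ∈ L.NH, L.ψ g = 0
  · exact Or.inl h
  · push Not at h
    obtain ⟨g, hg, hne⟩ := h
    right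
    intro u
    by_cases hu : u = 0
    · exact ⟨1, L.NH.one_mem, by rw [hu]; exact L.ψ_W L.W.one_mem⟩
    · obtain ⟨i, hi⟩ := B.wt_surj (u * (L.ψ g)⁻¹) (mul_ne_zero hu (inv_ne_zero hne))
      refine ⟨L.h i * g * (L.h i)⁻¹, (L.h_NH i g).1 hg, ?_⟩
      rw [L.ψ_h hk i hg, hi, inv_mul_cancel_right₀ hne]

end Lvl

end Cfsg.Agent.StdU3.Tower.Base
end

-- part: StdU3/Tower/Next
section
/-!
# The next group of the tower
-/

set_option autoImplicit false
set_option linter.unusedSectionVars false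

namespace Cfsg.Agent.StdU3.Tower.Next

open Cfsg.Agent.StdU3.Tower.Base

variable {G : Type*} [Group G] {F : Type*} [Field F] {ι : Type*} [CommGroup ι]

/-- the next `2`-group -/
structure Nxt {B : HB G F ι} {k : ℕ} (L : Lvl B k) where
  S : Subgroup G
  S_two : IsPGroup 2 S
  S_le : S ≤ L.NH
  Y_le : L.Y ≤ S
  ψ_surj : ∀ u, ∃ g ∈ S, L.ψ g = u
  ψ_ker : ∀ g ∈ S, L.ψ g = 0 → g ∈ L.Y
  h : ι → G
  h_eq : ∀ i, ∃ c ∈ B.K0, h i = c * B.h i
  h_S : ∀ i, ∀ g ∈ S, h i * g * (h i)⁻¹ ∈ S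
  h_W : ∀ i, ∀ x ∈ L.W, h i * x * (h i)⁻¹ = L.h i * x * (L.h i)⁻¹
  h_mul : ∀ i j, ∀ g ∈ S, h (i * j) * g * (h (i * j))⁻¹ = h i * (h j * g * (h j)⁻¹) * (h i)⁻¹

theorem K0_pow (B : HB G F ι) {κ : G} (hκ : κ ∈ B.K0) : κ ^ Nat.card B.K0 = 1 := by
  have h2 : (⟨κ, hκ⟩ : B.K0) ^ Nat.card B.K0 = 1 := pow_card_eq_one'
  exact congrArg Subtype.val h2

theorem K0_two (B : HB G F ι) {κ : G} (hκ : κ ∈ B.K0) {n : ℕ} (h : κ ^ 2 ^ n = 1) : κ = 1 := by
  have h1 := K0_pow B hκ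
  have h2 : orderOf κ ∣ Nat.gcd (2 ^ n) (Nat.card B.K0) :=
    Nat.dvd_gcd (orderOf_dvd_of_pow_eq_one h) (orderOf_dvd_of_pow_eq_one h1)
  have h3 : Nat.gcd (2 ^ n) (Nat.card B.K0) = 1 :=
    Nat.Coprime.pow_left n (Nat.coprime_two_left.2 B.K0_odd)
  rw [h3, Nat.dvd_one, orderOf_eq_one_iff] at h2
  exact h2

variable {B : HB G F ι} {k : ℕ} (L : Lvl B k) [CharP F 2]

theorem pow_all {x : G} (hx : x ∈ L.W) : x ^ 2 ^ (k + 1) = 1 := by
  rw [pow_succ, pow_mul, L.β_spec hx, pow_two, B.z_sq]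

/-- an element of `K0` normalising `W` centralises `W`. -/
theorem K0_comm (hk : 1 ≤ k) {κ : G} (hκ : κ ∈ B.K0) (hn : ∀ x ∈ L.W, κ * x * κ⁻¹ ∈ L.W) :
    ∀ x ∈ L.W, κ * x = x * κ := by
  have key : ∀ j : ℕ, ∀ x ∈ L.W, x ^ 2 ^ j = 1 → κ * x * κ⁻¹ = x := by
    intro j
    induction j with
    | zero =>
      intro x _ h
      rw [pow_zero, pow_one] at h
      rw [h]; group
    | succ j ih =>
      intro x hx h
      have h1 := ih (x * x) (L.W.mul_mem hx hx) (by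
        rw [← pow_two, ← pow_mul, ← pow_succ', h])
      have hy : x⁻¹ * (κ * x * κ⁻¹) ∈ L.W := L.W.mul_mem (L.W.inv_mem hx) (hn x hx)
      have h2 : x⁻¹ * (κ * x * κ⁻¹) * (x⁻¹ * (κ * x * κ⁻¹)) = 1 := by
        have h3 := L.comm _ (hn x hx) _ (L.W.inv_mem hx)
        calc x⁻¹ * (κ * x * κ⁻¹) * (x⁻¹ * (κ * x * κ⁻¹))
            = x⁻¹ * ((κ * x * κ⁻¹) * x⁻¹) * (κ * x * κ⁻¹) := by group
          _ = x⁻¹ * x⁻¹ * (κ * (x * x) * κ⁻¹) := by rw [h3]; group
          _ = 1 := by rw [h1]; group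
      obtain ⟨b, hb⟩ := L.omega hk hy h2
      have h4 : κ * x * κ⁻¹ = x * B.z b := by rw [← hb]; group
      have h5 := B.K0_fix hκ h4
      rw [h4, h5, B.z_zero, mul_one]
  intro x hx
  have := key (k + 1) x hx (pow_all L hx)
  rw [← mul_inv_eq_iff_eq_mul]; exact this

/-- elements of `H` centralising `t` and `W` -/
theorem cent_W (hk : 1 ≤ k) {e : G} (he : e ∈ B.H) (ht : e * B.t = B.t * e)
    (hW : ∀ x ∈ L.W, e * x = x * e) :
    ∃ b, ∃ κ ∈ B.K0, e = B.z b * κ ∧ ∀ x ∈ L.W, κ * x = x * κ := by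
  obtain ⟨b, κ, hκ, h | h⟩ := B.dec e he ht
  · refine ⟨b, κ, hκ, h, fun x hx => ?_⟩
    have h1 := hW x hx
    have h2 := B.z_cen x (L.W_le hx) b
    rw [h] at h1
    have h3 : B.z b * (κ * x) = B.z b * (x * κ) := by
      rw [← mul_assoc, h1, ← mul_assoc, h2, mul_assoc]
    exact mul_left_cancel h3
  · exfalso
    -- `κ` inverts `W`
    have hinv : ∀ x ∈ L.W, κ * x * κ⁻¹ = x⁻¹ := by
      intro x hx
      have h1 := hW x hx
      have h2 := B.z_cen x⁻¹ (B.H.inv_mem (L.W_le hx)) b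
      rw [h] at h1
      have h3 : κ * x * κ⁻¹ = (B.z b)⁻¹ * (B.t⁻¹ * (B.t * B.z b * κ * x) * κ⁻¹) := by group
      rw [h3, h1]
      have h4 := L.inv' hx
      calc (B.z b)⁻¹ * (B.t⁻¹ * (x * (B.t * B.z b * κ)) * κ⁻¹)
          = (B.z b)⁻¹ * (B.t⁻¹ * x * B.t) * B.z b := by group
        _ = (B.z b)⁻¹ * (B.t * x * B.t) * B.z b := by rw [B.t_inv]
        _ = (B.z b)⁻¹ * (x⁻¹ * B.z b) := by rw [h4]; group
        _ = x⁻¹ := by rw [h2]; group
    obtain ⟨x, hx, hx1⟩ := L.pw_surj 1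
    have key : ∀ m : ℕ, κ ^ (2 * m + 1) * x * (κ ^ (2 * m + 1))⁻¹ = x⁻¹ := by
      intro m
      induction m with
      | zero => simpa only [_root_.MulZeroClass.mul_zero, _root_.zero_add, _root_.pow_one] using hinv x hx
      | succ m ih =>
        have e1 : κ ^ (2 * (m + 1) + 1) * x * (κ ^ (2 * (m + 1) + 1))⁻¹ =
            κ * (κ * (κ ^ (2 * m + 1) * x * (κ ^ (2 * m + 1))⁻¹) * κ⁻¹) * κ⁻¹ := by
          rw [show 2 * (m + 1) + 1 = 1 + (1 + (2 * m + 1)) by ring, pow_add κ 1, pow_add κ 1, pow_one]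
          group
        rw [e1, ih, hinv _ (L.W.inv_mem hx), inv_inv, hinv x hx]
    obtain ⟨m, hm⟩ := B.K0_odd
    have h1 := key m
    rw [← hm, K0_pow B hκ, inv_one, mul_one, one_mul] at h1
    have h2 : x ^ 2 = 1 := by rw [pow_two]; nth_rewrite 1 [h1]; group
    obtain ⟨m, rfl⟩ : ∃ m, k = m + 1 := ⟨k - 1, by omega⟩
    rw [pow_succ', pow_mul, h2, one_pow] at hx1
    exact one_ne_zero (B.z_inj 1 hx1.symm)

/-- the odd part of the centraliser of `Y` -/
def K1 : Subgroup G where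
  carrier := {κ | κ ∈ B.K0 ∧ ∀ x ∈ L.W, κ * x = x * κ}
  one_mem' := ⟨B.K0.one_mem, fun x _ => by simp⟩
  mul_mem' := by
    rintro a b ⟨ha, ha'⟩ ⟨hb, hb'⟩
    refine ⟨B.K0.mul_mem ha hb, fun x hx => ?_⟩
    rw [mul_assoc, hb' x hx, ← mul_assoc, ha' x hx, mul_assoc]
  inv_mem' := by
    rintro a ⟨ha, ha'⟩
    refine ⟨B.K0.inv_mem ha, fun x hx => ?_⟩
    rw [inv_mul_eq_iff_eq_mul, ← mul_assoc, ha' x hx, mul_inv_cancel_right]

theorem K1_le : K1 L ≤ L.NH := by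
  intro κ hκ
  refine ⟨B.K0_le hκ.1, ?_⟩
  have key : ∀ κ ∈ K1 L, ∀ y, y ∈ L.Y → κ * y * κ⁻¹ ∈ L.Y := by
    rintro κ ⟨h1, h2⟩ y (hy | hy)
    · left
      rw [h2 y hy, mul_inv_cancel_right]; exact hy
    · right
      have h3 := h2 _ hy
      have h4 := B.K0_t κ h1
      have h5 : κ * y * κ⁻¹ = y := by
        have h6 : κ * y = y * κ := by
          have h7 : κ * (y * B.t) * B.t = (y * B.t) * κ * B.t := by rw [h3]
          rw [mul_assoc _ κ B.t, h4] at h7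
          have ht := B.t_sq
          calc κ * y = κ * (y * (B.t * B.t)) := by rw [ht, mul_one]
            _ = κ * (y * B.t) * B.t := by group
            _ = y * B.t * (B.t * κ) := h7
            _ = y * (B.t * B.t) * κ := by group
            _ = y * κ := by rw [ht, mul_one]
        rw [h6, mul_inv_cancel_right]
      rw [h5]; exact hy
  intro y
  refine ⟨key κ hκ y, fun h => ?_⟩
  have h1 := key κ⁻¹ ((K1 L).inv_mem hκ) _ h
  have : κ⁻¹ * (κ * y * κ⁻¹) * κ⁻¹⁻¹ = y := by group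
  rwa [this] at h1

theorem K1_normal (hk : 1 ≤ k) {g κ : G} (hg : g ∈ L.NH) (hκ : κ ∈ K1 L) : g * κ * g⁻¹ ∈ K1 L := by
  have hgi := L.NH.inv_mem hg
  have hcW : ∀ x ∈ L.W, (g * κ * g⁻¹) * x = x * (g * κ * g⁻¹) := by
    intro x hx
    have h1 := L.NH_conj_W hk hgi hx
    rw [inv_inv] at h1
    have h2 := hκ.2 _ h1
    calc (g * κ * g⁻¹) * x = g * (κ * (g⁻¹ * x * g)) * g⁻¹ := by group
      _ = _ := by rw [h2]; group
  have hct : (g * κ * g⁻¹) * B.t = B.t * (g * κ * g⁻¹) := by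
    have h1 := L.conj_t g⁻¹
    rw [inv_inv] at h1
    have h2 := hκ.2 _ (L.a_mem hk hgi)
    have h3 := B.K0_t κ hκ.1
    have h4 : κ * (g⁻¹ * B.t * g) = (g⁻¹ * B.t * g) * κ := by
      rw [h1, ← mul_assoc, h2, mul_assoc, h3, ← mul_assoc]
    calc (g * κ * g⁻¹) * B.t = g * (κ * (g⁻¹ * B.t * g)) * g⁻¹ := by group
      _ = _ := by rw [h4]; group
  obtain ⟨b, κ', hκ', h1, h2⟩ := cent_W L hk
    (B.H.mul_mem (B.H.mul_mem hg.1 (B.K0_le hκ.1)) (B.H.inv_mem hg.1)) hct hcW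
  have h3 : (g * κ * g⁻¹) ^ Nat.card B.K0 = 1 := by
    rw [conj_pow, K0_pow B hκ.1]; group
  have hcomm : Commute (B.z b) κ' := (B.z_cen κ' (B.K0_le hκ') b).symm
  rw [h1, hcomm.mul_pow, K0_pow B hκ', mul_one] at h3
  obtain ⟨m, hm⟩ := B.K0_odd
  rw [hm, pow_succ, pow_mul, pow_two, B.z_sq, one_pow, one_mul] at h3
  rw [h1, h3, one_mul]
  exact ⟨hκ', h2⟩

theorem ψ_K1 {κ : G} (hκ : κ ∈ K1 L) : L.ψ κ = 0 := by
  have h : L.a κ = 1 := by
    rw [Lvl.a, B.K0_t κ hκ.1, mul_inv_cancel_right, B.t_sq]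
  rw [Lvl.ψ, h, L.β_one]

/-- the kernel of `ψ` is `Y K1`. -/
theorem ker_ψ (hk : 1 ≤ k) {g : G} (hg : g ∈ L.NH) (h : L.ψ g = 0) :
    ∃ y ∈ L.Y, ∃ κ ∈ K1 L, g = y * κ := by
  obtain ⟨y, hy, κ, hκ, h1⟩ := L.of_ψ_eq_zero hk hg h
  refine ⟨y, hy, κ, ⟨hκ, ?_⟩, h1⟩
  have h2 : κ ∈ L.NH := by
    have : κ = y⁻¹ * g := by rw [h1]; group
    rw [this]
    exact L.NH.mul_mem (L.NH.inv_mem (L.Y_le_NH hy)) hg
  exact K0_comm L hk hκ fun x hx => L.NH_conj_W hk h2 hx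

theorem pow_Y {y : G} (hy : y ∈ L.Y) : y ^ 2 ^ (k + 1) = 1 := by
  rcases hy with h | h
  · exact pow_all L h
  · rw [pow_succ', pow_mul, pow_two, L.wt_sq h, one_pow]

/-- `N_H(Y) / K1` is a `2`-group. -/
theorem two_pow_mem (hk : 1 ≤ k) {g : G} (hg : g ∈ L.NH) : g ^ 2 ^ (k + 2) ∈ K1 L := by
  have h1 : L.ψ (g * g) = 0 := by rw [L.ψ_mul hk hg hg, CharTwo.add_self_eq_zero]
  obtain ⟨y, hy, κ, hκ, h2⟩ := ker_ψ L hk (L.NH.mul_mem hg hg) h1
  have e : g ^ 2 ^ (k + 2) = (y * κ) ^ 2 ^ (k + 1) := by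
    rw [← h2, ← pow_two, ← pow_mul, ← pow_succ']
  have key : ∀ m : ℕ, ∃ κ' ∈ K1 L, (y * κ) ^ m = y ^ m * κ' := by
    intro m
    induction m with
    | zero => exact ⟨1, (K1 L).one_mem, by simp⟩
    | succ m ih =>
      obtain ⟨κ', hκ', h3⟩ := ih
      have h4 := K1_normal L hk (L.NH.inv_mem (L.Y_le_NH hy)) hκ'
      rw [inv_inv] at h4
      refine ⟨y⁻¹ * κ' * y * κ, (K1 L).mul_mem h4 hκ, ?_⟩
      rw [pow_succ, h3, pow_succ]; group
  obtain ⟨κ', hκ', h3⟩ := key (2 ^ (k + 1))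
  rw [e, h3, pow_Y L hy, one_mul]
  exact hκ'

variable [Finite G]

/-- a `2`-group acting on a group by conjugation fixes a Sylow `2`-subgroup. -/
theorem exists_inv_sylow {N R : Subgroup G} (hR : IsPGroup 2 R)
    (hN : ∀ r ∈ R, ∀ x ∈ N, r * x * r⁻¹ ∈ N) :
    ∃ P : Sylow 2 N, ∀ r ∈ R, ∀ x : N, x ∈ (P : Subgroup N) → ∀ h : r * x * r⁻¹ ∈ N,
      (⟨r * x * r⁻¹, h⟩ : N) ∈ (P : Subgroup N) := by
  classical
  have : Fact (Nat.Prime 2) := ⟨Nat.prime_two⟩
  let _ : MulDistribMulAction R N :=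
    { smul := fun r x => ⟨r * x * (r : G)⁻¹, hN r r.2 x x.2⟩
      one_smul := fun x => Subtype.ext (by
        show ((1 : R) : G) * x * ((1 : R) : G)⁻¹ = x
        simp only [_root_.OneMemClass.coe_one, _root_.one_mul, _root_.inv_one, _root_.mul_one])
      mul_smul := fun r s x => Subtype.ext (by
        show ((r * s : R) : G) * x * ((r * s : R) : G)⁻¹ = r * (s * x * (s : G)⁻¹) * (r : G)⁻¹
        push_cast; group)
      smul_mul := fun r x y => Subtype.ext (by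
        show (r : G) * ((x * y : N) : G) * (r : G)⁻¹ = r * x * (r : G)⁻¹ * (r * y * (r : G)⁻¹)
        push_cast; group)
      smul_one := fun r => Subtype.ext (by
        show (r : G) * ((1 : N) : G) * (r : G)⁻¹ = ((1 : N) : G)
        simp only [_root_.OneMemClass.coe_one, _root_.mul_one, _root_.mul_inv_cancel]) }
  have h1 : ¬ 2 ∣ Nat.card (Sylow 2 N) := by
    have := card_sylow_modEq_one 2 N
    intro h
    have h2 := (Nat.modEq_zero_iff_dvd.2 h).symm.trans this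
    exact absurd h2 (by decide)
  obtain ⟨P, hP⟩ := hR.nonempty_fixed_point_of_prime_not_dvd_card (Sylow 2 N) h1
  refine ⟨P, fun r hr x hx h => ?_⟩
  have h2 : (⟨r, hr⟩ : R) • P = P := hP ⟨r, hr⟩
  have h3 : (⟨r, hr⟩ : R) • x ∈ (((⟨r, hr⟩ : R) • P : Sylow 2 N) : Subgroup N) := by
    rw [Sylow.pointwise_smul_def]
    exact Subgroup.smul_mem_pointwise_smul _ _ _ hx
  rw [h2] at h3
  exact h3

theorem exists_S (hk : 1 ≤ k) {R : Subgroup G} (hR : Rg B R)
    (hRW : ∀ r ∈ R, ∀ x ∈ L.W, r * x * r⁻¹ ∈ L.W) :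
    ∃ S : Subgroup G, IsPGroup 2 S ∧ S ≤ L.NH ∧ L.Y ≤ S ∧
    (∀ g ∈ L.NH, ∃ s ∈ S, ∃ κ ∈ K1 L, g = s * κ) ∧
    (∀ R : Subgroup G, IsPGroup 2 R → R ≤ L.NH → ∃ n ∈ L.NH, ∀ r ∈ R, n * r * n⁻¹ ∈ S) ∧
    (∀ r ∈ R, ∀ s ∈ S, r * s * r⁻¹ ∈ S) := by
  classical
  have : Fact (Nat.Prime 2) := ⟨Nat.prime_two⟩
  have hRY : ∀ r ∈ R, ∀ y ∈ L.Y, r * y * r⁻¹ ∈ L.Y := by
    rintro r hr y (hy | hy)
    · exact Or.inl (hRW r hr y hy)
    · right
      have h1 := hRW r hr _ hy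
      have h2 := hR.t r hr
      have e : r * (y * B.t) * r⁻¹ = r * y * r⁻¹ * B.t := by
        calc r * (y * B.t) * r⁻¹ = r * y * r⁻¹ * (r * B.t) * r⁻¹ := by group
          _ = _ := by rw [h2]; group
      rwa [e] at h1
  have hRNH : ∀ r ∈ R, ∀ g ∈ L.NH, r * g * r⁻¹ ∈ L.NH := by
    intro r hr g hg
    refine ⟨hR.H r hr g hg.1, fun y => ?_⟩
    have h1 : y ∈ L.Y ↔ r⁻¹ * y * r ∈ L.Y := by
      constructor
      · intro h
        have := hRY r⁻¹ (R.inv_mem hr) y h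
        rwa [inv_inv] at this
      · intro h
        have := hRY r hr _ h
        have e : r * (r⁻¹ * y * r) * r⁻¹ = y := by group
        rwa [e] at this
    have h2 : ∀ x, x ∈ L.Y ↔ r * x * r⁻¹ ∈ L.Y := by
      intro x
      constructor
      · exact hRY r hr x
      · intro h
        have := hRY r⁻¹ (R.inv_mem hr) _ h
        have e : r⁻¹ * (r * x * r⁻¹) * r⁻¹⁻¹ = x := by group
        rwa [e] at this
    rw [h1, hg.2, h2]
    have e : r * (g * (r⁻¹ * y * r) * g⁻¹) * r⁻¹ = r * g * r⁻¹ * y * (r * g * r⁻¹)⁻¹ := by group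
    rw [e]
  set N := L.NH with hN
  have hnorm : ((K1 L).subgroupOf N).Normal := by
    constructor
    intro κ hκ g
    rw [Subgroup.mem_subgroupOf] at hκ ⊢
    exact K1_normal L hk g.2 hκ
  have hYp : IsPGroup 2 (L.Y.subgroupOf N) := by
    intro y
    refine ⟨k + 1, ?_⟩
    have h1 := pow_Y L y.2
    apply Subtype.ext
    apply Subtype.ext
    simpa only [_root_.SubmonoidClass.coe_pow, _root_.OneMemClass.coe_one, _root_.Subgroup.subtype_apply] using h1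
  obtain ⟨P, hPR⟩ := exists_inv_sylow hR.two hRNH
  have hYn : (L.Y.subgroupOf N).Normal := by
    constructor
    intro y hy g
    rw [Subgroup.mem_subgroupOf] at hy ⊢
    exact (g.2.2 y).1 hy
  have hP : L.Y.subgroupOf N ≤ (P : Subgroup N) := by
    have h1 : IsPGroup 2 ((P : Subgroup N) ⊔ L.Y.subgroupOf N : Subgroup N) :=
      IsPGroup.to_sup_of_normal_right P.isPGroup' hYp
    have h2 := P.is_maximal' h1 le_sup_left
    rw [← h2]; exact le_sup_right
  have hq : IsPGroup 2 (N ⧸ (K1 L).subgroupOf N) := by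
    intro x
    obtain ⟨g, rfl⟩ := QuotientGroup.mk_surjective x
    refine ⟨k + 2, ?_⟩
    rw [← QuotientGroup.mk_pow, QuotientGroup.eq_one_iff, Subgroup.mem_subgroupOf]
    exact two_pow_mem L hk g.2
  set! f := QuotientGroup.mk' ((K1 L).subgroupOf N) with hf
  have hfs : Function.Surjective f := QuotientGroup.mk'_surjective _
  have htop : (P : Subgroup N).map f = ⊤ := by
    have h1 : (P.mapSurjective hfs).toSubgroup = ⊤ := by
      have h2 : IsPGroup 2 (⊤ : Subgroup (N ⧸ (K1 L).subgroupOf N)) := hq.to_subgroup ⊤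
      exact ((P.mapSurjective hfs).is_maximal' h2 le_top).symm
    exact h1
  refine ⟨(P : Subgroup N).map N.subtype, P.2.map _, ?_, ?_, ?_, ?_, ?_⟩
  · rintro _ ⟨x, -, rfl⟩
    exact x.2
  · intro y hy
    exact ⟨⟨y, L.Y_le_NH hy⟩, hP (by rw [Subgroup.mem_subgroupOf]; exact hy), rfl⟩
  · intro g hg
    have h1 : f ⟨g, hg⟩ ∈ (P : Subgroup N).map f := by rw [htop]; exact Subgroup.mem_top _
    obtain ⟨s, hs, h2⟩ := h1
    refine ⟨s, ⟨s, hs, rfl⟩, (s : G)⁻¹ * g, ?_, by group⟩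
    have h3 : s⁻¹ * ⟨g, hg⟩ ∈ (K1 L).subgroupOf N := QuotientGroup.eq.1 h2
    rw [Subgroup.mem_subgroupOf] at h3
    exact h3
  · intro R hR hRN
    have hRp : IsPGroup 2 (R.subgroupOf N) := hR.comap_of_injective N.subtype N.subtype_injective
    obtain ⟨P', hP'⟩ := hRp.exists_le_sylow
    obtain ⟨n, hn⟩ := MulAction.exists_smul_eq N P' P
    refine ⟨n, n.2, fun r hr => ?_⟩
    have h1 : (⟨r, hRN hr⟩ : N) ∈ (P' : Subgroup N) := hP' (by rw [Subgroup.mem_subgroupOf]; exact hr)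
    have h2 : n * ⟨r, hRN hr⟩ * n⁻¹ ∈ ((n • P' : Sylow 2 N) : Subgroup N) := by
      rw [Sylow.coe_subgroup_smul]
      exact Subgroup.smul_mem_pointwise_smul _ (MulAut.conj n) _ h1
    rw [hn] at h2
    exact ⟨_, h2, rfl⟩
  · rintro r hr _ ⟨x, hx, rfl⟩
    exact ⟨_, hPR r hr x hx (hRNH r hr x x.2), rfl⟩

/-- existence of the next group -/
theorem exists_next (hk : 1 ≤ k) (hs : ∀ u, ∃ g ∈ L.NH, L.ψ g = u) {R : Subgroup G} (hR : Rg B R)
    (hRW : ∀ r ∈ R, ∀ x ∈ L.W, r * x * r⁻¹ ∈ L.W) :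
    ∃ N : Nxt L, ∀ r ∈ R, ∀ s ∈ N.S, r * s * r⁻¹ ∈ N.S := by
  obtain ⟨S, hS2, hSN, hYS, hdec, hsyl, hSR⟩ := exists_S L hk hR hRW
  have hinter : ∀ κ ∈ B.K0, κ ∈ S → κ = 1 := by
    intro κ h1 h2
    obtain ⟨n, hn⟩ := hS2 ⟨κ, h2⟩
    exact K0_two B h1 (congrArg Subtype.val hn)
  -- the torus
  have htor : ∀ i, ∃ c ∈ K1 L, ∀ g ∈ S, (c * L.h i) * g * (c * L.h i)⁻¹ ∈ S := by
    intro i
    obtain ⟨n, hn, h1⟩ := hsyl (S.map (MulAut.conj (L.h i)).toMonoidHom) (hS2.map _) (by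
      rintro _ ⟨g, hg, rfl⟩
      exact (L.h_NH i g).1 (hSN hg))
    obtain ⟨s, hs, c, hc, rfl⟩ := hdec n hn
    refine ⟨c, hc, fun g hg => ?_⟩
    have h2 := h1 (L.h i * g * (L.h i)⁻¹) ⟨g, hg, rfl⟩
    have h3 := S.mul_mem (S.mul_mem (S.inv_mem hs) h2) hs
    have e : s⁻¹ * (s * c * (L.h i * g * (L.h i)⁻¹) * (s * c)⁻¹) * s =
      (c * L.h i) * g * (c * L.h i)⁻¹ := by group
    rwa [e] at h3
  choose c hc hcS using htor
  have hcW : ∀ i, ∀ x ∈ L.W, (c i * L.h i) * x * (c i * L.h i)⁻¹ = L.h i * x * (L.h i)⁻¹ := by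
    intro i x hx
    have h1 := (hc i).2 _ (L.h_W i x hx)
    calc (c i * L.h i) * x * (c i * L.h i)⁻¹ = c i * (L.h i * x * (L.h i)⁻¹) * (c i)⁻¹ := by group
      _ = _ := by rw [h1, mul_inv_cancel_right]
  have hct : ∀ i, (c i * L.h i) * B.t = B.t * (c i * L.h i) := by
    intro i
    rw [mul_assoc, L.h_t, ← mul_assoc, B.K0_t _ (hc i).1, mul_assoc]
  have hcinv : ∀ i, ∀ g ∈ S, (c i * L.h i)⁻¹ * g * (c i * L.h i) ∈ S := by
    intro i g hg
    have hf : Function.Injective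
        (fun x : S => (⟨(c i * L.h i) * x * (c i * L.h i)⁻¹, hcS i x x.2⟩ : S)) := by
      intro a b hab
      have := congrArg Subtype.val hab
      simp only [mul_left_inj, mul_right_inj] at this
      exact Subtype.ext this
    obtain ⟨y, hy⟩ := Finite.surjective_of_injective hf ⟨g, hg⟩
    have h1 : (c i * L.h i) * y * (c i * L.h i)⁻¹ = g := congrArg Subtype.val hy
    rw [← h1]
    have e : (c i * L.h i)⁻¹ * (c i * L.h i * y * (c i * L.h i)⁻¹) * (c i * L.h i) = y := by group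
    rw [e]; exact y.2
  choose b hb hbeq using L.h_eq
  refine ⟨⟨S, hS2, hSN, hYS, ?_, ?_, fun i => c i * L.h i, ?_, hcS, hcW, ?_⟩, hSR⟩
  · intro u
    obtain ⟨g, hg, hgu⟩ := hs u
    obtain ⟨s, hs', κ, hκ, rfl⟩ := hdec g hg
    refine ⟨s, hs', ?_⟩
    rw [L.ψ_mul hk (hSN hs') (K1_le L hκ), ψ_K1 L hκ, add_zero] at hgu
    exact hgu
  · intro g hg h
    obtain ⟨y, hy, κ, hκ, h1⟩ := ker_ψ L hk (hSN hg) h
    have h2 : κ ∈ S := by
      have : κ = y⁻¹ * g := by rw [h1]; group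
      rw [this]
      exact S.mul_mem (S.inv_mem (hYS hy)) hg
    rw [h1, hinter κ hκ.1 h2, mul_one]
    exact hy
  · intro i
    exact ⟨c i * b i, B.K0.mul_mem (hc i).1 (hb i), by rw [hbeq i, mul_assoc]⟩
  · intro i j g hg
    -- the defect
    set! e := (c (i * j) * L.h (i * j))⁻¹ * ((c i * L.h i) * (c j * L.h j)) with he
    have heH : e ∈ B.H := by
      have hH : ∀ i, ∀ x ∈ B.H, B.h i * x * (B.h i)⁻¹ ∈ B.H := fun i x hx => (B.h_H i x).1 hx
      have hH' : ∀ i, ∀ x ∈ B.H, (B.h i)⁻¹ * x * B.h i ∈ B.H := fun i x hx => by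
        rw [B.h_H i]
        have : B.h i * ((B.h i)⁻¹ * x * B.h i) * (B.h i)⁻¹ = x := by group
        rwa [this]
      have h1 : e = (B.h (i * j))⁻¹ * ((c (i * j) * b (i * j))⁻¹ * (c i * b i) *
          (B.h i * (c j * b j) * (B.h i)⁻¹)) * B.h (i * j) *
          ((B.h (i * j))⁻¹ * (B.h i * B.h j)) := by
        rw [he, hbeq i, hbeq j, hbeq (i * j)]; group
      rw [h1]
      have hcb : ∀ i, c i * b i ∈ B.H := fun i => B.H.mul_mem (B.K0_le (hc i).1) (B.K0_le (hb i))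
      refine B.H.mul_mem (hH' _ _ (B.H.mul_mem (B.H.mul_mem (B.H.inv_mem (hcb _)) (hcb _))
        (hH _ _ (hcb _)))) (B.h_e i j)
    have heW : ∀ x ∈ L.W, e * x = x * e := by
      intro x hx
      have h1 : (c i * L.h i) * (c j * L.h j) * x * ((c i * L.h i) * (c j * L.h j))⁻¹ =
          (c (i * j) * L.h (i * j)) * x * (c (i * j) * L.h (i * j))⁻¹ := by
        have h2 : (c i * L.h i) * (c j * L.h j) * x * ((c i * L.h i) * (c j * L.h j))⁻¹ =
            (c i * L.h i) * ((c j * L.h j) * x * (c j * L.h j)⁻¹) * (c i * L.h i)⁻¹ := by group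
        rw [h2, hcW j x hx, hcW i _ (L.h_W j x hx), hcW _ x hx, L.h_mul i j x hx]
      rw [← mul_inv_eq_iff_eq_mul, he]
      calc (c (i * j) * L.h (i * j))⁻¹ * (c i * L.h i * (c j * L.h j)) * x *
            ((c (i * j) * L.h (i * j))⁻¹ * (c i * L.h i * (c j * L.h j)))⁻¹
          = (c (i * j) * L.h (i * j))⁻¹ * ((c i * L.h i) * (c j * L.h j) * x *
              ((c i * L.h i) * (c j * L.h j))⁻¹) * (c (i * j) * L.h (i * j)) := by group
        _ = _ := by rw [h1]; group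
    have het : e * B.t = B.t * e := by
      have h1 := hct (i * j)
      have h2 : (c (i * j) * L.h (i * j))⁻¹ * B.t = B.t * (c (i * j) * L.h (i * j))⁻¹ := by
        rw [inv_mul_eq_iff_eq_mul, ← mul_assoc, h1, mul_inv_cancel_right]
      rw [he, mul_assoc, mul_assoc, hct j, ← mul_assoc (c i * L.h i), hct i, mul_assoc B.t,
        ← mul_assoc, h2, mul_assoc]
    obtain ⟨v, κ, hκ, h1, h2⟩ := cent_W L hk heH het heW
    have hκ1 : κ ∈ K1 L := ⟨hκ, h2⟩
    have hzS : B.z v ∈ S := hYS (L.W_le_Y (L.z_mem v))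
    -- `e` normalises `S`
    have heS : ∀ s ∈ S, e * s * e⁻¹ ∈ S := by
      intro s hs
      have h3 : e * s * e⁻¹ = (c (i * j) * L.h (i * j))⁻¹ *
          ((c i * L.h i) * ((c j * L.h j) * s * (c j * L.h j)⁻¹) * (c i * L.h i)⁻¹) *
          (c (i * j) * L.h (i * j)) := by rw [he]; group
      rw [h3]
      exact hcinv _ _ (hcS _ _ (hcS _ _ hs))
    have hκS : ∀ s ∈ S, κ * s = s * κ := by
      intro s hs
      have hκeq : κ = (B.z v)⁻¹ * e := by rw [h1]; group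
      have h3 : κ * s * κ⁻¹ ∈ S := by
        have e1 : κ * s * κ⁻¹ = (B.z v)⁻¹ * (e * s * e⁻¹) * B.z v := by rw [hκeq]; group
        rw [e1]
        exact S.mul_mem (S.mul_mem (S.inv_mem hzS) (heS s hs)) hzS
      have h4 : κ * s * κ⁻¹ * s⁻¹ ∈ S := S.mul_mem h3 (S.inv_mem hs)
      have h5 : κ * s * κ⁻¹ * s⁻¹ ∈ K1 L := by
        have h6 := K1_normal L hk (hSN hs) ((K1 L).inv_mem hκ1)
        have e1 : κ * s * κ⁻¹ * s⁻¹ = κ * (s * κ⁻¹ * s⁻¹) := by group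
        rw [e1]
        exact (K1 L).mul_mem hκ1 h6
      have h6 := hinter _ h5.1 h4
      rw [mul_inv_eq_one, mul_inv_eq_iff_eq_mul] at h6
      exact h6
    have heS' : e * g * e⁻¹ = g := by
      have h3 := B.z_cen g (hSN hg).1 v
      rw [h1, mul_assoc (B.z v) κ g, hκS g hg, ← mul_assoc, ← h3]
      group
    have h4 : (c i * L.h i) * ((c j * L.h j) * g * (c j * L.h j)⁻¹) * (c i * L.h i)⁻¹ =
        (c (i * j) * L.h (i * j)) * (e * g * e⁻¹) * (c (i * j) * L.h (i * j))⁻¹ := by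
      rw [he]; group
    rw [h4, heS']

end Cfsg.Agent.StdU3.Tower.Next
end

-- part: StdU3/Tower/Half
section
/-!
# The torus invariant subgroup of index two of the next group
-/

set_option autoImplicit false
set_option linter.unusedSectionVars false

namespace Cfsg.Agent.StdU3.Tower.Half

open Cfsg.Agent.StdU3.Tower.Base Cfsg.Agent.StdU3.Tower.Next

variable {G : Type*} [Group G] {F : Type*} [Field F] {ι : Type*} [CommGroup ι] [CharP F 2]
variable {B : HB G F ι} {k : ℕ} {L : Lvl B k} (N : Nxt L)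

theorem sqt {B : HB G F ι} {κ : G} (hκ : κ ∈ B.K0) (b : F) {s : G}
    (h : s = B.z b * κ ∨ s = B.t * B.z b * κ) : s * s = κ * κ := by
  have hκH := B.K0_le hκ
  have h1 := B.z_cen κ hκH b
  have h2 := B.z_cen B.t B.t_mem b
  have h3 := B.K0_t κ hκ
  have h4 := B.z_sq b
  have h5 := B.t_sq
  rcases h with rfl | rfl
  · calc B.z b * κ * (B.z b * κ) = B.z b * (κ * B.z b) * κ := by group
      _ = (B.z b * B.z b) * (κ * κ) := by rw [h1]; group
      _ = κ * κ := by rw [h4, one_mul]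
  · calc B.t * B.z b * κ * (B.t * B.z b * κ) = B.t * B.z b * (κ * B.t) * B.z b * κ := by group
      _ = B.t * B.z b * B.t * (κ * B.z b) * κ := by rw [h3]; group
      _ = B.t * (B.z b * B.t) * B.z b * (κ * κ) := by rw [h1]; group
      _ = (B.t * B.t) * (B.z b * B.z b) * (κ * κ) := by rw [← h2]; group
      _ = κ * κ := by rw [h4, h5, one_mul, one_mul]

include N in
/-- all elements of `W t` are conjugate to `t` -/
theorem exists_r (hk : 1 ≤ k) {w : G} (hw : w ∈ L.W) : ∃ r ∈ N.S, L.a r = w := by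
  obtain ⟨r0, hr0, h1⟩ := N.ψ_surj (L.β w)
  have ha := L.a_mem hk (N.S_le hr0)
  have h2 : L.β ((L.a r0)⁻¹ * w) = 0 := by
    rw [L.β_mul (L.W.inv_mem ha) hw, L.β_inv ha]
    have : L.β (L.a r0) = L.β w := h1
    rw [this, CharTwo.add_self_eq_zero]
  obtain ⟨v, hv, h3⟩ := L.β_eq_zero (L.W.mul_mem (L.W.inv_mem ha) hw) h2
  refine ⟨v * r0, N.S.mul_mem (N.Y_le (L.W_le_Y hv)) hr0, ?_⟩
  have h4 : v * L.a r0 * v⁻¹ = L.a r0 := by
    rw [L.comm v hv _ ha, mul_inv_cancel_right]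
  rw [L.a_mul, h4, L.a_W hv, ← h3]; group

include N in
theorem sq_mem (hk : 1 ≤ k) {s : G} (hs : s ∈ N.S) : s * s ∈ L.W := by
  have h1 : L.ψ (s * s) = 0 := by
    rw [L.ψ_mul hk (N.S_le hs) (N.S_le hs), CharTwo.add_self_eq_zero]
  rcases N.ψ_ker _ (N.S.mul_mem hs hs) h1 with h2 | h2
  · exact h2
  · exfalso
    obtain ⟨r, hr, h3⟩ := exists_r N hk h2
    have h4 : r * B.t * r⁻¹ = s * s := by
      rw [L.conj_t, h3, mul_assoc (s * s), B.t_sq, mul_one]
    set! s' := r⁻¹ * s * r with hs'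
    have h5 : s' * s' = B.t := by
      have : s' * s' = r⁻¹ * (s * s) * r := by rw [hs']; group
      rw [this, ← h4]; group
    have h6 : s' * B.t = B.t * s' := by rw [← h5]; group
    have hs'H : s' ∈ B.H := B.H.mul_mem (B.H.mul_mem (B.H.inv_mem (N.S_le hr).1) (N.S_le hs).1)
      (N.S_le hr).1
    obtain ⟨b, κ, hκ, h7⟩ := B.dec s' hs'H h6
    have h8 := sqt hκ b h7
    rw [h5] at h8
    have h9 : κ ^ 2 ^ 2 = 1 := by
      have : κ ^ 2 ^ 2 = (κ * κ) * (κ * κ) := by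
        rw [show (2 : ℕ) ^ 2 = 4 from rfl, pow_succ, pow_succ, pow_succ, pow_one]; group
      rw [this, ← h8, B.t_sq]
    have h10 := K0_two B hκ h9
    rw [h10, mul_one] at h8
    exact B.t_ne h8

theorem W_normal (hk : 1 ≤ k) {s w : G} (hs : s ∈ N.S) (hw : w ∈ L.W) : s * w * s⁻¹ ∈ L.W :=
  L.NH_conj_W hk (N.S_le hs) hw

theorem W_normal' (hk : 1 ≤ k) {s w : G} (hs : s ∈ N.S) (hw : w ∈ L.W) : s⁻¹ * w * s ∈ L.W := by
  have := W_normal N hk (N.S.inv_mem hs) hw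
  rwa [inv_inv] at this

theorem comm_mem (hk : 1 ≤ k) {s r : G} (hs : s ∈ N.S) (hr : r ∈ N.S) : s * r * s⁻¹ * r⁻¹ ∈ L.W := by
  have h1 := sq_mem N hk (N.S.mul_mem hs hr)
  have h2 := sq_mem N hk (N.S.inv_mem hs)
  have h3 := sq_mem N hk (N.S.inv_mem hr)
  have h4 := W_normal' N hk hr h2
  have e : s * r * s⁻¹ * r⁻¹ = (s * r * (s * r)) * (r⁻¹ * (s⁻¹ * s⁻¹) * r) * (r⁻¹ * r⁻¹) := by group
  rw [e]
  exact L.W.mul_mem (L.W.mul_mem h1 h4) h3

/-- the subgroup `[S, D] W` -/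
def W1 (hk : 1 ≤ k) (i : ι) : Subgroup G where
  carrier := {s | ∃ r ∈ N.S, ∃ w ∈ L.W, s = N.h i * r * (N.h i)⁻¹ * r⁻¹ * w}
  one_mem' := ⟨1, N.S.one_mem, 1, L.W.one_mem, by group⟩
  mul_mem' := by
    rintro _ _ ⟨r, hr, w, hw, rfl⟩ ⟨r', hr', w', hw', rfl⟩
    set c := N.h i * r' * (N.h i)⁻¹ * r'⁻¹ with hc
    have hcS : c ∈ N.S := N.S.mul_mem (N.h_S i r' hr') (N.S.inv_mem hr')
    refine ⟨r * r', N.S.mul_mem hr hr', (r * c⁻¹ * r⁻¹ * c) * (c⁻¹ * w * c) * w', ?_, ?_⟩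
    · have h1 := comm_mem N hk hr (N.S.inv_mem hcS)
      rw [inv_inv] at h1
      exact L.W.mul_mem (L.W.mul_mem h1 (W_normal' N hk hcS hw)) hw'
    · have e : N.h i * (r * r') * (N.h i)⁻¹ * (r * r')⁻¹ =
          N.h i * r * (N.h i)⁻¹ * r⁻¹ * (r * c * r⁻¹) := by rw [hc]; group
      rw [e]; group
  inv_mem' := by
    rintro _ ⟨r, hr, w, hw, rfl⟩
    set! c := N.h i * r⁻¹ * (N.h i)⁻¹ * r⁻¹⁻¹ with hc
    have hcS : c ∈ N.S := N.S.mul_mem (N.h_S i _ (N.S.inv_mem hr)) (N.S.inv_mem (N.S.inv_mem hr))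
    refine ⟨r⁻¹, N.S.inv_mem hr, (c⁻¹ * w⁻¹ * c) * (c⁻¹ * r * c⁻¹⁻¹ * r⁻¹), ?_, ?_⟩
    · exact L.W.mul_mem (W_normal' N hk hcS (L.W.inv_mem hw)) (comm_mem N hk (N.S.inv_mem hcS) hr)
    · rw [← hc]
      have e : (N.h i * r * (N.h i)⁻¹ * r⁻¹ * w)⁻¹ = w⁻¹ * (r * c * r⁻¹) := by rw [hc]; group
      rw [e]; group

/-- the index two subgroup of the next group -/
structure Hlf (N : Nxt L) where
  V : Subgroup G
  V_le : V ≤ N.S
  W_le : L.W ≤ V
  t_not : B.t ∉ V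
  cov : ∀ s ∈ N.S, s ∈ V ∨ s * B.t ∈ V
  h_V : ∀ i, ∀ s ∈ V, N.h i * s * (N.h i)⁻¹ ∈ V

theorem h_one {g : G} (hg : g ∈ N.S) : N.h 1 * g * (N.h 1)⁻¹ = g := by
  have h1 := N.h_mul 1 1 g hg
  rw [mul_one] at h1
  have h2 : N.h 1 * g * (N.h 1)⁻¹ = N.h 1 * (N.h 1 * g * (N.h 1)⁻¹) * (N.h 1)⁻¹ := h1
  have h3 := mul_right_cancel h2
  exact (mul_left_cancel h3).symm

theorem h_pow (i : ι) (m : ℕ) {g : G} (hg : g ∈ N.S) :
    N.h (i ^ m) * g * (N.h (i ^ m))⁻¹ = (N.h i) ^ m * g * ((N.h i) ^ m)⁻¹ := by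
  induction m with
  | zero => rw [pow_zero, pow_zero, h_one N hg]; group
  | succ m ih =>
    rw [pow_succ', N.h_mul _ _ g hg, ih, pow_succ']; group

theorem h_t (i : ι) : N.h i * B.t = B.t * N.h i := by
  obtain ⟨c, hc, h⟩ := N.h_eq i
  rw [h, mul_assoc, B.h_t, ← mul_assoc, B.K0_t c hc, mul_assoc]

theorem h_ψ (hk : 1 ≤ k) (i : ι) {g : G} (hg : g ∈ N.S) :
    L.ψ (N.h i * g * (N.h i)⁻¹) = B.wt i * L.ψ g := by
  have h1 := h_t N i
  have h2 : (N.h i)⁻¹ * B.t = B.t * (N.h i)⁻¹ := by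
    rw [inv_mul_eq_iff_eq_mul, ← mul_assoc, h1, mul_inv_cancel_right]
  have h3 : L.a (N.h i * g * (N.h i)⁻¹) = N.h i * L.a g * (N.h i)⁻¹ := by
    rw [Lvl.a, Lvl.a]
    calc N.h i * g * (N.h i)⁻¹ * B.t * (N.h i * g * (N.h i)⁻¹)⁻¹ * B.t
        = N.h i * g * ((N.h i)⁻¹ * B.t) * N.h i * g⁻¹ * ((N.h i)⁻¹ * B.t) := by group
      _ = _ := by rw [h2]; group
  have ha := L.a_mem hk (N.S_le hg)
  rw [Lvl.ψ, h3, N.h_W i _ ha, L.β_h i ha]
  rfl

theorem h_W_mem (i : ι) {x : G} (hx : x ∈ L.W) : N.h i * x * (N.h i)⁻¹ ∈ L.W := by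
  rw [N.h_W i x hx]; exact L.h_W i x hx

theorem h_β (i : ι) {x : G} (hx : x ∈ L.W) : L.β (N.h i * x * (N.h i)⁻¹) = B.wt i * L.β x := by
  rw [N.h_W i x hx, L.β_h i hx]

theorem h_z (i : ι) (b : F) : N.h i * B.z b * (N.h i)⁻¹ = B.z (B.wt i * b) := by
  rw [N.h_W i _ (L.z_mem b), L.h_z]

theorem exists_hlf [Finite ι] (hodd : Odd (Nat.card ι)) (hk : 1 ≤ k)
    (hF : ∃ ν : F, ν ≠ 0 ∧ ν ≠ 1) : Nonempty (Hlf N) := by
  obtain ⟨ν, hν0, hν1⟩ := hF
  obtain ⟨i, hi⟩ := B.wt_surj ν hν0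
  have hν : ν + 1 ≠ 0 := by
    intro h
    apply hν1
    have := CharTwo.add_self_eq_zero (1 : F)
    linear_combination h - this
  have hin : ∀ r ∈ N.S, N.h i * r * (N.h i)⁻¹ * r⁻¹ ∈ W1 N hk i := fun r hr =>
    ⟨r, hr, 1, L.W.one_mem, by group⟩
  have hle : W1 N hk i ≤ N.S := by
    rintro _ ⟨r, hr, w, hw, rfl⟩
    exact N.S.mul_mem (N.S.mul_mem (N.h_S i r hr) (N.S.inv_mem hr)) (N.Y_le (L.W_le_Y hw))
  have hWle : L.W ≤ W1 N hk i := fun w hw => ⟨1, N.S.one_mem, w, hw, by group⟩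
  refine ⟨⟨W1 N hk i, hle, hWle, ?_, ?_, ?_⟩⟩
  · rintro ⟨r, hr, w, hw, h1⟩
    have h2 : N.h i * r * (N.h i)⁻¹ = B.t * w⁻¹ * r := by rw [h1]; group
    have key : ∀ m : ℕ, ∃ v ∈ L.W, (N.h i) ^ m * r * ((N.h i) ^ m)⁻¹ = B.t ^ m * v * r := by
      intro m
      induction m with
      | zero => exact ⟨1, L.W.one_mem, by group⟩
      | succ m ih =>
        obtain ⟨v, hv, h3⟩ := ih
        have h4 := h_W_mem N i hv
        refine ⟨(B.t * (N.h i * v * (N.h i)⁻¹) * B.t) * w⁻¹, ?_, ?_⟩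
        · rw [L.inv' h4]
          exact L.W.mul_mem (L.W.inv_mem h4) (L.W.inv_mem hw)
        · have h5 : N.h i * B.t ^ m = B.t ^ m * N.h i := by
            have h6 : Commute (N.h i) B.t := h_t N i
            exact (h6.pow_right m).eq
          have e1 : (N.h i) ^ (m + 1) * r * ((N.h i) ^ (m + 1))⁻¹ =
              N.h i * ((N.h i) ^ m * r * ((N.h i) ^ m)⁻¹) * (N.h i)⁻¹ := by rw [pow_succ']; group
          have ht := B.t_sq
          rw [e1, h3]
          calc N.h i * (B.t ^ m * v * r) * (N.h i)⁻¹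
              = (N.h i * B.t ^ m) * v * (N.h i)⁻¹ * (N.h i * r * (N.h i)⁻¹) := by group
            _ = B.t ^ m * (N.h i * v * (N.h i)⁻¹) * (B.t * w⁻¹ * r) := by rw [h5, h2]; group
            _ = B.t ^ m * ((B.t * B.t) * (N.h i * v * (N.h i)⁻¹)) * (B.t * w⁻¹ * r) := by
              rw [ht, one_mul]
            _ = _ := by rw [pow_succ]; group
    obtain ⟨v, hv, h3⟩ := key (Nat.card ι)
    rw [← h_pow N i _ hr, pow_card_eq_one', h_one N hr] at h3
    have h4 : B.t ^ Nat.card ι = B.t := by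
      obtain ⟨m, hm⟩ := hodd
      rw [hm, pow_succ, pow_mul, pow_two, B.t_sq, one_pow, one_mul]
    rw [h4] at h3
    have h5 : B.t = v⁻¹ := by
      have h6 : B.t * v = 1 := by
        have h7 : (1 : G) * r = B.t * v * r := by rw [one_mul]; exact h3
        exact (mul_right_cancel h7).symm
      exact eq_inv_of_mul_eq_one_left h6
    exact L.t_not hk (by rw [h5]; exact L.W.inv_mem hv)
  · intro s hs
    obtain ⟨r, hr, h1⟩ := N.ψ_surj ((ν + 1)⁻¹ * L.ψ s)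
    set! s1 := N.h i * r * (N.h i)⁻¹ * r⁻¹ with hs1
    have hs1S : s1 ∈ N.S := N.S.mul_mem (N.h_S i r hr) (N.S.inv_mem hr)
    have hψinv : ∀ g ∈ N.S, L.ψ g⁻¹ = L.ψ g := by
      intro g hg
      have h3 := L.ψ_mul hk (N.S_le hg) (N.S_le (N.S.inv_mem hg))
      rw [mul_inv_cancel, L.ψ_W L.W.one_mem] at h3
      have := CharTwo.add_self_eq_zero (L.ψ g)
      linear_combination -h3 - this
    have h2 : L.ψ s1 = L.ψ s := by
      rw [hs1, L.ψ_mul hk (N.S_le (N.h_S i r hr)) (N.S_le (N.S.inv_mem hr)), h_ψ N hk i hr,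
        hψinv r hr, hi, h1]
      have : ν * ((ν + 1)⁻¹ * L.ψ s) + (ν + 1)⁻¹ * L.ψ s = (ν + 1) * (ν + 1)⁻¹ * L.ψ s := by ring
      rw [this, mul_inv_cancel₀ hν, one_mul]
    have h3 : L.ψ (s1⁻¹ * s) = 0 := by
      rw [L.ψ_mul hk (N.S_le (N.S.inv_mem hs1S)) (N.S_le hs), hψinv _ hs1S, h2,
        CharTwo.add_self_eq_zero]
    rcases N.ψ_ker _ (N.S.mul_mem (N.S.inv_mem hs1S) hs) h3 with h4 | h4
    · left
      have : s = s1 * (s1⁻¹ * s) := by group
      rw [this]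
      exact (W1 N hk i).mul_mem (hin r hr) (hWle h4)
    · right
      have : s * B.t = s1 * (s1⁻¹ * s * B.t) := by group
      rw [this]
      exact (W1 N hk i).mul_mem (hin r hr) (hWle h4)
  · rintro j _ ⟨r, hr, w, hw, rfl⟩
    refine ⟨N.h j * r * (N.h j)⁻¹, N.h_S j r hr, N.h j * w * (N.h j)⁻¹, h_W_mem N j hw, ?_⟩
    have h1 : N.h i * (N.h j * r * (N.h j)⁻¹) * (N.h i)⁻¹ =
        N.h j * (N.h i * r * (N.h i)⁻¹) * (N.h j)⁻¹ := by
      rw [← N.h_mul i j r hr, ← N.h_mul j i r hr, mul_comm i j]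
    rw [h1]; group

end Cfsg.Agent.StdU3.Tower.Half
end

-- part: StdU3/Tower/Step
section
/-!
# The step of the tower
-/

set_option autoImplicit false
set_option linter.unusedSectionVars false

namespace Cfsg.Agent.StdU3.Tower.Step

open Cfsg.Agent.StdU3.Tower.Base Cfsg.Agent.StdU3.Tower.Next Cfsg.Agent.StdU3.Tower.Half
  Cfsg.Agent.StdU3.Tower.Pairing

variable {G : Type*} [Group G] {F : Type*} [Field F] {ι : Type*} [CommGroup ι] [CharP F 2]
variable {B : HB G F ι} {k : ℕ} {L : Lvl B k} {N : Nxt L} (V : Hlf N)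

include V in
theorem ψ_surj (hk : 1 ≤ k) (u : F) : ∃ s ∈ V.V, L.ψ s = u := by
  obtain ⟨s, hs, h⟩ := N.ψ_surj u
  rcases V.cov s hs with h1 | h1
  · exact ⟨s, h1, h⟩
  · refine ⟨s * B.t, h1, ?_⟩
    rw [L.ψ_mul hk (N.S_le hs) (L.Y_le_NH L.t_mem_Y), L.ψ_t, add_zero, h]

theorem ψ_ker {s : G} (hs : s ∈ V.V) (h : L.ψ s = 0) : s ∈ L.W := by
  rcases N.ψ_ker s (V.V_le hs) h with h1 | h1
  · exact h1
  · exfalso
    apply V.t_not
    have : B.t = s⁻¹ * (s * B.t) := by group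
    rw [this]
    exact V.V.mul_mem (V.V.inv_mem hs) (V.W_le h1)

theorem ψ_mulV (hk : 1 ≤ k) {s r : G} (hs : s ∈ V.V) (hr : r ∈ V.V) :
    L.ψ (s * r) = L.ψ s + L.ψ r := L.ψ_mul hk (N.S_le (V.V_le hs)) (N.S_le (V.V_le hr))

/-- commutator -/
def cm (s w : G) : G := s * w * s⁻¹ * w⁻¹

theorem cm_mem (N : Nxt L) (hk : 1 ≤ k) {s w : G} (hs : s ∈ N.S) (hw : w ∈ L.W) :
    cm s w ∈ L.W := L.W.mul_mem (W_normal N hk hs hw) (L.W.inv_mem hw)

theorem β_cm (N : Nxt L) (hk : 1 ≤ k) {s w : G} (hs : s ∈ N.S) (hw : w ∈ L.W) :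
    L.β (cm s w) = 0 := by
  have h1 := W_normal N hk hs hw
  rw [cm, L.β_mul h1 (L.W.inv_mem hw), L.β_conj (N.S_le hs).1 hw h1, L.β_inv hw,
    CharTwo.add_self_eq_zero]

theorem cm_mul_left (s r w : G) : cm (s * r) w = (s * cm r w * s⁻¹) * cm s w := by
  rw [cm, cm, cm]; group

theorem cm_mul_right (N : Nxt L) (hk : 1 ≤ k) {s w v : G} (hs : s ∈ N.S) (hw : w ∈ L.W)
    (hv : v ∈ L.W) : cm s (w * v) = cm s w * cm s v := by
  have h1 := L.comm _ (cm_mem N hk hs hv) _ (L.W.inv_mem hw)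
  calc cm s (w * v) = s * w * s⁻¹ * (cm s v * w⁻¹) := by rw [cm, cm]; group
    _ = s * w * s⁻¹ * (w⁻¹ * cm s v) := by rw [h1]
    _ = _ := by simp only [cm]; group

theorem cm_inv (N : Nxt L) (hk : 1 ≤ k) {s w : G} (hs : s ∈ N.S) (hw : w ∈ L.W) :
    cm s w⁻¹ = (cm s w)⁻¹ := by
  have h := cm_mul_right N hk hs hw (L.W.inv_mem hw)
  rw [mul_inv_cancel] at h
  have h1 : cm s 1 = 1 := by rw [cm]; group
  rw [h1] at h
  exact (inv_eq_of_mul_eq_one_right h.symm).symm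

theorem cm_W {w v : G} (hw : w ∈ L.W) (hv : v ∈ L.W) : cm w v = 1 := by
  rw [cm, L.comm w hw v hv, mul_inv_cancel_right, mul_inv_cancel]

theorem pair1 [Finite F] (hk : 1 ≤ k) (j : ℕ)
    (hj : ∀ s ∈ V.V, ∀ w ∈ L.W, (cm s w) ^ 2 ^ (j + 1) = 1) :
    ∃ c : F, ∀ s ∈ V.V, ∀ w ∈ L.W, ∀ u, (cm s w) ^ 2 ^ j = B.z u → u * u = c * (L.ψ s * L.β w) := by
  have hmem : ∀ s ∈ V.V, ∀ w ∈ L.W, ∃ u, (cm s w) ^ 2 ^ j = B.z u := by
    intro s hs w hw
    apply L.omega hk (L.W.pow_mem (cm_mem N hk (V.V_le hs) hw) _)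
    rw [← pow_two, ← pow_mul, ← pow_succ]
    exact hj s hs w hw
  refine pairing B.z B.z_add (fun b c => B.z_injective) V.V L.W L.ψ L.β
    (fun s w => (cm s w) ^ 2 ^ j) (fun s hs r hr => ψ_mulV V hk hs hr)
    (fun w hw v hv => L.β_mul hw hv) (ψ_surj V hk) L.β_surj hmem ?_ ?_ ?_ ?_ ?_
  · intro s hs r hr w hw
    obtain ⟨u, hu⟩ := hmem r hr w hw
    have hsS := V.V_le hs
    have h1 : (s * cm r w * s⁻¹) ^ 2 ^ j = (cm r w) ^ 2 ^ j := by
      rw [conj_pow, hu, B.z_cen s (N.S_le hsS).1, mul_inv_cancel_right]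
    have h2 : Commute (s * cm r w * s⁻¹) (cm s w) := L.comm _
      (W_normal N hk hsS (cm_mem N hk (V.V_le hr) hw)) _ (cm_mem N hk hsS hw)
    have h3 : Commute (cm r w ^ 2 ^ j) (cm s w ^ 2 ^ j) := L.comm _
      (L.W.pow_mem (cm_mem N hk (V.V_le hr) hw) _) _ (L.W.pow_mem (cm_mem N hk hsS hw) _)
    show cm (s * r) w ^ 2 ^ j = cm s w ^ 2 ^ j * cm r w ^ 2 ^ j
    rw [cm_mul_left, h2.mul_pow, h1, h3.eq]
  · intro s hs w hw v hv
    have hsS := V.V_le hs
    have h3 : Commute (cm s w) (cm s v) := L.comm _ (cm_mem N hk hsS hw) _ (cm_mem N hk hsS hv)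
    show cm s (w * v) ^ 2 ^ j = cm s w ^ 2 ^ j * cm s v ^ 2 ^ j
    rw [cm_mul_right N hk hsS hw hv, h3.mul_pow]
  · intro s hs w hw h
    show cm s w ^ 2 ^ j = 1
    rw [cm_W (ψ_ker V hs h) hw, one_pow]
  · intro s hs w hw h
    obtain ⟨v, hv, rfl⟩ := L.β_eq_zero hw h
    show cm s (v * v) ^ 2 ^ j = 1
    rw [cm_mul_right N hk (V.V_le hs) hv hv, ← pow_two, ← pow_mul, ← pow_succ']
    exact hj s hs v hv
  · intro ν hν
    obtain ⟨i, hi⟩ := B.wt_surj ν hν
    refine ⟨N.h i, fun s hs => ⟨V.h_V i s hs, ?_⟩, fun w hw => ⟨h_W_mem N i hw, ?_⟩, ?_⟩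
    · rw [h_ψ N hk i (V.V_le hs), hi]
    · rw [h_β N i hw, hi]
    · intro s hs w hw u hu
      have h1 : cm (N.h i * s * (N.h i)⁻¹) (N.h i * w * (N.h i)⁻¹) = N.h i * cm s w * (N.h i)⁻¹ := by
        rw [cm, cm]; group
      show cm (N.h i * s * (N.h i)⁻¹) (N.h i * w * (N.h i)⁻¹) ^ 2 ^ j = B.z (ν * u)
      rw [h1, conj_pow]
      have h2 : cm s w ^ 2 ^ j = B.z u := hu
      rw [h2, h_z N i, hi]

/-- `s ^ 2` acts trivially on `W`. -/
theorem cm_cm (N : Nxt L) (hk : 1 ≤ k) {s w : G} (hs : s ∈ N.S) (hw : w ∈ L.W) :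
    cm s (cm s w) = (cm s w * cm s w)⁻¹ := by
  have h1 : cm (s * s) w = 1 := cm_W (sq_mem N hk hs) hw
  rw [cm_mul_left] at h1
  have hc := cm_mem N hk hs hw
  have h2 : cm s (cm s w) = (s * cm s w * s⁻¹) * (cm s w)⁻¹ := by rw [cm, cm]
  rw [h2, eq_inv_of_mul_eq_one_left h1]; group

theorem pow_of_le {x : G} {i j : ℕ} (hij : i ≤ j) (h : x ^ 2 ^ i = 1) : x ^ 2 ^ j = 1 := by
  obtain ⟨m, rfl⟩ := Nat.exists_eq_add_of_le hij
  rw [pow_add, pow_mul, h, one_pow]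

theorem cm_pow_k (N : Nxt L) (hk : 1 ≤ k) {s w : G} (hs : s ∈ N.S) (hw : w ∈ L.W) :
    (cm s w) ^ 2 ^ k = 1 := by
  rw [L.β_spec (cm_mem N hk hs hw), β_cm N hk hs hw, B.z_zero]

/-- first reduction, `k ≥ 2` -/
theorem cm_pow_pred [Finite F] (hk : 2 ≤ k) (hF : ∃ ν : F, ν ≠ 0 ∧ ν ≠ 1) {s w : G}
    (hs : s ∈ V.V) (hw : w ∈ L.W) : (cm s w) ^ 2 ^ (k - 1) = 1 := by
  have hk1 : 1 ≤ k := by omega
  obtain ⟨c, hc⟩ := pair1 V hk1 (k - 1) (fun s hs w hw => by
    have e : k - 1 + 1 = k := by omega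
    rw [e]; exact cm_pow_k N hk1 (V.V_le hs) hw)
  -- the relation
  have key : ∀ s ∈ V.V, ∀ w ∈ L.W, ∀ u, (cm s w) ^ 2 ^ (k - 1) = B.z u → u * u = c * (L.ψ s * u) := by
    intro s hs w hw u hu
    have hsS := V.V_le hs
    obtain ⟨v, hv, h1⟩ := L.β_eq_zero (cm_mem N hk1 hsS hw) (β_cm N hk1 hsS hw)
    have h2 : v ^ 2 ^ k = B.z u := by
      rw [← hu, h1, ← pow_two, ← pow_mul, ← pow_succ']
      congr 2; omega
    have h3 : L.β v = u := L.β_eq hv h2
    have h4 := cm_cm N hk1 hsS hw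
    have h5 : cm s (cm s w) = cm s v * cm s v := by rw [h1, cm_mul_right N hk1 hsS hv hv]
    have h6 : cm s v ^ 2 ^ (k - 1) = B.z u := by
      have e : k - 1 = (k - 2) + 1 := by omega
      have h7 : cm s v ^ 2 ^ (k - 1) = (cm s v * cm s v) ^ 2 ^ (k - 2) := by
        rw [← pow_two, ← pow_mul, ← pow_succ', ← e]
      rw [h7, ← h5, h4, inv_pow, ← pow_two, ← pow_mul, ← pow_succ', ← e, hu, B.z_inv]
    have h8 := hc s hs v hv u h6
    rw [h3] at h8
    exact h8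
  have hc0 : c = 0 := by
    by_contra hc0
    obtain ⟨s1, hs1, hψ⟩ := ψ_surj V hk1 (1 : F)
    have h1 : ∀ x : F, x ≠ 0 → x = c := by
      intro x hx
      obtain ⟨w1, hw1, hβ⟩ := L.β_surj x
      obtain ⟨u, hu⟩ := L.omega hk1 (L.W.pow_mem (cm_mem N hk1 (V.V_le hs1) hw1) (2 ^ (k - 1))) (by
        rw [← pow_two, ← pow_mul, ← pow_succ]
        have e : k - 1 + 1 = k := by omega
        rw [e]; exact cm_pow_k N hk1 (V.V_le hs1) hw1)
      have h2 := hc s1 hs1 w1 hw1 u hu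
      have h3 := key s1 hs1 w1 hw1 u hu
      rw [hψ, one_mul] at h2 h3
      rw [hβ] at h2
      have hu0 : u ≠ 0 := by
        rintro rfl
        rw [zero_mul] at h2
        exact mul_ne_zero hc0 hx h2.symm
      have h4 : u = c := mul_right_cancel₀ hu0 h3
      rw [h4] at h2
      exact (mul_left_cancel₀ hc0 h2).symm
    obtain ⟨ν, hν0, hν1⟩ := hF
    exact hν1 ((h1 ν hν0).trans (h1 1 one_ne_zero).symm)
  obtain ⟨u, hu⟩ := L.omega hk1 (L.W.pow_mem (cm_mem N hk1 (V.V_le hs) hw) (2 ^ (k - 1))) (by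
    rw [← pow_two, ← pow_mul, ← pow_succ]
    have e : k - 1 + 1 = k := by omega
    rw [e]; exact cm_pow_k N hk1 (V.V_le hs) hw)
  have h2 := hc s hs w hw u hu
  rw [hc0, zero_mul, mul_self_eq_zero] at h2
  rw [hu, h2, B.z_zero]

/-- descent -/
theorem cm_descend (hk1 : 1 ≤ k) {j : ℕ} (hj : 1 ≤ j) (hjk : j + 1 ≤ k - 1)
    (h : ∀ s ∈ V.V, ∀ w ∈ L.W, (cm s w) ^ 2 ^ (j + 1) = 1) {s w : G} (hs : s ∈ V.V) (hw : w ∈ L.W) :
    (cm s w) ^ 2 ^ j = 1 := by
  have hsS := V.V_le hs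
  obtain ⟨v, hv, h1⟩ := L.β_eq_zero (cm_mem N hk1 hsS hw) (β_cm N hk1 hsS hw)
  have h2 : L.β v = 0 := by
    apply L.β_eq hv
    have h3 := pow_of_le hjk (h s hs w hw)
    rw [h1, ← pow_two, ← pow_mul, ← pow_succ'] at h3
    have e : k - 1 + 1 = k := by omega
    rw [e] at h3
    rw [h3, B.z_zero]
  obtain ⟨v1, hv1, rfl⟩ := L.β_eq_zero hv h2
  have h4 := cm_cm N hk1 hsS hw
  have h5 : cm s (cm s w) = (cm s v1) ^ 2 ^ 2 := by
    rw [h1, cm_mul_right N hk1 hsS hv hv, cm_mul_right N hk1 hsS hv1 hv1]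
    rw [show (2 : ℕ) ^ 2 = 4 from rfl, pow_succ, pow_succ, pow_succ, pow_one]; group
  have h6 : (cm s w) ^ 2 ^ j = ((cm s (cm s w)) ^ 2 ^ (j - 1))⁻¹ := by
    rw [h4, inv_pow, inv_inv, ← pow_two, ← pow_mul, ← pow_succ']
    congr 2; omega
  rw [h6, h5, ← pow_mul, ← pow_add]
  have e : 2 + (j - 1) = j + 1 := by omega
  rw [e, h s hs v1 hv1, inv_one]

theorem cm_sq [Finite F] (hk : 1 ≤ k) (hF : ∃ ν : F, ν ≠ 0 ∧ ν ≠ 1) :
    ∀ s ∈ V.V, ∀ w ∈ L.W, (cm s w) ^ 2 ^ (0 + 1) = 1 := by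
  by_cases hk2 : k = 1
  · subst hk2
    intro s hs w hw
    exact cm_pow_k N hk (V.V_le hs) hw
  · have key : ∀ m : ℕ, ∀ j, 1 ≤ j → j + m = k - 1 → ∀ s ∈ V.V, ∀ w ∈ L.W, (cm s w) ^ 2 ^ j = 1 := by
      intro m
      induction m with
      | zero =>
        intro j hj hjk s hs w hw
        rw [add_zero] at hjk; subst hjk
        exact cm_pow_pred V (by omega) hF hs hw
      | succ m ih =>
        intro j hj hjk s hs w hw
        exact cm_descend V hk hj (by omega) (ih (j + 1) (by omega) (by omega)) hs hw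
    exact key (k - 2) 1 le_rfl (by omega)

theorem ts (L : Lvl B k) (s : G) : B.t * s * B.t = (L.a s)⁻¹ * s := by
  have h := L.conj_t s
  have ht := B.t_inv
  have h1 : L.a s = s * B.t * s⁻¹ * B.t := rfl
  rw [h1]
  calc B.t * s * B.t = B.t⁻¹ * s * B.t⁻¹ := by rw [ht]
    _ = _ := by group

/-- the square of `s` -/
theorem sq_rel (hk : 1 ≤ k) {s : G} (hs : s ∈ V.V) :
    (s * s) * (s * s) = (L.a s * L.a s) * cm s (L.a s) := by
  have hsS := V.V_le hs
  have hsq := sq_mem N hk hsS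
  have ha := L.a_mem hk (N.S_le hsS)
  have h1 : B.t * (s * s) * B.t = (s * s)⁻¹ := L.inv' hsq
  have h2 : B.t * (s * s) * B.t = ((L.a s)⁻¹ * s) * ((L.a s)⁻¹ * s) := by
    rw [← ts]
    have ht := B.t_sq
    calc B.t * (s * s) * B.t = B.t * s * (1 : G) * s * B.t := by group
      _ = B.t * s * (B.t * B.t) * s * B.t := by rw [ht]
      _ = _ := by group
  have h3 : ((L.a s)⁻¹ * s) * ((L.a s)⁻¹ * s) = (L.a s)⁻¹ * (s * (L.a s)⁻¹ * s⁻¹) * (s * s) := by group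
  have h4 : s * (L.a s)⁻¹ * s⁻¹ = cm s (L.a s)⁻¹ * (L.a s)⁻¹ := by rw [cm]; group
  rw [h1] at h2
  rw [h3, h4, cm_inv N hk hsS ha] at h2
  have hc := cm_mem N hk hsS ha
  have h5 : (s * s) * (s * s) = ((L.a s)⁻¹ * ((cm s (L.a s))⁻¹ * (L.a s)⁻¹))⁻¹ := by
    rw [eq_inv_iff_mul_eq_one]
    have h6 : (L.a s)⁻¹ * ((cm s (L.a s))⁻¹ * (L.a s)⁻¹) * (s * s) = (s * s)⁻¹ := h2.symm
    have h7 : (L.a s)⁻¹ * ((cm s (L.a s))⁻¹ * (L.a s)⁻¹) = (s * s)⁻¹ * (s * s)⁻¹ :=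
      eq_mul_inv_of_mul_eq h6
    rw [h7]; group
  rw [h5, mul_inv_rev, mul_inv_rev, inv_inv, inv_inv]
  have h8 := L.comm _ ha _ hc
  rw [mul_assoc, mul_assoc, h8]

/-- **First alternative**: `V` centralises `W`, or `k = 1` and we have the exceptional case. -/
theorem centralises_or [Finite F] (hk : 1 ≤ k) (hF : ∃ ν : F, ν ≠ 0 ∧ ν ≠ 1) :
    (∀ s ∈ V.V, ∀ w ∈ L.W, s * w = w * s) ∨
      (k = 1 ∧ (∀ s ∈ V.V, ∃ b, s * s = B.z b) ∧
        ∀ s ∈ V.V, ∀ w ∈ L.W, ∀ u, cm s w = B.z u → u * u = L.ψ s * L.β w) := by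
  have hsq := cm_sq V hk hF
  obtain ⟨c, hc⟩ := pair1 V hk 0 hsq
  simp only [pow_zero, pow_one] at hc
  have hmem : ∀ s ∈ V.V, ∀ w ∈ L.W, ∃ u, cm s w = B.z u := by
    intro s hs w hw
    apply L.omega hk (cm_mem N hk (V.V_le hs) hw)
    have := hsq s hs w hw
    rwa [zero_add, pow_one, pow_two] at this
  by_cases hc0 : c = 0
  · left
    intro s hs w hw
    obtain ⟨u, hu⟩ := hmem s hs w hw
    have h1 := hc s hs w hw u hu
    rw [hc0, zero_mul, mul_self_eq_zero] at h1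
    rw [h1, B.z_zero, cm, mul_inv_eq_one, mul_inv_eq_iff_eq_mul] at hu
    exact hu
  · right
    -- `β (s * s) = 0` if `ψ s ≠ 0`
    have hcs : ∀ s ∈ V.V, L.ψ s ≠ 0 → L.β (s * s) = 0 := by
      intro s hs hψ
      have h1 : cm s (s * s) = B.z 0 := by rw [B.z_zero, cm]; group
      have h2 := hc s hs _ (sq_mem N hk (V.V_le hs)) 0 h1
      rw [zero_mul] at h2
      exact (mul_eq_zero.1 ((mul_eq_zero.1 h2.symm).resolve_left hc0)).resolve_left hψ
    have hk1 : k = 1 := by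
      by_contra hk1
      obtain ⟨s, hs, hψ⟩ := ψ_surj V hk (1 : F)
      have h1 := hcs s hs (by rw [hψ]; exact one_ne_zero)
      have hsS := V.V_le hs
      have ha := L.a_mem hk (N.S_le hsS)
      obtain ⟨u, hu⟩ := hmem s hs _ ha
      have h2 := sq_rel V hk hs
      rw [hu] at h2
      have hsqm := sq_mem N hk hsS
      have h3 : ((s * s) * (L.a s)⁻¹) ^ 2 ^ k = 1 := by
        have h4 : ((s * s) * (L.a s)⁻¹) ^ 2 = B.z u := by
          have h5 : Commute (s * s) (L.a s)⁻¹ := L.comm _ hsqm _ (L.W.inv_mem ha)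
          have h6 := B.z_cen (L.a s)⁻¹ (B.H.inv_mem (L.W_le ha)) u
          rw [h5.mul_pow, pow_two, h2, pow_two]
          calc L.a s * L.a s * B.z u * ((L.a s)⁻¹ * (L.a s)⁻¹)
              = L.a s * L.a s * (B.z u * (L.a s)⁻¹) * (L.a s)⁻¹ := by group
            _ = L.a s * (L.a s * ((L.a s)⁻¹ * B.z u)) * (L.a s)⁻¹ := by rw [h6]; group
            _ = L.a s * (B.z u * (L.a s)⁻¹) := by group
            _ = L.a s * ((L.a s)⁻¹ * B.z u) := by rw [h6]
            _ = _ := by group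
        obtain ⟨m, rfl⟩ : ∃ m, k = m + 2 := ⟨k - 2, by omega⟩
        have e : 2 ^ (m + 2) = 2 * (2 * 2 ^ m) := by rw [pow_add]; ring
        rw [e, pow_mul, h4, pow_mul, pow_two, B.z_sq, one_pow]
      have h7 : L.β ((s * s) * (L.a s)⁻¹) = 0 :=
        L.β_eq (L.W.mul_mem hsqm (L.W.inv_mem ha)) (by rw [h3, B.z_zero])
      rw [L.β_mul hsqm (L.W.inv_mem ha), h1, zero_add, L.β_inv ha] at h7
      have h8 : L.ψ s = 0 := h7
      rw [hψ] at h8
      exact one_ne_zero h8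
    subst hk1
    have hZsq : ∀ s ∈ V.V, ∃ b, s * s = B.z b := by
      intro s hs
      have key : L.β (s * s) = 0 ∨ s ∈ L.W := by
        by_cases h : L.ψ s = 0
        · exact Or.inr (ψ_ker V hs h)
        · exact Or.inl (hcs s hs h)
      rcases key with h | h
      · obtain ⟨v, hv, h1⟩ := L.β_eq_zero (sq_mem N hk (V.V_le hs)) h
        exact ⟨L.β v, by rw [h1, ← L.β_spec hv, pow_one, pow_two]⟩
      · exact ⟨L.β s, by rw [← L.β_spec h, pow_one, pow_two]⟩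
    refine ⟨rfl, hZsq, ?_⟩
    have hc1 : c = 1 := by
      obtain ⟨s, hs, hψ⟩ := ψ_surj V hk (1 : F)
      have hsS := V.V_le hs
      have ha := L.a_mem hk (N.S_le hsS)
      have h2 := sq_rel V hk hs
      obtain ⟨b, hb⟩ := hZsq s hs
      rw [hb, B.z_sq] at h2
      have h3 : L.a s * L.a s = B.z (L.β (L.a s)) := by rw [← L.β_spec ha, pow_one, pow_two]
      have h4 : L.β (L.a s) = 1 := hψ
      rw [h3, h4] at h2
      have h5 : cm s (L.a s) = B.z 1 := by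
        rw [← B.z_inv 1]; exact (inv_eq_of_mul_eq_one_right h2.symm).symm
      have h6 := hc s hs _ ha 1 h5
      rw [hψ, h4] at h6
      simpa using h6.symm
    intro s hs w hw u hu
    rw [hc s hs w hw u hu, hc1, one_mul]

end Cfsg.Agent.StdU3.Tower.Step
end

-- part: StdU3/Tower/Rinv
section
/-!
# Invariance of the next group under a `2`-group, and the odd group `K0`
-/

set_option autoImplicit false
set_option linter.unusedSectionVars false

namespace Cfsg.Agent.StdU3.Tower.Rinv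

open Cfsg.Agent.StdU3.Tower.Base Cfsg.Agent.StdU3.Tower.Next Cfsg.Agent.StdU3.Tower.Half
  Cfsg.Agent.StdU3.Tower.Pairing Cfsg.Agent.StdU3.Tower.Step

variable {G : Type*} [Group G] {F : Type*} [Field F] {ι : Type*} [CommGroup ι] [CharP F 2]
variable {B : HB G F ι} {k : ℕ} {L : Lvl B k} {N : Nxt L}

theorem K0_inter (N : Nxt L) {κ : G} (h1 : κ ∈ B.K0) (h2 : κ ∈ N.S) : κ = 1 := by
  obtain ⟨n, hn⟩ := N.S_two ⟨κ, h2⟩
  exact K0_two B h1 (congrArg Subtype.val hn)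

/-- the elements of `K0` normalising `W` and `T ≤ S` centralise `T`. -/
theorem K0_cent (N : Nxt L) (hk : 1 ≤ k) {κ : G} (hκ : κ ∈ B.K0)
    (hW : ∀ x ∈ L.W, κ * x * κ⁻¹ ∈ L.W) {T : Subgroup G} (hTS : T ≤ N.S)
    (hT : ∀ s ∈ T, κ * s * κ⁻¹ ∈ T) : ∀ s ∈ T, κ * s = s * κ := by
  intro s hs
  have hκ1 : κ ∈ K1 L := ⟨hκ, K0_comm L hk hκ hW⟩
  have h4 : κ * s * κ⁻¹ * s⁻¹ ∈ T := T.mul_mem (hT s hs) (T.inv_mem hs)
  have h5 : κ * s * κ⁻¹ * s⁻¹ ∈ K1 L := by
    have h6 := K1_normal L hk (N.S_le (hTS hs)) ((K1 L).inv_mem hκ1)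
    have e1 : κ * s * κ⁻¹ * s⁻¹ = κ * (s * κ⁻¹ * s⁻¹) := by group
    rw [e1]
    exact (K1 L).mul_mem hκ1 h6
  have h6 := K0_inter N h5.1 (hTS h4)
  rw [mul_inv_eq_one, mul_inv_eq_iff_eq_mul] at h6
  exact h6

theorem a_conj_comm {c : G} (hc : c * B.t = B.t * c) (g : G) :
    L.a (c * g * c⁻¹) = c * L.a g * c⁻¹ := by
  have h2 : c⁻¹ * B.t = B.t * c⁻¹ := by
    rw [inv_mul_eq_iff_eq_mul, ← mul_assoc, hc, mul_inv_cancel_right]
  rw [Lvl.a, Lvl.a]
  calc c * g * c⁻¹ * B.t * (c * g * c⁻¹)⁻¹ * B.t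
      = c * g * (c⁻¹ * B.t) * c * g⁻¹ * (c⁻¹ * B.t) := by group
    _ = _ := by rw [h2]; group

/-- the elements of `K0` normalising `V` normalise `W`. -/
theorem K0_W (V : Hlf N) (hk : 1 ≤ k) {κ : G} (hκ : κ ∈ B.K0)
    (hV : ∀ s ∈ V.V, κ * s * κ⁻¹ ∈ V.V) : ∀ x ∈ L.W, κ * x * κ⁻¹ ∈ L.W := by
  intro x hx
  have h1 := hV x (V.W_le hx)
  apply ψ_ker V h1
  have h2 := L.a_mem hk (N.S_le (V.V_le h1))
  rw [Lvl.ψ]
  apply L.β_eq h2
  rw [a_conj_comm (B.K0_t κ hκ), L.a_W hx, conj_pow, L.β_spec (L.W.mul_mem hx hx), L.β_sq hx,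
    B.z_zero, mul_one, mul_inv_cancel]

theorem K0_V (V : Hlf N) (hk : 1 ≤ k) {κ : G} (hκ : κ ∈ B.K0)
    (hV : ∀ s ∈ V.V, κ * s * κ⁻¹ ∈ V.V) : ∀ s ∈ V.V, κ * s = s * κ :=
  K0_cent N hk hκ (K0_W V hk hκ hV) V.V_le hV

/-- elements of odd order of `C_H(t)` are in `K0`. -/
theorem mem_K0 {c : G} (hH : c ∈ B.H) (ht : c * B.t = B.t * c) (h : c ^ Nat.card B.K0 = 1) :
    c ∈ B.K0 := by
  obtain ⟨b, κ, hκ, h1⟩ := B.dec c hH ht
  obtain ⟨m, hm⟩ := B.K0_odd
  have hc1 : Commute (B.z b) κ := (B.z_cen κ (B.K0_le hκ) b).symm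
  have hc2 : Commute B.t κ := (B.K0_t κ hκ).symm
  have hc3 : Commute B.t (B.z b) := B.z_cen B.t B.t_mem b
  rcases h1 with h1 | h1
  · rw [h1, hc1.mul_pow, K0_pow B hκ, mul_one, hm, pow_succ, pow_mul, pow_two, B.z_sq, one_pow,
      one_mul] at h
    rw [h1, h, one_mul]; exact hκ
  · exfalso
    have h2 : (B.t * B.z b) * (B.t * B.z b) = 1 := by
      calc (B.t * B.z b) * (B.t * B.z b) = (B.t * B.z b) * (B.z b * B.t) := by rw [hc3.eq]
        _ = B.t * (B.z b * B.z b) * B.t := by group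
        _ = 1 := by rw [B.z_sq, mul_one, B.t_sq]
    rw [h1, (hc2.mul_left hc1).mul_pow, K0_pow B hκ, mul_one, hm, pow_succ, pow_mul, pow_two, h2,
      one_pow, one_mul] at h
    have h3 : B.z b = B.t := by
      have := eq_inv_of_mul_eq_one_right h
      rw [this, B.t_inv]
    exact B.t_not b h3

variable {R : Subgroup G} (hR : Rg B R)

include hR in
theorem R_K0 {r κ : G} (hr : r ∈ R) (hκ : κ ∈ B.K0) : r * κ * r⁻¹ ∈ B.K0 := by
  apply mem_K0 (hR.H r hr κ (B.K0_le hκ))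
  · have h1 := hR.t r hr
    have h2 := B.K0_t κ hκ
    have h3 : r⁻¹ * B.t = B.t * r⁻¹ := by
      rw [inv_mul_eq_iff_eq_mul, ← mul_assoc, h1, mul_inv_cancel_right]
    calc r * κ * r⁻¹ * B.t = r * (κ * (r⁻¹ * B.t)) := by group
      _ = r * (κ * B.t) * r⁻¹ := by rw [h3]; group
      _ = (r * B.t) * κ * r⁻¹ := by rw [h2]; group
      _ = _ := by rw [h1]; group
  · rw [conj_pow, K0_pow B hκ, mul_one, mul_inv_cancel]

theorem h_inv_S [Finite G] (N : Nxt L) (i : ι) {s : G} (hs : s ∈ N.S) :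
    (N.h i)⁻¹ * s * N.h i ∈ N.S := by
  have hf : Function.Injective
      (fun x : N.S => (⟨N.h i * x * (N.h i)⁻¹, N.h_S i x x.2⟩ : N.S)) := by
    intro a b hab
    have := congrArg Subtype.val hab
    simp only [mul_left_inj, mul_right_inj] at this
    exact Subtype.ext this
  obtain ⟨y, hy⟩ := Finite.surjective_of_injective hf ⟨s, hs⟩
  have h1 : N.h i * y * (N.h i)⁻¹ = s := congrArg Subtype.val hy
  rw [← h1]
  have e : (N.h i)⁻¹ * (N.h i * y * (N.h i)⁻¹) * N.h i = y := by group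
  rw [e]; exact y.2

theorem h_inv_W [Finite G] (N : Nxt L) (i : ι) {s : G} (hs : s ∈ L.W) :
    (N.h i)⁻¹ * s * N.h i ∈ L.W := by
  have hf : Function.Injective
      (fun x : L.W => (⟨N.h i * x * (N.h i)⁻¹, h_W_mem N i x.2⟩ : L.W)) := by
    intro a b hab
    have := congrArg Subtype.val hab
    simp only [mul_left_inj, mul_right_inj] at this
    exact Subtype.ext this
  obtain ⟨y, hy⟩ := Finite.surjective_of_injective hf ⟨s, hs⟩
  have h1 : N.h i * y * (N.h i)⁻¹ = s := congrArg Subtype.val hy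
  rw [← h1]
  have e : (N.h i)⁻¹ * (N.h i * y * (N.h i)⁻¹) * N.h i = y := by group
  rw [e]; exact y.2

/-- `[h i, s] ∈ V`. -/
theorem cov_h (V : Hlf N) (i : ι) {s : G} (hs : s ∈ N.S) : N.h i * s * (N.h i)⁻¹ * s⁻¹ ∈ V.V := by
  rcases V.cov s hs with h | h
  · exact V.V.mul_mem (V.h_V i s h) (V.V.inv_mem h)
  · have h1 := V.V.mul_mem (V.h_V i _ h) (V.V.inv_mem h)
    have h2 := h_t N i
    have e : N.h i * (s * B.t) * (N.h i)⁻¹ * (s * B.t)⁻¹ = N.h i * s * (N.h i)⁻¹ * s⁻¹ := by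
      have h3 : (N.h i)⁻¹ * B.t = B.t * (N.h i)⁻¹ := by
        rw [inv_mul_eq_iff_eq_mul, ← mul_assoc, h2, mul_inv_cancel_right]
      calc N.h i * (s * B.t) * (N.h i)⁻¹ * (s * B.t)⁻¹
          = N.h i * s * (B.t * (N.h i)⁻¹) * B.t⁻¹ * s⁻¹ := by group
        _ = _ := by rw [← h3]; group
    rwa [e] at h1

include hR in
/-- the action of `r h_i r⁻¹` on `S`. -/
theorem r_h [Finite G] (N : Nxt L) (hk : 1 ≤ k) (hRW : ∀ r ∈ R, ∀ x ∈ L.W, r * x * r⁻¹ ∈ L.W)
    (hRS : ∀ r ∈ R, ∀ s ∈ N.S, r * s * r⁻¹ ∈ N.S) {r : G} (hr : r ∈ R) (i : ι) :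
    ∃ j, (∀ s ∈ N.S, (r * N.h i * r⁻¹) * s * (r * N.h i * r⁻¹)⁻¹ = N.h j * s * (N.h j)⁻¹) ∨
      (∀ s ∈ N.S, (r * N.h i * r⁻¹) * s * (r * N.h i * r⁻¹)⁻¹ =
        B.t * (N.h j * s * (N.h j)⁻¹) * B.t⁻¹) := by
  obtain ⟨j, q, κ, hq, hκ, h1⟩ := hR.h r hr i
  obtain ⟨c, hc, h2⟩ := N.h_eq i
  obtain ⟨d, hd, h3⟩ := N.h_eq j
  have hc' := R_K0 hR hr hc
  have hqc := hq _ (B.K0_le hc')
  have htS : B.t ∈ N.S := N.Y_le L.t_mem_Y
  have ht' : ∀ κ ∈ B.K0, B.t * κ = κ * B.t := fun κ hκ => (B.K0_t κ hκ).symm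
  have hRi : ∀ r ∈ R, ∀ s ∈ N.S, r⁻¹ * s * r ∈ N.S := by
    intro r hr s hs
    have := hRS r⁻¹ (R.inv_mem hr) s hs
    rwa [inv_inv] at this
  have hRWi : ∀ r ∈ R, ∀ s ∈ L.W, r⁻¹ * s * r ∈ L.W := by
    intro r hr s hs
    have := hRW r⁻¹ (R.inv_mem hr) s hs
    rwa [inv_inv] at this
  -- the odd element
  set! κ' := r * c * r⁻¹ * κ * d⁻¹ with hκ'
  have hκ'K : κ' ∈ B.K0 := B.K0.mul_mem (B.K0.mul_mem hc' hκ) (B.K0.inv_mem hd)
  have hh3 : B.h j = d⁻¹ * N.h j := by rw [h3]; group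
  have e0 : r * N.h i * r⁻¹ = (r * c * r⁻¹) * (r * B.h i * r⁻¹) := by rw [h2]; group
  -- conjugation by `r h_i r⁻¹`
  have hconjS : ∀ s ∈ N.S, (r * N.h i * r⁻¹) * s * (r * N.h i * r⁻¹)⁻¹ ∈ N.S := by
    intro s hs
    have h4 := hRS r hr _ (N.h_S i _ (hRi r hr s hs))
    have e : (r * N.h i * r⁻¹) * s * (r * N.h i * r⁻¹)⁻¹ =
      r * (N.h i * (r⁻¹ * s * r) * (N.h i)⁻¹) * r⁻¹ := by group
    rw [e]; exact h4
  have hconjW : ∀ s ∈ L.W, (r * N.h i * r⁻¹) * s * (r * N.h i * r⁻¹)⁻¹ ∈ L.W := by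
    intro s hs
    have h4 := hRW r hr _ (h_W_mem N i (hRWi r hr s hs))
    have e : (r * N.h i * r⁻¹) * s * (r * N.h i * r⁻¹)⁻¹ =
      r * (N.h i * (r⁻¹ * s * r) * (N.h i)⁻¹) * r⁻¹ := by group
    rw [e]; exact h4
  -- `q` acts trivially
  have hqt : ∀ g ∈ B.H, q * g * q⁻¹ = g := fun g hg => by
    rw [hq g hg, mul_inv_cancel_right]
  have hqt' : ∀ g ∈ B.H, q⁻¹ * g * q = g := fun g hg => by
    rw [mul_assoc, ← hq g hg, inv_mul_cancel_left]
  have hSH : ∀ s ∈ N.S, s ∈ B.H := fun s hs => (N.S_le hs).1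
  have key : (∀ s ∈ N.S, κ' * s * κ'⁻¹ ∈ N.S) → (∀ s ∈ L.W, κ' * s * κ'⁻¹ ∈ L.W) →
      ∀ s ∈ N.S, κ' * s * κ'⁻¹ = s := by
    intro h4 h5 s hs
    have := K0_cent N hk hκ'K h5 le_rfl h4 s hs
    rw [this, mul_inv_cancel_right]
  refine ⟨j, ?_⟩
  rcases h1 with h1 | h1
  · left
    have e1 : r * N.h i * r⁻¹ = q * κ' * N.h j := by
      calc r * N.h i * r⁻¹ = (r * c * r⁻¹ * q) * κ * B.h j := by rw [e0, h1]; group
        _ = q * (r * c * r⁻¹) * κ * B.h j := by rw [← hqc]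
        _ = _ := by rw [hh3, hκ']; group
    have e2 : κ' = q⁻¹ * (r * N.h i * r⁻¹) * (N.h j)⁻¹ := by rw [e1]; group
    have e3 : ∀ s, κ' * s * κ'⁻¹ = q⁻¹ * ((r * N.h i * r⁻¹) * ((N.h j)⁻¹ * s * N.h j) *
        (r * N.h i * r⁻¹)⁻¹) * q := by intro s; rw [e2]; group
    have h4 : ∀ s ∈ N.S, κ' * s * κ'⁻¹ ∈ N.S := by
      intro s hs
      have h5 := hconjS _ (h_inv_S N j hs)
      rw [e3, hqt' _ (hSH _ h5)]
      exact h5
    have h5 : ∀ s ∈ L.W, κ' * s * κ'⁻¹ ∈ L.W := by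
      intro s hs
      have h5 := hconjW _ (h_inv_W N j hs)
      rw [e3, hqt' _ (L.W_le h5)]
      exact h5
    intro s hs
    have h6 := N.h_S j s hs
    have e4 : q * κ' * N.h j * s * (q * κ' * N.h j)⁻¹ =
      q * (κ' * (N.h j * s * (N.h j)⁻¹) * κ'⁻¹) * q⁻¹ := by group
    rw [e1, e4, key h4 h5 _ h6, hqt _ (hSH _ h6)]
  · right
    have hti := B.t_inv
    have e1 : r * N.h i * r⁻¹ = q * B.t * κ' * N.h j := by
      calc r * N.h i * r⁻¹ = (r * c * r⁻¹ * q) * B.t * κ * B.h j := by rw [e0, h1]; group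
        _ = q * ((r * c * r⁻¹) * B.t) * κ * B.h j := by rw [← hqc]; group
        _ = q * B.t * (r * c * r⁻¹) * κ * B.h j := by rw [← ht' _ hc']; group
        _ = _ := by rw [hh3, hκ']; group
    have e2 : κ' = B.t⁻¹ * q⁻¹ * (r * N.h i * r⁻¹) * (N.h j)⁻¹ := by rw [e1]; group
    have e3 : ∀ s, κ' * s * κ'⁻¹ = B.t⁻¹ * (q⁻¹ * ((r * N.h i * r⁻¹) * ((N.h j)⁻¹ * s * N.h j) *
        (r * N.h i * r⁻¹)⁻¹) * q) * B.t := by intro s; rw [e2]; group
    have h4 : ∀ s ∈ N.S, κ' * s * κ'⁻¹ ∈ N.S := by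
      intro s hs
      have h5 := hconjS _ (h_inv_S N j hs)
      rw [e3, hqt' _ (hSH _ h5)]
      exact N.S.mul_mem (N.S.mul_mem (N.S.inv_mem htS) h5) htS
    have h5 : ∀ s ∈ L.W, κ' * s * κ'⁻¹ ∈ L.W := by
      intro s hs
      have h5 := hconjW _ (h_inv_W N j hs)
      rw [e3, hqt' _ (L.W_le h5), hti, L.inv' h5]
      exact L.W.inv_mem h5
    intro s hs
    have h6 := N.h_S j s hs
    have h7 : B.t * (N.h j * s * (N.h j)⁻¹) * B.t⁻¹ ∈ B.H :=
      B.H.mul_mem (B.H.mul_mem B.t_mem (hSH _ h6)) (B.H.inv_mem B.t_mem)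
    have e4 : q * B.t * κ' * N.h j * s * (q * B.t * κ' * N.h j)⁻¹ =
      q * (B.t * (κ' * (N.h j * s * (N.h j)⁻¹) * κ'⁻¹) * B.t⁻¹) * q⁻¹ := by group
    rw [e1, e4, key h4 h5 _ h6, hqt _ h7]

include hR in
/-- `V` is `R`-invariant. -/
theorem R_V [Finite G] (V : Hlf N) (hk : 1 ≤ k) (hF : ∃ ν : F, ν ≠ 0 ∧ ν ≠ 1)
    (hRW : ∀ r ∈ R, ∀ x ∈ L.W, r * x * r⁻¹ ∈ L.W)
    (hRS : ∀ r ∈ R, ∀ s ∈ N.S, r * s * r⁻¹ ∈ N.S) :
    ∀ r ∈ R, ∀ s ∈ V.V, r * s * r⁻¹ ∈ V.V := by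
  intro r hr s hs
  obtain ⟨ν, hν0, hν1⟩ := hF
  obtain ⟨i, hi⟩ := B.wt_surj ν hν0
  have hν : ν + 1 ≠ 0 := by
    intro h
    apply hν1
    have := CharTwo.add_self_eq_zero (1 : F)
    linear_combination h - this
  obtain ⟨v, hv, h1⟩ := ψ_surj V hk ((ν + 1)⁻¹ * L.ψ s)
  have hinvψ : ∀ g ∈ V.V, L.ψ g⁻¹ = L.ψ g := by
    intro g hg
    have h3 := ψ_mulV V hk hg (V.V.inv_mem hg)
    rw [mul_inv_cancel, L.ψ_W L.W.one_mem] at h3
    have := CharTwo.add_self_eq_zero (L.ψ g)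
    linear_combination -h3 - this
  set! s1 := N.h i * v * (N.h i)⁻¹ * v⁻¹ with hs1
  have hs1V : s1 ∈ V.V := V.V.mul_mem (V.h_V i v hv) (V.V.inv_mem hv)
  have h2 : L.ψ s1 = L.ψ s := by
    rw [hs1, ψ_mulV V hk (V.h_V i v hv) (V.V.inv_mem hv), h_ψ N hk i (V.V_le hv), hinvψ v hv, hi, h1]
    have : ν * ((ν + 1)⁻¹ * L.ψ s) + (ν + 1)⁻¹ * L.ψ s = (ν + 1) * (ν + 1)⁻¹ * L.ψ s := by ring
    rw [this, mul_inv_cancel₀ hν, one_mul]
  have hw : s1⁻¹ * s ∈ L.W := by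
    apply ψ_ker V (V.V.mul_mem (V.V.inv_mem hs1V) hs)
    rw [ψ_mulV V hk (V.V.inv_mem hs1V) hs, hinvψ _ hs1V, h2, CharTwo.add_self_eq_zero]
  have hv' : r * v * r⁻¹ ∈ N.S := hRS r hr v (V.V_le hv)
  have hmain : r * s1 * r⁻¹ ∈ V.V := by
    have e : r * s1 * r⁻¹ = (r * N.h i * r⁻¹) * (r * v * r⁻¹) * (r * N.h i * r⁻¹)⁻¹ *
        (r * v * r⁻¹)⁻¹ := by rw [hs1]; group
    obtain ⟨j, h3 | h3⟩ := r_h hR N hk hRW hRS hr i
    · rw [e, h3 _ hv']
      exact cov_h V j hv'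
    · rw [e, h3 _ hv']
      have h4 := comm_mem N hk (N.Y_le L.t_mem_Y) (N.h_S j _ hv')
      have h5 := cov_h V j hv'
      have e2 : B.t * (N.h j * (r * v * r⁻¹) * (N.h j)⁻¹) * B.t⁻¹ * (r * v * r⁻¹)⁻¹ =
        (B.t * (N.h j * (r * v * r⁻¹) * (N.h j)⁻¹) * B.t⁻¹ * (N.h j * (r * v * r⁻¹) * (N.h j)⁻¹)⁻¹) *
        (N.h j * (r * v * r⁻¹) * (N.h j)⁻¹ * (r * v * r⁻¹)⁻¹) := by group
      rw [e2]
      exact V.V.mul_mem (V.W_le h4) h5
  have e : r * s * r⁻¹ = (r * s1 * r⁻¹) * (r * (s1⁻¹ * s) * r⁻¹) := by group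
  rw [e]
  exact V.V.mul_mem hmain (V.W_le (hRW r hr _ hw))

end Cfsg.Agent.StdU3.Tower.Rinv
end

-- part: StdU3/Tower/Count
section
/-!
# First type: the conjugates of `t` in `H`

If `ψ = 0` then `Y = ⟨t⟩ W` is a Sylow `2`-subgroup of `H` and the conjugates of `t` (under `H`) in
`W t` are the elements of `W ^ 2 t`: otherwise all elements of `W t` are conjugate to `t`, and the
number of fixed points of `t` on `H / Y` would be even.
-/

set_option autoImplicit false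
set_option linter.unusedSectionVars false

namespace Cfsg.Agent.StdU3.Tower.Count

open Cfsg.Agent.StdU3.Tower.Base Cfsg.Agent.StdU3.Tower.Next

variable {G : Type*} [Group G] {F : Type*} [Field F] {ι : Type*} [CommGroup ι] [CharP F 2]
variable {B : HB G F ι} {k : ℕ} (L : Lvl B k)

/-- `Y` as a subgroup of `H` -/
abbrev Y' : Subgroup B.H := L.Y.subgroupOf B.H

theorem lt_inf_normalizer {M : Type*} [Group M] [Finite M] {P Q : Subgroup M} (hP : IsPGroup 2 P)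
    (hQ : Q < P) : ∃ x ∈ P, x ∉ Q ∧ ∀ y, y ∈ Q ↔ x * y * x⁻¹ ∈ Q := by
  have : Fact (Nat.Prime 2) := ⟨Nat.prime_two⟩
  have : Group.IsNilpotent P := hP.isNilpotent
  have hnc := Group.normalizerCondition_of_isNilpotent (G := P)
  have h1 : Q.subgroupOf P < ⊤ := by
    rw [lt_top_iff_ne_top]
    intro h
    rw [Subgroup.subgroupOf_eq_top] at h
    exact absurd hQ (not_lt_of_ge h)
  obtain ⟨x, hx, hxQ⟩ := SetLike.exists_of_lt (hnc _ h1)
  refine ⟨x, x.2, fun h => hxQ (by rw [Subgroup.mem_subgroupOf]; exact h), fun y => ?_⟩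
  have h2 := Subgroup.mem_normalizer_iff.1 hx
  constructor
  · intro hy
    have := (h2 ⟨y, hQ.le hy⟩).1 (by rw [Subgroup.mem_subgroupOf]; exact hy)
    rw [Subgroup.mem_subgroupOf] at this
    exact this
  · intro hy
    have hyP : y ∈ P := by
      have h3 := P.mul_mem (P.mul_mem (P.inv_mem x.2) (hQ.le hy)) x.2
      have e : (x : M)⁻¹ * (x * y * (x : M)⁻¹) * x = y := by group
      rwa [e] at h3
    have := (h2 ⟨y, hyP⟩).2 (by rw [Subgroup.mem_subgroupOf]; exact hy)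
    rw [Subgroup.mem_subgroupOf] at this
    exact this

theorem Y_two : IsPGroup 2 (Y' L) := by
  intro y
  refine ⟨k + 1, ?_⟩
  have h1 := pow_Y L (show ((y : B.H) : G) ∈ L.Y from Subgroup.mem_subgroupOf.1 y.2)
  apply Subtype.ext
  apply Subtype.ext
  simpa only [_root_.SubmonoidClass.coe_pow, _root_.OneMemClass.coe_one] using h1

theorem Y_sylow [Finite G] (hk : 1 ≤ k) (h0 : ∀ g ∈ L.NH, L.ψ g = 0) :
    ∃ P : Sylow 2 B.H, (P : Subgroup B.H) = Y' L := by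
  obtain ⟨P, hP⟩ := (Y_two L).exists_le_sylow
  refine ⟨P, ?_⟩
  by_contra hne
  obtain ⟨x, hxP, hxY, hx⟩ := lt_inf_normalizer P.2 (lt_of_le_of_ne hP (Ne.symm hne))
  have hxN : (x : G) ∈ L.NH := by
    refine ⟨x.2, fun y => ?_⟩
    constructor
    · intro hy
      have := (hx ⟨y, L.Y_le hy⟩).1 (Subgroup.mem_subgroupOf.2 hy)
      exact Subgroup.mem_subgroupOf.1 this
    · intro hy
      have hyH : y ∈ B.H := by
        have h3 := B.H.mul_mem (B.H.mul_mem (B.H.inv_mem x.2) (L.Y_le hy)) x.2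
        have e : (x : G)⁻¹ * (x * y * (x : G)⁻¹) * x = y := by group
        rwa [e] at h3
      have := (hx ⟨y, hyH⟩).2 (Subgroup.mem_subgroupOf.2 hy)
      exact Subgroup.mem_subgroupOf.1 this
  obtain ⟨y, hy, κ, hκ, h1⟩ := ker_ψ L hk hxN (h0 _ hxN)
  have hyH := L.Y_le hy
  have hκH := B.K0_le hκ.1
  have hκP : (⟨κ, hκH⟩ : B.H) ∈ (P : Subgroup B.H) := by
    have e : (⟨κ, hκH⟩ : B.H) = ⟨y, hyH⟩⁻¹ * x := Subtype.ext (by
      show κ = y⁻¹ * (x : G)
      rw [h1]; group)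
    rw [e]
    exact (P : Subgroup B.H).mul_mem ((P : Subgroup B.H).inv_mem
      (hP (Subgroup.mem_subgroupOf.2 hy))) hxP
  obtain ⟨m, hm⟩ := P.2 ⟨_, hκP⟩
  have hκ1 : κ = 1 := by
    apply K0_two B hκ.1 (n := m)
    have h2 := congrArg Subtype.val (congrArg Subtype.val hm)
    simpa only [_root_.SubmonoidClass.mk_pow, _root_.OneMemClass.coe_one] using h2
  apply hxY
  rw [Subgroup.mem_subgroupOf, h1, hκ1, mul_one]
  exact hy

theorem mem_of_conj {g : G} (hg : g ∈ B.H) (h : g⁻¹ * B.t * g ∈ L.Y) (hk : 1 ≤ k) :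
    L.a g⁻¹ ∈ L.W := by
  rcases h with h | h
  · exfalso
    have h1 : (g⁻¹ * B.t * g) * (g⁻¹ * B.t * g) = 1 := by
      have : (g⁻¹ * B.t * g) * (g⁻¹ * B.t * g) = g⁻¹ * (B.t * B.t) * g := by group
      rw [this, B.t_sq]; group
    obtain ⟨b, hb⟩ := L.omega hk h h1
    apply B.t_not b
    have h2 := B.z_cen g hg b
    have h3 : B.t = g * (g⁻¹ * B.t * g) * g⁻¹ := by group
    rw [h3, hb, h2]; group
  · rw [Lvl.a, inv_inv]; exact h

/-- the invariant of a coset. -/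
theorem val_eq (hk : 1 ≤ k) {g y : G} (hg : g ∈ B.H) (h : g⁻¹ * B.t * g ∈ L.Y) (hy : y ∈ L.Y) :
    L.β (L.a (g * y)⁻¹) = L.β (L.a g⁻¹) := by
  have ha := mem_of_conj L hg h hk
  have hyi := L.Y.inv_mem hy
  have hyH := L.Y_le hyi
  have haW := L.NH_conj_W hk (L.Y_le_NH hyi) ha
  rw [mul_inv_rev, L.a_mul, L.β_mul haW (L.a_mem hk (L.Y_le_NH hyi)), L.β_conj hyH ha haW]
  have h2 : L.β (L.a y⁻¹) = 0 := L.ψ_Y hk hyi
  rw [h2, add_zero]

variable [Finite G]

theorem main [Finite F] (hF : Even (Nat.card F)) (hk : 1 ≤ k) (h0 : ∀ g ∈ L.NH, L.ψ g = 0)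
    {g w : G} (hg : g ∈ B.H) (hw : w ∈ L.W) (h : g * B.t * g⁻¹ = w * B.t) : L.β w = 0 := by
  classical
  have : Fact (Nat.Prime 2) := ⟨Nat.prime_two⟩
  by_contra hβ
  obtain ⟨P, hP⟩ := Y_sylow L hk h0
  have hidx : ¬ 2 ∣ (Y' L).index := by rw [← hP]; exact P.not_dvd_index
  let X := B.H ⧸ Y' L
  have : Finite X := inferInstance
  let _ : Fintype X := Fintype.ofFinite X
  let _ : Fintype F := Fintype.ofFinite F
  let t' : B.H := ⟨B.t, B.t_mem⟩
  have hfix : ∀ g : B.H, t' • (g : X) = (g : X) ↔ (g : G)⁻¹ * B.t * g ∈ L.Y := by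
    intro g
    have h1 : t' • (g : X) = ((t' * g : B.H) : X) := rfl
    rw [h1, eq_comm, QuotientGroup.eq, Subgroup.mem_subgroupOf]
    show (g : G)⁻¹ * (B.t * g) ∈ L.Y ↔ _
    rw [← mul_assoc]
  let val : X → F := fun x => L.β (L.a ((x.out : B.H) : G)⁻¹)
  have hval : ∀ g : B.H, (g : G)⁻¹ * B.t * g ∈ L.Y → val (g : X) = L.β (L.a (g : G)⁻¹) := by
    intro g hgY
    have h1 : (((g : X).out : B.H) : X) = (g : X) := Quotient.out_eq' _
    have h2 : g⁻¹ * (g : X).out ∈ Y' L := QuotientGroup.eq.1 h1.symm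
    rw [Subgroup.mem_subgroupOf] at h2
    have h3 := val_eq L hk g.2 hgY h2
    have e : (g : G) * ((g⁻¹ * (g : X).out : B.H) : G) = ((g : X).out : B.H) := by
      show (g : G) * ((g : G)⁻¹ * ((g : X).out : B.H)) = _
      group
    rw [e] at h3
    exact h3
  -- the fixed points
  let Φ : Finset X := (Finset.univ.filter (fun x => t' • x = x) : _)
  have hΦ : Odd Φ.card := by
    have h1 : IsPGroup 2 (Subgroup.zpowers t') := by
      rintro ⟨x, m, rfl⟩
      refine ⟨1, Subtype.ext ?_⟩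
      have h2 : t' ^ ((2 : ℕ) : ℤ) = 1 := by
        rw [zpow_natCast, pow_two]
        exact Subtype.ext B.t_sq
      show (t' ^ m) ^ 2 ^ 1 = 1
      rw [pow_one, ← zpow_natCast, ← zpow_mul, mul_comm, zpow_mul, h2, one_zpow]
    have h2 := h1.card_modEq_card_fixedPoints X
    have h3 : Nat.card (MulAction.fixedPoints (Subgroup.zpowers t') X) = Φ.card := by
      have h4 : (MulAction.fixedPoints (Subgroup.zpowers t') X) = (Φ : Set X) := by
        ext x
        rw [MulAction.mem_fixedPoints, Finset.mem_coe, Finset.mem_filter]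
        constructor
        · intro h5
          exact ⟨Finset.mem_univ _, h5 ⟨t', Subgroup.mem_zpowers t'⟩⟩
        · rintro ⟨-, h5⟩ ⟨y, hy⟩
          have h6 : Subgroup.zpowers t' ≤ MulAction.stabilizer B.H x := by
            rw [Subgroup.zpowers_le]; exact h5
          exact h6 hy
      rw [h4, Nat.card_coe_set_eq, Set.ncard_coe_finset]
    rw [h3] at h2
    rw [← Nat.not_even_iff_odd, even_iff_two_dvd]
    intro h4
    apply hidx
    have h5 : Nat.card X = (Y' L).index := rfl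
    rw [← h5]
    exact (Nat.modEq_zero_iff_dvd.1 (h2.trans (Nat.modEq_zero_iff_dvd.2 h4)))
  have hsum : Φ.card = ∑ c : F, (Φ.filter (fun x => val x = c)).card :=
    Finset.card_eq_sum_card_fiberwise (fun x _ => Finset.mem_univ _)
  let K' : Subgroup B.H := B.K0.subgroupOf B.H
  have hK' : Odd (Nat.card K') := by
    rw [Nat.card_congr (Subgroup.subgroupOfEquivOfLe B.K0_le).toEquiv]
    exact B.K0_odd
  -- the fibres
  have hodd : ∀ c : F, Odd (Φ.filter (fun x => val x = c)).card := by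
    intro c
    -- nonempty
    obtain ⟨g1, hg1, hc⟩ : ∃ g1 : B.H, (g1 : G)⁻¹ * B.t * g1 ∈ L.Y ∧ L.β (L.a (g1 : G)⁻¹) = c := by
      by_cases hc : c = 0
      · refine ⟨1, ?_, ?_⟩
        · have : ((1 : B.H) : G)⁻¹ * B.t * (1 : B.H) = B.t := by simp only [_root_.OneMemClass.coe_one, _root_.inv_one, _root_.one_mul, _root_.mul_one]
          rw [this]; exact L.t_mem_Y
        · rw [hc, OneMemClass.coe_one, inv_one]
          exact L.ψ_W L.W.one_mem
      · obtain ⟨i, hi⟩ := B.wt_surj (c * (L.β w)⁻¹) (mul_ne_zero hc (inv_ne_zero hβ))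
        have hgi := (L.h_H i g⁻¹).1 (B.H.inv_mem hg)
        have e : (L.h i * g⁻¹ * (L.h i)⁻¹)⁻¹ * B.t * (L.h i * g⁻¹ * (L.h i)⁻¹) =
            (L.h i * w * (L.h i)⁻¹) * B.t := by
          have h1 := L.h_t i
          have h2 : (L.h i)⁻¹ * B.t = B.t * (L.h i)⁻¹ := by
            rw [inv_mul_eq_iff_eq_mul, ← mul_assoc, h1, mul_inv_cancel_right]
          calc (L.h i * g⁻¹ * (L.h i)⁻¹)⁻¹ * B.t * (L.h i * g⁻¹ * (L.h i)⁻¹)
              = L.h i * g * ((L.h i)⁻¹ * B.t) * L.h i * g⁻¹ * (L.h i)⁻¹ := by group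
            _ = L.h i * (g * B.t * g⁻¹) * (L.h i)⁻¹ := by rw [h2]; group
            _ = L.h i * w * (B.t * (L.h i)⁻¹) := by rw [h]; group
            _ = _ := by rw [← h2]; group
        refine ⟨⟨_, hgi⟩, ?_, ?_⟩
        · show (L.h i * g⁻¹ * (L.h i)⁻¹)⁻¹ * B.t * (L.h i * g⁻¹ * (L.h i)⁻¹) ∈ L.Y
          rw [e]
          right
          rw [mul_assoc, B.t_sq, mul_one]
          exact L.h_W i w hw
        · show L.β (L.a (L.h i * g⁻¹ * (L.h i)⁻¹)⁻¹) = c
          rw [Lvl.a, inv_inv, e, mul_assoc, B.t_sq, mul_one, L.β_h i hw, hi,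
            inv_mul_cancel_right₀ hβ]
    have hfib : ((Φ.filter (fun x => val x = c) : Finset X) : Set X) =
        MulAction.orbit K' (g1 : X) := by
      ext x
      obtain ⟨g2, rfl⟩ := QuotientGroup.mk_surjective x
      rw [Finset.mem_coe, Finset.mem_filter, Finset.mem_filter]
      constructor
      · rintro ⟨⟨-, h2⟩, h3⟩
        have h2' := (hfix g2).1 h2
        have h3' : L.β (L.a (g2 : G)⁻¹) = c := by rw [← hval g2 h2']; exact h3
        have ha1 := mem_of_conj L g1.2 hg1 hk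
        have ha2 := mem_of_conj L g2.2 h2' hk
        obtain ⟨v, hv, h4⟩ := L.β_eq_zero (L.W.mul_mem (L.W.inv_mem ha1) ha2) (by
          rw [L.β_mul (L.W.inv_mem ha1) ha2, L.β_inv ha1, hc, h3', CharTwo.add_self_eq_zero])
        have h5 : L.a (g2 : G)⁻¹ = L.a (g1 : G)⁻¹ * (v * v) := by rw [← h4]; group
        -- the element centralising `t`
        set! x := (g2 : G) * v * (g1 : G)⁻¹ with hx
        have hxH : x ∈ B.H := B.H.mul_mem (B.H.mul_mem g2.2 (L.W_le hv)) (B.H.inv_mem g1.2)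
        have hxt : x * B.t = B.t * x := by
          have e1 : (g1 : G)⁻¹ * B.t * g1 = L.a (g1 : G)⁻¹ * B.t := by
            have := L.conj_t (g1 : G)⁻¹
            rwa [inv_inv] at this
          have e2 : (g2 : G)⁻¹ * B.t * g2 = L.a (g2 : G)⁻¹ * B.t := by
            have := L.conj_t (g2 : G)⁻¹
            rwa [inv_inv] at this
          have e3 : v * B.t = B.t * v⁻¹ := by
            have := L.inv' hv
            calc v * B.t = (B.t * B.t) * v * B.t := by rw [B.t_sq, one_mul]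
              _ = B.t * (B.t * v * B.t) := by group
              _ = _ := by rw [this]
          have e5 := L.comm v hv _ ha1
          -- `v (a₁ t) = (a₂ t) v`
          have e6 : v * (L.a (g1 : G)⁻¹ * B.t) = L.a (g2 : G)⁻¹ * B.t * v := by
            have e7 : B.t * v = v⁻¹ * B.t := by
              have := L.inv' hv
              calc B.t * v = B.t * v * (B.t * B.t) := by rw [B.t_sq, mul_one]
                _ = (B.t * v * B.t) * B.t := by group
                _ = _ := by rw [this]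
            calc v * (L.a (g1 : G)⁻¹ * B.t) = (v * L.a (g1 : G)⁻¹) * B.t := by group
              _ = L.a (g1 : G)⁻¹ * v * B.t := by rw [e5]
              _ = L.a (g1 : G)⁻¹ * (v * v) * (v⁻¹ * B.t) := by group
              _ = L.a (g2 : G)⁻¹ * (B.t * v) := by rw [← h5, e7]
              _ = _ := by group
          calc x * B.t = g2 * v * ((g1 : G)⁻¹ * B.t * g1) * (g1 : G)⁻¹ := by rw [hx]; group
            _ = g2 * (v * (L.a (g1 : G)⁻¹ * B.t)) * (g1 : G)⁻¹ := by rw [e1]; group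
            _ = g2 * ((g2 : G)⁻¹ * B.t * g2) * v * (g1 : G)⁻¹ := by rw [e6, e2]; group
            _ = B.t * x := by rw [hx]; group
        obtain ⟨b, κ, hκ, h6⟩ := B.dec x hxH hxt
        have hκH := B.K0_le hκ
        -- `κ • g1` is fixed by `t`
        have hκY : ((⟨κ, hκH⟩ * g1 : B.H) : G)⁻¹ * B.t * (⟨κ, hκH⟩ * g1 : B.H) ∈ L.Y := by
          have e1 : ((⟨κ, hκH⟩ * g1 : B.H) : G)⁻¹ * B.t * (⟨κ, hκH⟩ * g1 : B.H) =
              (g1 : G)⁻¹ * B.t * g1 := by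
            show (κ * (g1 : G))⁻¹ * B.t * (κ * g1) = _
            have e2 := B.K0_t κ hκ
            calc (κ * (g1 : G))⁻¹ * B.t * (κ * g1) = (g1 : G)⁻¹ * κ⁻¹ * (B.t * κ) * g1 := by group
              _ = _ := by rw [← e2]; group
          rw [e1]; exact hg1
        have hg2v : ((g2 * ⟨v, L.W_le hv⟩ : B.H) : X) = (g2 : X) := by
          rw [eq_comm, QuotientGroup.eq, Subgroup.mem_subgroupOf]
          show (g2 : G)⁻¹ * (g2 * v) ∈ L.Y
          rw [inv_mul_cancel_left]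
          exact L.W_le_Y hv
        have hz : ∀ (g : B.H), ((⟨B.z b, B.z_mem b⟩ * g : B.H) : X) = (g : X) := by
          intro g
          rw [eq_comm, QuotientGroup.eq, Subgroup.mem_subgroupOf]
          show (g : G)⁻¹ * (B.z b * g) ∈ L.Y
          rw [← B.z_cen g g.2 b, inv_mul_cancel_left]
          exact L.W_le_Y (L.z_mem b)
        refine ⟨⟨⟨κ, hκH⟩, Subgroup.mem_subgroupOf.2 hκ⟩, ?_⟩
        show ((⟨κ, hκH⟩ * g1 : B.H) : X) = (g2 : X)
        rw [← hg2v]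
        rcases h6 with h6 | h6
        · have e1 : g2 * ⟨v, L.W_le hv⟩ = ⟨B.z b, B.z_mem b⟩ * (⟨κ, hκH⟩ * g1) := Subtype.ext (by
            show (g2 : G) * v = B.z b * (κ * g1)
            rw [← mul_assoc, ← h6, hx]; group)
          rw [e1, hz]
        · have e1 : g2 * ⟨v, L.W_le hv⟩ = ⟨B.z b, B.z_mem b⟩ * (t' * (⟨κ, hκH⟩ * g1)) :=
            Subtype.ext (by
              show (g2 : G) * v = B.z b * (B.t * (κ * g1))
              have e2 := B.z_cen B.t B.t_mem b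
              calc (g2 : G) * v = x * g1 := by rw [hx]; group
                _ = (B.t * B.z b) * κ * g1 := by rw [h6]
                _ = _ := by rw [e2]; group)
          have e2 := (hfix (⟨κ, hκH⟩ * g1 :)).2 hκY
          rw [e1, hz]
          exact e2.symm
      · rintro ⟨⟨⟨κ, hκH⟩, hκ⟩, h2⟩
        rw [Subgroup.mem_subgroupOf] at hκ
        have h2' : ((⟨κ, hκH⟩ * g1 : B.H) : X) = (g2 : X) := h2
        have e1 : ((⟨κ, hκH⟩ * g1 : B.H) : G)⁻¹ * B.t * (⟨κ, hκH⟩ * g1 : B.H) =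
            (g1 : G)⁻¹ * B.t * g1 := by
          show (κ * (g1 : G))⁻¹ * B.t * (κ * g1) = _
          have e2 := B.K0_t κ hκ
          calc (κ * (g1 : G))⁻¹ * B.t * (κ * g1) = (g1 : G)⁻¹ * κ⁻¹ * (B.t * κ) * g1 := by group
            _ = _ := by rw [← e2]; group
        have hκY : ((⟨κ, hκH⟩ * g1 : B.H) : G)⁻¹ * B.t * (⟨κ, hκH⟩ * g1 : B.H) ∈ L.Y := by
          rw [e1]; exact hg1
        have e3 : L.a ((⟨κ, hκH⟩ * g1 : B.H) : G)⁻¹ = L.a (g1 : G)⁻¹ := by
          rw [Lvl.a, Lvl.a, inv_inv, inv_inv, e1]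
        show (((g2 : X) ∈ Finset.univ ∧ t' • (g2 : X) = (g2 : X)) ∧ val (g2 : X) = c)
        rw [← h2']
        exact ⟨⟨Finset.mem_univ _, (hfix _).2 hκY⟩, by rw [hval _ hκY, e3, hc]⟩
    have h7 : (Φ.filter (fun x => val x = c)).card = (MulAction.stabilizer K' (g1 : X)).index := by
      rw [MulAction.index_stabilizer, ← hfib, Set.ncard_coe_finset]
    rw [h7]
    exact hK'.of_dvd_nat (Subgroup.index_dvd_card _)
  rw [hsum, Finset.odd_sum_iff_odd_card_odd] at hΦ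
  have h8 : Finset.univ.filter (fun c : F => Odd (Φ.filter (fun x => val x = c)).card) =
      Finset.univ := Finset.filter_true_of_mem (fun c _ => hodd c)
  rw [h8, Finset.card_univ, ← Nat.card_eq_fintype_card] at hΦ
  exact (Nat.not_even_iff_odd.2 hΦ) hF

end Cfsg.Agent.StdU3.Tower.Count
end

-- part: StdU3/Tower/GBase
section
/-!
# The base of the tower from the first level (`gam = 1`)
-/

set_option autoImplicit false
set_option linter.unusedSectionVars false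

namespace Cfsg.Agent.StdU3.Tower.GBase

open Cfsg.Agent.StdU3.Field Cfsg.Agent.StdU3.PreDef Cfsg.Agent.StdU3.LevelOne
open Cfsg.Agent.StdU3.LevelOneW Cfsg.Agent.StdU3.NormQ Cfsg.Agent.StdU3.Kernel
open Cfsg.Agent.StdU3.Next Cfsg.Agent.StdU3.Tower.Base

/-- the fixed field of `bar` -/
def Fq (K : Type*) [Field K] [CharP K 2] (n : ℕ) : Subfield K where
  carrier := {x | bar n x = x}
  mul_mem' := fun ha hb => fixed_mul ha hb
  one_mem' := bar_one n
  add_mem' := fun ha hb => fixed_add ha hb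
  zero_mem' := bar_zero n
  neg_mem' := fun {x} hx => by
    have : -x = x := CharTwo.neg_eq x
    rw [this]; exact hx
  inv_mem' := fun _ hx => fixed_inv hx

section
variable {K : Type*} [Field K] [CharP K 2] {n : ℕ}

theorem mem_Fq {x : K} : x ∈ Fq K n ↔ bar n x = x := Iff.rfl

instance : CharP (Fq K n) 2 :=
  (Fq K n).subtype.charP_iff (Fq K n).subtype.injective 2 |>.2 inferInstance

end

variable {G : Type*} [Group G] [Finite G] {K : Type*} [Field K] [Fintype K] [CharP K 2] {n : ℕ}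
variable {D : Pre G K n} {O : Subgroup G}

theorem exists_h_P (l : Kˣ) {x : G} (hx : x ∈ D.P) : ∃ y ∈ D.P, x = D.h l * y * (D.h l)⁻¹ := by
  have hf : Function.Injective
      (fun x : D.P => (⟨D.h l * x * (D.h l)⁻¹, D.h_P l x x.2⟩ : D.P)) := by
    intro a b hab
    have := congrArg Subtype.val hab
    simp only [mul_left_inj, mul_right_inj] at this
    exact Subtype.ext this
  obtain ⟨y, hy⟩ := Finite.surjective_of_injective hf ⟨x, hx⟩
  exact ⟨y, y.2, (congrArg Subtype.val hy).symm⟩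

theorem mem_H {g : G} : g ∈ Subgroup.centralizer (D.P : Set G) ↔ ∀ x ∈ D.P, x * g = g * x :=
  Subgroup.mem_centralizer_iff

/-- `Z(P) = Z` -/
theorem cent_P {p : G} (hp : p ∈ D.P) (h : ∀ x ∈ D.P, x * p = p * x) :
    ∃ b, bar n b = b ∧ p = D.z b := by
  apply D.exists_z p hp
  apply eq_zero_of_Tr D.hq
  intro y
  obtain ⟨x, hx, rfl⟩ := D.ca_surj y
  have h1 := D.P_comm p hp x hx
  rw [h x hx] at h1
  exact D.z_inj _ (fixed_Tr D.hq _) (right_eq_mul.1 h1)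

/-- the base of the tower -/
noncomputable def hb (hO : Amb D O) : HB G (Fq K n) Kˣ where
  H := Subgroup.centralizer (D.P : Set G)
  z := fun b => D.z b
  z_add := fun b c => D.z_add b c
  z_inj := fun b h => Subtype.ext (D.z_inj b b.2 h)
  z_mem := fun b => mem_H.2 fun x hx => D.Q_Z x (D.P_le hx) b
  z_cen := fun g hg b => (mem_H.1 hg _ (D.z_mem b)).symm
  t := D.t
  t_mem := mem_H.2 fun x hx => (D.t_P x hx).symm
  t_sq := D.t_sq
  t_not := fun b h => t_ne_z D b h.symm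
  K0 := O
  K0_odd := hO.odd
  K0_le := fun k hk => mem_H.2 fun x hx => (hO.O_P k hk x hx).symm
  K0_t := hO.O_t
  dec := by
    intro g hg hgt
    have hg' := mem_H.1 hg
    obtain ⟨x, hx, k, hk, h⟩ := hO.dec g hgt (fun x hx => by
      rw [← hg' x hx, mul_inv_cancel_right]; exact ⟨hx, rfl⟩)
    have hxe : x = g * k⁻¹ := by rw [h]; group
    have hkt := hO.O_t k hk
    have hkt' : k⁻¹ * D.t = D.t * k⁻¹ := by
      rw [inv_mul_eq_iff_eq_mul, ← mul_assoc, hkt, mul_inv_cancel_right]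
    have hxt : x * D.t = D.t * x := by
      rw [hxe, mul_assoc, hkt', ← mul_assoc, hgt, mul_assoc]
    have hxP : ∀ y ∈ D.P, y * x = x * y := by
      intro y hy
      have h1 := hO.O_P k hk y hy
      have h2 : y * k⁻¹ = k⁻¹ * y := by
        rw [eq_inv_mul_iff_mul_eq, ← mul_assoc, h1, mul_inv_cancel_right]
      rw [hxe, ← mul_assoc, hg' y hy, mul_assoc, h2, mul_assoc]
    rcases D.Q_T x hx hxt with h1 | h1
    · obtain ⟨b, hb, hbe⟩ := cent_P h1 hxP
      exact ⟨⟨b, hb⟩, k, hk, Or.inl (by rw [h, hbe])⟩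
    · obtain ⟨b, hb, hbe⟩ := cent_P h1 (fun y hy => by
        rw [← mul_assoc, hxP y hy, mul_assoc, ← D.t_P y hy, mul_assoc])
      refine ⟨⟨b, hb⟩, k, hk, Or.inr ?_⟩
      show g = D.t * D.z b * k
      rw [h, ← hbe, hxt, ← mul_assoc, D.t_sq, one_mul]
  h := D.h
  wt := fun l => ⟨N n (l : K), fixed_N D.hq _⟩
  h_H := by
    intro l g
    constructor
    · intro hg
      rw [mem_H] at hg ⊢
      intro x hx
      obtain ⟨y, hy, rfl⟩ := exists_h_P l hx
      calc D.h l * y * (D.h l)⁻¹ * (D.h l * g * (D.h l)⁻¹) = D.h l * (y * g) * (D.h l)⁻¹ := by group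
        _ = _ := by rw [hg y hy]; group
    · intro hg
      rw [mem_H] at hg ⊢
      intro x hx
      have h1 := hg _ (D.h_P l x hx)
      have h2 : D.h l * (x * g) * (D.h l)⁻¹ = D.h l * (g * x) * (D.h l)⁻¹ := by
        calc D.h l * (x * g) * (D.h l)⁻¹ = D.h l * x * (D.h l)⁻¹ * (D.h l * g * (D.h l)⁻¹) := by group
          _ = _ := by rw [h1]; group
      exact mul_left_cancel (mul_right_cancel h2)
  h_t := fun l => (D.t_h l).symm
  h_z := fun l b => h_z D l b.2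
  h_e := by
    intro i j
    rw [mem_H]
    intro x hx
    have h1 := D.h_mul i j x (D.P_le hx)
    have h2 : (D.h (i * j))⁻¹ * (D.h i * D.h j) * x * ((D.h (i * j))⁻¹ * (D.h i * D.h j))⁻¹ = x := by
      have e : (D.h (i * j))⁻¹ * (D.h i * D.h j) * x * ((D.h (i * j))⁻¹ * (D.h i * D.h j))⁻¹ =
        (D.h (i * j))⁻¹ * (D.h i * (D.h j * x * (D.h j)⁻¹) * (D.h i)⁻¹) * D.h (i * j) := by group
      rw [e, ← h1]; group
    exact (mul_inv_eq_iff_eq_mul.1 h2).symm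
  wt_surj := by
    rintro ⟨ν, hν⟩ hν0
    obtain ⟨x, hx⟩ := exists_norm D.hq hν
    have hx0 : x ≠ 0 := by
      rintro rfl
      apply hν0
      apply Subtype.ext
      show ν = 0
      rw [← hx, N_zero]
    exact ⟨Units.mk0 x hx0, Subtype.ext hx⟩

/-- the first level -/
noncomputable def lvl (hO : Amb D O) (hg : gam D = 1) : Lvl (hb hO) 1 where
  W := W D
  W_le := fun y hy => mem_H.2 fun x hx => P_W_comm D hx hy
  comm := fun x hx y hy => W_comm D hx hy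
  inv := by
    intro x hx
    show D.t * x * D.t⁻¹ = x⁻¹
    have h1 := W_sq D hx
    rw [hg, one_mul] at h1
    rw [t_conj D (W_le D hx), eq_comm, inv_eq_iff_mul_eq_one, ← mul_assoc, D.Q_Z x (W_le D hx),
      mul_assoc, h1, z_self]
  z_mem := fun b => z_mem_W D b
  pw := by
    intro x hx
    have h1 := W_sq D hx
    rw [hg, one_mul] at h1
    exact ⟨⟨u D x, u_fixed D (W_le D hx)⟩, by rw [pow_one, pow_two]; exact h1⟩
  pw_surj := by
    rintro ⟨u0, hu⟩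
    obtain ⟨y, hy, h1⟩ := W_surj D hu
    have h2 := W_sq D hy
    rw [hg, one_mul, h1] at h2
    exact ⟨y, hy, by rw [pow_one, pow_two]; exact h2⟩
  pw_ker := by
    intro x hx h
    rw [pow_one, pow_two, W_sq D hx, hg, one_mul] at h
    obtain ⟨b, hb, h1⟩ := z_of_W D hx (D.z_inj _ (u_fixed D (W_le D hx)) h)
    obtain ⟨y, hy, h2⟩ := W_surj D hb
    exact ⟨y, hy, by rw [W_sq D hy, hg, one_mul, h2, h1]⟩
  h := D.h
  h_eq := fun l => ⟨1, O.one_mem, (one_mul _).symm⟩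
  h_W := fun l x hx => W_h D l hx
  h_mul := fun i j x hx => D.h_mul i j x (W_le D hx)

end Cfsg.Agent.StdU3.Tower.GBase
end

-- part: StdU3/Tower/Cen
section
/-!
# The terminal group of the tower: `U = P M`, `[P, M] = 1`

`Cen D O`: the common data; `Ab`: `M` abelian (homocyclic); `Cl`: `M` of class two, `|M| = q³`.
-/

set_option autoImplicit false
set_option linter.unusedSectionVars false
set_option linter.dupNamespace false

namespace Cfsg.Agent.StdU3.Tower.Cen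

open Cfsg.Agent.StdU3.Field Cfsg.Agent.StdU3.PreDef Cfsg.Agent.StdU3.LevelOne
open Cfsg.Agent.StdU3.LevelOneW Cfsg.Agent.StdU3.Next Cfsg.Agent.StdU3.TermDef

variable {G : Type*} [Group G] {K : Type*} [Field K] [Fintype K] [CharP K 2] {n : ℕ}

/-- the data of the terminal group `U = P M` of the tower. -/
structure Cen (D : Pre G K n) (O : Subgroup G) where
  M : Subgroup G
  M_two : IsPGroup 2 M
  M_P : ∀ m ∈ M, ∀ p ∈ D.P, m * p = p * m
  z_mem : ∀ b, D.z b ∈ M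
  cm_mem : ∀ x ∈ M, ∀ y ∈ M, ∃ b, bar n b = b ∧ x * y * x⁻¹ * y⁻¹ = D.z b
  t_not : D.t ∉ M
  t_conj : ∀ m ∈ M, D.t * m * D.t⁻¹ ∈ M
  t_comm : ∀ m ∈ M, m * D.t = D.t * m → ∃ b, bar n b = b ∧ m = D.z b
  /-- the torus -/
  h : Kˣ → G
  h_eq : ∀ l, ∃ c ∈ O, h l = c * D.h l
  h_M : ∀ l, ∀ m ∈ M, h l * m * (h l)⁻¹ ∈ M
  h_mul : ∀ l l', ∀ m ∈ M, h (l * l') * m * (h (l * l'))⁻¹ = h l * (h l' * m * (h l')⁻¹) * (h l)⁻¹
  /-- elements of `O` normalising `M` centralise `M` -/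
  O_M : ∀ o ∈ O, (∀ m ∈ M, o * m * o⁻¹ ∈ M) → ∀ m ∈ M, o * m = m * o

/-- the case `M` abelian: `M` is homocyclic of exponent `2 ^ (k + 1)`, `Ω₁(M) = Z`. -/
structure Ab {D : Pre G K n} {O : Subgroup G} (C : Cen D O) where
  comm : ∀ x ∈ C.M, ∀ y ∈ C.M, x * y = y * x
  k : ℕ
  hk : 1 ≤ k
  pw : ∀ x ∈ C.M, ∃ u, bar n u = u ∧ x ^ 2 ^ k = D.z u
  pw_surj : ∀ u, bar n u = u → ∃ x ∈ C.M, x ^ 2 ^ k = D.z u
  pw_ker : ∀ x ∈ C.M, x ^ 2 ^ k = 1 → ∃ y ∈ C.M, x = y * y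

/-- the case `M` of class two: `W < M`, `M / Z` elementary abelian of order `q²`;
`e : M → F_q`, kernel `W`, `u : W → F_q`, kernel `Z`. -/
structure Cl {D : Pre G K n} {O : Subgroup G} (C : Cen D O) where
  W : Subgroup G
  W_le : W ≤ C.M
  W_comm : ∀ x ∈ W, ∀ y ∈ W, x * y = y * x
  z_W : ∀ b, D.z b ∈ W
  h_W : ∀ l, ∀ w ∈ W, C.h l * w * (C.h l)⁻¹ ∈ W
  u : G → K
  u_fixed : ∀ w ∈ W, bar n (u w) = u w
  u_mul : ∀ w ∈ W, ∀ w' ∈ W, u (w * w') = u w + u w'
  u_surj : ∀ c, bar n c = c → ∃ w ∈ W, u w = c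
  u_ker : ∀ w ∈ W, u w = 0 → ∃ b, bar n b = b ∧ w = D.z b
  u_h : ∀ l, ∀ w ∈ W, u (C.h l * w * (C.h l)⁻¹) = N n (l : K) * u w
  W_sq : ∀ w ∈ W, w * w = D.z (u w)
  W_inv : ∀ w ∈ W, D.t * w * D.t⁻¹ = w⁻¹
  e : G → K
  e_fixed : ∀ m ∈ C.M, bar n (e m) = e m
  e_mul : ∀ m ∈ C.M, ∀ m' ∈ C.M, e (m * m') = e m + e m'
  e_surj : ∀ c, bar n c = c → ∃ m ∈ C.M, e m = c
  e_ker : ∀ m ∈ C.M, (e m = 0 ↔ m ∈ W)
  e_h : ∀ l, ∀ m ∈ C.M, e (C.h l * m * (C.h l)⁻¹) = N n (l : K) * e m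
  /-- `a m = [m, t]` is in `W` and `u (a m) = e m` -/
  a_mem : ∀ m ∈ C.M, m * D.t * m⁻¹ * D.t ∈ W
  u_a : ∀ m ∈ C.M, u (m * D.t * m⁻¹ * D.t) = e m
  sq : ∀ m ∈ C.M, ∃ b, bar n b = b ∧ m * m = D.z b
  cm_eq : ∀ m ∈ C.M, ∀ w ∈ W, ∀ c, bar n c = c → m * w * m⁻¹ * w⁻¹ = D.z c → c * c = e m * u w

/-! ### the group `U = P M` -/

variable {D : Pre G K n} {O : Subgroup G} (C : Cen D O)

/-- `U = P M` -/
def U : Subgroup G where
  carrier := {g | ∃ p ∈ D.P, ∃ m ∈ C.M, g = p * m}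
  one_mem' := ⟨1, D.P.one_mem, 1, C.M.one_mem, by rw [mul_one]⟩
  mul_mem' := by
    rintro _ _ ⟨p, hp, m, hm, rfl⟩ ⟨p', hp', m', hm', rfl⟩
    refine ⟨p * p', mul_mem hp hp', m * m', mul_mem hm hm', ?_⟩
    have h1 := C.M_P m hm p' hp'
    calc p * m * (p' * m') = p * (m * p') * m' := by group
      _ = _ := by rw [h1]; group
  inv_mem' := by
    rintro _ ⟨p, hp, m, hm, rfl⟩
    refine ⟨p⁻¹, inv_mem hp, m⁻¹, inv_mem hm, ?_⟩
    rw [mul_inv_rev, C.M_P _ (inv_mem hm) _ (inv_mem hp)]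

theorem mem_U {g : G} : g ∈ U C ↔ ∃ p ∈ D.P, ∃ m ∈ C.M, g = p * m := Iff.rfl

theorem P_le : D.P ≤ U C := fun p hp => ⟨p, hp, 1, C.M.one_mem, by rw [mul_one]⟩

theorem M_le : C.M ≤ U C := fun m hm => ⟨1, D.P.one_mem, m, hm, by rw [one_mul]⟩

/-- `P ∩ M = Z` -/
theorem P_M {x : G} (hx : x ∈ D.P) (hm : x ∈ C.M) : ∃ b, bar n b = b ∧ x = D.z b :=
  C.t_comm x hm (D.t_P x hx).symm

/-- `Z(P) = Z` -/
theorem cent_P {p : G} (hp : p ∈ D.P) (h : ∀ x ∈ D.P, p * x = x * p) :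
    ∃ b, bar n b = b ∧ p = D.z b := by
  apply D.exists_z p hp
  apply eq_zero_of_Tr D.hq
  intro y
  obtain ⟨x, hx, rfl⟩ := D.ca_surj y
  have h1 := D.P_comm p hp x hx
  rw [h x hx] at h1
  exact D.z_inj _ (fixed_Tr D.hq _) (right_eq_mul.1 h1)

/-- `C_U(P) = M` -/
theorem mem_M {g : G} (hg : g ∈ U C) (h : ∀ x ∈ D.P, g * x = x * g) : g ∈ C.M := by
  obtain ⟨p, hp, m, hm, rfl⟩ := hg
  obtain ⟨b, -, rfl⟩ := cent_P hp (fun x hx => by
    have h1 := h x hx
    have h2 := C.M_P m hm x hx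
    have h3 : p * x * m = x * p * m := by
      rw [mul_assoc, ← h2, ← mul_assoc, h1, mul_assoc]
    exact mul_right_cancel h3)
  exact mul_mem (C.z_mem b) hm

theorem z_comm_M (b : K) {m : G} (hm : m ∈ C.M) : m * D.z b = D.z b * m :=
  C.M_P m hm _ (D.z_mem b)

theorem z_comm_P (b : K) {p : G} (hp : p ∈ D.P) : p * D.z b = D.z b * p := by
  have h1 := D.P_comm p hp _ (D.z_mem b)
  rw [D.ca_z, bar_zero, mul_zero, Tr_zero, z_zero, one_mul] at h1
  exact h1

theorem z_comm_U (b : K) {g : G} (hg : g ∈ U C) : g * D.z b = D.z b * g := by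
  obtain ⟨p, hp, m, hm, rfl⟩ := hg
  rw [mul_assoc, z_comm_M C b hm, ← mul_assoc, z_comm_P b hp, mul_assoc]

theorem cmt_P {p p' : G} (hp : p ∈ D.P) (hp' : p' ∈ D.P) :
    p * p' * p⁻¹ * p'⁻¹ = D.z (Tr n (D.ca p * bar n (D.ca p'))) := by
  rw [D.P_comm p hp p' hp']; group

/-- the commutators of `U` -/
theorem cmt_U {p p' m m' : G} (hp : p ∈ D.P) (hp' : p' ∈ D.P) (hm : m ∈ C.M) (hm' : m' ∈ C.M) :
    (p * m) * (p' * m') * (p * m)⁻¹ * (p' * m')⁻¹ =
      (p * p' * p⁻¹ * p'⁻¹) * (m * m' * m⁻¹ * m'⁻¹) := by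
  have h1 := C.M_P m hm p' hp'
  have h2 := C.M_P _ (mul_mem hm hm') _ (inv_mem hp)
  have h3 := C.M_P _ (mul_mem (mul_mem hm hm') (inv_mem hm)) _ (inv_mem hp')
  have h4 : (p * m)⁻¹ = p⁻¹ * m⁻¹ := by rw [mul_inv_rev, C.M_P _ (inv_mem hm) _ (inv_mem hp)]
  have h5 : (p' * m')⁻¹ = p'⁻¹ * m'⁻¹ := by rw [mul_inv_rev, C.M_P _ (inv_mem hm') _ (inv_mem hp')]
  rw [h4, h5]
  calc p * m * (p' * m') * (p⁻¹ * m⁻¹) * (p'⁻¹ * m'⁻¹)
      = p * (m * p') * m' * p⁻¹ * m⁻¹ * p'⁻¹ * m'⁻¹ := by group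
    _ = p * p' * ((m * m') * p⁻¹) * m⁻¹ * p'⁻¹ * m'⁻¹ := by rw [h1]; group
    _ = p * p' * p⁻¹ * ((m * m' * m⁻¹) * p'⁻¹) * m'⁻¹ := by rw [h2]; group
    _ = _ := by rw [h3]; group

theorem cmt_mem {x y : G} (hx : x ∈ U C) (hy : y ∈ U C) :
    ∃ b, bar n b = b ∧ x * y * x⁻¹ * y⁻¹ = D.z b := by
  obtain ⟨p, hp, m, hm, rfl⟩ := hx
  obtain ⟨p', hp', m', hm', rfl⟩ := hy
  obtain ⟨b, hb, h⟩ := C.cm_mem m hm m' hm'
  exact ⟨_, fixed_add (fixed_Tr D.hq _) hb, by rw [cmt_U C hp hp' hm hm', cmt_P hp hp', h, D.z_add]⟩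

theorem class_two {x y g : G} (hx : x ∈ U C) (hy : y ∈ U C) (hg : g ∈ U C) :
    (x * y * x⁻¹ * y⁻¹) * g = g * (x * y * x⁻¹ * y⁻¹) := by
  obtain ⟨b, -, h⟩ := cmt_mem C hx hy
  rw [h, z_comm_U C b hg]

theorem t_not_U : D.t ∉ U C := by
  rintro ⟨p, hp, m, hm, h⟩
  have h1 : ∀ x ∈ D.P, p * x = x * p := by
    intro x hx
    have h2 := C.M_P m hm x hx
    have h3 := D.t_P x hx
    have h4 : p * x * m = x * p * m := by
      rw [mul_assoc, ← h2, ← mul_assoc, ← h, h3, h, mul_assoc]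
    exact mul_right_cancel h4
  obtain ⟨b, -, rfl⟩ := cent_P hp h1
  exact C.t_not (by rw [h]; exact mul_mem (C.z_mem b) hm)

theorem t_U {g : G} (hg : g ∈ U C) : D.t * g * D.t⁻¹ ∈ U C := by
  obtain ⟨p, hp, m, hm, rfl⟩ := hg
  refine ⟨p, hp, D.t * m * D.t⁻¹, C.t_conj m hm, ?_⟩
  rw [← mul_assoc, D.t_P p hp]; group

theorem comm_t {g : G} (hg : g ∈ U C) (h : g * D.t = D.t * g) : g ∈ D.P := by
  obtain ⟨p, hp, m, hm, rfl⟩ := hg
  have h1 : m * D.t = D.t * m := by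
    have h2 : p * (m * D.t) = p * (D.t * m) := by
      rw [← mul_assoc, h, ← mul_assoc, ← mul_assoc, D.t_P p hp]
    exact mul_left_cancel h2
  obtain ⟨b, -, rfl⟩ := C.t_comm m hm h1
  exact mul_mem hp (D.z_mem b)

theorem U_two : IsPGroup 2 (U C) := by
  rintro ⟨g, hg⟩
  obtain ⟨p, hp, m, hm, rfl⟩ := hg
  obtain ⟨j, hj⟩ := C.M_two ⟨m, hm⟩
  have hj' : m ^ 2 ^ j = 1 := congrArg Subtype.val hj
  refine ⟨j + 2, Subtype.ext ?_⟩
  show (p * m) ^ 2 ^ (j + 2) = 1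
  have hc : Commute p m := (C.M_P m hm p hp).symm
  have h1 : p ^ 4 = 1 := by
    have : p ^ 4 = (p * p) * (p * p) := by
      rw [show (4 : ℕ) = 2 * 2 from rfl, pow_mul, pow_two, pow_two]
    rw [this, D.P_sq p hp, z_self]
  rw [hc.mul_pow]
  have h2 : p ^ 2 ^ (j + 2) = 1 := by
    rw [pow_add, mul_comm, pow_mul, show (2 : ℕ) ^ 2 = 4 from rfl, h1, one_pow]
  have h3 : m ^ 2 ^ (j + 2) = 1 := by rw [pow_add, pow_mul, hj', one_pow]
  rw [h2, h3, one_mul]

/-- assembly of `Term` -/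
def term (two : ∀ v ∈ U C, v * v = 1 → (∀ b, v ≠ D.z b) →
    ∃ C' : Subgroup G, C' ≤ U C ∧ (∀ c ∈ C', c * v = v * c) ∧ (2 ^ n) ^ 3 ≤ Nat.card C' ∧
      ∃ B : Subgroup G, B ≤ C' ∧ (∀ b ∈ B, b * b = 1) ∧ (∀ b ∈ B, ∀ c ∈ C', b * c = c * b) ∧
        (2 ^ n) ^ 2 ≤ Nat.card B)
    (three : ∀ g ∈ U C, (g * D.t) * (g * D.t) = 1 →
      (∃ y ∈ U C, y * D.t * y⁻¹ = g * D.t) ∨ (∀ y : G, y * D.t * y⁻¹ ≠ g * D.t))
    (four : ∀ x, x * D.t = D.t * x → x * x = 1 →
      (∃ c, ∀ p ∈ D.P, x * p * x⁻¹ ∈ D.P ∧ D.ca (x * p * x⁻¹) = c * bar n (D.ca p)) →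
      (∀ g ∈ U C, x * g * x⁻¹ ∈ U C) →
      ∀ g ∈ U C, (g * x) * (g * x) = 1 →
        (∃ y ∈ U C, y * x * y⁻¹ = g * x) ∨
        ∃ B : Subgroup G, B ≤ U C ∧ (∀ b ∈ B, b * b = 1) ∧ (∀ b ∈ B, b * (g * x) = (g * x) * b) ∧
          (∀ b ∈ B, ∀ c ∈ B, b * c = c * b) ∧ g * x ∉ B ∧ (2 ^ n) ^ 2 ≤ Nat.card B) : Term D where
  U := U C
  U_two := U_two C
  P_le := P_le C
  class_two := fun _ hx _ hy _ hg => class_two C hx hy hg
  t_not := t_not_U C
  t_conj := fun _ hg => t_U C hg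
  comm_t := fun _ hg h => comm_t C hg h
  two := two
  three := three
  four := four

end Cfsg.Agent.StdU3.Tower.Cen
end

-- part: StdU3/Tower/Two
section
/-!
# The terminal group of the tower `U = P M`: coordinates, and the field `two` of `Term`

`al g` = coordinate on `P / Z` of the `P`-part of `g ∈ U`.
-/

set_option autoImplicit false
set_option linter.unusedSectionVars false
set_option linter.dupNamespace false

namespace Cfsg.Agent.StdU3.Tower.Two

open Cfsg.Agent.StdU3.Field Cfsg.Agent.StdU3.PreDef Cfsg.Agent.StdU3.LevelOne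
open Cfsg.Agent.StdU3.LevelOneW Cfsg.Agent.StdU3.Next Cfsg.Agent.StdU3.Card
open Cfsg.Agent.StdU3.TermTwo Cfsg.Agent.StdU3.Tower.Cen

variable {G : Type*} [Group G] {K : Type*} [Field K] [Fintype K] [CharP K 2] {n : ℕ}
variable {D : Pre G K n} {O : Subgroup G} (C : Cen D O)

/-! ### The coordinate `al` -/

open Classical in
/-- the coordinate of the `P`-part. -/
noncomputable def al (g : G) : K :=
  if h : ∃ p ∈ D.P, ∃ m ∈ C.M, g = p * m then D.ca h.choose else 0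

theorem al_eq {p m : G} (hp : p ∈ D.P) (hm : m ∈ C.M) : al C (p * m) = D.ca p := by
  have key : ∀ p0 ∈ D.P, (∃ m' ∈ C.M, p * m = p0 * m') → D.ca p0 = D.ca p := by
    rintro p0 h1 ⟨m', h2, h3⟩
    have h4 : p0⁻¹ * p = m' * m⁻¹ := by
      rw [eq_mul_inv_iff_mul_eq, mul_assoc, h3, ← mul_assoc, inv_mul_cancel, one_mul]
    obtain ⟨b, -, hb⟩ := P_M C (mul_mem (inv_mem h1) hp) (by
      rw [h4]; exact mul_mem h2 (inv_mem hm))
    have h5 := D.ca_mul _ (inv_mem h1) _ hp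
    rw [hb, D.ca_z, ca_inv D h1] at h5
    exact Field.add_eq_zero.mp h5.symm
  have h : ∃ p' ∈ D.P, ∃ m' ∈ C.M, p * m = p' * m' := ⟨p, hp, m, hm, rfl⟩
  unfold al
  rw [dif_pos h]
  exact key _ h.choose_spec.1 h.choose_spec.2

theorem al_P {p : G} (hp : p ∈ D.P) : al C p = D.ca p := by
  have := al_eq C hp C.M.one_mem
  rwa [mul_one] at this

theorem al_M {m : G} (hm : m ∈ C.M) : al C m = 0 := by
  have := al_eq C D.P.one_mem hm
  rwa [one_mul, ca_one] at this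

theorem al_z (b : K) : al C (D.z b) = 0 := al_M C (C.z_mem b)

theorem mul_eq {p m p' m' : G} (hm : m ∈ C.M) (hp' : p' ∈ D.P) :
    p * m * (p' * m') = (p * p') * (m * m') := by
  calc p * m * (p' * m') = p * (m * p') * m' := by group
    _ = _ := by rw [C.M_P m hm p' hp']; group

theorem al_mul {x y : G} (hx : x ∈ U C) (hy : y ∈ U C) : al C (x * y) = al C x + al C y := by
  obtain ⟨p, hp, m, hm, rfl⟩ := hx
  obtain ⟨p', hp', m', hm', rfl⟩ := hy
  rw [mul_eq C hm hp', al_eq C (mul_mem hp hp') (mul_mem hm hm'), al_eq C hp hm,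
    al_eq C hp' hm', D.ca_mul p hp p' hp']

theorem al_ker {g : G} (hg : g ∈ U C) (h : al C g = 0) : g ∈ C.M := by
  obtain ⟨p, hp, m, hm, rfl⟩ := hg
  rw [al_eq C hp hm] at h
  obtain ⟨b, -, rfl⟩ := D.exists_z p hp h
  exact mul_mem (C.z_mem b) hm

theorem card_U : Nat.card (U C) = Nat.card C.M * (2 ^ n) ^ 2 := by
  rw [card_of_hom (U C) C.M (al C) ⊤ (fun x hx y hy => al_mul C hx hy) _
    (fun _ _ => AddSubgroup.mem_top _) _, card_top_K D.hq]
  · intro x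
    exact ⟨fun hx => ⟨M_le C hx, al_M C hx⟩, fun hx => al_ker C hx.1 hx.2⟩
  · intro a _
    obtain ⟨p, hp, rfl⟩ := D.ca_surj a
    exact ⟨p, P_le C hp, al_P C hp⟩

theorem sq_U {p m : G} (hp : p ∈ D.P) (hm : m ∈ C.M) :
    p * m * (p * m) = D.z (N n (D.ca p)) * (m * m) := by
  rw [mul_eq C hm hp, D.P_sq p hp]

/-- centralizers in `U` have index at most `q`. -/
theorem card_cent [Finite G] {v : G} (hv : v ∈ U C) :
    Nat.card (U C) ≤ Nat.card ↥(U C ⊓ Subgroup.centralizer {v}) * 2 ^ n := by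
  rw [← card_Z D]
  apply card_le_cent
  intro x hx
  obtain ⟨b, -, h⟩ := cmt_mem C hx hv
  rw [h]
  exact z_mem_Z D b

/-! ### `M` abelian -/

section ab

variable {C} (A : Ab C)

include A

theorem omega {x : G} (hx : x ∈ C.M) (h : x * x = 1) : ∃ b, bar n b = b ∧ x = D.z b := by
  have key : ∀ j, j ≤ A.k → ∃ y ∈ C.M, x = y ^ 2 ^ j := by
    intro j
    induction j with
    | zero => intro _; exact ⟨x, hx, by rw [pow_zero, pow_one]⟩
    | succ j ih =>
      intro hj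
      obtain ⟨y, hy, hxy⟩ := ih (by omega)
      have h1 : y ^ 2 ^ (j + 1) = 1 := by
        rw [pow_succ, pow_mul, ← hxy, pow_two, h]
      have h2 : y ^ 2 ^ A.k = 1 := by
        obtain ⟨i, hi⟩ := Nat.exists_eq_add_of_le hj
        rw [hi, pow_add, pow_mul, h1, one_pow]
      obtain ⟨y', hy', hyy⟩ := A.pw_ker y hy h2
      exact ⟨y', hy', by rw [hxy, hyy, ← pow_two, ← pow_mul, pow_succ']⟩
  obtain ⟨y, hy, hxy⟩ := key A.k le_rfl
  obtain ⟨b, hb, hbb⟩ := A.pw y hy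
  exact ⟨b, hb, by rw [hxy, hbb]⟩

theorem exists_sq {b : K} (hb : bar n b = b) : ∃ x ∈ C.M, x * x = D.z b := by
  obtain ⟨x, hx, h⟩ := A.pw_surj b hb
  obtain ⟨j, hj⟩ : ∃ j, A.k = j + 1 := ⟨A.k - 1, by have := A.hk; omega⟩
  refine ⟨x ^ 2 ^ j, pow_mem hx _, ?_⟩
  rw [← h, hj, pow_succ, pow_mul, pow_two]

theorem card_M [Finite G] : (2 ^ n) ^ 2 ≤ Nat.card C.M := by
  have hs : ∀ b : Fq K n, ∃ x ∈ C.M, x * x = D.z b.1 := fun b => exists_sq A b.2
  choose s hsM hs using hs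
  let f : Fq K n × Fq K n → C.M := fun x =>
    ⟨D.z x.1.1 * s x.2, mul_mem (C.z_mem _) (hsM _)⟩
  have hf : Function.Injective f := by
    rintro ⟨b, c⟩ ⟨b', c'⟩ h
    have h1 : D.z b.1 * s c = D.z b'.1 * s c' := congrArg Subtype.val h
    have h2 : ∀ (b c : Fq K n), (D.z b.1 * s c) * (D.z b.1 * s c) = D.z c.1 := by
      intro b c
      have : D.z b.1 * s c * (D.z b.1 * s c) = D.z b.1 * (s c * D.z b.1) * s c := by group
      rw [this, z_comm_M C b.1 (hsM c), ← mul_assoc, z_self, one_mul, hs]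
    have h3 : D.z c.1 = D.z c'.1 := by rw [← h2 b c, ← h2 b' c', h1]
    have h4 : c = c' := Subtype.ext (z_eq D c.2 c'.2 h3)
    subst h4
    have h5 : b = b' := Subtype.ext (z_eq D b.2 b'.2 (mul_right_cancel h1))
    rw [h5]
  have h1 := Nat.card_le_card_of_injective f hf
  rwa [Nat.card_prod, card_Fq D.hq, ← sq] at h1

theorem mem_cent_ab {p w p' m' : G} (hp : p ∈ D.P) (hw : w ∈ C.M) (hp' : p' ∈ D.P)
    (hm' : m' ∈ C.M) : (p' * m') * (p * w) = (p * w) * (p' * m') ↔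
      Tr n (D.ca p' * bar n (D.ca p)) = 0 := by
  have h1 := cmt_U C hp' hp hm' hw
  rw [cmt_P hp' hp] at h1
  have h2 : m' * w * m'⁻¹ * w⁻¹ = 1 := by
    rw [A.comm m' hm' w hw]; group
  rw [h2, mul_one] at h1
  constructor
  · intro h
    apply D.z_inj _ (fixed_Tr D.hq _)
    rw [← h1, h]; group
  · intro h
    rw [h, z_zero] at h1
    rw [mul_inv_eq_one, mul_inv_eq_iff_eq_mul] at h1
    exact h1

/-- **the field `two` for `M` abelian.** -/
theorem two_ab [Finite G] {v : G} (hv : v ∈ U C) (h1 : v * v = 1) (hz : ∀ b, v ≠ D.z b) :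
    HasTwo (n := n) (U C) v := by
  obtain ⟨p, hp, w, hw, rfl⟩ := hv
  have hvU : p * w ∈ U C := ⟨p, hp, w, hw, rfl⟩
  set! a := D.ca p with had
  have ha : a ≠ 0 := by
    intro h
    obtain ⟨b, hb, rfl⟩ := D.exists_z p hp h
    obtain ⟨b', -, h'⟩ := omega A (mul_mem (C.z_mem b) hw) h1
    exact hz b' h'
  have hCf : ∀ g ∈ U C ⊓ Subgroup.centralizer {p * w}, bar n (al C g / a) = al C g / a := by
    intro g hg
    rw [mem_cent] at hg
    obtain ⟨⟨p', hp', m', hm', rfl⟩, hgc⟩ := hg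
    rw [mem_cent_ab A hp hw hp' hm'] at hgc
    rw [al_eq C hp' hm']
    apply fixed_div_of_Tr D.hq _ ha
    rw [Tr_comm D.hq]
    exact hgc
  have hCf' : ∀ g ∈ U C, bar n (al C g / a) = al C g / a →
      g ∈ U C ⊓ Subgroup.centralizer {p * w} := by
    intro g hg hf
    obtain ⟨p', hp', m', hm', rfl⟩ := hg
    rw [al_eq C hp' hm'] at hf
    rw [mem_cent]
    refine ⟨⟨p', hp', m', hm', rfl⟩, ?_⟩
    rw [mem_cent_ab A hp hw hp' hm']
    have : D.ca p' * bar n a = (D.ca p' / a) * N n a := by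
      rw [N_def]; field_simp
    rw [this, Tr_mul_fixed hf, Tr_of_fixed (fixed_N D.hq _), mul_zero]
  have hCc : ∀ g ∈ U C ⊓ Subgroup.centralizer {p * w},
      ∀ k ∈ U C ⊓ Subgroup.centralizer {p * w}, g * k = k * g := by
    intro g hg k hk
    have hg1 := hCf g hg
    have hk1 := hCf k hk
    obtain ⟨⟨p1, hp1, m1, hm1, rfl⟩, -⟩ := mem_cent.mp hg
    obtain ⟨⟨p2, hp2, m2, hm2, rfl⟩, -⟩ := mem_cent.mp hk
    rw [al_eq C hp1 hm1] at hg1
    rw [al_eq C hp2 hm2] at hk1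
    rw [mem_cent_ab A hp2 hm2 hp1 hm1]
    have h2 : D.ca p1 * bar n (D.ca p2) = (D.ca p1 / a * (D.ca p2 / a)) * N n a := by
      have h3 : bar n (D.ca p2) = (D.ca p2 / a) * bar n a := by
        rw [← hk1, ← bar_mul, div_mul_cancel₀ _ ha]
      rw [h3, N_def]; field_simp
    rw [h2, Tr_mul_fixed (fixed_mul hg1 hk1), Tr_of_fixed (fixed_N D.hq _), mul_zero]
  let B : Subgroup G :=
    { carrier := {g | g ∈ U C ⊓ Subgroup.centralizer {p * w} ∧ g * g = 1}
      one_mem' := ⟨one_mem _, one_mul 1⟩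
      mul_mem' := by
        rintro x y ⟨hx, hx1⟩ ⟨hy, hy1⟩
        refine ⟨mul_mem hx hy, ?_⟩
        have : x * y * (x * y) = x * (y * x) * y := by group
        rw [this, ← hCc x hx y hy]
        have : x * (x * y) * y = (x * x) * (y * y) := by group
        rw [this, hx1, hy1, one_mul]
      inv_mem' := by
        rintro x ⟨hx, hx1⟩
        refine ⟨inv_mem hx, ?_⟩
        rw [← mul_inv_rev, hx1, inv_one] }
  have hB : ∀ g, g ∈ B ↔ g ∈ U C ⊓ Subgroup.centralizer {p * w} ∧ g * g = 1 := fun _ => Iff.rfl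
  have hU4 : (2 ^ n) ^ 4 ≤ Nat.card (U C) := by
    rw [card_U C]
    have h2 : (2 ^ n) ^ 4 = (2 ^ n) ^ 2 * (2 ^ n) ^ 2 := by ring
    rw [h2]
    exact Nat.mul_le_mul_right _ (card_M A)
  refine ⟨U C ⊓ Subgroup.centralizer {p * w}, inf_le_left, fun c hc => (mem_cent.mp hc).2, ?_, B,
    fun g hg => ((hB g).mp hg).1, fun g hg => ((hB g).mp hg).2, ?_, ?_⟩
  · have h3 := hU4.trans (card_cent C hvU)
    have h4 : (2 ^ n) ^ 4 = (2 ^ n) ^ 3 * 2 ^ n := by ring
    rw [h4] at h3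
    exact Nat.le_of_mul_le_mul_right h3 (by positivity)
  · intro g hg c hc
    exact hCc g ((hB g).mp hg).1 c hc
  · have h3 := card_of_hom B (Z D) (fun g => al C g / a) (Fq K n) (by
      intro x hx y hy
      have hx' := (mem_cent.mp ((hB x).mp hx).1).1
      have hy' := (mem_cent.mp ((hB y).mp hy).1).1
      show al C (x * y) / a = al C x / a + al C y / a
      rw [al_mul C hx' hy', add_div]) (by
      intro x
      constructor
      · rintro ⟨b, hb, rfl⟩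
        refine ⟨?_, ?_⟩
        · rw [hB]
          refine ⟨hCf' _ (M_le C (C.z_mem b)) ?_, z_self D b⟩
          rw [al_z, zero_div, bar_zero]
        · show al C (D.z b) / a = 0
          rw [al_z, zero_div]
      · rintro ⟨hx, h5⟩
        rw [hB] at hx
        have hxU := (mem_cent.mp hx.1).1
        have h6 : al C x = 0 := (div_eq_zero_iff.mp h5).resolve_right ha
        exact omega A (al_ker C hxU h6) hx.2) (by
      intro x hx
      exact hCf x ((hB x).mp hx).1) (by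
      intro m hm
      obtain ⟨p', hp', hpa⟩ := D.ca_surj (m * a)
      obtain ⟨m', hm', hmm⟩ := exists_sq A (fixed_N D.hq (m * a))
      have h5 : al C (p' * m') / a = m := by
        rw [al_eq C hp' hm', hpa, mul_div_cancel_right₀ _ ha]
      refine ⟨p' * m', ?_, h5⟩
      rw [hB]
      refine ⟨hCf' _ ⟨p', hp', m', hm', rfl⟩ (by rw [h5]; exact hm), ?_⟩
      rw [sq_U C hp' hm', hmm, hpa, z_self])
    rw [h3, card_Z, card_Fq D.hq, sq]

end ab

end Cfsg.Agent.StdU3.Tower.Two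
end

-- part: StdU3/Tower/TwoCl
section
/-!
# The field `two` of `Term` for the tower, `M` of class two

`M / Z` is `F_q`-linear (scalars = the torus elements `h l`, `l ∈ F_q`) and the commutator
`fc : M × M → F_q` is `F_q`-bilinear.
-/

set_option autoImplicit false
set_option linter.unusedSectionVars false
set_option linter.dupNamespace false
set_option linter.style.haveILetI false

namespace Cfsg.Agent.StdU3.Tower.TwoCl

open Cfsg.Agent.StdU3.Field Cfsg.Agent.StdU3.PreDef Cfsg.Agent.StdU3.LevelOne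
open Cfsg.Agent.StdU3.LevelOneW Cfsg.Agent.StdU3.Next Cfsg.Agent.StdU3.Card
open Cfsg.Agent.StdU3.TermTwo Cfsg.Agent.StdU3.Tower.Cen Cfsg.Agent.StdU3.Tower.Two

/-! ### An identity in elementary abelian groups -/

theorem nine_abs {Q : Type*} [Group Q] (hc : ∀ a b : Q, a * b = b * a) (hs : ∀ a : Q, a * a = 1)
    (a1 a2 a3 a4 a5 a6 : Q) :
    (a1 * a2 * a3) * (a2 * a4 * a5) * (a3 * a5 * a6) = a1 * a4 * a6 := by
  have h1 : (a1 * a2 * a3) * (a2 * a4 * a5) * (a3 * a5 * a6) =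
      a1 * a4 * a6 * (a2 * a2) * (a3 * a3) * (a5 * a5) := by
    calc (a1 * a2 * a3) * (a2 * a4 * a5) * (a3 * a5 * a6)
        = a1 * (a2 * (a3 * a2)) * (a4 * (a5 * (a3 * (a5 * a6)))) := by group
      _ = a1 * (a2 * (a2 * a3)) * (a4 * (a5 * (a3 * (a6 * a5)))) := by rw [hc a3 a2, hc a5 a6]
      _ = a1 * (a2 * a2) * a3 * a4 * a5 * ((a3 * a6) * a5) := by group
      _ = a1 * a3 * a4 * a5 * ((a3 * a6) * a5) := by rw [hs a2, mul_one]
      _ = a1 * (a3 * (a4 * a5)) * ((a3 * a6) * a5) := by group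
      _ = a1 * ((a4 * a5) * a3) * ((a3 * a6) * a5) := by rw [hc a3 (a4 * a5)]
      _ = a1 * a4 * a5 * (a3 * a3) * (a6 * a5) := by group
      _ = a1 * a4 * a5 * (a5 * a6) := by rw [hs a3, mul_one, hc a6 a5]
      _ = a1 * a4 * (a5 * a5) * a6 := by group
      _ = a1 * a4 * a6 * (a2 * a2) * (a3 * a3) * (a5 * a5) := by
          rw [hs a2, hs a3, hs a5, mul_one, mul_one, mul_one, mul_one]
  rw [h1, hs, hs, hs, mul_one, mul_one, mul_one]

variable {G : Type*} [Group G] {K : Type*} [Field K] [Fintype K] [CharP K 2] {n : ℕ}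
variable {D : Pre G K n} {O : Subgroup G} (C : Cen D O)

/-! ### The torus -/

/-- conjugation by `h l`. -/
def cj (l : Kˣ) (g : G) : G := C.h l * g * (C.h l)⁻¹

theorem cj_mul (l : Kˣ) (x y : G) : cj C l (x * y) = cj C l x * cj C l y := by
  unfold cj; group

theorem cj_inv (l : Kˣ) (x : G) : cj C l x⁻¹ = (cj C l x)⁻¹ := by
  unfold cj; group

theorem cj_one (l : Kˣ) : cj C l 1 = 1 := by unfold cj; group

theorem cj_M (l : Kˣ) {m : G} (hm : m ∈ C.M) : cj C l m ∈ C.M := C.h_M l m hm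

theorem cj_cj (l l' : Kˣ) {m : G} (hm : m ∈ C.M) : cj C l (cj C l' m) = cj C (l * l') m :=
  (C.h_mul l l' m hm).symm

theorem cj_P (hO : Amb D O) (l : Kˣ) {p : G} (hp : p ∈ D.P) :
    cj C l p = D.h l * p * (D.h l)⁻¹ := by
  obtain ⟨c, hc, he⟩ := C.h_eq l
  have h1 := hO.O_P c hc _ (D.h_P l p hp)
  unfold cj
  rw [he]
  calc c * D.h l * p * (c * D.h l)⁻¹ = (c * (D.h l * p * (D.h l)⁻¹)) * c⁻¹ := by group
    _ = D.h l * p * (D.h l)⁻¹ := by rw [h1]; group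

theorem cj_P_mem (hO : Amb D O) (l : Kˣ) {p : G} (hp : p ∈ D.P) : cj C l p ∈ D.P := by
  rw [cj_P C hO l hp]; exact D.h_P l p hp

theorem ca_cj (hO : Amb D O) (l : Kˣ) {p : G} (hp : p ∈ D.P) :
    D.ca (cj C l p) = w n l * D.ca p := by
  rw [cj_P C hO l hp]; exact D.h_ca l p hp

theorem cj_z (hO : Amb D O) (l : Kˣ) {b : K} (hb : bar n b = b) :
    cj C l (D.z b) = D.z (N n (l : K) * b) := by
  rw [cj_P C hO l (D.z_mem b), h_z D l hb]

theorem cj_U (hO : Amb D O) (l : Kˣ) {g : G} (hg : g ∈ U C) : cj C l g ∈ U C := by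
  obtain ⟨p, hp, m, hm, rfl⟩ := hg
  exact ⟨_, cj_P_mem C hO l hp, _, cj_M C l hm, cj_mul C l p m⟩

theorem al_cj (hO : Amb D O) {l : Kˣ} (hl : bar n (l : K) = l) {g : G} (hg : g ∈ U C) :
    al C (cj C l g) = l * al C g := by
  obtain ⟨p, hp, m, hm, rfl⟩ := hg
  rw [cj_mul, al_eq C (cj_P_mem C hO l hp) (cj_M C l hm), al_eq C hp hm, ca_cj C hO l hp,
    Kernel.w_of_fixed hl]

/-! ### The commutator form on `M` -/

open Classical in
/-- the commutator `[x, y] = z (fc x y)`. -/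
noncomputable def fc (_C : Cen D O) (x y : G) : K :=
  if h : ∃ b, bar n b = b ∧ x * y * x⁻¹ * y⁻¹ = D.z b then h.choose else 0

theorem fc_spec {x y : G} (hx : x ∈ C.M) (hy : y ∈ C.M) :
    bar n (fc C x y) = fc C x y ∧ x * y * x⁻¹ * y⁻¹ = D.z (fc C x y) := by
  have h := C.cm_mem x hx y hy
  unfold fc
  rw [dif_pos h]
  exact h.choose_spec

theorem fc_eq {x y : G} (hx : x ∈ C.M) (hy : y ∈ C.M) {c : K} (hc : bar n c = c)
    (h : x * y * x⁻¹ * y⁻¹ = D.z c) : fc C x y = c := by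
  have h1 := fc_spec C hx hy
  exact z_eq D h1.1 hc (h1.2.symm.trans h)

theorem fc_mul_left {x x' y : G} (hx : x ∈ C.M) (hx' : x' ∈ C.M) (hy : y ∈ C.M) :
    fc C (x * x') y = fc C x y + fc C x' y := by
  have h1 := fc_spec C hx hy
  have h2 := fc_spec C hx' hy
  apply fc_eq C (mul_mem hx hx') hy (fixed_add h1.1 h2.1)
  have e1 : x * x' * y * (x * x')⁻¹ * y⁻¹ =
      x * (x' * y * x'⁻¹ * y⁻¹) * (y * x⁻¹ * y⁻¹) := by group
  rw [e1, h2.2, z_comm_M C _ hx, mul_assoc]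
  have e2 : x * (y * x⁻¹ * y⁻¹) = x * y * x⁻¹ * y⁻¹ := by group
  rw [e2, h1.2, ← D.z_add, add_comm]

theorem fc_symm {x y : G} (hx : x ∈ C.M) (hy : y ∈ C.M) : fc C x y = fc C y x := by
  have h1 := fc_spec C hx hy
  symm
  apply fc_eq C hy hx h1.1
  have e1 : y * x * y⁻¹ * x⁻¹ = (x * y * x⁻¹ * y⁻¹)⁻¹ := by group
  rw [e1, h1.2, z_inv]

theorem fc_zero {x y : G} (hx : x ∈ C.M) (hy : y ∈ C.M) (h : x * y = y * x) : fc C x y = 0 := by
  apply fc_eq C hx hy (bar_zero n)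
  rw [z_zero, h]; group

/-! ### `M` of class two -/

variable {C} (A : Cl C)

include A

theorem nine {a1 a2 a3 a4 a5 a6 : G} (h1 : a1 ∈ C.M) (h2 : a2 ∈ C.M) (h3 : a3 ∈ C.M)
    (h4 : a4 ∈ C.M) (h5 : a5 ∈ C.M) (h6 : a6 ∈ C.M) :
    ∃ b, bar n b = b ∧ (a1 * a4 * a6)⁻¹ *
      ((a1 * a2 * a3) * (a2 * a4 * a5) * (a3 * a5 * a6)) = D.z b := by
  let N : Subgroup C.M := (Z D).subgroupOf C.M
  haveI hN : N.Normal := ⟨by
    rintro ⟨x, hx⟩ hxZ ⟨g, hg⟩
    rw [Subgroup.mem_subgroupOf] at hxZ ⊢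
    obtain ⟨b, hb, hxb⟩ := hxZ
    have hxb' : x = D.z b := hxb
    refine ⟨b, hb, ?_⟩
    show g * x * g⁻¹ = D.z b
    rw [hxb', z_comm_M C b hg]; group⟩
  have hc : ∀ x y : C.M ⧸ N, x * y = y * x := by
    intro x y
    obtain ⟨⟨x, hx⟩, rfl⟩ := QuotientGroup.mk'_surjective N x
    obtain ⟨⟨y, hy⟩, rfl⟩ := QuotientGroup.mk'_surjective N y
    rw [← map_mul, ← map_mul, QuotientGroup.mk'_apply, QuotientGroup.mk'_apply,
      QuotientGroup.eq, Subgroup.mem_subgroupOf]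
    obtain ⟨b, hb, h⟩ := C.cm_mem y⁻¹ (inv_mem hy) x⁻¹ (inv_mem hx)
    refine ⟨b, hb, ?_⟩
    show (x * y)⁻¹ * (y * x) = D.z b
    rw [← h]; group
  have hs : ∀ x : C.M ⧸ N, x * x = 1 := by
    intro x
    obtain ⟨⟨x, hx⟩, rfl⟩ := QuotientGroup.mk'_surjective N x
    rw [← map_mul, QuotientGroup.mk'_apply, QuotientGroup.eq_one_iff, Subgroup.mem_subgroupOf]
    obtain ⟨b, hb, h⟩ := A.sq x hx
    exact ⟨b, hb, h⟩
  have h := nine_abs hc hs (QuotientGroup.mk' N ⟨a1, h1⟩) (QuotientGroup.mk' N ⟨a2, h2⟩)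
    (QuotientGroup.mk' N ⟨a3, h3⟩) (QuotientGroup.mk' N ⟨a4, h4⟩) (QuotientGroup.mk' N ⟨a5, h5⟩)
    (QuotientGroup.mk' N ⟨a6, h6⟩)
  rw [← map_mul, ← map_mul, ← map_mul, ← map_mul, ← map_mul, ← map_mul, ← map_mul, ← map_mul,
    ← map_mul, ← map_mul, QuotientGroup.mk'_apply, QuotientGroup.mk'_apply] at h
  have h' := QuotientGroup.eq.mp h.symm
  rw [Subgroup.mem_subgroupOf] at h'
  obtain ⟨b, hb, h''⟩ := h'
  exact ⟨b, hb, h''⟩

/-- `M / Z` is `F_q`-linear. -/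
theorem lin {m m' m'' : Kˣ} (hm : bar n (m : K) = m) (hm' : bar n (m' : K) = m')
    (hmm : (m'' : K) = m + m') {y : G} (hy : y ∈ C.M) :
    ∃ b, bar n b = b ∧ cj C (m * m) y * cj C (m' * m') y * cj C (m'' * m'') y = D.z b := by
  have hm'' : bar n (m'' : K) = m'' := by rw [hmm]; exact fixed_add hm hm'
  have hN : N n (m : K) + N n (m' : K) + N n (m'' : K) = 0 := by
    rw [N_of_fixed hm, N_of_fixed hm', N_of_fixed hm'', hmm]
    have : (m : K) ^ 2 + (m' : K) ^ 2 + ((m : K) + m') ^ 2 =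
      ((m : K) ^ 2 + (m : K) ^ 2) + ((m' : K) ^ 2 + (m' : K) ^ 2) + ((m : K) * m' + m * m') := by
      ring
    rw [this]
    simp only [Field.add_self]
  -- `chi`
  let chi : G → G := fun y => cj C m y * cj C m' y * cj C m'' y
  have hchi : ∀ y, chi y = cj C m y * cj C m' y * cj C m'' y := fun _ => rfl
  have hchiM : ∀ y ∈ C.M, chi y ∈ C.M := fun y hy =>
    mul_mem (mul_mem (cj_M C m hy) (cj_M C m' hy)) (cj_M C m'' hy)
  have hchiW : ∀ y ∈ C.M, chi y ∈ A.W := by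
    intro y hy
    rw [← A.e_ker _ (hchiM y hy), hchi,
      A.e_mul _ (mul_mem (cj_M C m hy) (cj_M C m' hy)) _ (cj_M C m'' hy),
      A.e_mul _ (cj_M C m hy) _ (cj_M C m' hy)]
    have e1 : A.e (cj C m y) = N n (m : K) * A.e y := A.e_h m y hy
    have e2 : A.e (cj C m' y) = N n (m' : K) * A.e y := A.e_h m' y hy
    have e3 : A.e (cj C m'' y) = N n (m'' : K) * A.e y := A.e_h m'' y hy
    rw [e1, e2, e3, ← add_mul, ← add_mul, hN, zero_mul]
  have hchiZ : ∀ y ∈ A.W, ∃ b, bar n b = b ∧ chi y = D.z b := by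
    intro y hy
    have e1 : A.u (cj C m y) = N n (m : K) * A.u y := A.u_h m y hy
    have e2 : A.u (cj C m' y) = N n (m' : K) * A.u y := A.u_h m' y hy
    have e3 : A.u (cj C m'' y) = N n (m'' : K) * A.u y := A.u_h m'' y hy
    have f1 : cj C m y ∈ A.W := A.h_W m y hy
    have f2 : cj C m' y ∈ A.W := A.h_W m' y hy
    have f3 : cj C m'' y ∈ A.W := A.h_W m'' y hy
    apply A.u_ker _ (mul_mem (mul_mem f1 f2) f3)
    rw [A.u_mul _ (mul_mem f1 f2) _ f3, A.u_mul _ f1 _ f2, e1, e2, e3, ← add_mul, ← add_mul, hN,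
      zero_mul]
  obtain ⟨b0, hb0, h0⟩ := hchiZ _ (hchiW y hy)
  have hexp : chi (chi y) = (cj C (m * m) y * cj C (m * m') y * cj C (m * m'') y) *
      (cj C (m * m') y * cj C (m' * m') y * cj C (m' * m'') y) *
      (cj C (m * m'') y * cj C (m' * m'') y * cj C (m'' * m'') y) := by
    rw [hchi (chi y), hchi y, cj_mul, cj_mul, cj_mul, cj_mul, cj_mul, cj_mul, cj_cj C _ _ hy,
      cj_cj C _ _ hy, cj_cj C _ _ hy, cj_cj C _ _ hy, cj_cj C _ _ hy, cj_cj C _ _ hy,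
      cj_cj C _ _ hy, cj_cj C _ _ hy, cj_cj C _ _ hy, mul_comm m' m, mul_comm m'' m,
      mul_comm m'' m']
  obtain ⟨b1, hb1, h1⟩ := nine A (cj_M C (m * m) hy) (cj_M C (m * m') hy) (cj_M C (m * m'') hy)
    (cj_M C (m' * m') hy) (cj_M C (m' * m'') hy) (cj_M C (m'' * m'') hy)
  rw [← hexp, h0] at h1
  refine ⟨b0 + b1, fixed_add hb0 hb1, ?_⟩
  have h2 : cj C (m * m) y * cj C (m' * m') y * cj C (m'' * m'') y = D.z b0 * (D.z b1)⁻¹ := by
    rw [← h1]; group
  rw [h2, z_inv, D.z_add]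

/-- the scalar multiples of `y` commute. -/
theorem comm_cj (hO : Amb D O) {l l' : Kˣ} (hl : bar n (l : K) = l) (hl' : bar n (l' : K) = l')
    {y : G} (hy : y ∈ C.M) : cj C l y * cj C l' y = cj C l' y * cj C l y := by
  by_cases hll : l = l'
  · rw [hll]
  -- square roots
  have hroot : ∀ l : Kˣ, bar n (l : K) = l → ∃ m : Kˣ, bar n (m : K) = m ∧ m * m = l := by
    intro l hl
    obtain ⟨m, hm, h4⟩ := Outer.exists_fourth D.hq hl
    have hm0 : m ≠ 0 := by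
      rintro rfl
      rw [zero_pow (by norm_num)] at h4
      exact l.ne_zero h4.symm
    refine ⟨Units.mk0 (m ^ 2) (pow_ne_zero 2 hm0), ?_, ?_⟩
    · rw [Units.val_mk0, bar_pow, hm]
    · apply Units.val_injective
      rw [Units.val_mul, Units.val_mk0, ← h4]; ring
  obtain ⟨m, hm, rfl⟩ := hroot l hl
  obtain ⟨m', hm', rfl⟩ := hroot l' hl'
  have hne : (m : K) + m' ≠ 0 := by
    intro h
    apply hll
    have : m = m' := Units.val_injective (Field.add_eq_zero.mp h)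
    rw [this]
  set! m'' : Kˣ := Units.mk0 ((m : K) + m') hne with hm2
  have hmm : (m'' : K) = m + m' := rfl
  have hm'' : bar n (m'' : K) = m'' := by rw [hmm]; exact fixed_add hm hm'
  obtain ⟨b, hb, h⟩ := lin A hm hm' hmm hy
  obtain ⟨s, hs, hsq⟩ := A.sq y hy
  set a := cj C (m * m) y with ha
  set a' := cj C (m' * m') y with ha'
  set a'' := cj C (m'' * m'') y with ha''
  have haM : a ∈ C.M := cj_M C _ hy
  have haM' : a' ∈ C.M := cj_M C _ hy
  have haM'' : a'' ∈ C.M := cj_M C _ hy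
  have hsqc : ∀ l : Kˣ, cj C l y * cj C l y = D.z (N n (l : K) * s) := by
    intro l
    rw [← cj_mul, hsq, cj_z C hO l hs]
  have e1 : a * a = D.z ((m : K) ^ 4 * s) := by
    rw [ha, hsqc, Units.val_mul, N_mul, N_of_fixed hm]; congr 1; ring
  have e2 : a' * a' = D.z ((m' : K) ^ 4 * s) := by
    rw [ha', hsqc, Units.val_mul, N_mul, N_of_fixed hm']; congr 1; ring
  have e3 : a'' * a'' = D.z (((m : K) ^ 4 + (m' : K) ^ 4) * s) := by
    rw [ha'', hsqc, Units.val_mul, N_mul, N_of_fixed hm'', hmm]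
    congr 2
    have : ((m : K) + m') ^ 2 = (m : K) ^ 2 + (m' : K) ^ 2 := by
      have h2 : (2 : K) = 0 := CharTwo.two_eq_zero
      rw [add_sq, h2, zero_mul, zero_mul, add_zero]
    rw [this]
    have h2 : (2 : K) = 0 := CharTwo.two_eq_zero
    have h3 : ((m : K) ^ 2 + (m' : K) ^ 2) * ((m : K) ^ 2 + (m' : K) ^ 2) =
      (m : K) ^ 4 + (m' : K) ^ 4 + 2 * ((m : K) ^ 2 * (m' : K) ^ 2) := by ring
    rw [h3, h2, zero_mul, add_zero]
  -- `a a' = z b a''⁻¹`
  have e4 : a * a' = D.z b * a''⁻¹ := by rw [← h]; group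
  have e5 : a * a' * (a * a') = D.z (((m : K) ^ 4 + (m' : K) ^ 4) * s) := by
    have h1 : D.z b * a''⁻¹ * (D.z b * a''⁻¹) = D.z b * (a''⁻¹ * D.z b) * a''⁻¹ := by group
    rw [e4, h1, z_comm_M C b (inv_mem haM''), ← mul_assoc, z_self, one_mul, ← mul_inv_rev, e3,
      z_inv]
  have e6 : a * a' * (a * a') = a * (a' * a) * a' := by group
  have e7 : a * (a * a') * a' = D.z (((m : K) ^ 4 + (m' : K) ^ 4) * s) := by
    have : a * (a * a') * a' = (a * a) * (a' * a') := by group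
    rw [this, e1, e2, ← D.z_add, add_mul]
  rw [e6, ← e7] at e5
  exact (mul_left_cancel (mul_right_cancel e5)).symm

/-- the commutator is `F_q`-linear. -/
theorem fc_smul (hO : Amb D O) {l : Kˣ} (hl : bar n (l : K) = l) {x y : G} (hx : x ∈ C.M)
    (hy : y ∈ C.M) : fc C x (cj C l y) = l * fc C x y := by
  have hsqinj : ∀ a b : K, a * a = b * b → a = b := by
    intro a b h
    have h1 : (a + b) * (a + b) = 0 := by
      have h2 : (a + b) * (a + b) = a * a + b * b + (a * b + a * b) := by ring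
      rw [h2, Field.add_self, add_zero, h, Field.add_self]
    exact Field.add_eq_zero.mp (mul_self_eq_zero.mp h1)
  -- one of the two in `W`
  have hW : ∀ x ∈ C.M, ∀ y ∈ A.W, fc C x (cj C l y) = l * fc C x y := by
    intro x hx y hy
    have hyM := A.W_le hy
    have h1 := fc_spec C hx hyM
    have hyl : cj C l y ∈ A.W := A.h_W l y hy
    have h2 := fc_spec C hx (cj_M C l hyM)
    apply hsqinj
    rw [A.cm_eq x hx _ hyl _ h2.1 h2.2]
    have e1 : A.u (cj C l y) = N n (l : K) * A.u y := A.u_h l y hy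
    rw [e1, N_of_fixed hl]
    have e2 := A.cm_eq x hx y hy _ h1.1 h1.2
    linear_combination (-(l : K) ^ 2) * e2
  have hW' : ∀ x ∈ A.W, ∀ y ∈ C.M, fc C x (cj C l y) = l * fc C x y := by
    intro x hx y hy
    have hxM := A.W_le hx
    rw [fc_symm C hxM (cj_M C l hy), fc_symm C hxM hy]
    have h1 := fc_spec C hy hxM
    have h2 := fc_spec C (cj_M C l hy) hxM
    apply hsqinj
    rw [A.cm_eq _ (cj_M C l hy) x hx _ h2.1 h2.2]
    have e1 : A.e (cj C l y) = N n (l : K) * A.e y := A.e_h l y hy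
    rw [e1, N_of_fixed hl]
    have e2 := A.cm_eq y hy x hx _ h1.1 h1.2
    linear_combination (-(l : K) ^ 2) * e2
  by_cases hyW : y ∈ A.W
  · exact hW x hx y hyW
  by_cases hxW : x ∈ A.W
  · exact hW' x hxW y hy
  have hey : A.e y ≠ 0 := fun h => hyW ((A.e_ker y hy).mp h)
  have hex : A.e x ≠ 0 := fun h => hxW ((A.e_ker x hx).mp h)
  -- `e x = r² e y`
  have hfix : bar n (A.e x / A.e y) = A.e x / A.e y := by
    rw [div_eq_mul_inv]
    exact fixed_mul (A.e_fixed x hx) (fixed_inv (A.e_fixed y hy))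
  obtain ⟨r0, hr0, h4⟩ := Outer.exists_fourth D.hq hfix
  have hr0' : r0 ≠ 0 := by
    rintro rfl
    rw [zero_pow (by norm_num)] at h4
    exact div_ne_zero hex hey h4.symm
  set! r : Kˣ := Units.mk0 (r0 ^ 2) (pow_ne_zero 2 hr0') with hr
  have hrf : bar n (r : K) = r := by rw [hr, Units.val_mk0, bar_pow, hr0]
  have hrx : A.e (cj C r y) = A.e x := by
    have e1 : A.e (cj C r y) = N n (r : K) * A.e y := A.e_h r y hy
    have e2 : (r : K) ^ 2 = r0 ^ 4 := by rw [hr, Units.val_mk0]; ring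
    rw [e1, N_of_fixed hrf, e2, h4, div_mul_cancel₀ _ hey]
  have hw : (cj C r y)⁻¹ * x ∈ A.W := by
    have hm := mul_mem (inv_mem (cj_M C r hy)) hx
    rw [← A.e_ker _ hm, A.e_mul _ (inv_mem (cj_M C r hy)) _ hx]
    have e1 := A.e_mul _ (cj_M C r hy) _ (inv_mem (cj_M C r hy))
    rw [mul_inv_cancel] at e1
    have e2 : A.e (1 : G) = 0 := (A.e_ker 1 C.M.one_mem).mpr A.W.one_mem
    rw [e2] at e1
    rw [Field.add_eq_zero.mp e1.symm] at hrx
    rw [hrx, Field.add_self]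
  have hx' : x = cj C r y * ((cj C r y)⁻¹ * x) := by group
  rw [hx', fc_mul_left C (cj_M C r hy) (A.W_le hw) (cj_M C l hy),
    fc_mul_left C (cj_M C r hy) (A.W_le hw) hy, hW' _ hw y hy,
    fc_zero C (cj_M C r hy) (cj_M C l hy) (comm_cj A hO hrf hl hy)]
  have h1 : fc C (cj C r y) y = 0 := by
    have e1 := comm_cj A hO hrf (l' := 1) (by rw [Units.val_one, bar_one]) hy
    have e2 : cj C 1 y = y := by
      have e3 := cj_cj C 1 1 hy
      rw [mul_one] at e3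
      unfold cj at e3 ⊢
      have e4 : C.h 1 * (C.h 1 * y * (C.h 1)⁻¹) * (C.h 1)⁻¹ = C.h 1 * y * (C.h 1)⁻¹ := e3
      exact mul_left_cancel (mul_right_cancel e4)
    rw [e2] at e1
    exact fc_zero C (cj_M C r hy) hy e1
  rw [h1, zero_add, zero_add]

theorem card_W : Nat.card A.W = (2 ^ n) ^ 2 := by
  rw [card_of_hom A.W (Z D) A.u (Fq K n) A.u_mul _ A.u_fixed A.u_surj, card_Z, card_Fq D.hq]
  · ring
  · intro x
    constructor
    · rintro ⟨b, hb, rfl⟩
      refine ⟨A.z_W b, ?_⟩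
      have h1 := A.W_sq _ (A.z_W b)
      rw [z_self] at h1
      exact D.z_inj _ (A.u_fixed _ (A.z_W b)) h1.symm
    · rintro ⟨hx, h0⟩
      exact A.u_ker x hx h0

theorem card_M : Nat.card C.M = (2 ^ n) ^ 3 := by
  rw [card_of_hom C.M A.W A.e (Fq K n) A.e_mul _ A.e_fixed A.e_surj, card_W A, card_Fq D.hq]
  · ring
  · intro x
    constructor
    · intro hx
      exact ⟨A.W_le hx, (A.e_ker x (A.W_le hx)).mpr hx⟩
    · rintro ⟨hx, h0⟩
      exact (A.e_ker x hx).mp h0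

/-- elements of `U` commuting with `v` commute with the scalar multiples of `v`. -/
theorem comm_cj_U (hO : Amb D O) {l : Kˣ} (hl : bar n (l : K) = l) {g v : G} (hg : g ∈ U C)
    (hv : v ∈ U C) (h : g * v = v * g) : g * cj C l v = cj C l v * g := by
  obtain ⟨p', hp', m', hm', rfl⟩ := hg
  obtain ⟨p, hp, m, hm, rfl⟩ := hv
  have h1 := cmt_U C hp' hp hm' hm
  rw [cmt_P hp' hp, (fc_spec C hm' hm).2, ← D.z_add] at h1
  have h2 : D.z (Tr n (D.ca p' * bar n (D.ca p)) + fc C m' m) = 1 := by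
    rw [← h1, h]; group
  have h3 := D.z_inj _ (fixed_add (fixed_Tr D.hq _) (fc_spec C hm' hm).1) h2
  have h4 := cmt_U C hp' (cj_P_mem C hO l hp) hm' (cj_M C l hm)
  rw [cmt_P hp' (cj_P_mem C hO l hp), (fc_spec C hm' (cj_M C l hm)).2, ← D.z_add,
    fc_smul A hO hl hm' hm, ca_cj C hO l hp, Kernel.w_of_fixed hl, bar_mul, hl,
    mul_left_comm (D.ca p') (l : K), Tr_mul_fixed hl, ← mul_add, h3, mul_zero, z_zero] at h4
  rw [cj_mul]
  have h5 := mul_inv_eq_one.mp h4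
  exact mul_inv_eq_iff_eq_mul.mp h5

open Classical in
/-- the multiples of `v`. -/
noncomputable def vl (C : Cen D O) (v : G) (l : K) : G :=
  if h : l = 0 then 1 else cj C (Units.mk0 l h) v

omit A in
theorem vl_zero (v : G) : vl C v 0 = 1 := dif_pos rfl

omit A in
theorem vl_ne (v : G) {l : K} (h : l ≠ 0) : vl C v l = cj C (Units.mk0 l h) v := dif_neg h

/-- **the field `two` for `M` of class two.** -/
theorem two_cl [Finite G] (hO : Amb D O) {v : G} (hv : v ∈ U C) (h1 : v * v = 1)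
    (hz : ∀ b, v ≠ D.z b) : HasTwo (n := n) (U C) v := by
  have hU : Nat.card (U C) = (2 ^ n) ^ 5 := by
    rw [_root_.Cfsg.Agent.StdU3.Tower.Two.card_U C, card_M A]; ring
  let B : Subgroup G :=
    { carrier := {g | g ∈ U C ⊓ Subgroup.centralizer {v} ∧ g * g = 1 ∧
        ∀ c ∈ U C ⊓ Subgroup.centralizer {v}, g * c = c * g}
      one_mem' := ⟨one_mem _, one_mul 1, fun c _ => by rw [one_mul, mul_one]⟩
      mul_mem' := by
        rintro x y ⟨hx, hx1, hxc⟩ ⟨hy, hy1, hyc⟩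
        refine ⟨mul_mem hx hy, ?_, ?_⟩
        · have : x * y * (x * y) = x * (y * x) * y := by group
          rw [this, ← hxc y hy]
          have : x * (x * y) * y = (x * x) * (y * y) := by group
          rw [this, hx1, hy1, one_mul]
        · intro c hc
          rw [mul_assoc, hyc c hc, ← mul_assoc, hxc c hc, mul_assoc]
      inv_mem' := by
        rintro x ⟨hx, hx1, hxc⟩
        refine ⟨inv_mem hx, ?_, ?_⟩
        · rw [← mul_inv_rev, hx1, inv_one]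
        · intro c hc
          have h := hxc c hc
          calc x⁻¹ * c = x⁻¹ * (c * x) * x⁻¹ := by group
            _ = c * x⁻¹ := by rw [← h]; group }
  have hB : ∀ g, g ∈ B ↔ g ∈ U C ⊓ Subgroup.centralizer {v} ∧ g * g = 1 ∧
    ∀ c ∈ U C ⊓ Subgroup.centralizer {v}, g * c = c * g := fun _ => Iff.rfl
  refine ⟨U C ⊓ Subgroup.centralizer {v}, inf_le_left, fun c hc => (mem_cent.mp hc).2, ?_, B,
    fun g hg => ((hB g).mp hg).1, fun g hg => ((hB g).mp hg).2.1,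
    fun g hg => ((hB g).mp hg).2.2, ?_⟩
  · have h3 := card_cent C hv
    rw [hU] at h3
    have h4 : (2 ^ n) ^ 5 = (2 ^ n) ^ 3 * 2 ^ n * 2 ^ n := by ring
    rw [h4] at h3
    have h5 := Nat.le_of_mul_le_mul_right h3 (by positivity)
    exact (Nat.le_mul_of_pos_right _ (by positivity)).trans h5
  · -- multiples of `v`
    have hmem : ∀ l : K, bar n l = l → ∀ b, vl C v l * D.z b ∈ B := by
      intro l hl b
      have hzB : ∀ b, D.z b ∈ B := by
        intro b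
        rw [hB, mem_cent]
        refine ⟨⟨M_le C (C.z_mem b), (z_comm_U C b hv).symm⟩, z_self D b, ?_⟩
        intro c hc
        exact (z_comm_U C b (mem_cent.mp hc).1).symm
      apply mul_mem _ (hzB b)
      by_cases h0 : l = 0
      · rw [h0, vl_zero]; exact one_mem _
      · rw [vl_ne v h0]
        have hl' : bar n ((Units.mk0 l h0 : Kˣ) : K) = (Units.mk0 l h0 : Kˣ) := hl
        have hcU := cj_U C hO (Units.mk0 l h0) hv
        rw [hB, mem_cent]
        refine ⟨⟨hcU, ?_⟩, ?_, ?_⟩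
        · exact (comm_cj_U A hO hl' hv hv rfl).symm
        · rw [← cj_mul, h1, cj_one]
        · intro c hc
          obtain ⟨hcU', hcv⟩ := mem_cent.mp hc
          exact (comm_cj_U A hO hl' hcU' hv hcv).symm
    -- the coordinates
    have hal : ∀ l : K, bar n l = l → al C (vl C v l) = l * al C v := by
      intro l hl
      by_cases h0 : l = 0
      · rw [h0, vl_zero, zero_mul, al_M C C.M.one_mem]
      · rw [vl_ne v h0]
        exact al_cj C hO (l := Units.mk0 l h0) hl hv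
    have hvlU : ∀ l : K, vl C v l ∈ U C := by
      intro l
      by_cases h0 : l = 0
      · rw [h0, vl_zero]; exact one_mem _
      · rw [vl_ne v h0]; exact cj_U C hO _ hv
    have hinj : ∀ l l' : K, bar n l = l → bar n l' = l' → ∀ b b', bar n b = b → bar n b' = b' →
        vl C v l * D.z b = vl C v l' * D.z b' → l = l' := by
      intro l l' hl hl' b b' _ _ h
      by_cases hav : al C v = 0
      · have hvM := al_ker C hv hav
        have hev : A.e v ≠ 0 := by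
          intro h0
          have hvW := (A.e_ker v hvM).mp h0
          have h2 := A.W_sq v hvW
          rw [h1] at h2
          have h3 := D.z_inj _ (A.u_fixed v hvW) h2.symm
          obtain ⟨b, -, hb⟩ := A.u_ker v hvW h3
          exact hz b hb
        have hvlM : ∀ l : K, vl C v l ∈ C.M := by
          intro l
          by_cases h0 : l = 0
          · rw [h0, vl_zero]; exact one_mem _
          · rw [vl_ne v h0]; exact cj_M C _ hvM
        have hez : ∀ b, A.e (D.z b) = 0 := fun b =>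
          (A.e_ker _ (C.z_mem b)).mpr (A.z_W b)
        have hel : ∀ l : K, bar n l = l → A.e (vl C v l) = l ^ 2 * A.e v := by
          intro l hl
          by_cases h0 : l = 0
          · rw [h0, vl_zero, zero_pow (by norm_num), zero_mul]
            exact (A.e_ker 1 C.M.one_mem).mpr A.W.one_mem
          · rw [vl_ne v h0]
            have e1 : A.e (cj C (Units.mk0 l h0) v) = N n ((Units.mk0 l h0 : Kˣ) : K) * A.e v :=
              A.e_h _ v hvM
            rw [e1, Units.val_mk0, N_of_fixed hl]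
        have h2 := congrArg A.e h
        rw [A.e_mul _ (hvlM l) _ (C.z_mem b), A.e_mul _ (hvlM l') _ (C.z_mem b'), hez, hez,
          add_zero, add_zero, hel l hl, hel l' hl'] at h2
        have h3 := mul_right_cancel₀ hev h2
        have h4 : (l + l') ^ 2 = 0 := by
          have h5 : (l + l') ^ 2 = l ^ 2 + l' ^ 2 + (l * l' + l * l') := by ring
          rw [h5, h3, Field.add_self, Field.add_self, add_zero]
        exact Field.add_eq_zero.mp (pow_eq_zero_iff (by norm_num) |>.mp h4)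
      · have h2 := congrArg (al C) h
        rw [al_mul C (hvlU l) (M_le C (C.z_mem b)), al_mul C (hvlU l') (M_le C (C.z_mem b')),
          al_z, al_z, add_zero, add_zero, hal l hl, hal l' hl'] at h2
        exact mul_right_cancel₀ hav h2
    let f : Fq K n × Fq K n → B := fun x => ⟨vl C v x.1.1 * D.z x.2.1, hmem _ x.1.2 _⟩
    have hf : Function.Injective f := by
      rintro ⟨l, b⟩ ⟨l', b'⟩ h
      have h2 : vl C v l.1 * D.z b.1 = vl C v l'.1 * D.z b'.1 := congrArg Subtype.val h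
      have h3 : l = l' := Subtype.ext (hinj _ _ l.2 l'.2 _ _ b.2 b'.2 h2)
      subst h3
      have h4 : b = b' := Subtype.ext (z_eq D b.2 b'.2 (mul_left_cancel h2))
      rw [h4]
    have h2 := Nat.card_le_card_of_injective f hf
    rwa [Nat.card_prod, card_Fq D.hq, ← sq] at h2

end Cfsg.Agent.StdU3.Tower.TwoCl
end

-- part: StdU3/Tower/OuterU
section
/-!
# The outer involutions of `C(t)` on the terminal group `U = P M` of the tower
-/

set_option autoImplicit false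
set_option linter.unusedSectionVars false
set_option linter.dupNamespace false

namespace Cfsg.Agent.StdU3.Tower.OuterU

open Cfsg.Agent.StdU3.Field Cfsg.Agent.StdU3.PreDef Cfsg.Agent.StdU3.LevelOne
open Cfsg.Agent.StdU3.LevelOneW Cfsg.Agent.StdU3.Next Cfsg.Agent.StdU3.Card
open Cfsg.Agent.StdU3.TermTwo Cfsg.Agent.StdU3.Tower.Cen Cfsg.Agent.StdU3.Tower.Two
open Cfsg.Agent.StdU3.Tower.TwoCl Cfsg.Agent.StdU3.Outer

variable {G : Type*} [Group G] {K : Type*} [Field K] [Fintype K] [CharP K 2] {n : ℕ}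
variable {D : Pre G K n} {O : Subgroup G} (C : Cen D O)

/-- an outer involution of `C(t)`, normalising `U`. -/
structure OutU (x : G) (c : K) : Prop where
  comm : x * D.t = D.t * x
  sq : x * x = 1
  P_mem : ∀ p ∈ D.P, x * p * x⁻¹ ∈ D.P
  ca_conj : ∀ p ∈ D.P, D.ca (x * p * x⁻¹) = c * bar n (D.ca p)
  U_mem : ∀ g ∈ U C, x * g * x⁻¹ ∈ U C

/-- fixed units have fixed square roots. -/
theorem exists_root (hq : Qd K n) {l : Kˣ} (hl : bar n (l : K) = l) :
    ∃ m : Kˣ, bar n (m : K) = m ∧ m * m = l := by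
  obtain ⟨m, hm, h4⟩ := Outer.exists_fourth hq hl
  have hm0 : m ≠ 0 := by
    rintro rfl
    rw [zero_pow (by norm_num)] at h4
    exact l.ne_zero h4.symm
  refine ⟨Units.mk0 (m ^ 2) (pow_ne_zero 2 hm0), ?_, ?_⟩
  · rw [Units.val_mk0, bar_pow, hm]
  · apply Units.val_injective
    rw [Units.val_mul, Units.val_mk0, ← h4]; ring

/-! ### The torus on `U` -/

theorem cj_one_M {m : G} (hm : m ∈ C.M) : cj C 1 m = m := by
  have e3 := cj_cj C 1 1 hm
  rw [mul_one] at e3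
  unfold cj at e3 ⊢
  exact mul_left_cancel (mul_right_cancel e3)

theorem cj_one_P (hO : Amb D O) {p : G} (hp : p ∈ D.P) : cj C 1 p = p := by
  rw [cj_P C hO 1 hp]
  have e3 := D.h_mul 1 1 p (D.P_le hp)
  rw [mul_one] at e3
  exact (mul_left_cancel (mul_right_cancel e3)).symm

theorem cj_cj_P (hO : Amb D O) (l l' : Kˣ) {p : G} (hp : p ∈ D.P) :
    cj C l (cj C l' p) = cj C (l * l') p := by
  rw [cj_P C hO l' hp, cj_P C hO l (D.h_P l' p hp), cj_P C hO (l * l') hp]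
  exact (D.h_mul l l' p (D.P_le hp)).symm

theorem h_comm_t (hO : Amb D O) (l : Kˣ) : C.h l * D.t = D.t * C.h l := by
  obtain ⟨c, hc, he⟩ := C.h_eq l
  rw [he, mul_assoc, ← D.t_h l, ← mul_assoc, hO.O_t c hc, mul_assoc]

/-- `t` commutes with the torus. -/
theorem cj_t (hO : Amb D O) (l : Kˣ) (g : G) :
    cj C l (D.t * g * D.t⁻¹) = D.t * cj C l g * D.t⁻¹ := by
  have h1 := h_comm_t C hO l
  have h2 : D.t⁻¹ * (C.h l)⁻¹ = (C.h l)⁻¹ * D.t⁻¹ := by
    rw [← mul_inv_rev, ← mul_inv_rev, h1]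
  unfold cj
  calc C.h l * (D.t * g * D.t⁻¹) * (C.h l)⁻¹
      = (C.h l * D.t) * g * (D.t⁻¹ * (C.h l)⁻¹) := by group
    _ = _ := by rw [h1, h2]; group

theorem t_t (g : G) : D.t * (D.t * g * D.t⁻¹) * D.t⁻¹ = g := by
  have h1 : D.t * (D.t * g * D.t⁻¹) * D.t⁻¹ = (D.t * D.t) * g * (D.t * D.t)⁻¹ := by group
  rw [h1, D.t_sq]; group

variable {C} {x : G} {c : K} (h : OutU C x c)

include h

theorem OutU.inv_eq : x⁻¹ = x := by rw [inv_eq_iff_mul_eq_one, h.sq]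

theorem OutU.x_x (g : G) : x * (x * g * x⁻¹) * x⁻¹ = g := by
  have h1 : x * (x * g * x⁻¹) * x⁻¹ = (x * x) * g * (x * x)⁻¹ := by group
  rw [h1, h.sq]; group

theorem OutU.conj_t : x * D.t * x⁻¹ = D.t := by rw [h.comm]; group

theorem OutU.N_c : N n c = 1 := by
  obtain ⟨p, hp, hp1⟩ := D.ca_surj 1
  have h1 := h.ca_conj _ (h.P_mem p hp)
  rw [h.x_x, h.ca_conj p hp, hp1, bar_one, mul_one] at h1
  rw [N_def]
  exact h1.symm

theorem OutU.c_ne : c ≠ 0 := by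
  rintro rfl
  have := h.N_c
  rw [N_zero] at this
  exact zero_ne_one this

theorem OutU.conj_z (b : K) : x * D.z b * x⁻¹ = D.z b := by
  obtain ⟨b', hb', hbb⟩ := z_fixed D b
  rw [hbb]
  obtain ⟨y, rfl⟩ := exists_norm D.hq hb'
  obtain ⟨p, hp, rfl⟩ := D.ca_surj y
  rw [← D.P_sq p hp, NormQ.conj_mul, D.P_sq _ (h.P_mem p hp), h.ca_conj p hp, N_mul, h.N_c,
    one_mul, N_bar D.hq, D.P_sq p hp]

theorem OutU.comm_z (b : K) : x * D.z b = D.z b * x := mul_inv_eq_iff_eq_mul.mp (h.conj_z b)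

/-- `x` inverts the preimage of the fixed line. -/
theorem OutU.inverts {p : G} (hp : p ∈ D.P) (hl : c * bar n (D.ca p) = D.ca p) :
    x * p * x⁻¹ = p⁻¹ := by
  obtain ⟨r, hr⟩ := exists_coboundary D.hq h.N_c hl
  obtain ⟨p1, hp1, rfl⟩ := D.ca_surj r
  have hm : p1⁻¹ * (x * p1 * x⁻¹) ∈ D.P := mul_mem (inv_mem hp1) (h.P_mem p1 hp1)
  have hca : D.ca (p1⁻¹ * (x * p1 * x⁻¹)) = D.ca p := by
    rw [D.ca_mul _ (inv_mem hp1) _ (h.P_mem p1 hp1), ca_inv D hp1, h.ca_conj p1 hp1, hr]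
  obtain ⟨b, hb, h1⟩ := eq_z_mul D hp hm hca.symm
  have h2 : x * (p1⁻¹ * (x * p1 * x⁻¹)) * x⁻¹ = (p1⁻¹ * (x * p1 * x⁻¹))⁻¹ := by
    have e1 : x * (p1⁻¹ * (x * p1 * x⁻¹)) * x⁻¹ = x * p1⁻¹ * (x * p1 * (x * x)⁻¹) := by group
    have e2 : (p1⁻¹ * (x * p1 * x⁻¹))⁻¹ = x * p1⁻¹ * (x⁻¹ * p1) := by group
    rw [e1, e2, h.sq, inv_one, mul_one, h.inv_eq]
  have h3 : (D.z b * (p1⁻¹ * (x * p1 * x⁻¹)))⁻¹ = D.z b * (p1⁻¹ * (x * p1 * x⁻¹))⁻¹ := by
    rw [mul_inv_rev (D.z b), z_inv, D.Q_Z _ (inv_mem (D.P_le hm))]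
  rw [h1, NormQ.conj_mul, h.conj_z, h2, h3]

/-- the elements `p x`, `p` in the preimage of the fixed line, are conjugate to `x` under `P`. -/
theorem OutU.conj_P {p : G} (hp : p ∈ D.P) (hl : c * bar n (D.ca p) = D.ca p) :
    ∃ y ∈ D.P, y * x * y⁻¹ = p * x := by
  obtain ⟨r, hr⟩ := exists_coboundary D.hq h.N_c hl
  obtain ⟨p1, hp1, rfl⟩ := D.ca_surj r
  have hm : p1⁻¹ * (x * p1 * x⁻¹) ∈ D.P := mul_mem (inv_mem hp1) (h.P_mem p1 hp1)
  have hca : D.ca (p1⁻¹ * (x * p1 * x⁻¹)) = D.ca p := by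
    rw [D.ca_mul _ (inv_mem hp1) _ (h.P_mem p1 hp1), ca_inv D hp1, h.ca_conj p1 hp1, hr]
  obtain ⟨b, hb, h1⟩ := eq_z_mul D hp hm hca.symm
  obtain ⟨s, hs, hsb⟩ := exists_N_line D.hq h.N_c hb
  obtain ⟨p2, hp2, rfl⟩ := D.ca_surj s
  -- `p2 x p2⁻¹ = p2² x = z b x`
  have h2 : p2 * x * p2⁻¹ = D.z b * x := by
    have e1 := h.inverts (inv_mem hp2) (by rw [ca_inv D hp2]; exact hs)
    have e2 : x * p2⁻¹ = p2 * x := by
      have := mul_inv_eq_iff_eq_mul.mp e1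
      rw [this, inv_inv]
    rw [mul_assoc, e2, ← mul_assoc, D.P_sq p2 hp2, hsb]
  refine ⟨p1⁻¹ * p2, mul_mem (inv_mem hp1) hp2, ?_⟩
  have h3 : p1⁻¹ * p2 * x * (p1⁻¹ * p2)⁻¹ = p1⁻¹ * (p2 * x * p2⁻¹) * p1 := by group
  rw [h3, h2, h1]
  have h4 : p1⁻¹ * D.z b = D.z b * p1⁻¹ := D.Q_Z _ (inv_mem (D.P_le hp1)) b
  have h5 : p1⁻¹ * (D.z b * x) * p1 = (p1⁻¹ * D.z b) * x * p1 := by group
  rw [h5, h4]; group

theorem OutU.M_mem {m : G} (hm : m ∈ C.M) : x * m * x⁻¹ ∈ C.M := by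
  apply mem_M C (h.U_mem m (M_le C hm))
  intro p hp
  have h1 := C.M_P m hm _ (h.P_mem p hp)
  have h2 : x * p * x⁻¹ = x⁻¹ * p * x := by rw [h.inv_eq]
  rw [h2] at h1
  calc x * m * x⁻¹ * p = x * (m * (x⁻¹ * p * x)) * x⁻¹ := by group
    _ = p * (x * m * x⁻¹) := by rw [h1]; group

/-- `P` centralises the fixed line. -/
theorem OutU.P_comm {p p' : G} (hp : p ∈ D.P) (hl : c * bar n (D.ca p) = D.ca p) (hp' : p' ∈ D.P)
    (hl' : c * bar n (D.ca p') = D.ca p') : p * p' = p' * p := by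
  rw [D.P_comm p hp p' hp', Tr_line D.hq h.N_c hl hl', z_zero, one_mul]

/-- the elements `g x` are not in `U`. -/
theorem OutU.not_U {g : G} (hg : g ∈ U C) : g * x ∉ U C := by
  intro hgx
  have hx : x ∈ U C := (Subgroup.mul_mem_cancel_left (U C) hg).mp hgx
  obtain ⟨p, hp, m, hm, rfl⟩ := hx
  have h1 : ∀ p' ∈ D.P, c * bar n (D.ca p') = D.ca p' := by
    intro p' hp'
    rw [← h.ca_conj p' hp']
    have e1 : p * m * p' * (p * m)⁻¹ = p * (m * p' * m⁻¹) * p⁻¹ := by group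
    have e2 : m * p' * m⁻¹ = p' := by rw [C.M_P m hm p' hp']; group
    rw [e1, e2, D.ca_mul _ (mul_mem hp hp') _ (inv_mem hp), D.ca_mul _ hp _ hp', ca_inv D hp,
      add_comm (D.ca p), add_add_self]
  obtain ⟨p1, hp1, hc1⟩ := D.ca_surj 1
  have h2 := h1 p1 hp1
  rw [hc1, bar_one, mul_one] at h2
  obtain ⟨y, hy⟩ := exists_Tr_one D.hq
  obtain ⟨p2, hp2, rfl⟩ := D.ca_surj y
  have h3 := h1 p2 hp2
  rw [h2, one_mul] at h3
  rw [Tr_of_fixed h3] at hy
  exact zero_ne_one hy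

/-- the involutions `p m x`. -/
theorem OutU.split {p m : G} (hp : p ∈ D.P) (hm : m ∈ C.M)
    (hgx : (p * m * x) * (p * m * x) = 1) :
    c * bar n (D.ca p) = D.ca p ∧ x * m * x⁻¹ = m⁻¹ := by
  have hxp := h.P_mem p hp
  have hxm := h.M_mem hm
  have h1 : (p * (x * p * x⁻¹)) * (m * (x * m * x⁻¹)) = 1 := by
    rw [← mul_eq C hm hxp, ← hgx]
    have e1 : p * m * x * (p * m * x) = p * m * (x * p * x⁻¹ * (x * m * x⁻¹)) * (x * x) := by
      group
    rw [e1, h.sq, mul_one]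
  have h2 : p * (x * p * x⁻¹) = (m * (x * m * x⁻¹))⁻¹ := eq_inv_of_mul_eq_one_left h1
  obtain ⟨b, hb, h3⟩ := P_M C (mul_mem hp hxp) (by rw [h2]; exact inv_mem (mul_mem hm hxm))
  have h4 := D.ca_mul p hp _ hxp
  rw [h3, D.ca_z, h.ca_conj p hp] at h4
  have hl : c * bar n (D.ca p) = D.ca p := (Field.add_eq_zero.mp h4.symm).symm
  refine ⟨hl, ?_⟩
  rw [h.inverts hp hl, mul_inv_cancel, one_mul] at h1
  exact eq_inv_of_mul_eq_one_right h1

/-! ### The torus and `x` -/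

/-- `x` commutes with `h l` on `M`, up to `t`. -/
theorem OutU.cj_tw (hO : Amb D O) {l : Kˣ} (hl : bar n (l : K) = l) :
    (∀ m ∈ C.M, x * cj C l m * x⁻¹ = cj C l (x * m * x⁻¹)) ∨
    (∀ m ∈ C.M, x * cj C l m * x⁻¹ = D.t * cj C l (x * m * x⁻¹) * D.t⁻¹) := by
  set! s := x * C.h l * x⁻¹ * (C.h l)⁻¹ with hs
  have hsx : ∀ g, s * cj C l (x * g * x⁻¹) * s⁻¹ = x * cj C l g * x⁻¹ := by
    intro g
    rw [hs]; unfold cj
    have h2 := h.inv_eq
    have e1 : x * C.h l * x⁻¹ * (C.h l)⁻¹ * (C.h l * (x * g * x⁻¹) * (C.h l)⁻¹) *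
        (x * C.h l * x⁻¹ * (C.h l)⁻¹)⁻¹ = x * C.h l * g * (C.h l)⁻¹ * x⁻¹ := by group
    rw [e1]; group
  -- every element of `M`, `P` is of the form `cj l (x m x⁻¹)`
  have hMsurj : ∀ m ∈ C.M, ∃ m' ∈ C.M, m = cj C l (x * m' * x⁻¹) := by
    intro m hm
    refine ⟨x * cj C l⁻¹ m * x⁻¹, h.M_mem (cj_M C _ hm), ?_⟩
    rw [h.x_x, cj_cj C _ _ hm, mul_inv_cancel, cj_one_M C hm]
  have hPsurj : ∀ p ∈ D.P, ∃ p' ∈ D.P, p = cj C l (x * p' * x⁻¹) := by
    intro p hp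
    refine ⟨x * cj C l⁻¹ p * x⁻¹, h.P_mem _ (cj_P_mem C hO _ hp), ?_⟩
    rw [h.x_x, cj_cj_P C hO _ _ hp, mul_inv_cancel, cj_one_P C hO hp]
  have hst : s * D.t = D.t * s := by
    have c1 : Commute x D.t := h.comm
    have c2 : Commute (C.h l) D.t := h_comm_t C hO l
    exact (((c1.mul_left c2).mul_left c1.inv_left).mul_left c2.inv_left)
  obtain ⟨g0, hg0, k, hk, hgk⟩ := hO.dec s hst (by
    intro p hp
    obtain ⟨p', hp', rfl⟩ := hPsurj p hp
    rw [hsx]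
    refine ⟨h.P_mem _ (cj_P_mem C hO l hp'), ?_⟩
    rw [h.ca_conj _ (cj_P_mem C hO l hp'), ca_cj C hO l hp', ca_cj C hO l (h.P_mem p' hp'),
      h.ca_conj p' hp', Kernel.w_of_fixed hl, bar_mul, hl]
    ring)
  have hkt := hO.O_t k hk
  have hg0t : g0 * D.t = D.t * g0 := by
    have h1 : g0 * D.t * k = D.t * g0 * k := by
      rw [mul_assoc, ← hkt, ← mul_assoc, ← hgk, hst, hgk, mul_assoc]
    exact mul_right_cancel h1
  have hP_M : ∀ p ∈ D.P, ∀ m ∈ C.M, p * m * p⁻¹ = m := by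
    intro p hp m hm
    rw [← C.M_P m hm p hp]; group
  have hsM : ∀ m ∈ C.M, s * m * s⁻¹ ∈ C.M := by
    intro m hm
    obtain ⟨m', hm', rfl⟩ := hMsurj m hm
    rw [hsx]
    exact h.M_mem (cj_M C l hm')
  have hfin : ∀ τ : G, s = τ * k → (∀ m ∈ C.M, τ⁻¹ * m * τ ∈ C.M) →
      ∀ m ∈ C.M, x * cj C l m * x⁻¹ = τ * cj C l (x * m * x⁻¹) * τ⁻¹ := by
    intro τ hτ hτM m hm
    have hkM : ∀ m ∈ C.M, k * m * k⁻¹ ∈ C.M := by
      intro m hm
      have h1 := hτM _ (hsM m hm)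
      have h2 : τ⁻¹ * (s * m * s⁻¹) * τ = k * m * k⁻¹ := by rw [hτ]; group
      rwa [h2] at h1
    have hkc := C.O_M k hk hkM
    rw [← hsx, hτ]
    have h3 := hkc _ (cj_M C l (h.M_mem hm))
    calc τ * k * cj C l (x * m * x⁻¹) * (τ * k)⁻¹
        = τ * (k * cj C l (x * m * x⁻¹)) * k⁻¹ * τ⁻¹ := by group
      _ = _ := by rw [h3]; group
  rcases D.Q_T g0 hg0 hg0t with h1 | h1
  · left
    intro m hm
    rw [hfin g0 hgk (by
      intro m hm
      have := hP_M _ (inv_mem h1) m hm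
      rw [inv_inv] at this
      rw [this]; exact hm) m hm]
    exact hP_M _ h1 _ (cj_M C l (h.M_mem hm))
  · right
    intro m hm
    rw [hfin g0 hgk (by
      intro m hm
      have h2 := hP_M _ (inv_mem h1) m hm
      rw [inv_inv] at h2
      have h3 : g0⁻¹ * m * g0 = D.t * ((g0 * D.t)⁻¹ * m * (g0 * D.t)) * D.t⁻¹ := by group
      rw [h3, h2]
      exact C.t_conj m hm) m hm]
    have h2 := hP_M _ h1 _ (C.t_conj _ (cj_M C l (h.M_mem hm)))
    have h3 : g0 * D.t * (D.t * cj C l (x * m * x⁻¹) * D.t⁻¹) * (g0 * D.t)⁻¹ =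
      g0 * (D.t * (D.t * cj C l (x * m * x⁻¹) * D.t⁻¹) * D.t⁻¹) * g0⁻¹ := by group
    rw [h3, t_t] at h2
    exact h2

/-- `x` commutes with `h l`, `l` in `F_q`, on `M`. -/
theorem OutU.cj_comm (hO : Amb D O) {l : Kˣ} (hl : bar n (l : K) = l) {m : G} (hm : m ∈ C.M) :
    x * cj C l m * x⁻¹ = cj C l (x * m * x⁻¹) := by
  obtain ⟨r, hr, rfl⟩ := exists_root D.hq hl
  rw [← cj_cj C r r hm, ← cj_cj C r r (h.M_mem hm)]
  rcases h.cj_tw hO hr with h1 | h1
  · rw [h1 _ (cj_M C r hm), h1 m hm]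
  · rw [h1 _ (cj_M C r hm), h1 m hm, cj_t C hO, t_t]

end Cfsg.Agent.StdU3.Tower.OuterU
end

private theorem dce_de5b5d308729 : _root_.True := by
  try have : _root_.True := by simp only [_root_.Cfsg.Agent.StdU3.Tower.Step.cm.eq_1]
  try have : _root_.True := by simp only [_root_.Cfsg.Agent.StdU3.Tower.Base.Lvl.a.eq_1]
  try have : _root_.True := by simp only [_root_.Cfsg.Agent.StdU3.Tower.Base.Lvl.ψ.eq_1]
  try have : _root_.True := by simp only [_root_.Cfsg.Agent.StdU3.Tower.Base.Lvl.β.eq_1]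
  exact _root_.True.intro
end

-- part: StdU3/EndN_mg
section
prune_inst 0xc00000000022000800002012000000000000000200000001c021020202004000080200010800040140020a0000000000020000100000000000200400000000000088000000000000000096000000000000000000000000000000000000000000000000000
set_option linter.all false
open scoped Cfsg.Agent.FastGrp

-- part: StdU3/Rank
section
/-!
# Elementary abelian subgroups of `C_G(t)`

Elementary abelian 2-subgroups of `C_G(d)`, `d` conjugate to `t`, have order at most `4q`, and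
`C_G(d)` has no 2-subgroup of order at least `q³` with an elementary abelian central subgroup of
order at least `q²`.
-/

set_option autoImplicit false
set_option linter.unusedSectionVars false
set_option linter.dupNamespace false

namespace Cfsg.Agent.StdU3.Rank

open Subgroup Cfsg.Agent.StdU3.Field Cfsg.Agent.StdU3.PreDef Cfsg.Agent.StdU3.FldDef
open Cfsg.Agent.StdU3.LevelOne Cfsg.Agent.StdU3.FieldAut

variable {G : Type*} [Group G] {K : Type*} [Field K] [Fintype K] [CharP K 2] {n : ℕ}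
variable {D : Pre G K n} (F : Fld D)

/-! ### The Galois component as a function -/

open Classical in
/-- the Galois component. -/
noncomputable def ch (g : G) : K ≃+* K :=
  if h : g ∈ centralizer ({D.t} : Set G) then F.chi ⟨g, h⟩ else 1

theorem mem_cent {g : G} (h : g * D.t = D.t * g) : g ∈ centralizer ({D.t} : Set G) :=
  mem_centralizer_singleton_iff.mpr h

theorem ch_eq {g : G} (h : g * D.t = D.t * g) : ch F g = F.chi ⟨g, mem_cent h⟩ := by
  unfold ch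
  rw [dif_pos (mem_cent h)]

theorem comm_mul {x y d : G} (hx : x * d = d * x) (hy : y * d = d * y) :
    (x * y) * d = d * (x * y) := by
  rw [mul_assoc, hy, ← mul_assoc, hx, mul_assoc]

theorem comm_inv {x d : G} (hx : x * d = d * x) : x⁻¹ * d = d * x⁻¹ := by
  rw [inv_mul_eq_iff_eq_mul, ← mul_assoc, hx, mul_assoc, mul_inv_cancel, mul_one]

theorem ch_mul {g g' : G} (h : g * D.t = D.t * g) (h' : g' * D.t = D.t * g') :
    ch F (g * g') = ch F g * ch F g' := by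
  rw [ch_eq F h, ch_eq F h', ch_eq F (comm_mul h h'), ← map_mul]
  rfl

theorem ch_one : ch F 1 = 1 := by
  have h : (1 : G) * D.t = D.t * 1 := by rw [one_mul, mul_one]
  rw [ch_eq F h]
  exact map_one F.chi

theorem ch_inv {g : G} (h : g * D.t = D.t * g) : ch F g⁻¹ = (ch F g)⁻¹ := by
  have h1 := ch_mul F h (comm_inv h)
  rw [mul_inv_cancel, ch_one] at h1
  exact (inv_eq_of_mul_eq_one_right h1.symm).symm

theorem P_t {x : G} (hx : x ∈ D.P) : x * D.t = D.t * x := (D.t_P x hx).symm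

theorem ch_A {x : G} (hx : x ∈ F.A) : ch F x = 1 := by
  rw [ch_eq F (F.A_t x hx)]
  exact F.chi_A ⟨x, _⟩ hx

theorem ch_P {x : G} (hx : x ∈ D.P) : ch F x = 1 := ch_A F (F.P_A hx)

theorem ch_t : ch F D.t = 1 := by
  rw [ch_eq F rfl]
  exact F.chi_C ⟨D.t, _⟩ (fun a ha => (F.A_t a ha).symm)

theorem ch_conj {g x : G} (hg : g * D.t = D.t * g) (hx : x * D.t = D.t * x) :
    ch F (g * x * g⁻¹) = ch F x := by
  rw [ch_mul F (comm_mul hg hx) (comm_inv hg), ch_mul F hg hx, ch_inv F hg, comm (ch F g),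
    mul_assoc, mul_inv_cancel, mul_one]

theorem ch_ker {x : G} (hx : x ∈ F.Sg) (h : ch F x = 1) : x ∈ D.P ∨ x * D.t ∈ D.P := by
  rw [ch_eq F (F.Sg_t x hx)] at h
  exact F.chi_one ⟨x, _⟩ hx h

theorem ch_ca {x : G} (hx : x * D.t = D.t * x) (hP : ∀ p ∈ D.P, x * p * x⁻¹ ∈ D.P) :
    ∃ c : K, c ≠ 0 ∧ (∀ p ∈ D.P, D.ca (x * p * x⁻¹) = c * ch F x (D.ca p)) ∧
      ∀ b, bar n b = b → x * D.z b * x⁻¹ = D.z (N n c * ch F x b) := by
  rw [ch_eq F hx]
  exact F.chi_ca ⟨x, _⟩ hP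

/-! ### Counting -/

theorem card_le_two [Finite G] {H B : Subgroup G}
    (h : ∀ x ∈ B, x ∉ H → ∀ y ∈ B, y ∉ H → x⁻¹ * y ∈ H) : Nat.card B ≤ 2 * Nat.card H := by
  by_cases hx : ∃ x ∈ B, x ∉ H
  · obtain ⟨x, hx, hxH⟩ := hx
    have h1 : (B : Set G) ⊆ (H : Set G) ∪ (fun y => x * y) '' (H : Set G) := by
      intro y hy
      by_cases hyH : y ∈ H
      · exact Or.inl hyH
      · exact Or.inr ⟨x⁻¹ * y, h x hx hxH y hy hyH, by simp⟩
    have h2 := (Set.ncard_le_ncard h1 (Set.toFinite _)).trans (Set.ncard_union_le _ _)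
    have h3 := Set.ncard_image_le (f := fun y => x * y) (Set.toFinite (H : Set G))
    have h4 : Nat.card B = (B : Set G).ncard := rfl
    have h5 : Nat.card H = (H : Set G).ncard := rfl
    omega
  · push Not at hx
    have h1 : Nat.card B ≤ Nat.card H := Subgroup.card_le_of_le (fun x hx' => hx x hx')
    omega

theorem card_inf_P [Finite G] {B : Subgroup G} (h2 : ∀ b ∈ B, b ∈ D.P → D.ca b = 0) :
    Nat.card (B ⊓ D.P : Subgroup G) ≤ 2 ^ n := by
  classical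
  have h1 : ((B ⊓ D.P : Subgroup G) : Set G) ⊆ D.z '' {b : K | barE D.hq b = b} := by
    rintro x ⟨hxB, hxP⟩
    obtain ⟨b, hb, rfl⟩ := D.exists_z x hxP (h2 x hxB hxP)
    exact ⟨b, hb, rfl⟩
  have h3 := (Set.ncard_le_ncard h1 (Set.toFinite _)).trans
    (Set.ncard_image_le (Set.toFinite {b : K | barE D.hq b = b}))
  have h4 := card_fix_le D.hq (barE_ne_one D.hq)
  have h5 : Nat.card {x : K // barE D.hq x = x} = ({b : K | barE D.hq b = b}).ncard := rfl
  rw [h5] at h4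
  exact h3.trans h4

/-- the part of a subgroup of `C(t)` without Galois component -/
def ker (B : Subgroup G) (hB : ∀ b ∈ B, b * D.t = D.t * b) : Subgroup G where
  carrier := {x | x ∈ B ∧ ch F x = 1}
  one_mem' := ⟨B.one_mem, ch_one F⟩
  mul_mem' := by
    rintro a b ⟨ha, ha'⟩ ⟨hb, hb'⟩
    exact ⟨B.mul_mem ha hb, by rw [ch_mul F (hB a ha) (hB b hb), ha', hb', one_mul]⟩
  inv_mem' := by
    rintro a ⟨ha, ha'⟩
    exact ⟨B.inv_mem ha, by rw [ch_inv F (hB a ha), ha', inv_one]⟩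

theorem Sg_sub {B : Subgroup G} (hB : B ≤ F.Sg) : ∀ b ∈ B, b * D.t = D.t * b :=
  fun b hb => F.Sg_t b (hB hb)

theorem card_ker [Finite G] {B : Subgroup G} (hB : B ≤ F.Sg) :
    Nat.card (ker F B (Sg_sub F hB)) ≤ 2 * Nat.card (B ⊓ D.P : Subgroup G) := by
  apply card_le_two
  rintro x ⟨hxB, hx⟩ hx' y ⟨hyB, hy⟩ hy'
  have h1 : x * D.t ∈ D.P := (ch_ker F (hB hxB) hx).resolve_left (fun h => hx' ⟨hxB, h⟩)
  have h2 : y * D.t ∈ D.P := (ch_ker F (hB hyB) hy).resolve_left (fun h => hy' ⟨hyB, h⟩)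
  refine ⟨B.mul_mem (B.inv_mem hxB) hyB, ?_⟩
  have h3 : x⁻¹ * y = (x * D.t)⁻¹ * (y * D.t) := by
    have h4 : (x * D.t)⁻¹ * (y * D.t) = D.t⁻¹ * (x⁻¹ * y * D.t) := by group
    rw [h4, Sg_sub F hB _ (B.mul_mem (B.inv_mem hxB) hyB)]
    group
  rw [h3]
  exact D.P.mul_mem (D.P.inv_mem h1) h2

theorem card_elem_ker [Finite G] {B : Subgroup G} (hB : B ≤ F.Sg)
    (h2 : ∀ b ∈ B, b * b = 1) :
    Nat.card B ≤ 2 * Nat.card (ker F B (Sg_sub F hB)) := by
  apply card_le_two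
  intro x hx hx' y hy hy'
  have h3 : ∀ x ∈ B, x ∉ ker F B (Sg_sub F hB) → ch F x = barE D.hq := by
    intro x hx hx'
    apply eq_bar D.hq
    · rw [← ch_mul F (Sg_sub F hB x hx) (Sg_sub F hB x hx), h2 x hx, ch_one]
    · exact fun h => hx' ⟨hx, h⟩
  refine ⟨B.mul_mem (B.inv_mem hx) hy, ?_⟩
  rw [ch_mul F (comm_inv (Sg_sub F hB x hx)) (Sg_sub F hB y hy), ch_inv F (Sg_sub F hB x hx),
    h3 x hx hx', h3 y hy hy', inv_mul_cancel]

theorem ca_zero_of_sq {x : G} (hx : x ∈ D.P) (h : x * x = 1) : D.ca x = 0 := by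
  have h1 := D.P_sq x hx
  rw [h] at h1
  exact N_eq_zero (D.z_inj _ (fixed_N D.hq _) h1.symm)

theorem card_elem_Sg [Finite G] {B : Subgroup G} (hB : B ≤ F.Sg)
    (h2 : ∀ b ∈ B, b * b = 1) : Nat.card B ≤ 4 * 2 ^ n := by
  have h3 := card_elem_ker F hB h2
  have h4 := card_ker F hB
  have h5 := card_inf_P (D := D) (B := B) (fun b hb hbP => ca_zero_of_sq hbP (h2 b hb))
  omega

/-- an outer involution of `Sg` centralizes only `Z` in `P` -/
theorem ca_zero_of_outer {x : G} (hx : x * D.t = D.t * x) (hP : ∀ p ∈ D.P, x * p * x⁻¹ ∈ D.P)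
    (hxx : x * x = 1) (hch : ch F x = barE D.hq) {p : G} (hp : p ∈ D.P) (hxp : x * p = p * x) :
    D.ca p = 0 := by
  obtain ⟨c, hc, h1, h2⟩ := ch_ca F hx hP
  have h1' : ∀ p ∈ D.P, D.ca (x * p * x⁻¹) = c * bar n (D.ca p) := by
    intro p hp
    rw [h1 p hp, hch]; rfl
  have hpp : x * p * x⁻¹ = p := by rw [hxp]; group
  have hline : c * bar n (D.ca p) = D.ca p := by rw [← h1' p hp, hpp]
  obtain ⟨e, he⟩ := exists_Tr_one D.hq
  obtain ⟨y, hy, hye⟩ := D.ca_surj (D.ca p * e)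
  have hxy := hP y hy
  set! r := y⁻¹ * (x * y * x⁻¹) with hr
  have hrP : r ∈ D.P := mul_mem (inv_mem hy) hxy
  have hca : D.ca r = D.ca p := by
    rw [hr, D.ca_mul _ (inv_mem hy) _ hxy, ca_inv D hy, h1' y hy, hye, bar_mul, ← mul_assoc,
      hline, ← mul_add]
    have : e + bar n e = 1 := he
    rw [this, mul_one]
  have hxi : x⁻¹ = x := by rw [inv_eq_iff_mul_eq_one, hxx]
  have hxr : x * r * x⁻¹ = r⁻¹ := by
    rw [hr, hxi]
    have e1 : x * (y⁻¹ * (x * y * x)) * x = x * y⁻¹ * x * y * (x * x) := by group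
    rw [e1, hxx, mul_one]
    have e2 : (y⁻¹ * (x * y * x))⁻¹ = x⁻¹ * y⁻¹ * x⁻¹ * y := by group
    rw [e2, hxi]
  obtain ⟨b, hb, hbr⟩ := eq_z_mul D hp hrP hca.symm
  have hzb : x * D.z b * x⁻¹ = D.z b := by
    -- `D.z b = p * r⁻¹`
    obtain ⟨c1, hc1⟩ := D.exists_z (x * D.z b * x⁻¹) (hP _ (D.z_mem b)) (by
      rw [h1' _ (D.z_mem b), D.ca_z, bar_zero, mul_zero])
    rw [h2 b hb, hch]
    show D.z (N n c * bar n b) = D.z b
    have hNc : N n c = 1 := by
      obtain ⟨y1, hy1, hy1'⟩ := D.ca_surj 1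
      have e1 := h1' _ (hP y1 hy1)
      have e2 : x * (x * y1 * x⁻¹) * x⁻¹ = y1 := by
        rw [hxi]
        have : x * (x * y1 * x) * x = (x * x) * y1 * (x * x) := by group
        rw [this, hxx]; group
      rw [e2, h1' y1 hy1, hy1', bar_one, mul_one] at e1
      exact e1.symm
    rw [hNc, one_mul, hb]
  have h5 : x * p * x⁻¹ = D.z b * r⁻¹ := by
    rw [hbr]
    have : x * (D.z b * r) * x⁻¹ = (x * D.z b * x⁻¹) * (x * r * x⁻¹) := by group
    rw [this, hzb, hxr]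
  rw [hpp, hbr] at h5
  have h6 : r * r = 1 := by
    have h7 : r = r⁻¹ := mul_left_cancel h5
    nth_rewrite 2 [h7]
    exact mul_inv_cancel r
  rw [← hca]
  exact ca_zero_of_sq hrP h6

theorem card_aut_le (h4 : 2 ^ n = 4) (hq : Qd K n) : Nat.card (K ≃+* K) ≤ 4 := by
  have : Fact (Nat.Prime 2) := ⟨Nat.prime_two⟩
  let _ : Algebra (ZMod 2) K := ZMod.algebra K 2
  have hinj : Function.Injective (toGal (F := K) 2) := by
    intro a b h
    ext x
    exact congrArg (fun f : K ≃ₐ[ZMod 2] K => f x) h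
  have h1 := Nat.card_le_card_of_injective _ hinj
  have h2 : Nat.card (K ≃ₐ[ZMod 2] K) = Module.finrank (ZMod 2) K := IsGalois.card_aut_eq_finrank _ _
  have h3 : Fintype.card K = 2 ^ Module.finrank (ZMod 2) K := by
    rw [Module.card_eq_pow_finrank (K := ZMod 2) (V := K), ZMod.card]
  rw [hq.hK, h4] at h3
  have h5 : Module.finrank (ZMod 2) K = 4 := by
    have h6 : (2 : ℕ) ^ 4 = 2 ^ Module.finrank (ZMod 2) K := by rw [← h3]; norm_num
    exact (Nat.pow_right_injective (le_refl 2) h6).symm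
  rw [h2, h5] at h1
  exact h1

/-- at most `|Aut K|` cosets of the kernel of the Galois component. -/
theorem card_le_mul [Finite G] {B : Subgroup G} (hB : B ≤ F.Sg) :
    Nat.card B ≤ Nat.card (K ≃+* K) * Nat.card (ker F B (Sg_sub F hB)) := by
  classical
  have := finite_aut (F := K)
  let f : B →* (K ≃+* K) :=
    { toFun := fun b => ch F b
      map_one' := ch_one F
      map_mul' := fun a b => ch_mul F (Sg_sub F hB a a.2) (Sg_sub F hB b b.2) }
  have h1 : Nat.card f.ker * Nat.card f.range = Nat.card B := by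
    rw [← Nat.card_congr (QuotientGroup.quotientKerEquivRange f).toEquiv, mul_comm]
    exact (Subgroup.card_eq_card_quotient_mul_card_subgroup f.ker).symm
  have h2 : Nat.card f.range ≤ Nat.card (K ≃+* K) :=
    Nat.card_le_card_of_injective _ f.range.subtype_injective
  have h3 : Nat.card f.ker ≤ Nat.card (ker F B (Sg_sub F hB)) := by
    refine Nat.card_le_card_of_injective
      (fun x : f.ker => (⟨(x : B), (x : B).2, x.2⟩ : ker F B (Sg_sub F hB))) ?_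
    intro x y h
    apply Subtype.ext
    apply Subtype.ext
    exact congrArg (fun z : ker F B (Sg_sub F hB) => (z : G)) h
  calc Nat.card B = Nat.card f.ker * Nat.card f.range := h1.symm
    _ ≤ Nat.card (ker F B (Sg_sub F hB)) * Nat.card (K ≃+* K) := Nat.mul_le_mul h3 h2
    _ = _ := mul_comm _ _

theorem false_of_Sg [Finite G] {B C : Subgroup G} (hC : C ≤ F.Sg) (hBC : B ≤ C)
    (h2 : ∀ b ∈ B, b * b = 1) (hcen : ∀ b ∈ B, ∀ c ∈ C, b * c = c * b)
    (hC3 : (2 ^ n) ^ 3 ≤ Nat.card C) (hB2 : (2 ^ n) ^ 2 ≤ Nat.card B) : False := by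
  have h4 := four_le D.hq
  have hB : B ≤ F.Sg := hBC.trans hC
  have h5 := card_elem_Sg F hB h2
  have h6 : 2 ^ n = 4 := by
    have : 2 ^ n * 2 ^ n ≤ 4 * 2 ^ n := by rw [← sq]; exact hB2.trans h5
    have := Nat.le_of_mul_le_mul_right this (by positivity)
    omega
  have h7 := card_elem_ker F hB h2
  have h8 := card_ker F hB
  have h9 := card_inf_P (D := D) (B := B) (fun b hb hbP => ca_zero_of_sq hbP (h2 b hb))
  rw [h6] at h9 hB2 hC3
  obtain ⟨x, hx, hx1⟩ : ∃ x ∈ B, ch F x ≠ 1 := by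
    by_contra hcon
    push Not at hcon
    have h10 : Nat.card B ≤ Nat.card (ker F B (Sg_sub F hB)) :=
      Subgroup.card_le_of_le (fun b hb => ⟨hb, hcon b hb⟩)
    omega
  have hxt := Sg_sub F hB x hx
  have hxb : ch F x = barE D.hq := by
    apply eq_bar D.hq
    · rw [← ch_mul F hxt hxt, h2 x hx, ch_one]
    · exact hx1
  have h11 := card_inf_P (D := D) (B := C) (fun c hc hcP =>
    ca_zero_of_outer F hxt (F.Sg_P x (hB hx)) (h2 x hx) hxb hcP (hcen x hx c hc))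
  have h12 := card_ker F hC
  have h13 := card_le_mul F hC
  have h14 := card_aut_le h6 D.hq
  rw [h6] at h11
  have h15 : Nat.card C ≤ 4 * (2 * 4) :=
    h13.trans (Nat.mul_le_mul h14 (h12.trans (Nat.mul_le_mul (le_refl 2) h11)))
  omega

/-! ### Transport to the conjugates of `t` -/

/-- 2-subgroups centralizing `d = y t y⁻¹` can be moved into `Sg`. -/
theorem exists_conj_Sg {C : Subgroup G} (hC : IsPGroup 2 C) {y : G}
    (h : ∀ c ∈ C, c * (y * D.t * y⁻¹) = (y * D.t * y⁻¹) * c) :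
    ∃ g, g * (y * D.t * y⁻¹) * g⁻¹ = D.t ∧ ∀ x ∈ C, g * x * g⁻¹ ∈ F.Sg := by
  let C' : Subgroup G := C.map (MulAut.conj y⁻¹).toMonoidHom
  have hC' : IsPGroup 2 C' := hC.map _
  have hmem : ∀ x ∈ C, y⁻¹ * x * y ∈ C' := fun x hx => ⟨x, hx, by simp only [_root_.map_inv, _root_.MulEquiv.toMonoidHom_eq_coe, _root_.MonoidHom.coe_coe, _root_.MulAut.inv_apply, _root_.MulAut.conj_symm_apply]⟩
  have hcomm : ∀ x ∈ C', x * D.t = D.t * x := by
    rintro _ ⟨x, hx, rfl⟩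
    have h1 := h x hx
    have h2 : (MulAut.conj y⁻¹).toMonoidHom x = y⁻¹ * x * y := by simp only [_root_.map_inv, _root_.MulEquiv.toMonoidHom_eq_coe, _root_.MonoidHom.coe_coe, _root_.MulAut.inv_apply, _root_.MulAut.conj_symm_apply]
    rw [h2]
    calc y⁻¹ * x * y * D.t = y⁻¹ * (x * (y * D.t * y⁻¹)) * y := by group
      _ = D.t * (y⁻¹ * x * y) := by rw [h1]; group
  obtain ⟨g, hg, hg'⟩ := F.Sg_conj C' hC' hcomm
  refine ⟨g⁻¹ * y⁻¹, ?_, ?_⟩
  · have : g⁻¹ * y⁻¹ * (y * D.t * y⁻¹) * (g⁻¹ * y⁻¹)⁻¹ = g⁻¹ * (D.t * g) := by group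
    rw [this, ← hg]; group
  · intro x hx
    have := hg' _ (hmem x hx)
    have e : g⁻¹ * y⁻¹ * x * (g⁻¹ * y⁻¹)⁻¹ = g⁻¹ * (y⁻¹ * x * y) * g := by group
    rw [e]; exact this

theorem isPGroup_of_sq {B : Subgroup G} (h2 : ∀ b ∈ B, b * b = 1) : IsPGroup 2 B := by
  rintro ⟨b, hb⟩
  exact ⟨1, Subtype.ext (by simpa only [pow_two, _root_.pow_one, _root_.MulMemClass.mk_mul_mk, _root_.OneMemClass.coe_one] using h2 b hb)⟩

include F in
/-- **elementary abelian subgroups of `C(d)`** -/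
theorem card_elem [Finite G] {B : Subgroup G} (h2 : ∀ b ∈ B, b * b = 1) {y : G}
    (h : ∀ b ∈ B, b * (y * D.t * y⁻¹) = (y * D.t * y⁻¹) * b) : Nat.card B ≤ 4 * 2 ^ n := by
  obtain ⟨g, _, hg⟩ := exists_conj_Sg F (isPGroup_of_sq h2) h
  let B' : Subgroup G := B.map (MulAut.conj g).toMonoidHom
  have h1 : Nat.card B' = Nat.card B :=
    Nat.card_congr (B.equivMapOfInjective _ (MulAut.conj g).injective).toEquiv.symm
  rw [← h1]
  apply card_elem_Sg F
  · rintro _ ⟨b, hb, rfl⟩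
    exact hg b hb
  · rintro _ ⟨b, hb, rfl⟩
    rw [← map_mul, h2 b hb, map_one]

include F in
/-- **LEMMA R** -/
theorem false_of_big [Finite G] {B C : Subgroup G} (hC : IsPGroup 2 C) (hBC : B ≤ C)
    (h2 : ∀ b ∈ B, b * b = 1) (hcen : ∀ b ∈ B, ∀ c ∈ C, b * c = c * b)
    (hC3 : (2 ^ n) ^ 3 ≤ Nat.card C) (hB2 : (2 ^ n) ^ 2 ≤ Nat.card B) {y : G}
    (h : ∀ c ∈ C, c * (y * D.t * y⁻¹) = (y * D.t * y⁻¹) * c) : False := by
  obtain ⟨g, _, hg⟩ := exists_conj_Sg F hC h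
  have h1 : ∀ H : Subgroup G, Nat.card (H.map (MulAut.conj g).toMonoidHom) = Nat.card H :=
    fun H => Nat.card_congr (H.equivMapOfInjective _ (MulAut.conj g).injective).toEquiv.symm
  refine false_of_Sg F (B := B.map (MulAut.conj g).toMonoidHom)
    (C := C.map (MulAut.conj g).toMonoidHom) ?_ (Subgroup.map_mono hBC) ?_ ?_ ?_ ?_
  · rintro _ ⟨b, hb, rfl⟩
    exact hg b hb
  · rintro _ ⟨b, hb, rfl⟩
    rw [← map_mul, h2 b hb, map_one]
  · rintro _ ⟨b, hb, rfl⟩ _ ⟨c, hc, rfl⟩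
    rw [← map_mul, hcen b hb c hc, map_mul]
  · rw [h1]; exact hC3
  · rw [h1]; exact hB2

end Cfsg.Agent.StdU3.Rank
end

-- part: StdU3/LemC
section
/-!
# LEMMA C

`d` conjugate to `t`, `B ≤ C(d)` a 2-group normalized by `o ∈ C(d)` of odd order: the commutators
`[o, b]` lie in `A_d`.  Consequence: no element of `Z` is conjugate to `t`.
-/

set_option autoImplicit false
set_option linter.unusedSectionVars false
set_option linter.dupNamespace false

namespace Cfsg.Agent.StdU3.LemC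

open Subgroup Cfsg.Agent.StdU3.Field Cfsg.Agent.StdU3.PreDef Cfsg.Agent.StdU3.FldDef
open Cfsg.Agent.StdU3.LevelOne Cfsg.Agent.StdU3.FieldAut Cfsg.Agent.StdU3.Rank

variable {G : Type*} [Group G] {K : Type*} [Field K] [Fintype K] [CharP K 2] {n : ℕ}
variable {D : Pre G K n} (F : Fld D)

theorem mem_A_or {x : G} (hx : x ∈ F.Sg) (h : ch F x = 1) : x ∈ F.A ∨ x * D.t ∈ F.A :=
  (ch_ker F hx h).imp (fun h => F.P_A h) (fun h => F.P_A h)

theorem A_norm' {g a : G} (hg : g * D.t = D.t * g) (ha : g * a * g⁻¹ ∈ F.A) : a ∈ F.A := by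
  have h := F.A_norm g⁻¹ (comm_inv hg) _ ha
  have e : g⁻¹ * (g * a * g⁻¹) * g⁻¹⁻¹ = a := by group
  rwa [e] at h

/-- 2-elements of `C(t)` without Galois component. -/
theorem mem_A_or' {B : Subgroup G} (hB : IsPGroup 2 B) (hBt : ∀ b ∈ B, b * D.t = D.t * b) {x : G}
    (hx : x ∈ B) (h : ch F x = 1) : x ∈ F.A ∨ x * D.t ∈ F.A := by
  obtain ⟨g, hg, hgB⟩ := F.Sg_conj B hB hBt
  have hgi := comm_inv hg
  have h1 : g⁻¹ * x * g⁻¹⁻¹ ∈ F.Sg := by rw [inv_inv]; exact hgB x hx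
  have h2 : ch F (g⁻¹ * x * g⁻¹⁻¹) = 1 := by rw [ch_conj F hgi (hBt x hx), h]
  rcases mem_A_or F h1 h2 with h3 | h3
  · exact Or.inl (A_norm' F hgi h3)
  · right
    apply A_norm' F hgi
    have e : g⁻¹ * (x * D.t) * g⁻¹⁻¹ = g⁻¹ * x * g⁻¹⁻¹ * D.t := by
      have : g⁻¹ * (x * D.t) * g⁻¹⁻¹ = g⁻¹ * x * (D.t * g) := by group
      rw [this, ← hg]; group
    rw [e]; exact h3

/-- **LEMMA C** for `d = t`. -/
theorem cmt_mem_A' {B : Subgroup G} (hB : IsPGroup 2 B) (hBt : ∀ b ∈ B, b * D.t = D.t * b) {o : G}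
    (ho : o * D.t = D.t * o) (hodd : Odd (orderOf o)) (hoB : ∀ b ∈ B, o * b * o⁻¹ ∈ B) {b : G}
    (hb : b ∈ B) : o * b * o⁻¹ * b⁻¹ ∈ F.A := by
  have hoi := comm_inv ho
  have hbt := hBt b hb
  have hc : o * b * o⁻¹ * b⁻¹ ∈ B := B.mul_mem (hoB b hb) (B.inv_mem hb)
  have hch : ch F (o * b * o⁻¹ * b⁻¹) = 1 := by
    rw [ch_mul F (comm_mul (comm_mul ho hbt) hoi) (comm_inv hbt), ch_conj F ho hbt, ch_inv F hbt,
      mul_inv_cancel]
  rcases mem_A_or' F hB hBt hc hch with h | h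
  · exact h
  · exfalso
    -- `o ^ k * b * o ^ (-k) * b⁻¹ * t ^ k ∈ A`
    have key : ∀ k : ℕ, o ^ k * b * (o ^ k)⁻¹ * b⁻¹ * D.t ^ k ∈ F.A := by
      intro k
      induction k with
      | zero => simp
      | succ k ih =>
        have h1 := F.A_norm o ho _ ih
        have h2 := F.A.mul_mem h1 h
        have hokt : Commute (o ^ k) D.t := (Commute.pow_left (show Commute o D.t from ho) k)
        have htk : ∀ x, x * D.t = D.t * x → D.t ^ k * x = x * D.t ^ k := by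
          intro x hx
          exact (Commute.pow_left (show Commute D.t x from hx.symm) k)
        have e : o * (o ^ k * b * (o ^ k)⁻¹ * b⁻¹ * D.t ^ k) * o⁻¹ *
            (o * b * o⁻¹ * b⁻¹ * D.t) = o ^ (k + 1) * b * (o ^ (k + 1))⁻¹ * b⁻¹ * D.t ^ (k + 1) := by
          have hx : (b * o⁻¹ * b⁻¹) * D.t = D.t * (b * o⁻¹ * b⁻¹) :=
            comm_mul (comm_mul hbt hoi) (comm_inv hbt)
          calc o * (o ^ k * b * (o ^ k)⁻¹ * b⁻¹ * D.t ^ k) * o⁻¹ * (o * b * o⁻¹ * b⁻¹ * D.t)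
              = o * o ^ k * b * (o ^ k)⁻¹ * b⁻¹ * (D.t ^ k * (b * o⁻¹ * b⁻¹)) * D.t := by group
            _ = o * o ^ k * b * (o ^ k)⁻¹ * b⁻¹ * ((b * o⁻¹ * b⁻¹) * D.t ^ k) * D.t := by
                rw [htk _ hx]
            _ = (o * o ^ k) * b * ((o ^ k)⁻¹ * o⁻¹) * b⁻¹ * (D.t ^ k * D.t) := by group
            _ = _ := by rw [← pow_succ', ← mul_inv_rev, ← pow_succ', ← pow_succ]
        rw [e] at h2
        exact h2
    have h1 := key (orderOf o)
    obtain ⟨m, hm⟩ := hodd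
    rw [pow_orderOf_eq_one, one_mul, inv_one, mul_one, mul_inv_cancel, one_mul, hm, pow_succ,
      pow_mul, pow_two, D.t_sq, one_pow, one_mul] at h1
    exact F.t_A h1

/-- **LEMMA C** -/
theorem cmt_mem_A {B : Subgroup G} (hB : IsPGroup 2 B) {y : G}
    (hBt : ∀ b ∈ B, b * (y * D.t * y⁻¹) = (y * D.t * y⁻¹) * b) {o : G}
    (ho : o * (y * D.t * y⁻¹) = (y * D.t * y⁻¹) * o) (hodd : Odd (orderOf o))
    (hoB : ∀ b ∈ B, o * b * o⁻¹ ∈ B) {b : G} (hb : b ∈ B) :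
    y⁻¹ * (o * b * o⁻¹ * b⁻¹) * y ∈ F.A := by
  have hmove : ∀ x : G, x * (y * D.t * y⁻¹) = (y * D.t * y⁻¹) * x →
      (y⁻¹ * x * y) * D.t = D.t * (y⁻¹ * x * y) := by
    intro x hx
    calc y⁻¹ * x * y * D.t = y⁻¹ * (x * (y * D.t * y⁻¹)) * y := by group
      _ = _ := by rw [hx]; group
  have hconj : ∀ x : G, (MulAut.conj y⁻¹).toMonoidHom x = y⁻¹ * x * y := by
    intro x; simp only [_root_.map_inv, _root_.MulEquiv.toMonoidHom_eq_coe, _root_.MonoidHom.coe_coe, _root_.MulAut.inv_apply, _root_.MulAut.conj_symm_apply]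
  have h := cmt_mem_A' F (B := B.map (MulAut.conj y⁻¹).toMonoidHom) (hB.map _)
    (by
      rintro _ ⟨x, hx, rfl⟩
      rw [hconj]; exact hmove x (hBt x hx))
    (o := y⁻¹ * o * y) (hmove o ho)
    (by
      have e : y⁻¹ * o * y = MulAut.conj y⁻¹ o := by simp only [_root_.map_inv, _root_.MulAut.inv_apply, _root_.MulAut.conj_symm_apply]
      rw [e, MulEquiv.orderOf_eq]; exact hodd)
    (by
      rintro _ ⟨x, hx, rfl⟩
      rw [hconj]
      refine ⟨o * x * o⁻¹, hoB x hx, ?_⟩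
      rw [hconj]; group)
    (b := y⁻¹ * b * y) ⟨b, hb, hconj b⟩
  have e : y⁻¹ * o * y * (y⁻¹ * b * y) * (y⁻¹ * o * y)⁻¹ * (y⁻¹ * b * y)⁻¹ =
      y⁻¹ * (o * b * o⁻¹ * b⁻¹) * y := by group
  rwa [e] at h

/-- if `d` centralizes `P` and the elements `a ∈ A` of `tor` of norm one then `P ≤ A_d` -/
theorem P_le_A_of {y : G} (hP : ∀ p ∈ D.P, p * (y * D.t * y⁻¹) = (y * D.t * y⁻¹) * p)
    (hP2 : IsPGroup 2 ↥D.P)
    (hA : ∀ a ∈ F.A, (∀ p ∈ D.P, a * p * a⁻¹ ∈ D.P) → (∀ b, bar n b = b → a * D.z b * a⁻¹ = D.z b) →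
      a * (y * D.t * y⁻¹) = (y * D.t * y⁻¹) * a)
    {p : G} (hp : p ∈ D.P) : y⁻¹ * p * y ∈ F.A := by
  obtain ⟨k, hk1, hk3, hk⟩ := exists_norm_one D.hq
  obtain ⟨a, haA, hodd, ha⟩ := F.tor k
  have hwN : w n k = (k : K) ^ 3 := Kernel.w_of_norm_one hk1
  have haz : ∀ b, bar n b = b → a * D.z b * a⁻¹ = D.z b := by
    intro b hb
    obtain ⟨c, hc⟩ := exists_norm D.hq hb
    obtain ⟨x, hx, rfl⟩ := D.ca_surj c
    have h1 := D.P_sq x hx
    have h2 := D.P_sq _ (ha x hx).1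
    rw [(ha x hx).2, N_mul, N_w D, hk1, one_mul, hc] at h2
    rw [hc] at h1
    calc a * D.z b * a⁻¹ = a * (x * x) * a⁻¹ := by rw [h1]
      _ = (a * x * a⁻¹) * (a * x * a⁻¹) := by group
      _ = D.z b := h2
  have hcomm := hA a haA (fun p hp => (ha p hp).1) haz
  -- the subgroup of `P` of elements in `A_d`
  have hmem : ∀ q ∈ D.P, y⁻¹ * (a * q * a⁻¹ * q⁻¹) * y ∈ F.A := fun q hq =>
    cmt_mem_A F (B := D.P) (y := y) (o := a) hP2 hP hcomm hodd (fun b hb => (ha b hb).1) hq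
  have key : ∀ q ∈ D.P, ∃ b, bar n b = b ∧ y⁻¹ * (D.z b * q) * y ∈ F.A := by
    intro q hq
    have hk3' : (k : K) ^ 3 + 1 ≠ 0 := fun h => hk3 (Field.add_eq_zero.mp h)
    obtain ⟨q', hq', hca⟩ := D.ca_surj (D.ca q * ((k : K) ^ 3 + 1)⁻¹)
    have h1 : a * q' * a⁻¹ * q'⁻¹ ∈ D.P := D.P.mul_mem (ha q' hq').1 (D.P.inv_mem hq')
    have h2 : D.ca (a * q' * a⁻¹ * q'⁻¹) = D.ca q := by
      rw [D.ca_mul _ (ha q' hq').1 _ (D.P.inv_mem hq'), ca_inv D hq', (ha q' hq').2, hwN, hca]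
      field_simp
    obtain ⟨b, hb, h3⟩ := eq_z_mul D h1 hq h2
    exact ⟨b, hb, by rw [← h3]; exact hmem q' hq'⟩
  have hz : ∀ b, bar n b = b → y⁻¹ * D.z b * y ∈ F.A := by
    intro b hb
    obtain ⟨c, hc⟩ := exists_norm D.hq hb
    obtain ⟨x, hx, rfl⟩ := D.ca_surj c
    obtain ⟨b', hb', h1⟩ := key x hx
    have h2 := F.A.mul_mem h1 h1
    have e : y⁻¹ * (D.z b' * x) * y * (y⁻¹ * (D.z b' * x) * y) = y⁻¹ * D.z b * y := by
      have h3 : (D.z b' * x) * (D.z b' * x) = D.z b := by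
        rw [D.P_sq _ (mul_mem (D.z_mem _) hx), D.ca_mul _ (D.z_mem _) _ hx, D.ca_z, zero_add, hc]
      calc _ = y⁻¹ * ((D.z b' * x) * (D.z b' * x)) * y := by group
        _ = _ := by rw [h3]
    rwa [e] at h2
  obtain ⟨b, hb, h1⟩ := key p hp
  have h2 := F.A.mul_mem (F.A.inv_mem (hz b hb)) h1
  have e : (y⁻¹ * D.z b * y)⁻¹ * (y⁻¹ * (D.z b * p) * y) = y⁻¹ * p * y := by group
  rwa [e] at h2

include F in
/-- **No element of `Z` is conjugate to `t`.** -/
theorem z_not_conj (hP2 : IsPGroup 2 ↥D.P) (b : K) (y : G) : y * D.t * y⁻¹ ≠ D.z b := by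
  intro h
  obtain ⟨c, hc, hbc⟩ := z_fixed D b
  have h' : y * D.t * y⁻¹ = D.z c := h.trans hbc
  have h1 : ∀ p ∈ D.P, y⁻¹ * p * y ∈ F.A := by
    intro p hp
    refine P_le_A_of F ?_ hP2 ?_ hp
    · intro p hp
      rw [h', ← D.Q_Z p (D.P_le hp) c]
    · intro a _ _ ha
      rw [h']
      have := ha c hc
      exact mul_inv_eq_iff_eq_mul.mp this
  have h2 := h1 (D.z c) (D.z_mem c)
  rw [← h'] at h2
  have e : y⁻¹ * (y * D.t * y⁻¹) * y = D.t := by group
  rw [e] at h2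
  exact F.t_A h2

end Cfsg.Agent.StdU3.LemC
end

-- part: StdU3/OutInv
section
/-!
# Outer involutions of `C_G(t)`

Every coset `P x`, `x ∈ Sg`, with Galois component `bar` contains an involution, and `t` is not a
square in `Sg / P`.
-/

set_option autoImplicit false
set_option linter.unusedSectionVars false
set_option linter.dupNamespace false

namespace Cfsg.Agent.StdU3.OutInv

open Subgroup Cfsg.Agent.StdU3.Field Cfsg.Agent.StdU3.PreDef Cfsg.Agent.StdU3.FldDef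
open Cfsg.Agent.StdU3.LevelOne Cfsg.Agent.StdU3.FieldAut Cfsg.Agent.StdU3.Rank
open Cfsg.Agent.StdU3.LevelOneW Cfsg.Agent.StdU3.Kernel
open Cfsg.Agent.StdU3.NormQ hiding barE
open Cfsg.Agent.StdU3.Next

variable {G : Type*} [Group G] [Finite G] {K : Type*} [Field K] [Fintype K] [CharP K 2] {n : ℕ}
variable {D : Pre G K n} (F : Fld D)

theorem P_two : IsPGroup 2 ↥D.P := D.Q_two.to_le D.P_le

/-- the action of an outer element. -/
theorem outer_ca {x : G} (hx : x ∈ F.Sg) (hch : ch F x = barE D.hq) :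
    ∃ c : K, c ≠ 0 ∧ N n c = 1 ∧ (∀ p ∈ D.P, D.ca (x * p * x⁻¹) = c * bar n (D.ca p)) ∧
      ∀ b, x * D.z b * x⁻¹ = D.z b := by
  have hxt := F.Sg_t x hx
  obtain ⟨c, hc, h1, h2⟩ := ch_ca F hxt (F.Sg_P x hx)
  have h1' : ∀ p ∈ D.P, D.ca (x * p * x⁻¹) = c * bar n (D.ca p) := by
    intro p hp
    rw [h1 p hp, hch]; rfl
  -- `x²` acts trivially on `P / Z`
  have hxx : x * x ∈ F.Sg := mul_mem hx hx
  have hchx : ch F (x * x) = 1 := by
    rw [ch_mul F hxt hxt, hch]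
    ext y
    show bar n (bar n y) = y
    exact bar_bar D.hq y
  have h3 : ∀ p ∈ D.P, D.ca (x * x * p * (x * x)⁻¹) = D.ca p := by
    intro p hp
    rcases ch_ker F hxx hchx with h | h
    · rw [D.ca_mul _ (mul_mem h hp) _ (inv_mem h), D.ca_mul _ h _ hp, ca_inv D h, add_comm,
        ← add_assoc, Field.add_self, zero_add]
    · have e : x * x * p * (x * x)⁻¹ = (x * x * D.t) * p * (x * x * D.t)⁻¹ := by
        have e1 : (x * x * D.t) * p * (x * x * D.t)⁻¹ =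
            x * x * (D.t * p * D.t⁻¹) * (x * x)⁻¹ := by group
        rw [e1, D.t_P p hp]; group
      rw [e, D.ca_mul _ (mul_mem h hp) _ (inv_mem h), D.ca_mul _ h _ hp, ca_inv D h, add_comm,
        ← add_assoc, Field.add_self, zero_add]
  have hNc : N n c = 1 := by
    obtain ⟨p, hp, hp1⟩ := D.ca_surj 1
    have h4 := h3 p hp
    have e : x * x * p * (x * x)⁻¹ = x * (x * p * x⁻¹) * x⁻¹ := by group
    rw [e, h1' _ (F.Sg_P x hx p hp), h1' p hp, hp1, bar_one, mul_one] at h4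
    exact h4
  refine ⟨c, hc, hNc, h1', fun b => ?_⟩
  obtain ⟨b', hb', hbb⟩ := z_fixed D b
  rw [hbb, h2 b' hb', hch, hNc, one_mul]
  show D.z (bar n b') = D.z b'
  rw [hb']

theorem O_P_one {k : G} (hk : k ∈ F.O) (hP : k ∈ D.P) : k = 1 := by
  obtain ⟨m, hm⟩ := P_two (D := D) ⟨k, hP⟩
  have hm' : k ^ 2 ^ m = 1 := congrArg Subtype.val hm
  exact eq_one_of_O D F.amb hk hm'

/-- an element of the outer coset whose square is in `⟨t⟩`. -/
theorem exists_sq {x : G} (hx : x ∈ F.Sg) (hch : ch F x = barE D.hq) :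
    ∃ p ∈ D.P, (p * x) * (p * x) = 1 ∨ (p * x) * (p * x) = D.t := by
  obtain ⟨c, hc, hNc, h1, h2⟩ := outer_ca F hx hch
  have hxt := F.Sg_t x hx
  obtain ⟨l, hl, hl1⟩ := exists_fixed_ne D.hq
  set! h := D.h l with hh
  have hht : h * D.t = D.t * h := (D.t_h l).symm
  have hhP : ∀ p ∈ D.P, h * p * h⁻¹ ∈ D.P := D.h_P l
  have hhca : ∀ p ∈ D.P, D.ca (h * p * h⁻¹) = l * D.ca p := by
    intro p hp
    rw [hh, D.h_ca l p hp, w_of_fixed hl]
  have hhPi : ∀ p ∈ D.P, h⁻¹ * p * h ∈ D.P := by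
    -- finiteness
    have h1 : D.P.map (MulAut.conj h).toMonoidHom ≤ D.P := by
      rintro _ ⟨g, hg, rfl⟩
      exact hhP g hg
    have h2 : D.P.map (MulAut.conj h).toMonoidHom = D.P := by
      apply Subgroup.eq_of_le_of_card_ge h1
      rw [Subgroup.card_map_of_injective (MulAut.conj h).injective]
    intro g hg
    rw [← h2] at hg
    obtain ⟨y, hy, rfl⟩ := hg
    have : h⁻¹ * (MulAut.conj h).toMonoidHom y * h = y := by
      show h⁻¹ * (h * y * h⁻¹) * h = y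
      group
    rw [this]; exact hy
  have hxPi : ∀ p ∈ D.P, x⁻¹ * p * x ∈ D.P := by
    intro p hp
    have := F.Sg_P x⁻¹ (inv_mem hx) p hp
    rwa [inv_inv] at this
  -- the commutator
  have hg : ∀ p ∈ D.P, (x * h * x⁻¹ * h⁻¹) * p * (x * h * x⁻¹ * h⁻¹)⁻¹ ∈ D.P ∧
      D.ca ((x * h * x⁻¹ * h⁻¹) * p * (x * h * x⁻¹ * h⁻¹)⁻¹) = D.ca p := by
    intro p hp
    have e : (x * h * x⁻¹ * h⁻¹) * p * (x * h * x⁻¹ * h⁻¹)⁻¹ =
        x * (h * (x⁻¹ * (h⁻¹ * p * h) * x) * h⁻¹) * x⁻¹ := by group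
    set p1 := h⁻¹ * p * h with hp1
    have hp1P : p1 ∈ D.P := hhPi p hp
    set p2 := x⁻¹ * p1 * x with hp2
    have hp2P : p2 ∈ D.P := hxPi p1 hp1P
    have hpe : p = h * p1 * h⁻¹ := by rw [hp1]; group
    have hp1e : p1 = x * p2 * x⁻¹ := by rw [hp2]; group
    rw [e]
    refine ⟨F.Sg_P x hx _ (hhP _ hp2P), ?_⟩
    rw [h1 _ (hhP _ hp2P), hhca _ hp2P, hpe, hhca _ hp1P, hp1e, h1 _ hp2P, bar_mul, hl]
    ring
  have hgt : (x * h * x⁻¹ * h⁻¹) * D.t = D.t * (x * h * x⁻¹ * h⁻¹) :=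
    comm_mul (comm_mul (comm_mul hxt hht) (comm_inv hxt)) (comm_inv hht)
  obtain ⟨q, hq, k, hk, hqk⟩ := F.amb.dec _ hgt hg
  have hkt := F.amb.O_t k hk
  have hqt : q * D.t = D.t * q := by
    have e : q = (x * h * x⁻¹ * h⁻¹) * k⁻¹ := by rw [hqk]; group
    rw [e]
    exact comm_mul hgt (comm_inv hkt)
  -- `q⁻¹ = τ * p1` with `τ ∈ {1, t}`
  obtain ⟨τ, hτ, p1, hp1, hqp⟩ : ∃ τ, (τ = 1 ∨ τ = D.t) ∧ ∃ p1 ∈ D.P, q⁻¹ = τ * p1 := by
    rcases D.Q_T q hq hqt with h3 | h3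
    · exact ⟨1, Or.inl rfl, q⁻¹, inv_mem h3, by rw [one_mul]⟩
    · refine ⟨D.t, Or.inr rfl, (q * D.t)⁻¹, inv_mem h3, ?_⟩
      rw [mul_inv_rev]
      have : D.t * (D.t⁻¹ * q⁻¹) = q⁻¹ := by group
      rw [this]
  have hτt : τ * D.t = D.t * τ := by
    rcases hτ with rfl | rfl
    · rw [one_mul, mul_one]
    · rfl
  have hττ : τ * τ = 1 := by
    rcases hτ with rfl | rfl
    · rw [one_mul]
    · exact D.t_sq
  have hτc : ∀ g, g * D.t = D.t * g → g * τ = τ * g := by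
    intro g hg
    rcases hτ with rfl | rfl
    · rw [one_mul, mul_one]
    · exact hg
  -- surjectivity of `p ↦ (h p h⁻¹)⁻¹ p`
  have hfix : ∀ p ∈ D.P, h * p * h⁻¹ = p → p = 1 := by
    intro p hp hhp
    have h3 := hhca p hp
    rw [hhp] at h3
    have h4 : D.ca p = 0 := by
      by_contra hne
      have h5 : (l : K) * D.ca p = 1 * D.ca p := by rw [← h3, one_mul]
      exact hl1 (mul_right_cancel₀ hne h5)
    obtain ⟨b, hb, rfl⟩ := D.exists_z p hp h4
    rw [hh, h_z D l hb, N_of_fixed hl] at hhp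
    have h5 := z_eq D (fixed_mul (by rw [bar_pow, hl]) hb) hb hhp
    have h6 : b = 0 := by
      by_contra hne
      have h7 : (l : K) ^ 2 * b = 1 * b := by rw [h5, one_mul]
      have h8 := mul_right_cancel₀ hne h7
      have h9 : ((l : K) + 1) ^ 2 = 0 := by
        rw [CharTwo.add_sq, h8, one_pow, Field.add_self]
      have h10 := pow_eq_zero_iff (two_ne_zero) |>.mp h9
      exact hl1 (Field.add_eq_zero.mp h10)
    rw [h6, z_zero]
  have hsurj : ∃ p ∈ D.P, (h * p * h⁻¹)⁻¹ * p = p1 := by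
    let f : D.P → D.P := fun p => ⟨(h * p * h⁻¹)⁻¹ * p, mul_mem (inv_mem (hhP p p.2)) p.2⟩
    have hinj : Function.Injective f := by
      intro p p' hpp
      have h3 : (h * (p : G) * h⁻¹)⁻¹ * p = (h * (p' : G) * h⁻¹)⁻¹ * p' := congrArg Subtype.val hpp
      have h4 : h * ((p' : G) * (p : G)⁻¹) * h⁻¹ = (p' : G) * (p : G)⁻¹ := by
        have h5 : (h * (p' : G) * h⁻¹) * ((h * (p : G) * h⁻¹)⁻¹ * p) = p' := by
          rw [h3]; group
        have h6 : h * ((p' : G) * (p : G)⁻¹) * h⁻¹ =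
            ((h * (p' : G) * h⁻¹) * ((h * (p : G) * h⁻¹)⁻¹ * p)) * (p : G)⁻¹ := by group
        rw [h6, h5]
      have h5 := hfix _ (mul_mem p'.2 (inv_mem p.2)) h4
      apply Subtype.ext
      exact (mul_inv_eq_one.mp h5).symm
    obtain ⟨p, hp⟩ := (Finite.injective_iff_surjective.mp hinj) ⟨p1, hp1⟩
    exact ⟨p, p.2, congrArg Subtype.val hp⟩
  obtain ⟨p, hp, hpp⟩ := hsurj
  set! y := p * x with hy
  have hySg : y ∈ F.Sg := mul_mem (F.P_Sg hp) hx
  have hyt := F.Sg_t y hySg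
  have hkP : ∀ g ∈ D.P, k * g = g * k := F.amb.O_P k hk
  have hkPi : ∀ g ∈ D.P, k⁻¹ * g = g * k⁻¹ := by
    intro g hg
    rw [inv_mul_eq_iff_eq_mul, ← mul_assoc, hkP g hg, mul_assoc, mul_inv_cancel, mul_one]
  -- `h y h⁻¹ = k⁻¹ τ y`
  have hhy : h * y * h⁻¹ = k⁻¹ * τ * y := by
    have e1 : h * x * h⁻¹ = (q * k)⁻¹ * x := by rw [← hqk]; group
    have e2 : h * y * h⁻¹ = (h * p * h⁻¹) * (h * x * h⁻¹) := by rw [hy]; group
    have e3 : h * p * h⁻¹ * p1 = p := by rw [← hpp]; group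
    calc h * y * h⁻¹ = (h * p * h⁻¹) * (k⁻¹ * q⁻¹ * x) := by rw [e2, e1, mul_inv_rev]
      _ = (h * p * h⁻¹ * k⁻¹) * (τ * p1) * x := by rw [hqp]; group
      _ = (k⁻¹ * (h * p * h⁻¹)) * (τ * p1) * x := by rw [hkPi _ (hhP p hp)]
      _ = k⁻¹ * ((h * p * h⁻¹) * τ) * p1 * x := by group
      _ = k⁻¹ * (τ * (h * p * h⁻¹)) * p1 * x := by rw [hτc _ (P_t (hhP p hp))]
      _ = k⁻¹ * τ * ((h * p * h⁻¹) * p1) * x := by group
      _ = k⁻¹ * τ * y := by rw [e3, hy]; group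
  -- the square
  have hchy : ch F (y * y) = 1 := by
    have h3 : ch F y = barE D.hq := by
      rw [hy, ch_mul F (P_t hp) hxt, ch_P F hp, one_mul, hch]
    rw [ch_mul F hyt hyt, h3]
    ext b
    show bar n (bar n b) = b
    exact bar_bar D.hq b
  obtain ⟨τ', hτ', p2, hp2, hyy⟩ : ∃ τ', (τ' = 1 ∨ τ' = D.t) ∧ ∃ p2 ∈ D.P, y * y = p2 * τ' := by
    rcases ch_ker F (mul_mem hySg hySg) hchy with h3 | h3
    · exact ⟨1, Or.inl rfl, _, h3, by rw [mul_one]⟩
    · refine ⟨D.t, Or.inr rfl, _, h3, ?_⟩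
      rw [mul_assoc (y * y), D.t_sq, mul_one]
  have hκ : k⁻¹ * (y * k⁻¹ * y⁻¹) ∈ F.O :=
    F.O.mul_mem (F.O.inv_mem hk) (F.O_conj y hyt _ (F.O.inv_mem hk))
  have hsq : h * (y * y) * h⁻¹ = (k⁻¹ * (y * k⁻¹ * y⁻¹)) * (y * y) := by
    have e1 : h * (y * y) * h⁻¹ = (h * y * h⁻¹) * (h * y * h⁻¹) := by group
    rw [e1, hhy]
    calc k⁻¹ * τ * y * (k⁻¹ * τ * y) = k⁻¹ * (τ * (y * k⁻¹)) * τ * y := by group
      _ = k⁻¹ * ((y * k⁻¹) * τ) * τ * y := by
          rw [hτc _ (comm_mul hyt (comm_inv hkt))]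
      _ = k⁻¹ * (y * k⁻¹) * (τ * τ) * y := by group
      _ = (k⁻¹ * (y * k⁻¹ * y⁻¹)) * (y * y) := by rw [hττ]; group
  have hτ'c : ∀ g, g * D.t = D.t * g → g * τ' = τ' * g := by
    intro g hg
    rcases hτ' with rfl | rfl
    · rw [one_mul, mul_one]
    · exact hg
  have hκ2 : k⁻¹ * (y * k⁻¹ * y⁻¹) = (h * p2 * h⁻¹) * p2⁻¹ := by
    rw [hyy] at hsq
    have e1 : h * (p2 * τ') * h⁻¹ = (h * p2 * h⁻¹) * τ' := by
      have : h * (p2 * τ') * h⁻¹ = h * p2 * (τ' * h⁻¹) := by group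
      rw [this, ← hτ'c _ (comm_inv hht)]; group
    rw [e1] at hsq
    have e2 : (h * p2 * h⁻¹) * p2⁻¹ = ((h * p2 * h⁻¹) * τ') * (p2 * τ')⁻¹ := by
      rw [mul_inv_rev]
      have h5 := hτ'c _ (comm_inv (P_t hp2))
      calc h * p2 * h⁻¹ * p2⁻¹ = h * p2 * h⁻¹ * (τ' * τ'⁻¹) * p2⁻¹ := by group
        _ = _ := by group
    rw [e2, hsq]; group
  have hκ1 : k⁻¹ * (y * k⁻¹ * y⁻¹) = 1 := by
    apply O_P_one F hκ
    rw [hκ2]
    exact mul_mem (hhP _ hp2) (inv_mem hp2)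
  have hp2' : p2 = 1 := by
    apply hfix p2 hp2
    rw [hκ1] at hκ2
    exact (mul_inv_eq_one.mp hκ2.symm)
  refine ⟨p, hp, ?_⟩
  rw [hp2', one_mul] at hyy
  rcases hτ' with rfl | rfl
  · exact Or.inl hyy
  · exact Or.inr hyy

/-- no square root of `t` acts as a field automorphism. -/
theorem sq_ne_t {y : G} (hy : y ∈ F.Sg) (hn : _root_.Cfsg.Agent.StdU3.NormQ.Norm D y) (hch : ch F y = barE D.hq) :
    y * y ≠ D.t := by
  intro hyy
  obtain ⟨c, hc, hNc, h1, h2⟩ := outer_ca F hy hch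
  have hyt := F.Sg_t y hy
  obtain ⟨w, hw, uw⟩ := W_surj D (bar_one n)
  have hwQ := W_le D hw
  have hyw : y * w * y⁻¹ ∈ W D := NormQ.conj_W D hn hw
  have hu : u D (y * w * y⁻¹) = u D w := by
    apply u_eq D (hn.fwd w hwQ) (u_fixed D hwQ)
    have e : y * w * y⁻¹ * D.t * (y * w * y⁻¹)⁻¹ = y * (w * (y⁻¹ * D.t * y) * w⁻¹) * y⁻¹ := by
      group
    have e2 : y⁻¹ * D.t * y = D.t := by rw [mul_assoc, ← hyt]; group
    rw [e, e2, LevelOne.u_conj D hwQ]
    have e3 : y * (D.z (u D w) * D.t) * y⁻¹ = (y * D.z (u D w) * y⁻¹) * (y * D.t * y⁻¹) := by group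
    rw [e3, h2, hyt]; group
  obtain ⟨b, hb, hyb⟩ := z_of_W D ((W D).mul_mem hyw ((W D).inv_mem hw)) (by
    rw [u_mul D (hn.fwd w hwQ) (inv_mem hwQ), u_inv D hwQ, hu, Field.add_self])
  -- `w y w⁻¹ = z b y`
  have hwy : w * y * w⁻¹ = D.z b * y := by
    have e1 : y * w * y⁻¹ = D.z b * w := by rw [← hyb]; group
    have e2 : y * w = D.z b * w * y := by rw [← e1]; group
    have e3 : w * y = D.z b * (y * w) := by
      rw [e2, ← mul_assoc, ← mul_assoc, z_self, one_mul]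
    rw [e3]; group
  have hzy : y * D.z b = D.z b * y := mul_inv_eq_iff_eq_mul.mp (h2 b)
  have e : w * (y * y) * w⁻¹ = y * y := by
    have e1 : w * (y * y) * w⁻¹ = (w * y * w⁻¹) * (w * y * w⁻¹) := by group
    rw [e1, hwy]
    calc D.z b * y * (D.z b * y) = D.z b * (y * D.z b) * y := by group
      _ = (D.z b * D.z b) * (y * y) := by rw [hzy]; group
      _ = y * y := by rw [z_self, one_mul]
  rw [hyy, LevelOne.u_conj D hwQ, uw] at e
  have e' : D.z 1 = 1 := mul_eq_right.mp e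
  exact one_ne_zero (D.z_inj 1 (bar_one n) e')

/-- **the outer coset contains involutions** -/
theorem exists_invol (hn : ∀ s ∈ F.Sg, _root_.Cfsg.Agent.StdU3.NormQ.Norm D s) {x : G} (hx : x ∈ F.Sg)
    (hch : ch F x = barE D.hq) : ∃ p ∈ D.P, (p * x) * (p * x) = 1 := by
  obtain ⟨p, hp, h | h⟩ := exists_sq F hx hch
  · exact ⟨p, hp, h⟩
  · exfalso
    have hm : p * x ∈ F.Sg := mul_mem (F.P_Sg hp) hx
    refine sq_ne_t F hm (hn _ hm) ?_ h
    rw [ch_mul F (P_t hp) (F.Sg_t x hx), ch_P F hp, one_mul, hch]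

/-- `t` is not a square in `Sg / P`. -/
theorem sq_t_not_P (hn : ∀ s ∈ F.Sg, _root_.Cfsg.Agent.StdU3.NormQ.Norm D s) {x : G} (hx : x ∈ F.Sg) : x * x * D.t ∉ D.P := by
  intro h
  have hxt := F.Sg_t x hx
  have key : x * x ∈ D.P → False := by
    intro h1
    exact D.t_not (by
      have := mul_mem (inv_mem h1) h
      rwa [inv_mul_cancel_left] at this)
  have hch2 : ch F x * ch F x = 1 := by
    rw [← ch_mul F hxt hxt]
    have h1 := ch_P F h
    rw [ch_mul F (comm_mul hxt hxt) rfl, ch_t, mul_one] at h1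
    exact h1
  by_cases hch : ch F x = 1
  · rcases ch_ker F hx hch with h1 | h1
    · exact key (mul_mem h1 h1)
    · apply key
      have e : x * x = (x * D.t) * (x * D.t) := by
        calc x * x = x * (D.t * D.t) * x := by rw [D.t_sq, mul_one]
          _ = (x * D.t) * (D.t * x) := by group
          _ = _ := by rw [← hxt]
      rw [e]; exact mul_mem h1 h1
  · have hb := eq_bar D.hq hch2 hch
    obtain ⟨p, hp, hpx⟩ := exists_invol F hn hx hb
    apply key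
    have e : x * x = p⁻¹ * ((p * x) * p⁻¹ * (p * x)⁻¹) * ((p * x) * (p * x)) := by group
    rw [e, hpx, mul_one]
    exact mul_mem (inv_mem hp) (F.Sg_P _ (mul_mem (F.P_Sg hp) hx) _ (inv_mem hp))

end Cfsg.Agent.StdU3.OutInv
end

-- part: StdU3/EndN
section
/-!
# The end in the case where no outer involution of `C_G(t)` is conjugate to `t`

`S = U Sg` is a Sylow 2-subgroup of `G`, the conjugates of `t` in `S` are the `u t u⁻¹`, `u ∈ U`,
and `S ∩ E = U` for every perfect normal subgroup `E` containing `U`.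
-/

set_option autoImplicit false
set_option linter.unusedSectionVars false
set_option linter.dupNamespace false

namespace Cfsg.Agent.StdU3.EndN

open Subgroup Cfsg.Agent.StdU3.Field Cfsg.Agent.StdU3.PreDef Cfsg.Agent.StdU3.FldDef
open Cfsg.Agent.StdU3.LevelOne Cfsg.Agent.StdU3.FieldAut Cfsg.Agent.StdU3.Rank
open Cfsg.Agent.StdU3.OutInv Cfsg.Agent.StdU3.TermDef Cfsg.Agent.StdU3.LemC
open Cfsg.Agent.StdU3.NormQ hiding barE

variable {G : Type*} [Group G] [Finite G] {K : Type*} [Field K] [Fintype K] [CharP K 2] {n : ℕ}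
variable {D : Pre G K n} (F : Fld D) (T : Term D)

/-- `S = U Sg` -/
def S2 (hU : ∀ s ∈ F.Sg, ∀ g ∈ T.U, s * g * s⁻¹ ∈ T.U) : Subgroup G where
  carrier := {g | ∃ u ∈ T.U, ∃ s ∈ F.Sg, g = u * s}
  one_mem' := ⟨1, T.U.one_mem, 1, F.Sg.one_mem, by rw [one_mul]⟩
  mul_mem' := by
    rintro _ _ ⟨u, hu, s, hs, rfl⟩ ⟨u', hu', s', hs', rfl⟩
    exact ⟨u * (s * u' * s⁻¹), mul_mem hu (hU s hs u' hu'), s * s', mul_mem hs hs', by group⟩
  inv_mem' := by
    rintro _ ⟨u, hu, s, hs, rfl⟩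
    have h := hU s⁻¹ (inv_mem hs) u⁻¹ (inv_mem hu)
    exact ⟨s⁻¹ * u⁻¹ * s⁻¹⁻¹, h, s⁻¹, inv_mem hs, by group⟩

variable (hU : ∀ s ∈ F.Sg, ∀ g ∈ T.U, s * g * s⁻¹ ∈ T.U)

theorem U_le_S2 : T.U ≤ S2 F T hU := fun u hu => ⟨u, hu, 1, F.Sg.one_mem, by rw [mul_one]⟩

theorem Sg_le_S2 : F.Sg ≤ S2 F T hU := fun s hs => ⟨1, T.U.one_mem, s, hs, by rw [one_mul]⟩

theorem t_mem_S2 : D.t ∈ S2 F T hU := Sg_le_S2 F T hU F.t_Sg

theorem S2_two : IsPGroup 2 (S2 F T hU) := by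
  have h : IsPGroup 2 (T.U ⊔ F.Sg : Subgroup G) := by
    apply IsPGroup.to_sup_of_normal_left' T.U_two F.Sg_two
    intro s hs
    rw [Subgroup.mem_normalizer_iff]
    intro g
    constructor
    · exact hU s hs g
    · intro hg
      have := hU s⁻¹ (inv_mem hs) _ hg
      have e : s⁻¹ * (s * g * s⁻¹) * s⁻¹⁻¹ = g := by group
      rwa [e] at this
  refine h.to_le ?_
  rintro _ ⟨u, hu, s, hs, rfl⟩
  exact (T.U ⊔ F.Sg).mul_mem (le_sup_left (a := T.U) hu) (le_sup_right (a := T.U) hs)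

theorem U_inf_Sg {g : G} (hg : g ∈ T.U) (hs : g ∈ F.Sg) : g ∈ D.P := T.comm_t g hg (F.Sg_t g hs)

theorem comm_S2 {g : G} (hg : g ∈ S2 F T hU) (hgt : g * D.t = D.t * g) : g ∈ F.Sg := by
  obtain ⟨u, hu, s, hs, rfl⟩ := hg
  have h1 : u * D.t = D.t * u := by
    have e : u = (u * s) * s⁻¹ := by group
    rw [e]
    exact comm_mul hgt (comm_inv (F.Sg_t s hs))
  exact mul_mem (F.P_Sg (T.comm_t u hu h1)) hs

theorem t_ne_one : D.t ≠ 1 := fun h => D.t_not (h ▸ D.P.one_mem)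

/-- an elementary abelian group `B` and a commuting involution `d ∉ B`. -/
theorem exists_double {B : Subgroup G} {d : G} (hB2 : ∀ b ∈ B, b * b = 1) (hgg : d * d = 1)
    (hBc : ∀ b ∈ B, b * d = d * b) (hnB : d ∉ B) :
    ∃ B' : Subgroup G, (∀ b ∈ B', b * b = 1) ∧ (∀ b ∈ B', b * d = d * b) ∧
      2 * Nat.card B ≤ Nat.card B' := by
  have hdi : d⁻¹ = d := by rw [inv_eq_iff_mul_eq_one, hgg]
  -- `b d ∈ B` implies that `b` commutes with `d`
  have hcc : ∀ b, b * d ∈ B → b * d = d * b := by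
    intro b hb
    have e3 := hBc _ hb
    have e4 : b = d * (b * d) := by rw [← e3, mul_assoc, hgg, mul_one]
    calc b * d = d * (b * d) * d := by rw [← e4]
      _ = d * (b * (d * d)) := by group
      _ = d * b := by rw [hgg, mul_one]
  have hmm : ∀ a b, b * d ∈ B → a * b = (a * d) * (b * d) := by
    intro a b hb
    rw [hcc b hb]
    calc a * b = a * (d * d) * b := by rw [hgg, mul_one]
      _ = a * d * (d * b) := by group
  let B' : Subgroup G :=
    { carrier := {g | g ∈ B ∨ g * d ∈ B}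
      one_mem' := Or.inl B.one_mem
      mul_mem' := by
        rintro a b (ha | ha) (hb' | hb')
        · exact Or.inl (B.mul_mem ha hb')
        · right
          rw [mul_assoc]; exact B.mul_mem ha hb'
        · right
          have e1 : a * b * d = (a * d) * b := by
            rw [mul_assoc, hBc b hb', ← mul_assoc]
          rw [e1]; exact B.mul_mem ha hb'
        · left
          rw [hmm a b hb']; exact B.mul_mem ha hb'
      inv_mem' := by
        rintro a (ha | ha)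
        · exact Or.inl (B.inv_mem ha)
        · right
          have e5 : a⁻¹ * d = (a * d)⁻¹ := by
            rw [hcc a ha, mul_inv_rev, hdi]
          rw [e5]; exact B.inv_mem ha }
  refine ⟨B', ?_, ?_, ?_⟩
  · rintro b (hb' | hb')
    · exact hB2 b hb'
    · rw [hmm b b hb', hB2 _ hb']
  · rintro b (hb' | hb')
    · exact hBc b hb'
    · exact hcc b hb'
  · have h5 : (B : Set G) ∪ (fun g => g * d) '' (B : Set G) ⊆ (B' : Set G) := by
      rintro g (hg | ⟨b, hb', rfl⟩)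
      · exact Or.inl hg
      · right
        show b * d * d ∈ B
        rw [mul_assoc, hgg, mul_one]; exact hb'
    have h6 : Disjoint (B : Set G) ((fun g => g * d) '' (B : Set G)) := by
      rw [Set.disjoint_left]
      rintro g hg ⟨b, hb', rfl⟩
      apply hnB
      have : d = b⁻¹ * (b * d) := by group
      rw [this]
      exact B.mul_mem (B.inv_mem hb') hg
    have h7 := Set.ncard_le_ncard h5 (Set.toFinite _)
    rw [Set.ncard_union_eq h6 (Set.toFinite _) (Set.toFinite _),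
      Set.ncard_image_of_injective _ (mul_left_injective d)] at h7
    have h8 : Nat.card B = (B : Set G).ncard := rfl
    have h9 : Nat.card B' = (B' : Set G).ncard := rfl
    omega

/-! ### The conjugates of `t` in `S` -/

/-- outer involutions are not conjugate to `t` -/
def NoOut : Prop := ∀ x ∈ F.Sg, x * x = 1 → ch F x = barE D.hq → ∀ y, y * D.t * y⁻¹ ≠ x

include F in
theorem U_not_conj {g : G} (hg : g ∈ T.U) (y : G) : y * D.t * y⁻¹ ≠ g := by
  intro h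
  have hgg : g * g = 1 := by
    rw [← h]
    have : y * D.t * y⁻¹ * (y * D.t * y⁻¹) = y * (D.t * D.t) * y⁻¹ := by group
    rw [this, D.t_sq]; group
  by_cases hz : ∃ b, g = D.z b
  · obtain ⟨b, rfl⟩ := hz
    exact z_not_conj F P_two b y h
  · push Not at hz
    obtain ⟨C, hCU, hC, hC3, B, hBC, hB2, hcen, hB⟩ := T.two g hg hgg hz
    refine false_of_big F (T.U_two.to_le hCU) hBC hB2 hcen hC3 hB (y := y) ?_
    intro c hc
    rw [h]; exact hC c hc

variable (hn : ∀ s ∈ F.Sg, _root_.Cfsg.Agent.StdU3.NormQ.Norm D s)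

include hn in
theorem exists_conj_of_mem (hno : NoOut F) {g y : G} (hg : g ∈ S2 F T hU)
    (h : y * D.t * y⁻¹ = g) : ∃ u ∈ T.U, u * D.t * u⁻¹ = g := by
  obtain ⟨u, hu, s, hs, rfl⟩ := hg
  have hst := F.Sg_t s hs
  have hgg : (u * s) * (u * s) = 1 := by
    rw [← h]
    have : y * D.t * y⁻¹ * (y * D.t * y⁻¹) = y * (D.t * D.t) * y⁻¹ := by group
    rw [this, D.t_sq]; group
  -- `s²` is in `P`
  have hss : s * s ∈ D.P := by
    apply U_inf_Sg F T _ (mul_mem hs hs)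
    have e : s * s = (s * u * s⁻¹)⁻¹ * u⁻¹ := by
      have e1 : u * (s * u * s⁻¹) * (s * s) = 1 := by rw [← hgg]; group
      have e2 : s * s = (u * (s * u * s⁻¹))⁻¹ := by
        rw [eq_inv_iff_mul_eq_one]
        have e3 := e1
        have e4 : s * s * (u * (s * u * s⁻¹)) = 1 := by
          have := mul_eq_one_iff_eq_inv.mp e1
          rw [this]; group
        exact e4
      rw [e2, mul_inv_rev]
    rw [e]
    exact mul_mem (inv_mem (hU s hs u hu)) (inv_mem hu)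
  have hch2 : ch F s * ch F s = 1 := by rw [← ch_mul F hst hst, ch_P F hss]
  by_cases hch : ch F s = 1
  · rcases ch_ker F hs hch with h1 | h1
    · exact absurd h (U_not_conj F T (mul_mem hu (T.P_le h1)) y)
    · have e : u * s = (u * (s * D.t)) * D.t := by
        rw [mul_assoc, mul_assoc, D.t_sq, mul_one]
      have hg' : u * (s * D.t) ∈ T.U := mul_mem hu (T.P_le h1)
      rw [e] at h hgg ⊢
      rcases T.three _ hg' hgg with h2 | h2
      · exact h2
      · exact absurd h (h2 y)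
  · have hb := eq_bar D.hq hch2 hch
    exfalso
    obtain ⟨p, hp, hpx⟩ := exists_invol F hn hs hb
    have hxs : p * s ∈ F.Sg := mul_mem (F.P_Sg hp) hs
    have hxt := F.Sg_t _ hxs
    have hxch : ch F (p * s) = barE D.hq := by
      rw [ch_mul F (P_t hp) hst, ch_P F hp, one_mul, hb]
    obtain ⟨c, hc, hNc, h1, h2⟩ := outer_ca F hxs hxch
    have e : u * s = (u * p⁻¹) * (p * s) := by group
    have hup : u * p⁻¹ ∈ T.U := mul_mem hu (inv_mem (T.P_le hp))
    rw [e] at h hgg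
    rcases T.four (p * s) hxt hpx ⟨c, fun q hq => ⟨F.Sg_P _ hxs q hq, h1 q hq⟩⟩
      (fun g hg => hU _ hxs g hg) _ hup hgg with ⟨v, hv, h3⟩ | ⟨B, hBU, hB2, hBc, hBB, hnB, hB⟩
    · refine hno (p * s) hxs hpx hxch (v⁻¹ * y) ?_
      have e1 : v⁻¹ * y * D.t * (v⁻¹ * y)⁻¹ = v⁻¹ * (y * D.t * y⁻¹) * v := by group
      rw [e1, h, ← h3]; group
    · obtain ⟨B', hB'2, hB'c, hcard2⟩ := exists_double hB2 hgg hBc hnB
      have hcard := card_elem F (y := y) hB'2 (by rw [h]; exact hB'c)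
      have h4 := four_le D.hq
      have h10 : 2 * (2 ^ n * 2 ^ n) ≤ 4 * 2 ^ n := by
        rw [← sq]
        omega
      have h11 : 4 * (2 ^ n * 2) ≤ 4 * 2 ^ n := by nlinarith only [hB, hcard2, hcard, h4]
      omega

/-! ### `S` is a Sylow 2-subgroup of `G` -/

/-- 2-subgroups of `C(t)` containing `Sg` are equal to `Sg`. -/
theorem Sg_max {R : Subgroup G} (hR : IsPGroup 2 R) (hRt : ∀ r ∈ R, r * D.t = D.t * r)
    (h : F.Sg ≤ R) : R = F.Sg := by
  obtain ⟨g, _, hg⟩ := F.Sg_conj R hR hRt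
  have h1 : R.map (MulAut.conj g⁻¹).toMonoidHom ≤ F.Sg := by
    rintro _ ⟨r, hr, rfl⟩
    have := hg r hr
    simpa only [_root_.map_inv, _root_.MulEquiv.toMonoidHom_eq_coe, _root_.MonoidHom.coe_coe, _root_.MulAut.inv_apply, _root_.MulAut.conj_symm_apply] using this
  have h2 := Subgroup.card_le_of_le h1
  rw [Subgroup.card_map_of_injective (MulAut.conj g⁻¹).injective] at h2
  exact (Subgroup.eq_of_le_of_card_ge h h2).symm

include hn in
theorem exists_sylow (hno : NoOut F) : ∃ S : Sylow 2 G, (S : Subgroup G) = S2 F T hU := by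
  obtain ⟨S, hS⟩ := (S2_two F T hU).exists_le_sylow
  refine ⟨S, ?_⟩
  by_contra hne
  have hlt : S2 F T hU < S := lt_of_le_of_ne hS (fun h => hne h.symm)
  have : Fact (Nat.Prime 2) := ⟨Nat.prime_two⟩
  have h1 := Lib.GoldschmidtFusion.lt_inf_normalizer S.isPGroup' hlt
  obtain ⟨g, hg, hgn⟩ := SetLike.exists_of_lt h1
  have hgS : g ∈ (S : Subgroup G) := hg.1
  have hgt : g * D.t * g⁻¹ ∈ S2 F T hU := by
    have := (Subgroup.mem_normalizer_iff.mp hg.2 D.t).mp (t_mem_S2 F T hU)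
    exact this
  obtain ⟨u, hu, h2⟩ := exists_conj_of_mem F T hU hn hno hgt rfl
  have huS : u ∈ (S : Subgroup G) := hS (U_le_S2 F T hU hu)
  have hc : (u⁻¹ * g) * D.t = D.t * (u⁻¹ * g) := by
    have e : u⁻¹ * g * D.t = u⁻¹ * (g * D.t * g⁻¹) * g := by group
    rw [e, ← h2]; group
  have hR : (S : Subgroup G) ⊓ centralizer ({D.t} : Set G) = F.Sg := by
    apply Sg_max F (S.isPGroup'.to_le inf_le_left)
    · rintro r ⟨_, hr⟩
      exact mem_centralizer_singleton_iff.mp hr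
    · intro s hs
      exact ⟨hS (Sg_le_S2 F T hU hs), mem_cent (F.Sg_t s hs)⟩
  have hcS : u⁻¹ * g ∈ F.Sg := by
    rw [← hR]
    exact ⟨Subgroup.mul_mem _ (Subgroup.inv_mem _ huS) hgS, mem_cent hc⟩
  apply hgn
  exact ⟨u, hu, u⁻¹ * g, hcS, by group⟩

/-! ### `t` is not in a perfect normal subgroup -/

include hn in
theorem exists_f : ∃ f ∈ F.Sg, (∀ s ∈ F.Sg, ∃ k : ℤ, s * f ^ k ∈ D.P ∨ s * f ^ k * D.t ∈ D.P) ∧
    ∀ k : ℤ, f ^ k * D.t ∉ D.P := by
  have := isCyclic (F := K)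
  let c : F.Sg →* (K ≃+* K) :=
    { toFun := fun b => ch F b
      map_one' := ch_one F
      map_mul' := fun a b => ch_mul F (F.Sg_t a a.2) (F.Sg_t b b.2) }
  obtain ⟨⟨g0, f0, hf0⟩, hgen⟩ := (inferInstance : IsCyclic c.range).exists_generator
  have hc : ∀ x : F.Sg, c x = ch F x := fun _ => rfl
  have key : ∀ s ∈ F.Sg, ∃ k : ℤ, s * (f0 : G) ^ k ∈ D.P ∨ s * (f0 : G) ^ k * D.t ∈ D.P := by
    intro s hs
    obtain ⟨k, hk⟩ := Subgroup.mem_zpowers_iff.mp (hgen ⟨c ⟨s, hs⟩, ⟨s, hs⟩, rfl⟩)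
    have hk' : g0 ^ k = c ⟨s, hs⟩ := congrArg Subtype.val hk
    rw [← hf0, ← map_zpow] at hk'
    refine ⟨-k, ?_⟩
    have h1 : c (⟨s, hs⟩ * f0 ^ (-k)) = 1 := by
      rw [map_mul, ← hk', zpow_neg, map_inv, mul_inv_cancel]
    exact ch_ker F (⟨s, hs⟩ * f0 ^ (-k) : F.Sg).2 h1
  by_cases hone : ch F f0 = 1
  · refine ⟨1, F.Sg.one_mem, fun s hs => ⟨0, ?_⟩, fun k => ?_⟩
    · rw [zpow_zero, mul_one]
      obtain ⟨k, hk⟩ := key s hs
      have h1 : ch F s = 1 := by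
        have h2 : ch F (s * (f0 : G) ^ k) = 1 := by
          rcases hk with h | h
          · exact ch_P F h
          · have e : s * (f0 : G) ^ k = s * (f0 : G) ^ k * D.t * D.t := by
              rw [mul_assoc (s * (f0 : G) ^ k), D.t_sq, mul_one]
            rw [e, ch_mul F (P_t h) rfl, ch_P F h, ch_t, one_mul]
        have h3 : c (⟨s, hs⟩ * f0 ^ k) = 1 := h2
        have h4 : c f0 = 1 := hone
        rw [map_mul, map_zpow, h4, one_zpow, mul_one] at h3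
        exact h3
      exact ch_ker F hs h1
    · rw [one_zpow, one_mul]; exact D.t_not
  · refine ⟨f0, f0.2, key, fun k hk => ?_⟩
    have h1 : c (f0 ^ k) = 1 := by
      show ch F ((f0 : G) ^ k) = 1
      have e : (f0 : G) ^ k = (f0 : G) ^ k * D.t * D.t := by
        rw [mul_assoc, D.t_sq, mul_one]
      rw [e, ch_mul F (P_t hk) rfl, ch_P F hk, ch_t, one_mul]
    rw [map_zpow] at h1
    have h2 := orderOf_dvd_iff_zpow_eq_one.mpr h1
    have h3 : 2 ∣ orderOf (c f0) := by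
      obtain ⟨m, hm⟩ := F.Sg_two f0
      have h4 : c f0 ^ 2 ^ m = 1 := by rw [← map_pow, hm, map_one]
      obtain ⟨j, hj, hj'⟩ := (Nat.dvd_prime_pow Nat.prime_two).mp (orderOf_dvd_of_pow_eq_one h4)
      rw [hj']
      apply dvd_pow_self
      rintro rfl
      rw [pow_zero, orderOf_eq_one_iff] at hj'
      exact hone hj'
    have h4 : (2 : ℤ) ∣ k := (Int.natCast_dvd_natCast.mpr h3).trans h2
    obtain ⟨j, rfl⟩ := h4
    apply sq_t_not_P F hn (x := (f0 : G) ^ j) (zpow_mem f0.2 j)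
    have e : (f0 : G) ^ j * (f0 : G) ^ j = (f0 : G) ^ (2 * j) := by
      rw [← zpow_add]; congr 1; ring
    rw [e]; exact hk

/-- the subgroup of index two of `S` avoiding the conjugates of `t` -/
def M0 (hU : ∀ s ∈ F.Sg, ∀ g ∈ T.U, s * g * s⁻¹ ∈ T.U) (f : G) (hf : f ∈ F.Sg) : Subgroup G where
  carrier := {g | ∃ u ∈ T.U, ∃ k : ℤ, g = u * f ^ k}
  one_mem' := ⟨1, T.U.one_mem, 0, by rw [one_mul, zpow_zero]⟩
  mul_mem' := by
    rintro _ _ ⟨u, hu, k, rfl⟩ ⟨u', hu', k', rfl⟩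
    exact ⟨u * (f ^ k * u' * (f ^ k)⁻¹), T.U.mul_mem hu (hU _ (F.Sg.zpow_mem hf k) u' hu'),
      k + k', by rw [zpow_add]; group⟩
  inv_mem' := by
    rintro _ ⟨u, hu, k, rfl⟩
    have h := hU (f ^ (-k)) (F.Sg.zpow_mem hf _) u⁻¹ (T.U.inv_mem hu)
    exact ⟨f ^ (-k) * u⁻¹ * (f ^ (-k))⁻¹, h, -k, by group⟩

theorem commutator_le_of_perfect {E M : Subgroup G} [M.Normal] (hE : commutator E = ⊤)
    (hM : M.index = 2) : E ≤ M := by
  have h1 : IsMulCommutative (G ⧸ M) := by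
    have h2 : Nat.card (G ⧸ M) = 2 := hM
    have : Fact (Nat.Prime 2) := ⟨Nat.prime_two⟩
    have h3 : IsCyclic (G ⧸ M) := isCyclic_of_prime_card h2
    exact ⟨⟨fun a b => (@IsCyclic.commGroup _ _ h3).mul_comm a b⟩⟩
  let φ : E →* (G ⧸ M) := (QuotientGroup.mk' M).comp E.subtype
  have h2 : commutator E ≤ φ.ker := by
    rw [commutator_def, Subgroup.commutator_le]
    intro a _ b _
    rw [MonoidHom.mem_ker, map_commutatorElement, commutatorElement_eq_one_iff_mul_comm]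
    exact h1.is_comm.comm _ _
  intro e he
  have h3 : (⟨e, he⟩ : E) ∈ φ.ker := h2 (by rw [hE]; exact Subgroup.mem_top _)
  have h4 : (QuotientGroup.mk' M) e = 1 := h3
  rwa [← MonoidHom.mem_ker, QuotientGroup.ker_mk'] at h4

include F hn hU in
theorem t_not_mem (hno : NoOut F) {E : Subgroup G} (hE : commutator E = ⊤) : D.t ∉ E := by
  obtain ⟨S, hS⟩ := exists_sylow F T hU hn hno
  obtain ⟨f, hf, hf1, hf2⟩ := exists_f F hn
  have htM : D.t ∉ M0 F T hU f hf := by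
    rintro ⟨u, hu, k, h⟩
    have h1 : u = D.t * f ^ (-k) := by rw [h]; group
    have h2 : u ∈ D.P := U_inf_Sg F T hu (by rw [h1]; exact F.Sg.mul_mem F.t_Sg (F.Sg.zpow_mem hf _))
    apply hf2 (-k)
    have h3 : f ^ (-k) * D.t = u := by
      rw [h1, F.Sg_t _ (zpow_mem hf _)]
    rw [h3]; exact h2
  have hMS : M0 F T hU f hf ≤ (S : Subgroup G) := by
    rintro _ ⟨u, hu, k, rfl⟩
    rw [hS]
    exact ⟨u, hu, _, zpow_mem hf k, rfl⟩
  have hidx : (M0 F T hU f hf).relIndex (S : Subgroup G) = 2 := by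
    rw [Subgroup.relIndex_eq_two_iff_exists_notMem_and]
    refine ⟨D.t, by rw [hS]; exact t_mem_S2 F T hU, htM, ?_⟩
    intro b hb
    rw [hS] at hb
    obtain ⟨u, hu, s, hs, rfl⟩ := hb
    obtain ⟨k, hk | hk⟩ := hf1 s hs
    · right
      have e : u * s = (u * (s * f ^ k)) * f ^ (-k) := by group
      rw [e]
      exact ⟨_, mul_mem hu (T.P_le hk), -k, rfl⟩
    · left
      have e : u * s * D.t = (u * (s * f ^ k * D.t)) * f ^ (-k) := by
        have e1 : f ^ k * D.t * f ^ (-k) = D.t := by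
          rw [F.Sg_t _ (zpow_mem hf k)]; group
        calc u * s * D.t = u * s * (f ^ k * D.t * f ^ (-k)) := by rw [e1]
          _ = _ := by group
      rw [e]
      exact ⟨_, mul_mem hu (T.P_le hk), -k, rfl⟩
  have hord : orderOf D.t = 2 := orderOf_eq_prime (by rw [sq, D.t_sq]) (t_ne_one)
  rcases Cfsg.Agent.S0111.result S (M0 F T hU f hf) hMS hidx D.t hord
    (by rw [hS]; exact t_mem_S2 F T hU) htM with ⟨M, hMn, hM2, htM'⟩ | ⟨g, hg⟩
  · intro ht
    exact htM' (commutator_le_of_perfect hE hM2 ht)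
  · exfalso
    have hg2 : g * D.t * g⁻¹ ∈ S2 F T hU := by rw [← hS]; exact hMS hg
    obtain ⟨u, hu, h1⟩ := exists_conj_of_mem F T hU hn hno hg2 rfl
    rw [← h1] at hg
    apply htM
    have h2 : u⁻¹ ∈ M0 F T hU f hf := ⟨u⁻¹, inv_mem hu, 0, by rw [zpow_zero, mul_one]⟩
    have h3 := mul_mem (mul_mem h2 hg) (inv_mem h2)
    have e : u⁻¹ * (u * D.t * u⁻¹) * u⁻¹⁻¹ = D.t := by group
    rwa [e] at h3

/-! ### Twisted transfer -/

open Classical in
/-- the Galois component on `S`. -/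
noncomputable def kap (g : G) : K ≃+* K :=
  if h : g ∈ S2 F T hU then ch F (Classical.choose (Classical.choose_spec h).2) else 1

theorem kap_eq {u s : G} (hu : u ∈ T.U) (hs : s ∈ F.Sg) : kap F T hU (u * s) = ch F s := by
  have h : u * s ∈ S2 F T hU := ⟨u, hu, s, hs, rfl⟩
  unfold kap
  rw [dif_pos h]
  set! u' := Classical.choose h with hu'
  have h1 := Classical.choose_spec h
  set s' := Classical.choose h1.2 with hs'
  obtain ⟨h3, h4⟩ := Classical.choose_spec h1.2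
  change s' ∈ F.Sg at h3
  change u * s = u' * s' at h4
  have h5 : u'⁻¹ * u = s' * s⁻¹ := by
    rw [inv_mul_eq_iff_eq_mul, ← mul_assoc, ← h4]; group
  have h6 : s' * s⁻¹ ∈ D.P := by
    apply U_inf_Sg F T _ (mul_mem h3 (inv_mem hs))
    rw [← h5]
    exact mul_mem (inv_mem h1.1) hu
  have h7 : s' = (s' * s⁻¹) * s := by group
  rw [h7, ch_mul F (P_t h6) (F.Sg_t s hs), ch_P F h6, one_mul]

theorem kap_mul {g g' : G} (hg : g ∈ S2 F T hU) (hg' : g' ∈ S2 F T hU) :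
    kap F T hU (g * g') = kap F T hU g * kap F T hU g' := by
  obtain ⟨u, hu, s, hs, rfl⟩ := hg
  obtain ⟨u', hu', s', hs', rfl⟩ := hg'
  have e : u * s * (u' * s') = (u * (s * u' * s⁻¹)) * (s * s') := by group
  rw [e, kap_eq F T hU (mul_mem hu (hU s hs u' hu')) (mul_mem hs hs'), kap_eq F T hU hu hs,
    kap_eq F T hU hu' hs', ch_mul F (F.Sg_t s hs) (F.Sg_t s' hs')]

theorem kap_t {g : G} (hg : g ∈ S2 F T hU) : kap F T hU (D.t * g * D.t⁻¹) = kap F T hU g := by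
  obtain ⟨u, hu, s, hs, rfl⟩ := hg
  have e : D.t * (u * s) * D.t⁻¹ = (D.t * u * D.t⁻¹) * s := by
    have : D.t * (u * s) * D.t⁻¹ = (D.t * u * D.t⁻¹) * (D.t * s * D.t⁻¹) := by group
    rw [this, ← F.Sg_t s hs]; group
  rw [e, kap_eq F T hU (T.t_conj u hu) hs, kap_eq F T hU hu hs]

theorem kap_Sg {s : G} (hs : s ∈ F.Sg) : kap F T hU s = ch F s := by
  have h := kap_eq F T hU T.U.one_mem hs
  rwa [one_mul] at h

/-- the fixed points of `t` in `E` -/
def fix (D : Pre G K n) (E : Subgroup G) : Subgroup E where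
  carrier := {x | (x : G) * D.t = D.t * x}
  one_mem' := by show (1 : G) * D.t = D.t * 1; rw [one_mul, mul_one]
  mul_mem' := by
    intro a b ha hb
    exact comm_mul ha hb
  inv_mem' := by
    intro a ha
    exact comm_inv ha

include F hn hU in
/-- **`S ∩ E = U`** -/
theorem inf_eq (hno : NoOut F) {E : Subgroup G} [hEn : E.Normal] (hE : commutator E = ⊤)
    (hUE : T.U ≤ E) {g : G} (hg : g ∈ S2 F T hU) (hgE : g ∈ E) : g ∈ T.U := by
  classical
  obtain ⟨S, hS⟩ := exists_sylow F T hU hn hno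
  have htE := t_not_mem F T hU hn hno hE
  let _ : CommGroup (K ≃+* K) :=
    { (inferInstance : Group (K ≃+* K)) with mul_comm := fun a b => FieldAut.comm a b }
  -- the involutory automorphism
  let τ : E ≃* E := MulAut.conjNormal D.t
  have hτ' : ∀ x : E, ((τ x : E) : G) = D.t * x * D.t⁻¹ := fun x => rfl
  have hτ : ∀ x, τ (τ x) = x := by
    intro x
    apply Subtype.ext
    rw [hτ', hτ']
    have : D.t * (D.t * (x : G) * D.t⁻¹) * D.t⁻¹ = (D.t * D.t) * x * (D.t * D.t)⁻¹ := by group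
    rw [this, D.t_sq]; group
  let H : Subgroup E := (S : Subgroup G).subgroupOf E
  have hHS : ∀ x : E, x ∈ H ↔ (x : G) ∈ S2 F T hU := by
    intro x
    rw [← hS]; rfl
  have htS := t_mem_S2 F T hU
  have hH : ∀ x ∈ H, τ x ∈ H := by
    intro x hx
    rw [hHS] at hx ⊢
    rw [hτ']
    exact mul_mem (mul_mem htS hx) (inv_mem htS)
  have hidx : Odd H.index := by
    apply TransferTE.odd_index_subgroupOf
    rw [← Nat.not_even_iff_odd, even_iff_two_dvd]
    have : Fact (Nat.Prime 2) := ⟨Nat.prime_two⟩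
    exact S.not_dvd_index
  have hrep : ∀ x, x⁻¹ * τ x ∈ H → ∃ h ∈ H, τ (x * h) = x * h := by
    intro x hx
    rw [hHS] at hx
    have h1 : (x : G)⁻¹ * D.t * x ∈ S2 F T hU := by
      have h2 := mul_mem hx htS
      have e : ((x⁻¹ * τ x : E) : G) * D.t = (x : G)⁻¹ * D.t * x := by
        show (x : G)⁻¹ * (D.t * x * D.t⁻¹) * D.t = _
        group
      rwa [e] at h2
    obtain ⟨u, hu, h2⟩ := exists_conj_of_mem F T hU hn hno h1 (y := (x : G)⁻¹) (by group)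
    refine ⟨⟨u, hUE hu⟩, ?_, ?_⟩
    · rw [hHS]; exact U_le_S2 F T hU hu
    · apply Subtype.ext
      rw [hτ']
      show D.t * ((x : G) * u) * D.t⁻¹ = x * u
      have e : D.t * ((x : G) * u) * D.t⁻¹ = x * ((x : G)⁻¹ * D.t * x) * u * D.t⁻¹ := by group
      rw [e, ← h2]; group
  -- the target
  let C : Subgroup E := fix D E
  let chC : C →* (K ≃+* K) :=
    { toFun := fun x => ch F ((x : E) : G)
      map_one' := ch_one F
      map_mul' := fun a b => ch_mul F a.2 b.2 }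
  let Γ2 : Subgroup (K ≃+* K) := chC.range.map (powMonoidHom 2)
  let φ : H →* (K ≃+* K) ⧸ Γ2 :=
    (QuotientGroup.mk' Γ2).comp
      { toFun := fun x => kap F T hU ((x : E) : G)
        map_one' := by
          show kap F T hU 1 = 1
          rw [kap_Sg F T hU F.Sg.one_mem, ch_one]
        map_mul' := fun a b => kap_mul F T hU ((hHS _).mp a.2) ((hHS _).mp b.2) }
  let χ : C →* (K ≃+* K) ⧸ Γ2 := (QuotientGroup.mk' Γ2).comp chC
  have hφ : ∀ x (hx : x ∈ H), φ ⟨x, hx⟩ = QuotientGroup.mk' Γ2 (kap F T hU (x : G)) :=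
    fun _ _ => rfl
  have hpair : ∀ x (hx : x ∈ H), φ ⟨x, hx⟩ * φ ⟨τ x, hH x hx⟩ = 1 := by
    intro x hx
    rw [hφ, hφ, ← map_mul]
    have hx' := (hHS x).mp hx
    have e : kap F T hU ((τ x : E) : G) = kap F T hU (x : G) := by
      rw [hτ']; exact kap_t F T hU hx'
    rw [e, ← sq]
    obtain ⟨u, hu, s, hs, hus⟩ := hx'
    have hsE : s ∈ E := by
      have e : s = u⁻¹ * x := by rw [hus]; group
      rw [e]; exact mul_mem (inv_mem (hUE hu)) x.2
    rw [hus, kap_eq F T hU hu hs, ← MonoidHom.mem_ker, QuotientGroup.ker_mk']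
    refine ⟨ch F s, ⟨⟨⟨s, hsE⟩, F.Sg_t s hs⟩, rfl⟩, rfl⟩
  have hC : ∀ x, x ∈ C ↔ τ x = x := by
    intro x
    rw [Subtype.ext_iff, hτ']
    show (x : G) * D.t = D.t * x ↔ _
    rw [mul_inv_eq_iff_eq_mul]
    exact eq_comm
  have hχ : ∀ x (hx : x ∈ C) (hxH : x ∈ H), χ ⟨x, hx⟩ = φ ⟨x, hxH⟩ := by
    intro x hx hxH
    show QuotientGroup.mk' Γ2 (ch F (x : G)) = QuotientGroup.mk' Γ2 (kap F T hU (x : G))
    rw [kap_Sg F T hU (comm_S2 F T hU ((hHS x).mp hxH) hx)]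
  obtain ⟨m, hm, hmC⟩ := TwistedTransfer.transfer_eq_pow τ hτ H hH hidx hrep φ hpair C hC χ hχ
  -- the transfer is trivial
  have htr : ∀ x, φ.transfer x = 1 := by
    intro x
    have h1 : _root_.commutator E ≤ φ.transfer.ker := by
      rw [commutator_def, Subgroup.commutator_le]
      intro a _ b _
      rw [MonoidHom.mem_ker, map_commutatorElement, commutatorElement_eq_one_iff_mul_comm]
      exact mul_comm _ _
    rw [hE] at h1
    exact h1 (Subgroup.mem_top x)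
  have hΓ : ∀ γ ∈ chC.range, γ ∈ Γ2 := by
    rintro _ ⟨x, rfl⟩
    have h1 : χ x ^ m = 1 := by
      have := hmC x x.2
      rw [htr] at this
      exact this.symm
    have h2 : χ x ^ 2 = 1 := by
      rw [← map_pow, ← MonoidHom.mem_ker]
      show QuotientGroup.mk' Γ2 (chC (x ^ 2)) = 1
      rw [← MonoidHom.mem_ker, QuotientGroup.ker_mk', map_pow]
      exact ⟨chC x, ⟨x, rfl⟩, rfl⟩
    have h3 : χ x = 1 := by
      obtain ⟨j, rfl⟩ := hm
      rw [pow_succ, pow_mul, h2, one_pow, one_mul] at h1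
      exact h1
    have h4 : QuotientGroup.mk' Γ2 (chC x) = 1 := h3
    rwa [← MonoidHom.mem_ker, QuotientGroup.ker_mk'] at h4
  -- squaring is bijective on the range
  have := finite_aut (F := K)
  have hinj : ∀ γ ∈ chC.range, γ * γ = 1 → γ = 1 := by
    let sqf : chC.range → chC.range := fun γ => γ * γ
    have hsurj : Function.Surjective sqf := by
      rintro ⟨γ, hγ⟩
      obtain ⟨δ, hδ, h⟩ := hΓ γ hγ
      refine ⟨⟨δ, hδ⟩, Subtype.ext ?_⟩
      show δ * δ = γ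
      rw [← h]
      exact (sq δ).symm
    have hinj := Finite.injective_iff_surjective.mpr hsurj
    intro γ hγ h
    have h1 : sqf ⟨γ, hγ⟩ = sqf 1 := Subtype.ext (by
      show γ * γ = 1 * 1
      rw [h, one_mul])
    exact congrArg Subtype.val (hinj h1)
  have hpow : ∀ (k : ℕ) (γ : K ≃+* K), γ ∈ chC.range → γ ^ 2 ^ k = 1 → γ = 1 := by
    intro k
    induction k with
    | zero =>
      intro γ _ h
      rwa [pow_zero, pow_one] at h
    | succ k ih =>
      intro γ hγ h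
      apply hinj γ hγ
      apply ih _ (mul_mem hγ hγ)
      rw [← sq, ← pow_mul, ← pow_succ']
      exact h
  obtain ⟨u, hu, s, hs, rfl⟩ := hg
  have hsE : s ∈ E := by
    have e : s = u⁻¹ * (u * s) := by group
    rw [e]; exact mul_mem (inv_mem (hUE hu)) hgE
  have hs1 : ch F s = 1 := by
    obtain ⟨k, hk⟩ := F.Sg_two ⟨s, hs⟩
    have hk' : s ^ 2 ^ k = 1 := congrArg Subtype.val hk
    let x : C := ⟨⟨s, hsE⟩, F.Sg_t s hs⟩
    have hx : x ^ 2 ^ k = 1 := Subtype.ext (Subtype.ext hk')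
    apply hpow k _ ⟨x, rfl⟩
    rw [← map_pow, hx, map_one]
  rcases ch_ker F hs hs1 with h | h
  · exact mul_mem hu (T.P_le h)
  · exfalso
    apply htE
    have e : D.t = s⁻¹ * (s * D.t) := by group
    rw [e]
    exact mul_mem (inv_mem hsE) (hUE (T.P_le h))

end Cfsg.Agent.StdU3.EndN
end

-- part: StdU3/OuterEnd
section
/-!
# The involutions of the outer cosets, levels 1 and 2
-/

set_option autoImplicit false
set_option linter.unusedSectionVars false

namespace Cfsg.Agent.StdU3.OuterEnd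

open Cfsg.Agent.StdU3.Field Cfsg.Agent.StdU3.PreDef Cfsg.Agent.StdU3.LevelOne
open Cfsg.Agent.StdU3.LevelOneW Cfsg.Agent.StdU3.NormQ Cfsg.Agent.StdU3.Kernel
open Cfsg.Agent.StdU3.Next Cfsg.Agent.StdU3.LevelTwo Cfsg.Agent.StdU3.Outer

variable {G : Type*} [Group G] {K : Type*} [Field K] [Fintype K] [CharP K 2] {n : ℕ}
variable {D : Pre G K n} {O : Subgroup G}
variable {x : G} {c : K} (h : Out D x c)

/-- the elements of `V` over the line with trivial square. -/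
def B (D : Pre G K n) (c : K) (hc : N n c = 1) : Subgroup G where
  carrier := {k | k ∈ V D ∧ c * bar n (a D k) = a D k ∧ N n (a D k) = gam D * u D k}
  one_mem' := ⟨one_mem _, by rw [a_one, bar_zero, mul_zero], by
    rw [a_one, u_one, N_zero, mul_zero]⟩
  mul_mem' := by
    rintro k k' ⟨hk, h1, h2⟩ ⟨hk', h1', h2'⟩
    have hkQ := V_le D hk
    have hkQ' := V_le D hk'
    refine ⟨mul_mem hk hk', ?_, ?_⟩
    · rw [a_mul D hkQ hkQ', bar_add, mul_add, h1, h1']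
    · rw [a_mul D hkQ hkQ', u_mul D hkQ hkQ', N_add' D.hq, Tr_line D.hq hc h1 h1', add_zero,
        h2, h2', mul_add]
  inv_mem' := by
    rintro k ⟨hk, h1, h2⟩
    have hkQ := V_le D hk
    refine ⟨inv_mem hk, ?_, ?_⟩
    · rw [a_inv D hkQ, h1]
    · rw [a_inv D hkQ, u_inv D hkQ, h2]

theorem B_sq {hc : N n c = 1} {k : G} (hk : k ∈ B D c hc) : k * k = 1 := by
  obtain ⟨hkV, h1, h2⟩ := hk
  rw [sq_eq D (V_le D hkV), h2, add_self, e_zero D hkV, zero_mul, add_zero, z_zero]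

theorem B_comm {hc : N n c = 1} {k g : G} (hk : k ∈ B D c hc) (hg : g ∈ V D)
    (hgl : c * bar n (a D g) = a D g) : k * g = g * k := by
  obtain ⟨hkV, h1, h2⟩ := hk
  rw [comm_eq D (V_le D hkV) (V_le D hg), Tr_line D.hq hc h1 hgl, e_zero D hkV, e_zero D hg,
    zero_mul, zero_mul, add_zero, add_zero, z_zero, one_mul]

include h in
/-- `x` acts on `V`. -/
theorem conj_V_eq {r : K} (hr : ∀ y ∈ W D, x * y * x⁻¹ = D.z (r * u D y) * y) {g : G}
    (hg : g ∈ V D) (hgl : c * bar n (a D g) = a D g) :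
    x * g * x⁻¹ = D.z (N n (a D g) + r * u D g) * g := by
  obtain ⟨p, hp, y, hy, rfl⟩ := hg
  have hpQ := D.P_le hp
  have hyQ := W_le D hy
  rw [a_mul D hpQ hyQ, a_P D hp, a_W D hy, add_zero] at hgl ⊢
  rw [u_mul D hpQ hyQ, u_P D hp, zero_add, NormQ.conj_mul, h.inverts hp hgl, hr y hy, D.z_add]
  have h1 : p⁻¹ = D.z (N n (D.ca p)) * p := by
    rw [inv_eq_iff_mul_eq_one, ← D.Q_Z p hpQ, ← mul_assoc, D.P_sq p hp, z_self]
  rw [h1]
  have h2 : D.z (N n (D.ca p)) * p * (D.z (r * u D y) * y) =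
      D.z (N n (D.ca p)) * (p * D.z (r * u D y)) * y := by group
  rw [h2, D.Q_Z p hpQ]; group

include h in
theorem four_one_aux {r : K} (hrf : bar n r = r)
    (hr : ∀ y ∈ W D, x * y * x⁻¹ = D.z (r * u D y) * y) {g : G}
    (hg : g ∈ V D) (hgx : (g * x) * (g * x) = 1) :
    (∃ y ∈ V D, y * x * y⁻¹ = g * x) ∨
    (r = gam D ∧ (∀ b ∈ B D c h.N_c, b * (g * x) = (g * x) * b)) := by
  have hgQ := V_le D hg
  have h1 : g * (x * g * x⁻¹) = 1 := by
    rw [← hgx]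
    have : g * x * (g * x) = g * (x * g * x⁻¹) * (x * x) := by group
    rw [this, h.sq, mul_one]
  have hgl : c * bar n (a D g) = a D g := by
    have h2 := a_mul D hgQ (h.norm.fwd g hgQ)
    rw [h1, a_one, h.a_conj hgQ] at h2
    exact (Field.add_eq_zero.mp h2.symm).symm
  rw [conj_V_eq h hr hg hgl, ← mul_assoc, D.Q_Z g hgQ, mul_assoc, sq_eq D hgQ, e_zero D hg,
    zero_mul, add_zero, ← D.z_add] at h1
  have h2 : N n (a D g) + r * u D g + (N n (a D g) + gam D * u D g) = (r + gam D) * u D g := by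
    have : N n (a D g) + r * u D g + (N n (a D g) + gam D * u D g) =
      (N n (a D g) + N n (a D g)) + (r + gam D) * u D g := by ring
    rw [this, add_self, zero_add]
  rw [h2] at h1
  have h3 := D.z_inj _ (fixed_mul (fixed_add hrf (gam_fixed D)) (u_fixed D hgQ)) h1
  rcases mul_eq_zero.mp h3 with h4 | h4
  · right
    have hrg : r = gam D := Field.add_eq_zero.mp h4
    refine ⟨hrg, fun b hb => ?_⟩
    have e1 : b * g = g * b := B_comm hb hg hgl
    have e2 : x * b = b * x := by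
      have h5 := conj_V_eq h hr hb.1 hb.2.1
      rw [hb.2.2, hrg, add_self, z_zero, one_mul] at h5
      exact mul_inv_eq_iff_eq_mul.mp h5
    rw [← mul_assoc, e1, mul_assoc, ← e2, mul_assoc]
  · left
    -- `g ∈ P`
    have hgP : g ∈ D.P := by
      rcases mem_T_of_u D hgQ h4 with h5 | h5
      · exact h5
      · exfalso
        have h6 := e_P D h5
        rw [e_mul D hgQ D.Q_t, e_zero D hg, e_t, zero_add] at h6
        exact one_ne_zero h6
    obtain ⟨y, hy, h5⟩ := h.conj_P hgP (by rw [← a_P D hgP]; exact hgl)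
    exact ⟨y, P_le_V D hy, h5⟩

include h in
/-- Level one. -/
theorem four_one [Finite G] (hO : Amb D O) {g : G} (hg : g ∈ V D) (hgx : (g * x) * (g * x) = 1) :
    (∃ y ∈ V D, y * x * y⁻¹ = g * x) ∨
    (∀ b ∈ B D c h.N_c, b * (g * x) = (g * x) * b) := by
  obtain ⟨r, hrf, hr⟩ := h.exists_r hO
  rcases four_one_aux h hrf hr hg hgx with h1 | h1
  · exact Or.inl h1
  · exact Or.inr h1.2

/-! ### Level two -/

include h in
theorem b_conj {s : G} (hs : s ∈ N2 D) : b D (x * s * x⁻¹) = c * bar n (b D s) := by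
  unfold b
  have ht : x⁻¹ * D.t * x = D.t := by rw [mul_assoc, ← h.comm]; group
  have h1 : x * s * x⁻¹ * D.t * (x * s * x⁻¹)⁻¹ = x * (s * (x⁻¹ * D.t * x) * s⁻¹) * x⁻¹ := by group
  rw [h1, ht, h.a_conj (hs.1.fwd _ D.Q_t)]

include h in
/-- Level two. -/
theorem four_two [Finite G] (hg0 : gam D = 0) (hO : Amb D O) (X : Next D O)
    (hsurj : ∀ c, ∃ s ∈ X.S, a D (s * D.t * s⁻¹) = c) (hxU : ∀ s ∈ U D X, x * s * x⁻¹ ∈ U D X)
    {g : G} (hg : g ∈ U D X) (hgx : (g * x) * (g * x) = 1) :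
    (∃ y ∈ U D X, y * x * y⁻¹ = g * x) ∨ (∀ b ∈ W D, b * (g * x) = (g * x) * b) := by
  obtain ⟨r, hrf, hr⟩ := h.exists_r hO
  by_cases hr0 : r = 0
  · right
    intro y hy
    have e1 : x * y = y * x := by
      have := hr y hy
      rw [hr0, zero_mul, z_zero, one_mul] at this
      exact mul_inv_eq_iff_eq_mul.mp this
    rw [← mul_assoc, ((mem_U D).mp hg).2 y hy, mul_assoc, ← e1, mul_assoc]
  · left
    -- reduction of `g` by conjugation
    have hred : ∀ g ∈ U D X, (g * x) * (g * x) = 1 → ∀ k ∈ U D X,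
        (∃ y ∈ U D X, y * x * y⁻¹ = k * g * (x * k⁻¹ * x⁻¹) * x) →
        ∃ y ∈ U D X, y * x * y⁻¹ = g * x := by
      rintro g hg hgx k hk ⟨y, hy, h1⟩
      refine ⟨k⁻¹ * y, mul_mem (inv_mem hk) hy, ?_⟩
      have e1 : k⁻¹ * y * x * (k⁻¹ * y)⁻¹ = k⁻¹ * (y * x * y⁻¹) * k := by group
      rw [e1, h1]; group
    have hinv : ∀ g ∈ U D X, (g * x) * (g * x) = 1 → ∀ k ∈ U D X,
        (k * g * (x * k⁻¹ * x⁻¹) * x) * (k * g * (x * k⁻¹ * x⁻¹) * x) = 1 := by
      intro g hg hgx k hk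
      have e1 : (k * g * (x * k⁻¹ * x⁻¹) * x) = k * (g * x) * k⁻¹ := by group
      rw [e1]
      have e2 : k * (g * x) * k⁻¹ * (k * (g * x) * k⁻¹) = k * (g * x * (g * x)) * k⁻¹ := by group
      rw [e2, hgx]; group
    -- step 1: `V`
    have step1 : ∀ g ∈ V D, (g * x) * (g * x) = 1 → ∃ y ∈ U D X, y * x * y⁻¹ = g * x := by
      intro g hg hgx
      rcases four_one_aux h hrf hr hg hgx with ⟨y, hy, h1⟩ | ⟨h1, -⟩
      · exact ⟨y, V_le_U D X hy, h1⟩
      · rw [hg0] at h1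
        exact absurd h1 hr0
    -- step 2
    have hgS := U_le D X hg
    have hgN := X.S_N2 hgS
    have h1 : g * (x * g * x⁻¹) = 1 := by
      rw [← hgx]
      have : g * x * (g * x) = g * (x * g * x⁻¹) * (x * x) := by group
      rw [this, h.sq, mul_one]
    have hxgN := X.S_N2 (U_le D X (hxU g hg))
    have hgl : c * bar n (b D g) = b D g := by
      have h2 := b_mul D hgN hxgN
      rw [h1, b_one, b_conj h hgN] at h2
      exact (Field.add_eq_zero.mp h2.symm).symm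
    obtain ⟨d, hd⟩ := exists_coboundary D.hq h.N_c hgl
    obtain ⟨k, hk, hbk⟩ := U_surj D hg0 hO X hsurj d
    have hkN := X.S_N2 (U_le D X hk)
    apply hred g hg hgx k hk
    have hxk := hxU _ (inv_mem hk)
    have hmem : k * g * (x * k⁻¹ * x⁻¹) ∈ U D X := mul_mem (mul_mem hk hg) hxk
    apply step1 _ _ (hinv g hg hgx k hk)
    apply U_Q D hmem
    apply mem_Q_of_b D hg0 hO X (U_le D X hmem)
    rw [b_mul D (mul_mem hkN hgN) (X.S_N2 (U_le D X hxk)), b_mul D hkN hgN,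
      b_conj h (inv_mem hkN), b_inv D hkN, hbk, ← hd]
    have : d + (d + c * bar n d) + c * bar n d = (d + d) + (c * bar n d + c * bar n d) := by ring
    rw [this, add_self, add_self, add_zero]

end Cfsg.Agent.StdU3.OuterEnd
end

-- part: StdU3/TermInst
section
/-!
# Instances of `TermDef.Term` for the first two levels

Only the field `three` at level 1 is left as a hypothesis.
-/

set_option autoImplicit false
set_option linter.unusedSectionVars false

namespace Cfsg.Agent.StdU3.TermInst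

open Cfsg.Agent.StdU3.Field Cfsg.Agent.StdU3.PreDef Cfsg.Agent.StdU3.LevelOne
open Cfsg.Agent.StdU3.LevelOneW Cfsg.Agent.StdU3.NormQ Cfsg.Agent.StdU3.Kernel
open Cfsg.Agent.StdU3.Next Cfsg.Agent.StdU3.LevelTwo Cfsg.Agent.StdU3.Card
open Cfsg.Agent.StdU3.TermTwo Cfsg.Agent.StdU3.Outer Cfsg.Agent.StdU3.TermDef

variable {G : Type*} [Group G] {K : Type*} [Field K] [Fintype K] [CharP K 2] {n : ℕ}
variable {D : Pre G K n} {O : Subgroup G}

/-! ### From the hypotheses of `Term.four` to `Out` -/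

theorem mem_Q_iff {g : G} : g ∈ D.Q ↔ g ∈ V D ∨ g * D.t ∈ V D := by
  constructor
  · exact V_or D
  · rintro (h | h)
    · exact V_le D h
    · have := mul_mem (V_le D h) D.Q_t
      rwa [mul_assoc, D.t_sq, mul_one] at this

/-- normalizing `V` and commuting with `t` -/
theorem norm_of_V [Finite G] {x : G} (hx : x * D.t = D.t * x)
    (hV : ∀ g ∈ V D, x * g * x⁻¹ ∈ V D) : _root_.Cfsg.Agent.StdU3.NormQ.Norm D x := by
  apply norm_of_fwd
  intro g hg
  rcases mem_Q_iff.mp hg with h | h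
  · exact mem_Q_iff.mpr (Or.inl (hV g h))
  · apply mem_Q_iff.mpr
    right
    have h1 := hV _ h
    have h2 : x * (g * D.t) * x⁻¹ = x * g * x⁻¹ * (x * D.t * x⁻¹) := by group
    have h3 : x * D.t * x⁻¹ = D.t := by rw [hx]; group
    rwa [h2, h3] at h1

theorem out_of_norm {x : G} (hx : x * D.t = D.t * x) (hxx : x * x = 1) (hn : _root_.Cfsg.Agent.StdU3.NormQ.Norm D x) {c : K}
    (hc : ∀ p ∈ D.P, x * p * x⁻¹ ∈ D.P ∧ D.ca (x * p * x⁻¹) = c * bar n (D.ca p)) :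
    Out D x c where
  comm := hx
  sq := hxx
  norm := hn
  act := by
    intro b
    obtain ⟨p, hp, rfl⟩ := D.ca_surj b
    obtain ⟨h1, h2⟩ := hc p hp
    rw [← A_P D hn hp, a_P D h1, h2]

/-! ### Level 1 -/

theorem V_isPGroup : IsPGroup 2 (V D) := D.Q_two.to_le (V_le D)

theorem comm_t_V {g : G} (hg : g ∈ V D) (h : g * D.t = D.t * g) : g ∈ D.P := by
  rcases D.Q_T g (V_le D hg) h with h1 | h1
  · exact h1
  · exfalso
    have h2 := e_P D h1
    rw [e_mul D (V_le D hg) D.Q_t, e_zero D hg, e_t, zero_add] at h2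
    exact one_ne_zero h2

theorem mem_B {c : K} (hc : N n c = 1) {k : G} : k ∈ OuterEnd.B D c hc ↔
    k ∈ V D ∧ c * bar n (a D k) = a D k ∧ N n (a D k) = gam D * u D k := Iff.rfl

/-- `B` has order at least `q²`. -/
theorem card_B [Finite G] {c : K} (hc : N n c = 1) :
    (2 ^ n) ^ 2 ≤ Nat.card (OuterEnd.B D c hc) := by
  obtain ⟨c0, hc0, h0⟩ := exists_line D.hq hc
  have hc' : c ≠ 0 := by
    rintro rfl
    rw [N_zero] at hc
    exact zero_ne_one hc
  by_cases hg : gam D = 0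
  · have hle : W D ≤ OuterEnd.B D c hc := by
      intro y hy
      rw [mem_B]
      refine ⟨W_le_V D hy, ?_, ?_⟩
      · rw [a_W D hy, bar_zero, mul_zero]
      · rw [a_W D hy, N_zero, hg, zero_mul]
    have h1 := Nat.card_le_card_of_injective _ (Subgroup.inclusion_injective hle)
    rwa [card_W] at h1
  · have hline : ∀ k ∈ OuterEnd.B D c hc, bar n (a D k / c0) = a D k / c0 := by
      intro k hk
      obtain ⟨l, hl, he⟩ := line_eq hc0 h0 ((mem_B hc).mp hk).2.1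
      rw [he, mul_div_cancel_right₀ _ hc0, hl]
    have h3 := card_of_hom (OuterEnd.B D c hc) (Z D) (fun g => a D g / c0) (Fq K n) (by
      intro x hx y hy
      have hx' := V_le D ((mem_B hc).mp hx).1
      have hy' := V_le D ((mem_B hc).mp hy).1
      show a D (x * y) / c0 = a D x / c0 + a D y / c0
      rw [a_mul D hx' hy', add_div]) (by
      intro x
      constructor
      · rintro ⟨b, hb, rfl⟩
        refine ⟨(mem_B hc).mpr ⟨W_le_V D (z_mem_W D b), ?_, ?_⟩, ?_⟩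
        · rw [a_z, bar_zero, mul_zero]
        · rw [a_z, N_zero, u_z, mul_zero]
        · show a D (D.z b) / c0 = 0
          rw [a_z, zero_div]
      · rintro ⟨hx, h5⟩
        obtain ⟨hxV, -, h7⟩ := (mem_B hc).mp hx
        have h6 : a D x = 0 := (div_eq_zero_iff.mp h5).resolve_right hc0
        rw [h6, N_zero] at h7
        exact ker_eq D (V_le D hxV) h6 ((mul_eq_zero.mp h7.symm).resolve_left hg)
          (e_zero D hxV)) hline (by
      intro m hm
      have hgi : bar n (gam D)⁻¹ = (gam D)⁻¹ := fixed_inv (gam_fixed D)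
      obtain ⟨g, hg1, hg2, hg3, hg4⟩ := surj D (a0 := m * c0)
        (u0 := (gam D)⁻¹ * N n (m * c0)) (e0 := 0) (fixed_mul hgi (fixed_N D.hq _))
        (Or.inl rfl)
      have hgV : g ∈ V D := (e_eq_zero_iff D).mp hg4
      have h5 : a D g / c0 = m := by rw [hg2, mul_div_cancel_right₀ _ hc0]
      refine ⟨g, (mem_B hc).mpr ⟨hgV, ?_, ?_⟩, h5⟩
      · have hm' : bar n m = m := hm
        rw [hg2, bar_mul, hm', mul_left_comm, h0]
      · rw [hg2, hg3, ← mul_assoc, mul_inv_cancel₀ hg, one_mul])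
    rw [h3, card_Z, card_Fq D.hq, sq]

/-- an outer involution is not in `Q` -/
theorem not_mem_Q {x : G} {c : K} (h : Out D x c) : x ∉ D.Q := fun hx =>
  h.not_N2 (Q_le_N2 D hx)

/-- **level 1**: `U = V`. -/
noncomputable def one [Finite G] (hO : Amb D O)
    (three : ∀ g ∈ V D, (g * D.t) * (g * D.t) = 1 →
      (∃ y ∈ V D, y * D.t * y⁻¹ = g * D.t) ∨ (∀ y : G, y * D.t * y⁻¹ ≠ g * D.t)) : Term D where
  U := V D
  U_two := V_isPGroup
  P_le := P_le_V D
  class_two := by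
    intro x hx y hy g hg
    rw [cmt_eq D (V_le D hx) (V_le D hy)]
    exact (comm_z D (V_le D hg) _).symm
  t_not := t_not_V D
  t_conj := fun g hg => V_t D hg
  comm_t := fun g hg h => comm_t_V hg h
  two := fun v hv h1 hz => levelOne D hv h1 hz
  three := three
  four := by
    intro x hx hxx hc hV g hg hgx
    obtain ⟨c, hc⟩ := hc
    have hout := out_of_norm hx hxx (norm_of_V hx hV) hc
    rcases OuterEnd.four_one hout hO hg hgx with h | h
    · exact Or.inl h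
    · right
      have hBV : OuterEnd.B D c hout.N_c ≤ V D := fun b hb => ((mem_B _).mp hb).1
      refine ⟨OuterEnd.B D c hout.N_c, hBV, fun b hb => OuterEnd.B_sq hb, h, ?_, ?_, card_B _⟩
      · intro b hb b' hb'
        exact OuterEnd.B_comm hb (hBV hb') ((mem_B _).mp hb').2.1
      · intro hgxB
        apply not_mem_Q hout
        have h2 := mul_mem (inv_mem (V_le D hg)) (V_le D (hBV hgxB))
        rwa [← mul_assoc, inv_mul_cancel, one_mul] at h2

/-! ### Level 2 -/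

theorem U_isPGroup (X : Next D O) : IsPGroup 2 (U D X) := X.S_two.to_le (U_le D X)

theorem t_mem_S (X : Next D O) : D.t ∈ X.S := X.Q_le D.Q_t

/-- `W` is the centre of `U`. -/
theorem mem_W_iff_center (hg0 : gam D = 0) (hO : Amb D O) (X : Next D O) {g : G}
    (hg : g ∈ U D X) : g ∈ W D ↔ ∀ k ∈ U D X, g * k = k * g := by
  constructor
  · intro h k hk
    exact ((mem_U D).mp hk).2 g h
  · intro h
    have hgN := X.S_N2 (U_le D X hg)
    have hb : b D g = 0 := by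
      by_contra h0
      obtain ⟨y, hy⟩ := exists_Tr_eq D.hq h0 (bar_one n)
      obtain ⟨p, hp, rfl⟩ := D.ca_surj y
      have h1 := u_conj_N2 D hg0 hgN (D.P_le hp)
      have h2 : g * p * g⁻¹ = p := by
        rw [h p (V_le_U D X (P_le_V D hp))]; group
      rw [h2, u_P D hp, e_P D hp, a_P D hp, hy, zero_mul, add_zero, zero_add] at h1
      exact zero_ne_one h1
    have hgV := U_Q D hg (mem_Q_of_b D hg0 hO X (U_le D X hg) hb)
    apply W_of_ae D (V_le D hgV) _ (e_zero D hgV)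
    exact a_zero_of_comm D (V_le D hgV) (fun x hx => h x (V_le_U D X (P_le_V D hx)))

/-- `V` = the elements of `U` which commute with `t` modulo `W`. -/
theorem mem_V_iff_comm (hg0 : gam D = 0) (hO : Amb D O) (X : Next D O) {g : G}
    (hg : g ∈ U D X) : g ∈ V D ↔ g * D.t * g⁻¹ * D.t⁻¹ ∈ W D := by
  have hgN := X.S_N2 (U_le D X hg)
  constructor
  · intro h
    rw [u_conj D (V_le D h), mul_inv_cancel_right]
    exact z_mem_W D _
  · intro h
    have h1 := a_W D h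
    have hQ := hgN.1.fwd _ D.Q_t
    rw [a_mul D hQ (inv_mem D.Q_t), a_inv D D.Q_t, a_t, add_zero] at h1
    exact U_Q D hg (mem_Q_of_b D hg0 hO X (U_le D X hg) h1)

theorem norm_of_U [Finite G] (hg0 : gam D = 0) (hO : Amb D O) (X : Next D O) {x : G}
    (hx : x * D.t = D.t * x) (hU : ∀ g ∈ U D X, x * g * x⁻¹ ∈ U D X) : _root_.Cfsg.Agent.StdU3.NormQ.Norm D x := by
  -- `x⁻¹` normalizes `U` too
  have hUi : ∀ g ∈ U D X, x⁻¹ * g * x ∈ U D X := by
    have hm : (U D X).map (MulAut.conj x).toMonoidHom ≤ U D X := by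
      rw [Subgroup.map_le_iff_le_comap]
      intro g hg
      exact hU g hg
    have hm' : (U D X).map (MulAut.conj x).toMonoidHom = U D X := by
      apply Subgroup.eq_of_le_of_card_ge hm
      rw [Nat.card_congr ((U D X).equivMapOfInjective (MulAut.conj x).toMonoidHom
        (MulAut.conj x).injective).toEquiv]
    intro g hg
    rw [← hm'] at hg
    obtain ⟨k, hk, rfl⟩ := hg
    have : x⁻¹ * (MulAut.conj x).toMonoidHom k * x = k := by
      show x⁻¹ * (x * k * x⁻¹) * x = k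
      group
    rw [this]; exact hk
  have hW : ∀ y ∈ W D, x * y * x⁻¹ ∈ W D := by
    intro y hy
    rw [mem_W_iff_center hg0 hO X (hU y (W_le_U D X hy))]
    intro k hk
    have h1 := ((mem_W_iff_center hg0 hO X (W_le_U D X hy)).mp hy) _ (hUi k hk)
    calc x * y * x⁻¹ * k = x * (y * (x⁻¹ * k * x)) * x⁻¹ := by group
      _ = x * (x⁻¹ * k * x * y) * x⁻¹ := by rw [h1]
      _ = k * (x * y * x⁻¹) := by group
  apply norm_of_V hx
  intro g hg
  rw [mem_V_iff_comm hg0 hO X (hU g (V_le_U D X hg))]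
  have h1 := hW _ ((mem_V_iff_comm hg0 hO X (V_le_U D X hg)).mp hg)
  have ht : x * D.t * x⁻¹ = D.t := by rw [hx]; group
  have ht' : x⁻¹ * D.t * x = D.t := by rw [mul_assoc, ← hx]; group
  have h2 : x * g * x⁻¹ * D.t * (x * g * x⁻¹)⁻¹ * D.t⁻¹ =
      x * (g * (x⁻¹ * D.t * x) * g⁻¹ * (x⁻¹ * D.t * x)⁻¹) * x⁻¹ := by group
  rw [h2, ht']
  exact h1

/-- **level 2**: `gam = 0`, `U = C_S(W)`. -/
noncomputable def two [Finite G] (hg0 : gam D = 0) (hO : Amb D O) (X : Next D O)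
    (hsurj : ∀ c, ∃ s ∈ X.S, a D (s * D.t * s⁻¹) = c) : Term D where
  U := U D X
  U_two := U_isPGroup X
  P_le := (P_le_V D).trans (V_le_U D X)
  class_two := by
    intro x hx y hy g hg
    exact ((mem_U D).mp hg).2 _ (cmt_mem_W D hg0 hO X hx hy)
  t_not := t_not_U D X
  t_conj := fun g hg => conj_U_S D X (t_mem_S X) hg
  comm_t := fun g hg h => mem_P_of_comm D hg0 hO X hg h
  two := fun v hv _ _ => levelTwo hg0 hO X hsurj hv
  three := by
    intro g hg h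
    left
    have h1 : D.t⁻¹ * g * D.t ∈ U D X := by
      have := conj_U_S D X (inv_mem (t_mem_S X)) hg
      rwa [inv_inv] at this
    have h2 : D.t * (D.t⁻¹ * g * D.t) = g * D.t := by group
    obtain ⟨r, hr, h3⟩ := invol_conj D hg0 hO X hsurj h1 (by rw [h2, h])
    exact ⟨r, hr, by rw [← h3, h2]⟩
  four := by
    intro x hx hxx hc hU g hg hgx
    obtain ⟨c, hc⟩ := hc
    have hout := out_of_norm hx hxx (norm_of_U hg0 hO X hx hU) hc
    rcases OuterEnd.four_two hout hg0 hO X hsurj hU hg hgx with h | h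
    · exact Or.inl h
    · right
      refine ⟨W D, W_le_U D X, ?_, h, fun b hb c hc => W_comm D hb hc, ?_, (card_W D).ge⟩
      · intro y hy
        rw [W_sq D hy, hg0, zero_mul, z_zero]
      · intro hgxW
        apply hout.not_N2
        have h2 := mul_mem (inv_mem (U_le D X hg)) (X.Q_le (W_le D hgxW))
        rw [← mul_assoc, inv_mul_cancel, one_mul] at h2
        exact X.S_N2 h2

end Cfsg.Agent.StdU3.TermInst
end

-- part: StdU3/LevelOneD
section
/-!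
# Conjugates of `t` in `t V` are conjugate to `t` under `N(Q)`
-/

set_option autoImplicit false
set_option linter.unusedSectionVars false
set_option linter.style.haveILetI false

namespace Cfsg.Agent.StdU3.LevelOneD

open Cfsg.Agent.StdU3.Field Cfsg.Agent.StdU3.PreDef Cfsg.Agent.StdU3.LevelOne
open Cfsg.Agent.StdU3.LevelOneW Cfsg.Agent.StdU3.NormQ Cfsg.Agent.StdU3.Kernel
open Cfsg.Agent.StdU3.Next

variable {G : Type*} [Group G] {K : Type*} [Field K] [Fintype K] [CharP K 2] {n : ℕ}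
variable (D : Pre G K n) {O : Subgroup G}

/-- a Sylow 2-subgroup `Sig ≥ P` of `C_G(t)`. -/
structure Fl (Sig : Subgroup G) : Prop where
  two : IsPGroup 2 Sig
  P_le : D.P ≤ Sig
  t_mem : D.t ∈ Sig
  comm : ∀ x ∈ Sig, x * D.t = D.t * x
  norm_P : ∀ x ∈ Sig, ∀ p ∈ D.P, x * p * x⁻¹ ∈ D.P
  sl : ∀ x ∈ Sig, ∃ c : K, ∃ τ : K ≃+* K, (∀ p ∈ D.P, D.ca (x * p * x⁻¹) = c * τ (D.ca p)) ∧
    (τ = 1 → x ∈ D.P ∨ x * D.t ∈ D.P)
  conj : ∀ Y : Subgroup G, IsPGroup 2 Y → (∀ y ∈ Y, y * D.t = D.t * y) →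
    ∃ c, c * D.t = D.t * c ∧ ∀ y ∈ Y, c * y * c⁻¹ ∈ Sig

variable {D} {Sig : Subgroup G} (F : Fl D Sig)

open Classical in
/-- the Galois component. -/
noncomputable def tau (D : Pre G K n) (x : G) : K ≃+* K :=
  if h : ∃ c : K, ∃ τ : K ≃+* K, (∀ p ∈ D.P, D.ca (x * p * x⁻¹) = c * τ (D.ca p)) ∧
    (τ = 1 → x ∈ D.P ∨ x * D.t ∈ D.P) then h.choose_spec.choose else 1

open Classical in
/-- the scalar. -/
noncomputable def sc (D : Pre G K n) (x : G) : K :=
  if h : ∃ c : K, ∃ τ : K ≃+* K, (∀ p ∈ D.P, D.ca (x * p * x⁻¹) = c * τ (D.ca p)) ∧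
    (τ = 1 → x ∈ D.P ∨ x * D.t ∈ D.P) then h.choose else 1

include F in
theorem ca_conj {x : G} (hx : x ∈ Sig) {p : G} (hp : p ∈ D.P) :
    D.ca (x * p * x⁻¹) = sc D x * tau D x (D.ca p) := by
  have h := F.sl x hx
  unfold sc tau
  rw [dif_pos h, dif_pos h]
  exact h.choose_spec.choose_spec.1 p hp

include F in
theorem mem_of_tau {x : G} (hx : x ∈ Sig) (h1 : tau D x = 1) : x ∈ D.P ∨ x * D.t ∈ D.P := by
  have h := F.sl x hx
  unfold tau at h1
  rw [dif_pos h] at h1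
  exact h.choose_spec.choose_spec.2 h1

theorem eq_of_sl {c c' : K} {τ τ' : K ≃+* K} (h : ∀ b, c * τ b = c' * τ' b) (hc : c ≠ 0) :
    c = c' ∧ τ = τ' := by
  have h1 := h 1
  rw [map_one, map_one, mul_one, mul_one] at h1
  refine ⟨h1, ?_⟩
  ext b
  have h2 := h b
  rw [← h1] at h2
  exact mul_left_cancel₀ hc h2

include F in
theorem sc_ne {x : G} (hx : x ∈ Sig) : sc D x ≠ 0 := by
  intro h0
  obtain ⟨p, hp, hp1⟩ := D.ca_surj 1
  have h1 : x⁻¹ * p * x ∈ D.P := by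
    have := F.norm_P _ (inv_mem hx) p hp
    rwa [inv_inv] at this
  have h2 := ca_conj F hx h1
  have h3 : x * (x⁻¹ * p * x) * x⁻¹ = p := by group
  rw [h3, hp1, h0, zero_mul] at h2
  exact one_ne_zero h2

include F in
theorem tau_mul {x y : G} (hx : x ∈ Sig) (hy : y ∈ Sig) : tau D (x * y) = tau D x * tau D y := by
  have h : ∀ b, sc D (x * y) * tau D (x * y) b = (sc D x * tau D x (sc D y)) *
      (tau D x * tau D y) b := by
    intro b
    obtain ⟨p, hp, rfl⟩ := D.ca_surj b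
    rw [← ca_conj F (mul_mem hx hy) hp]
    have e1 : x * y * p * (x * y)⁻¹ = x * (y * p * y⁻¹) * x⁻¹ := by group
    rw [e1, ca_conj F hx (F.norm_P y hy p hp), ca_conj F hy hp, map_mul, mul_assoc]
    rfl
  exact (eq_of_sl h (sc_ne F (mul_mem hx hy))).2

include F in
theorem tau_one : tau D 1 = 1 := by
  have h := tau_mul F Sig.one_mem Sig.one_mem
  rw [mul_one] at h
  exact (mul_eq_left.mp h.symm)

include F in
theorem tau_inv {x : G} (hx : x ∈ Sig) : tau D x⁻¹ = (tau D x)⁻¹ := by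
  have h := tau_mul F hx (inv_mem hx)
  rw [mul_inv_cancel, tau_one F] at h
  exact (inv_eq_of_mul_eq_one_right h.symm).symm

/-! ### Centralizers of involutions of `t V` -/

/-- `C_Q(d)`. -/
def T (D : Pre G K n) (d : G) : Subgroup G := D.Q ⊓ Subgroup.centralizer {d}

theorem mem_T {d k : G} : k ∈ T D d ↔ k ∈ D.Q ∧ k * d = d * k := by
  unfold T
  rw [Subgroup.mem_inf, Subgroup.mem_centralizer_singleton_iff]

theorem z_mem_T {d : G} (hd : d ∈ D.Q) (b : K) : D.z b ∈ T D d :=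
  mem_T.mpr ⟨z_mem_Q D b, (D.Q_Z d hd b).symm⟩

theorem mem_Tt {k : G} : k ∈ T D D.t ↔ k ∈ D.P ∨ k * D.t ∈ D.P := by
  rw [mem_T]
  constructor
  · rintro ⟨h1, h2⟩
    exact D.Q_T k h1 h2
  · rintro (h | h)
    · exact ⟨D.P_le h, (D.t_P k h).symm⟩
    · have h1 := D.t_P _ h
      refine ⟨?_, ?_⟩
      · have := mul_mem (D.P_le h) D.Q_t
        rwa [mul_assoc, D.t_sq, mul_one] at this
      · rw [← mul_assoc, ] at h1
        exact (mul_right_cancel h1).symm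


/-- `|T d| ≥ 2 q ^ 3`. -/
theorem le_card_T [Finite G] {d : G} (hd : d ∈ D.Q) : 2 * (2 ^ n) ^ 3 ≤ Nat.card (T D d) := by
  have h1 := Card.card_le_cent_Q D (le_refl D.Q) hd
  rw [Card.card_Q] at h1
  have h2 : 2 * (2 ^ n) ^ 4 = 2 * (2 ^ n) ^ 3 * 2 ^ n := by ring
  rw [h2] at h1
  exact Nat.le_of_mul_le_mul_right h1 (by positivity)

theorem card_Tt : Nat.card (T D D.t) = 2 * (2 ^ n) ^ 3 := Card.card_CQ_t D

/-- the elements of `T t` with `a = 0`. -/
def Zt (D : Pre G K n) : Subgroup G where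
  carrier := {k | k ∈ T D D.t ∧ a D k = 0}
  mul_mem' := by
    rintro x y ⟨hx, hx0⟩ ⟨hy, hy0⟩
    exact ⟨mul_mem hx hy, by rw [a_mul D (mem_T.mp hx).1 (mem_T.mp hy).1, hx0, hy0, add_zero]⟩
  one_mem' := ⟨one_mem _, a_one D⟩
  inv_mem' := by
    rintro x ⟨hx, hx0⟩
    exact ⟨inv_mem hx, by rw [a_inv D (mem_T.mp hx).1, hx0]⟩

theorem card_Zt : Nat.card (Zt D) = 2 * 2 ^ n := by
  have h1 := Card.card_of_hom (T D D.t) (Zt D) (a D) ⊤
    (fun x hx y hy => a_mul D (mem_T.mp hx).1 (mem_T.mp hy).1) (fun x => Iff.rfl)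
    (fun _ _ => AddSubgroup.mem_top _) (fun m _ => by
      obtain ⟨p, hp, rfl⟩ := D.ca_surj m
      exact ⟨p, mem_Tt.mpr (Or.inl hp), a_P D hp⟩)
  rw [card_Tt, Card.card_top_K D.hq] at h1
  have h2 : 2 * (2 ^ n) ^ 3 = (2 * 2 ^ n) * (2 ^ n) ^ 2 := by ring
  rw [h2] at h1
  exact (Nat.eq_of_mul_eq_mul_right (by positivity) h1).symm

theorem u_Tt {k : G} (hk : k ∈ T D D.t) : u D k = 0 := by
  rcases mem_Tt.mp hk with h | h
  · exact u_P D h
  · have h1 := u_P D h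
    rw [u_mul D (mem_T.mp hk).1 D.Q_t, u_t, add_zero] at h1
    exact h1

/-- the commutator of elements of `T t`. -/
theorem cmt_Tt {k l : G} (hk : k ∈ T D D.t) (hl : l ∈ T D D.t) :
    k * l * k⁻¹ * l⁻¹ = D.z (Tr n (a D k * bar n (a D l))) := by
  rw [cmt_eq D (mem_T.mp hk).1 (mem_T.mp hl).1, u_Tt hk, u_Tt hl, mul_zero, mul_zero, add_zero,
    add_zero]

theorem cmt_mem_Z {k l : G} (hk : k ∈ D.Q) (hl : l ∈ D.Q) :
    ∃ b, bar n b = b ∧ k * l * k⁻¹ * l⁻¹ = D.z b :=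
  ⟨_, fixed_add (fixed_Tr D.hq _) (fixed_add (fixed_mul (e_fixed D k) (u_fixed D hl))
    (fixed_mul (e_fixed D l) (u_fixed D hk))), cmt_eq D hk hl⟩

/-- elements of `T d ∩ V`. -/
theorem exists_T {d : G} (hd : d ∈ D.Q) (he : e D d = 1) (c : K) :
    ∃ k ∈ T D d, k ∈ V D ∧ a D k = c := by
  obtain ⟨k, hk, ha, hu, hek⟩ := surj D (a0 := c) (u0 := Tr n (a D d * bar n c)) (e0 := 0)
    (fixed_Tr D.hq _) (Or.inl rfl)
  refine ⟨k, mem_T.mpr ⟨hk, ?_⟩, (e_eq_zero_iff D).mp hek, ha⟩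
  rw [comm_eq D hk hd, ha, hu, hek, he, zero_mul, one_mul, zero_add, Tr_comm D.hq c,
    Field.add_self, z_zero, one_mul]

theorem z_eq_cmt {d : G} (hd : d ∈ D.Q) (he : e D d = 1) {b : K} (hb : bar n b = b) :
    ∃ k ∈ T D d, ∃ l ∈ T D d, D.z b = k * l * k⁻¹ * l⁻¹ := by
  obtain ⟨y, hy⟩ := exists_Tr_eq D.hq (one_ne_zero : (1 : K) ≠ 0) hb
  obtain ⟨k, hk, hkV, hka⟩ := exists_T hd he 1
  obtain ⟨l, hl, hlV, hla⟩ := exists_T hd he y
  refine ⟨k, hk, l, hl, ?_⟩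
  rw [cmt_eq D (mem_T.mp hk).1 (mem_T.mp hl).1, hka, hla, e_zero D hkV, e_zero D hlV, zero_mul,
    zero_mul, add_zero, add_zero, hy]

section conj
variable {d m : G} (hd : d ∈ D.Q) (he : e D d = 1)
  (hm : ∀ k ∈ T D d, m * k * m⁻¹ ∈ Sig)

include F hd he hm in
theorem tau_z (b : K) : tau D (m * D.z b * m⁻¹) = 1 := by
  obtain ⟨b', hb', hbb⟩ := z_fixed D b
  obtain ⟨k, hk, l, hl, h⟩ := z_eq_cmt hd he hb'
  rw [hbb, h]
  have e1 : m * (k * l * k⁻¹ * l⁻¹) * m⁻¹ =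
      (m * k * m⁻¹) * (m * l * m⁻¹) * (m * k * m⁻¹)⁻¹ * (m * l * m⁻¹)⁻¹ := by group
  have h1 := hm k hk
  have h2 := hm l hl
  rw [e1, tau_mul F (mul_mem (mul_mem h1 h2) (inv_mem h1)) (inv_mem h2),
    tau_mul F (mul_mem h1 h2) (inv_mem h1), tau_mul F h1 h2, tau_inv F h1, tau_inv F h2,
    FieldAut.comm (tau D (m * k * m⁻¹))]
  group

include F hd he hm in
theorem tau_sq {k : G} (hk : k ∈ T D d) :
    tau D (m * k * m⁻¹) * tau D (m * k * m⁻¹) = 1 := by
  rw [← tau_mul F (hm k hk) (hm k hk), ← NormQ.conj_mul, sq_eq D (mem_T.mp hk).1,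
    tau_z F hd he hm]

include F hd he hm in
/-- the Galois component is trivial on `m (T d) m⁻¹`. -/
theorem tau_eq_one [Finite G] {k1 : G} (hk1 : k1 ∈ T D d) : tau D (m * k1 * m⁻¹) = 1 := by
  classical
  by_contra hne
  have hbar : ∀ k ∈ T D d, tau D (m * k * m⁻¹) ≠ 1 →
      tau D (m * k * m⁻¹) = tau D (m * k1 * m⁻¹) := by
    intro k hk h
    rw [FieldAut.eq_bar D.hq (tau_sq F hd he hm hk) h,
      FieldAut.eq_bar D.hq (tau_sq F hd he hm hk1) hne]
  -- the kernel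
  let H : Subgroup G :=
    { carrier := {k | k ∈ T D d ∧ tau D (m * k * m⁻¹) = 1}
      mul_mem' := by
        rintro x y ⟨hx, hx1⟩ ⟨hy, hy1⟩
        refine ⟨mul_mem hx hy, ?_⟩
        rw [NormQ.conj_mul, tau_mul F (hm x hx) (hm y hy), hx1, hy1, mul_one]
      one_mem' := ⟨one_mem _, by
        have : m * 1 * m⁻¹ = 1 := by group
        rw [this, tau_one F]⟩
      inv_mem' := by
        rintro x ⟨hx, hx1⟩
        refine ⟨inv_mem hx, ?_⟩
        have : m * x⁻¹ * m⁻¹ = (m * x * m⁻¹)⁻¹ := by group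
        rw [this, tau_inv F (hm x hx), hx1, inv_one] }
  have hHT : H ≤ T D d := fun x hx => hx.1
  have hHmem : ∀ k ∈ H, m * k * m⁻¹ ∈ T D D.t := fun k hk =>
    mem_Tt.mpr (mem_of_tau F (hm k hk.1) hk.2)
  -- index at most two
  have hidx : Nat.card (T D d) ≤ 2 * Nat.card H := by
    have h1 : ((T D d : Subgroup G) : Set G) ⊆ (H : Set G) ∪ (fun x => k1 * x) '' (H : Set G) := by
      intro k hk
      by_cases h : tau D (m * k * m⁻¹) = 1
      · left; exact ⟨hk, h⟩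
      · right
        refine ⟨k1⁻¹ * k, ⟨mul_mem (inv_mem hk1) hk, ?_⟩, by group⟩
        have e1 : m * (k1⁻¹ * k) * m⁻¹ = (m * k1 * m⁻¹)⁻¹ * (m * k * m⁻¹) := by group
        rw [e1, tau_mul F (inv_mem (hm k1 hk1)) (hm k hk), tau_inv F (hm k1 hk1), hbar k hk h]
        group
    have h2 := Set.ncard_le_ncard h1 (Set.toFinite _)
    have h3 := Set.ncard_union_le (H : Set G) ((fun x => k1 * x) '' (H : Set G))
    have h4 := Set.ncard_image_le (f := fun x => k1 * x) (Set.toFinite (H : Set G))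
    have h5 : ((T D d : Subgroup G) : Set G).ncard = Nat.card (T D d) := rfl
    have h6 : (H : Set G).ncard = Nat.card H := rfl
    omega
  have hT := le_card_T (D := D) hd
  have hH : (2 ^ n) ^ 3 ≤ Nat.card H := by omega
  -- the image of `H` in `K`
  let B : AddSubgroup K :=
    { carrier := {c | ∃ k ∈ H, a D (m * k * m⁻¹) = c}
      add_mem' := by
        rintro x y ⟨k, hk, rfl⟩ ⟨l, hl, rfl⟩
        refine ⟨k * l, mul_mem hk hl, ?_⟩
        rw [NormQ.conj_mul, a_mul D (mem_T.mp (hHmem k hk)).1 (mem_T.mp (hHmem l hl)).1]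
      zero_mem' := ⟨1, one_mem _, by
        have : m * 1 * m⁻¹ = 1 := by group
        rw [this, a_one]⟩
      neg_mem' := by
        rintro x ⟨k, hk, rfl⟩
        exact ⟨k, hk, (CharTwo.neg_eq _).symm⟩ }
  let H' : Subgroup G := H.map (MulAut.conj m).toMonoidHom
  have hH'card : Nat.card H' = Nat.card H := Subgroup.card_map_of_injective (MulAut.conj m).injective
  have hH' : ∀ x ∈ H', ∃ k ∈ H, m * k * m⁻¹ = x := by
    rintro _ ⟨k, hk, rfl⟩
    exact ⟨k, hk, rfl⟩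
  have hBcard : (2 ^ n) ^ 3 ≤ 2 * 2 ^ n * Nat.card B := by
    refine hH.trans ?_
    rw [← hH'card, ← card_Zt (D := D)]
    apply Card.card_le_of_hom H' (Zt D) (a D) B
    · intro x hx y hy
      obtain ⟨k, hk, rfl⟩ := hH' x hx
      obtain ⟨l, hl, rfl⟩ := hH' y hy
      exact a_mul D (mem_T.mp (hHmem k hk)).1 (mem_T.mp (hHmem l hl)).1
    · intro x hx h0
      obtain ⟨k, hk, rfl⟩ := hH' x hx
      exact ⟨hHmem k hk, h0⟩
    · intro x hx
      obtain ⟨k, hk, rfl⟩ := hH' x hx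
      exact ⟨k, hk, rfl⟩
  have hq := four_le D.hq
  have hBgt : 2 ^ n < (B : Set K).ncard := by
    have h1 : (B : Set K).ncard = Nat.card B := rfl
    rw [h1]
    have h2 : (2 ^ n) ^ 3 = 2 * 2 ^ n * (2 ^ n * 2 ^ n / 2) := by
      have h4 : 2 ∣ 2 ^ n * 2 ^ n := by
        have : 2 ∣ 2 ^ n := dvd_pow_self 2 (by have := D.hq.hn; omega)
        exact Dvd.dvd.mul_left this _
      have h5 := Nat.mul_div_cancel' h4
      calc (2 ^ n) ^ 3 = 2 ^ n * (2 ^ n * 2 ^ n) := by ring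
        _ = 2 ^ n * (2 * (2 ^ n * 2 ^ n / 2)) := by rw [h5]
        _ = _ := by ring
    rw [h2] at hBcard
    have h3 := Nat.le_of_mul_le_mul_left hBcard (by positivity)
    have h6 : 2 ^ n < 2 ^ n * 2 ^ n / 2 := by
      have : 2 ^ n * 4 ≤ 2 ^ n * 2 ^ n := Nat.mul_le_mul_left _ hq
      omega
    omega
  -- the conjugates of `Z`
  have hz : ∀ b, m * D.z b * m⁻¹ ∈ T D D.t ∧ a D (m * D.z b * m⁻¹) = 0 := by
    intro b
    have h1 : m * D.z b * m⁻¹ ∈ T D D.t :=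
      mem_Tt.mpr (mem_of_tau F (hm _ (z_mem_T hd b)) (tau_z F hd he hm b))
    refine ⟨h1, ?_⟩
    by_contra h0
    -- `B` is contained in a line
    have h2 : ∀ c ∈ B, bar n (c / a D (m * D.z b * m⁻¹)) = c / a D (m * D.z b * m⁻¹) := by
      rintro c ⟨k, hk, rfl⟩
      have h3 := cmt_Tt h1 (hHmem k hk)
      have h4 : m * D.z b * m⁻¹ * (m * k * m⁻¹) * (m * D.z b * m⁻¹)⁻¹ * (m * k * m⁻¹)⁻¹ = 1 := by
        have h5 := D.Q_Z k (mem_T.mp hk.1).1 b
        have e1 : m * D.z b * m⁻¹ * (m * k * m⁻¹) * (m * D.z b * m⁻¹)⁻¹ * (m * k * m⁻¹)⁻¹ =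
          m * (D.z b * k * (k * D.z b)⁻¹) * m⁻¹ := by group
        rw [e1, h5]; group
      rw [h4] at h3
      have h5 := D.z_inj _ (fixed_Tr D.hq _) h3.symm
      exact fixed_div_of_Tr D.hq h5 h0
    have h3 : (fun c => c / a D (m * D.z b * m⁻¹)) '' (B : Set K) ⊆
        ((Card.Fq K n : AddSubgroup K) : Set K) := by
      rintro _ ⟨c, hc, rfl⟩
      exact h2 c hc
    have h4 := Set.ncard_le_ncard h3 (Set.toFinite _)
    rw [Set.ncard_image_of_injective _ (fun x y hxy => by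
      have hxy' : x / a D (m * D.z b * m⁻¹) = y / a D (m * D.z b * m⁻¹) := hxy
      exact (div_left_inj' h0).mp hxy')] at h4
    have h5 : ((Card.Fq K n : AddSubgroup K) : Set K).ncard = 2 ^ n := Card.card_Fq D.hq
    omega
  -- `k1` acts trivially on `B`
  have hfix : ∀ c ∈ (B : Set K), sc D (m * k1 * m⁻¹) * tau D (m * k1 * m⁻¹) c = c := by
    rintro c ⟨k, hk, rfl⟩
    have hk1S := hm k1 hk1
    have hkT := hHmem k hk
    have hkQ := (mem_T.mp hkT).1
    -- the conjugate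
    have h1 : a D ((m * k1 * m⁻¹) * (m * k * m⁻¹) * (m * k1 * m⁻¹)⁻¹) = a D (m * k * m⁻¹) := by
      obtain ⟨b, hb, h2⟩ := cmt_mem_Z (mem_T.mp hk1).1 (mem_T.mp hk.1).1
      have e1 : (m * k1 * m⁻¹) * (m * k * m⁻¹) * (m * k1 * m⁻¹)⁻¹ =
        (m * (k1 * k * k1⁻¹ * k⁻¹) * m⁻¹) * (m * k * m⁻¹) := by group
      rw [e1, h2, a_mul D (mem_T.mp (hz b).1).1 hkQ, (hz b).2, zero_add]
    rcases mem_Tt.mp hkT with h2 | h2
    · rw [a_P D h2, ← ca_conj F hk1S h2, ← a_P D (F.norm_P _ hk1S _ h2), h1, a_P D h2]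
    · have h3 : a D (m * k * m⁻¹) = D.ca (m * k * m⁻¹ * D.t) := by
        rw [← a_P D h2, a_mul D hkQ D.Q_t, a_t, add_zero]
      rw [h3, ← ca_conj F hk1S h2, ← a_P D (F.norm_P _ hk1S _ h2)]
      have h4 : (m * k1 * m⁻¹) * (m * k * m⁻¹ * D.t) * (m * k1 * m⁻¹)⁻¹ =
          (m * k1 * m⁻¹) * (m * k * m⁻¹) * (m * k1 * m⁻¹)⁻¹ * D.t := by
        have h5 : D.t * (m * k1 * m⁻¹)⁻¹ = (m * k1 * m⁻¹)⁻¹ * D.t :=
          (F.comm _ (inv_mem hk1S)).symm
        have e1 : (m * k1 * m⁻¹) * (m * k * m⁻¹ * D.t) * (m * k1 * m⁻¹)⁻¹ =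
          (m * k1 * m⁻¹) * (m * k * m⁻¹) * (D.t * (m * k1 * m⁻¹)⁻¹) := by group
        rw [e1, h5]; group
      have h6 : (m * k1 * m⁻¹) * (m * k * m⁻¹) * (m * k1 * m⁻¹)⁻¹ ∈ D.Q := by
        obtain ⟨b, hb, h2⟩ := cmt_mem_Z (mem_T.mp hk1).1 (mem_T.mp hk.1).1
        have e1 : (m * k1 * m⁻¹) * (m * k * m⁻¹) * (m * k1 * m⁻¹)⁻¹ =
          (m * (k1 * k * k1⁻¹ * k⁻¹) * m⁻¹) * (m * k * m⁻¹) := by group
        rw [e1, h2]
        exact mul_mem (mem_T.mp (hz b).1).1 hkQ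
      rw [h4, a_mul D h6 D.Q_t, a_t, add_zero, h1, h3]
  exact hne (FieldAut.eq_one_of_fixed D.hq hBgt hfix).1

include F hd he hm in
theorem conj_mem_Tt [Finite G] {k : G} (hk : k ∈ T D d) : m * k * m⁻¹ ∈ T D D.t :=
  mem_Tt.mpr (mem_of_tau F (hm k hk) (tau_eq_one F hd he hm hk))

include F hd he hm in
theorem exists_conj_Tt [Finite G] {k' : G} (hk' : k' ∈ T D D.t) :
    ∃ k ∈ T D d, m * k * m⁻¹ = k' := by
  have h1 : (T D d).map (MulAut.conj m).toMonoidHom ≤ T D D.t := by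
    rintro _ ⟨k, hk, rfl⟩
    exact conj_mem_Tt F hd he hm hk
  have h2 : (T D d).map (MulAut.conj m).toMonoidHom = T D D.t := by
    apply Subgroup.eq_of_le_of_card_ge h1
    rw [Subgroup.card_map_of_injective (MulAut.conj m).injective, card_Tt]
    exact le_card_T hd
  rw [← h2] at hk'
  obtain ⟨k, hk, h⟩ := hk'
  exact ⟨k, hk, h⟩

include F hd he hm in
theorem conj_z_mem [Finite G] (b : K) : ∃ c, bar n c = c ∧ m * D.z b * m⁻¹ = D.z c := by
  obtain ⟨b', hb', hbb⟩ := z_fixed D b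
  obtain ⟨k, hk, l, hl, h⟩ := z_eq_cmt hd he hb'
  refine ⟨Tr n (a D (m * k * m⁻¹) * bar n (a D (m * l * m⁻¹))), fixed_Tr D.hq _, ?_⟩
  rw [hbb, h, ← cmt_Tt (conj_mem_Tt F hd he hm hk) (conj_mem_Tt F hd he hm hl)]
  group

end conj

/-! ### The group `M` -/

/-- elements acting trivially on `T t` modulo `Z`. -/
def M (D : Pre G K n) : Subgroup G where
  carrier := {x | (∃ b, x * D.t * x⁻¹ = D.z b * D.t) ∧ ∀ p ∈ D.P, ∃ b, x * p * x⁻¹ = D.z b * p}
  one_mem' := ⟨⟨0, by rw [z_zero]; group⟩, fun p _ => ⟨0, by rw [z_zero]; group⟩⟩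
  mul_mem' := by
    rintro x y ⟨⟨b, hb⟩, hx⟩ ⟨⟨c, hc⟩, hy⟩
    have hz : ∀ c, x * D.z c * x⁻¹ = D.z c := by
      intro c
      obtain ⟨c', hc', hcc⟩ := z_fixed D c
      obtain ⟨y, hy⟩ := exists_norm D.hq hc'
      obtain ⟨p, hp, rfl⟩ := D.ca_surj y
      obtain ⟨d, hd⟩ := hx p hp
      rw [hcc, ← hy, ← D.P_sq p hp, NormQ.conj_mul, hd]
      have : D.z d * p * (D.z d * p) = D.z d * (p * D.z d) * p := by group
      rw [this, D.Q_Z p (D.P_le hp), ← mul_assoc, z_self, one_mul]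
    refine ⟨⟨c + b, ?_⟩, fun p hp => ?_⟩
    · rw [conj_sub, hc, NormQ.conj_mul, hz, hb, D.z_add, mul_assoc]
    · obtain ⟨d, hd⟩ := hy p hp
      obtain ⟨d', hd'⟩ := hx p hp
      exact ⟨d + d', by rw [conj_sub, hd, NormQ.conj_mul, hz, hd', D.z_add, mul_assoc]⟩
  inv_mem' := by
    rintro x ⟨⟨b, hb⟩, hx⟩
    have hz : ∀ c, x * D.z c = D.z c * x := by
      intro c
      obtain ⟨c', hc', hcc⟩ := z_fixed D c
      obtain ⟨y, hy⟩ := exists_norm D.hq hc'
      obtain ⟨p, hp, rfl⟩ := D.ca_surj y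
      obtain ⟨d, hd⟩ := hx p hp
      have h1 : x * D.z c' * x⁻¹ = D.z c' := by
        rw [← hy, ← D.P_sq p hp, NormQ.conj_mul, hd]
        have : D.z d * p * (D.z d * p) = D.z d * (p * D.z d) * p := by group
        rw [this, D.Q_Z p (D.P_le hp), ← mul_assoc, z_self, one_mul]
      rw [hcc]
      exact mul_inv_eq_iff_eq_mul.mp h1
    refine ⟨⟨b, ?_⟩, fun p hp => ?_⟩
    · have h1 : D.t = D.z b * (x⁻¹ * D.t * x) := by
        calc D.t = x⁻¹ * (x * D.t * x⁻¹) * x := by group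
          _ = x⁻¹ * (D.z b * D.t) * x := by rw [hb]
          _ = x⁻¹ * (D.z b * x) * x⁻¹ * D.t * x := by group
          _ = x⁻¹ * (x * D.z b) * x⁻¹ * D.t * x := by rw [hz]
          _ = _ := by group
      rw [inv_inv]
      conv_rhs => rw [h1, ← mul_assoc, z_self, one_mul]
    · obtain ⟨d, hd⟩ := hx p hp
      refine ⟨d, ?_⟩
      have h1 : p = D.z d * (x⁻¹ * p * x) := by
        calc p = x⁻¹ * (x * p * x⁻¹) * x := by group
          _ = x⁻¹ * (D.z d * p) * x := by rw [hd]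
          _ = x⁻¹ * (D.z d * x) * x⁻¹ * p * x := by group
          _ = x⁻¹ * (x * D.z d) * x⁻¹ * p * x := by rw [hz]
          _ = _ := by group
      rw [inv_inv]
      conv_rhs => rw [h1, ← mul_assoc, z_self, one_mul]

theorem Q_le_M : D.Q ≤ M D := by
  intro g hg
  refine ⟨⟨_, u_conj D hg⟩, fun p hp => ?_⟩
  obtain ⟨c, -, h⟩ := conj_P D hg hp
  exact ⟨c, h⟩

/-- `M = Q O`. -/
theorem M_dec (hO : Amb D O) {x : G} (hx : x ∈ M D) : ∃ q ∈ D.Q, ∃ k ∈ O, x = q * k := by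
  obtain ⟨b, hb⟩ := hx.1
  obtain ⟨b', hb', hbb⟩ := z_fixed D b
  rw [hbb] at hb
  obtain ⟨q, hq, hqb⟩ := D.Q_surj b' hb'
  have h1 : (q⁻¹ * x) * D.t = D.t * (q⁻¹ * x) := by
    have h3 : x * D.t = q * D.t * q⁻¹ * x := by rw [hqb, ← hb]; group
    rw [mul_assoc, h3]; group
  have hw : q⁻¹ * x ∈ M D := mul_mem (inv_mem (Q_le_M hq)) hx
  obtain ⟨y, hy, k, hk, h⟩ := hO.dec _ h1 (by
    intro p hp
    obtain ⟨c, hc⟩ := hw.2 p hp
    rw [hc]
    refine ⟨mul_mem (D.z_mem c) hp, ?_⟩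
    rw [D.ca_mul _ (D.z_mem c) p hp, D.ca_z, zero_add])
  exact ⟨q * y, mul_mem hq hy, k, hk, by rw [mul_assoc, ← h]; group⟩

/-- **Conjugates of `t` in `t V` are conjugate to `t` under `N(Q)`.** -/
theorem exists_norm_conj [Finite G] (hO : Amb D O) (F : Fl D Sig) {d y : G} (hd : d ∈ D.Q)
    (he : e D d = 1) (hy : y * D.t * y⁻¹ = d) : ∃ s, _root_.Cfsg.Agent.StdU3.NormQ.Norm D s ∧ s * D.t * s⁻¹ = d := by
  classical
  haveI : Fact (Nat.Prime 2) := ⟨Nat.prime_two⟩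
  -- move `C_Q(d)` into `Sig`
  have hT2 : IsPGroup 2 (T D d) := D.Q_two.to_le inf_le_left
  let Y : Subgroup G := (T D d).map (MulAut.conj y⁻¹).toMonoidHom
  obtain ⟨c, hct, hc⟩ := F.conj Y (hT2.map _) (by
    rintro _ ⟨k, hk, rfl⟩
    have h1 := (mem_T.mp hk).2
    show y⁻¹ * k * y⁻¹⁻¹ * D.t = D.t * (y⁻¹ * k * y⁻¹⁻¹)
    have h2 : y⁻¹ * k * y⁻¹⁻¹ * D.t = y⁻¹ * (k * (y * D.t * y⁻¹)) * y := by group
    rw [h2, hy, h1, ← hy]; group)
  set! m := c * y⁻¹ with hmd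
  have hm : ∀ k ∈ T D d, m * k * m⁻¹ ∈ Sig := by
    intro k hk
    have h1 := hc _ (⟨k, hk, rfl⟩ : y⁻¹ * k * y⁻¹⁻¹ ∈ Y)
    have h2 : m * k * m⁻¹ = c * (y⁻¹ * k * y⁻¹⁻¹) * c⁻¹ := by rw [hmd]; group
    rw [h2]; exact h1
  have hmdt : m * d * m⁻¹ = D.t := by
    rw [← hy, hmd]
    have : c * y⁻¹ * (y * D.t * y⁻¹) * (c * y⁻¹)⁻¹ = c * D.t * c⁻¹ := by group
    rw [this, hct]; group
  -- `m Q m⁻¹ ≤ M`
  let Q' : Subgroup G := D.Q.map (MulAut.conj m).toMonoidHom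
  have hQ'M : Q' ≤ M D := by
    rintro _ ⟨g, hg, rfl⟩
    show m * g * m⁻¹ ∈ M D
    refine ⟨?_, fun p hp => ?_⟩
    · obtain ⟨b, hb, h1⟩ := cmt_mem_Z hg hd
      obtain ⟨b', -, h2⟩ := conj_z_mem F hd he hm b
      refine ⟨b', ?_⟩
      rw [← h2, ← h1, ← hmdt]
      group
    · obtain ⟨k, hk, rfl⟩ := exists_conj_Tt F hd he hm (mem_Tt.mpr (Or.inl hp))
      obtain ⟨b, hb, h1⟩ := cmt_mem_Z hg (mem_T.mp hk).1
      obtain ⟨b', -, h2⟩ := conj_z_mem F hd he hm b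
      refine ⟨b', ?_⟩
      rw [← h2, ← h1]
      group
  -- Sylow in `M`
  have hQn : IsPGroup 2 (D.Q.subgroupOf (M D)) := D.Q_two.comap_subtype
  obtain ⟨S1, hS1⟩ := hQn.exists_le_sylow
  have hS1le : ∀ x : M D, x ∈ (S1 : Subgroup (M D)) → (x : G) ∈ D.Q := by
    intro x hx
    obtain ⟨q, hq, k, hk, h⟩ := M_dec hO x.2
    have hqS : (⟨q, Q_le_M hq⟩ : M D) ∈ (S1 : Subgroup (M D)) := hS1 hq
    have hkS : (⟨q, Q_le_M hq⟩ : M D)⁻¹ * x ∈ (S1 : Subgroup (M D)) := mul_mem (inv_mem hqS) hx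
    obtain ⟨j, hj⟩ := S1.isPGroup' ⟨_, hkS⟩
    have hkv : (((⟨q, Q_le_M hq⟩ : M D)⁻¹ * x : M D) : G) = k := by
      show q⁻¹ * (x : G) = k
      rw [h]; group
    have h3 : k ^ (2 ^ j) = 1 := by
      have h4 : ((⟨q, Q_le_M hq⟩ : M D)⁻¹ * x) ^ (2 ^ j) = 1 := congrArg Subtype.val hj
      have h5 := congrArg (Subtype.val : M D → G) h4
      rw [← hkv]
      exact h5
    have h4 := eq_one_of_O D hO hk h3
    rw [h, h4, mul_one]; exact hq
  have hQ'n : IsPGroup 2 (Q'.subgroupOf (M D)) := (D.Q_two.map _).comap_subtype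
  obtain ⟨S2, hS2⟩ := hQ'n.exists_le_sylow
  obtain ⟨r, hr⟩ := MulAction.exists_smul_eq (M D) S2 S1
  have hrQ : ∀ g ∈ D.Q, ((r : G) * m) * g * ((r : G) * m)⁻¹ ∈ D.Q := by
    intro g hg
    have h1 : m * g * m⁻¹ ∈ Q' := ⟨g, hg, rfl⟩
    have h2 : (⟨_, hQ'M h1⟩ : M D) ∈ (S2 : Subgroup (M D)) := hS2 h1
    have h3 : r * ⟨_, hQ'M h1⟩ * r⁻¹ ∈ (S1 : Subgroup (M D)) := by
      rw [← hr, Sylow.coe_subgroup_smul]
      exact Subgroup.smul_mem_pointwise_smul _ (MulAut.conj r) _ h2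
    have h4 := hS1le _ h3
    have h5 : ((r : G) * m) * g * ((r : G) * m)⁻¹ = r * (m * g * m⁻¹) * (r : G)⁻¹ := by group
    rw [h5]
    exact h4
  have hn : _root_.Cfsg.Agent.StdU3.NormQ.Norm D ((r : G) * m) := norm_of_fwd D hrQ
  obtain ⟨b, hb⟩ := r.2.1
  obtain ⟨b', hb', hbb⟩ := z_fixed D b
  obtain ⟨g, hg, hgb⟩ := D.Q_surj b' hb'
  refine ⟨((r : G) * m)⁻¹ * g, Norm.mul D (Norm.inv D hn) (Norm.of_mem D hg), ?_⟩
  have h1 : ((r : G) * m) * d * ((r : G) * m)⁻¹ = g * D.t * g⁻¹ := by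
    rw [hgb, ← hbb, ← hb, ← hmdt]; group
  have h2 : ((r : G) * m)⁻¹ * g * D.t * (((r : G) * m)⁻¹ * g)⁻¹ =
      ((r : G) * m)⁻¹ * (g * D.t * g⁻¹) * ((r : G) * m) := by group
  rw [h2, ← h1]; group

/-- `T3` at level one: if `N(Q)` normalizes `t Z`, the conjugates of `t` in `t V` are conjugate to
`t` under `W`. -/
theorem three [Finite G] (hO : Amb D O) (F : Fl D Sig)
    (hfix : ∀ s, _root_.Cfsg.Agent.StdU3.NormQ.Norm D s → ∃ g ∈ D.Q, (g⁻¹ * s) * D.t = D.t * (g⁻¹ * s)) {g y : G}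
    (hg : g ∈ V D) (hy : y * D.t * y⁻¹ = g * D.t) : ∃ w ∈ V D, w * D.t * w⁻¹ = g * D.t := by
  have hgQ := V_le D hg
  have hgtQ := mul_mem hgQ D.Q_t
  obtain ⟨s, hs, h1⟩ := exists_norm_conj hO F hgtQ
    (by rw [e_mul D hgQ D.Q_t, e_zero D hg, e_t, zero_add]) hy
  obtain ⟨k, hk, h2⟩ := hfix s hs
  have h3 : s * D.t * s⁻¹ = k * D.t * k⁻¹ := by
    have e1 : s * D.t * s⁻¹ = k * ((k⁻¹ * s) * D.t) * s⁻¹ := by group
    rw [e1, h2]; group
  rcases V_or D hk with h4 | h4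
  · exact ⟨k, h4, by rw [← h3, h1]⟩
  · refine ⟨k * D.t, h4, ?_⟩
    have : k * D.t * D.t * (k * D.t)⁻¹ = k * D.t * k⁻¹ := by group
    rw [this, ← h3, h1]

end Cfsg.Agent.StdU3.LevelOneD
end

-- part: StdU3/TermExists
section
/-!
# The terminal group at levels 1 and 2
-/

set_option autoImplicit false
set_option linter.unusedSectionVars false

namespace Cfsg.Agent.StdU3.TermExists

open Cfsg.Agent.StdU3.Field Cfsg.Agent.StdU3.PreDef Cfsg.Agent.StdU3.LevelOne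
open Cfsg.Agent.StdU3.LevelOneW Cfsg.Agent.StdU3.NormQ Cfsg.Agent.StdU3.Kernel
open Cfsg.Agent.StdU3.Next Cfsg.Agent.StdU3.LevelTwo Cfsg.Agent.StdU3.TermDef
open Cfsg.Agent.StdU3.FldDef

variable {G : Type*} [Group G] {K : Type*} [Field K] [Fintype K] [CharP K 2] {n : ℕ}
variable {D : Pre G K n}

/-- the structure `Fl` of `LevelOneD` from `Fld`. -/
theorem fl_of_fld (F : Fld D) : LevelOneD.Fl D F.Sg where
  two := F.Sg_two
  P_le := F.P_Sg
  t_mem := F.t_Sg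
  comm := F.Sg_t
  norm_P := F.Sg_P
  sl := by
    intro x hx
    have hxc : x ∈ Subgroup.centralizer ({D.t} : Set G) := by
      rw [Subgroup.mem_centralizer_singleton_iff]
      exact F.Sg_t x hx
    obtain ⟨c, hc, h1, -⟩ := F.chi_ca ⟨x, hxc⟩ (F.Sg_P x hx)
    exact ⟨c, F.chi ⟨x, hxc⟩, h1, F.chi_one ⟨x, hxc⟩ hx⟩
  conj := by
    intro Y hY hYt
    obtain ⟨g, hg, h⟩ := F.Sg_conj Y hY hYt
    have hg' : Commute g D.t := hg
    exact ⟨g⁻¹, hg'.inv_left, fun y hy => by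
      have := h y hy
      rwa [inv_inv]⟩

/-- the terminal group at level 1. -/
noncomputable def one [Finite G] (F : Fld D)
    (hfix : ∀ s, _root_.Cfsg.Agent.StdU3.NormQ.Norm D s → ∃ g ∈ D.Q, (g⁻¹ * s) * D.t = D.t * (g⁻¹ * s)) : Term D :=
  TermInst.one F.amb (by
    intro g hg _
    by_cases h : ∃ y : G, y * D.t * y⁻¹ = g * D.t
    · left
      obtain ⟨y, hy⟩ := h
      exact LevelOneD.three F.amb (fl_of_fld F) hfix hg hy
    · right
      push Not at h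
      exact h)

/-- the three cases. -/
theorem cases [Finite G] (F : Fld D) (hn : ∀ s ∈ F.Sg, _root_.Cfsg.Agent.StdU3.NormQ.Norm D s) :
    (∃ T : Term D, T.U = V D ∧ (∀ s, _root_.Cfsg.Agent.StdU3.NormQ.Norm D s → ∀ g ∈ T.U, s * g * s⁻¹ ∈ T.U)) ∨
    (gam D = 0 ∧ ∃ (X : Next D F.O) (T : Term D), T.U = U D X ∧
      (∀ c, ∃ s ∈ X.S, a D (s * D.t * s⁻¹) = c) ∧
      (∀ s ∈ F.Sg, ∀ g ∈ X.S, s * g * s⁻¹ ∈ X.S) ∧
      (∀ s ∈ F.Sg, ∀ g ∈ T.U, s * g * s⁻¹ ∈ T.U)) ∨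
    (gam D = 1 ∧ ∃ X : Next D F.O, (∀ c, bar n c = c → ∃ s ∈ X.S, u D (s * D.t * s⁻¹) = c) ∧
      (∀ s ∈ F.Sg, ∀ g ∈ X.S, s * g * s⁻¹ ∈ X.S)) := by
  obtain ⟨X, hX⟩ := exists_next D F.amb F.Sg F.Sg_two (fun s hs => hn s hs)
  rcases cases_of D F.O with h | ⟨hg, h⟩ | ⟨hg, h⟩
  · left
    exact ⟨one F h, rfl, fun s hs g hg => conj_V D hs hg⟩
  · right; left
    refine ⟨hg, X, TermInst.two hg F.amb X (h X), rfl, h X, hX, fun s hs g hg' => ?_⟩
    exact conj_U D X (hn s hs) (hX s hs) hg'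
  · right; right
    exact ⟨hg, X, h X, hX⟩

end Cfsg.Agent.StdU3.TermExists
end

-- part: StdU3/Swap
section
/-!
# The swapping element

`e ∈ Sg` is an outer involution conjugate to `t` and `e t` is not conjugate to `t`.  There is a
2-element `y` which interchanges `t` and `e`, normalises `Z`, and whose square normalises `P`.
-/

set_option autoImplicit false
set_option linter.unusedSectionVars false
set_option linter.dupNamespace false

namespace Cfsg.Agent.StdU3.Swap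

open Subgroup Cfsg.Agent.StdU3.Field Cfsg.Agent.StdU3.PreDef Cfsg.Agent.StdU3.FldDef
open Cfsg.Agent.StdU3.LevelOne Cfsg.Agent.StdU3.FieldAut Cfsg.Agent.StdU3.Rank

variable {G : Type*} [Group G] {K : Type*} [Field K] [Fintype K] [CharP K 2] {n : ℕ}

/-- elements of given norm on the line `c ā = a`. -/
theorem exists_on_line (hq : Qd K n) {c : K} (hc : N n c = 1) {b : K} (hb : bar n b = b) :
    ∃ a, c * bar n a = a ∧ N n a = b := by
  by_cases h0 : b = 0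
  · exact ⟨0, by rw [bar_zero, mul_zero], by rw [N_zero, h0]⟩
  obtain ⟨x, hx⟩ := exists_norm hq hb
  have hx0 : x ≠ 0 := by
    rintro rfl
    rw [N_zero] at hx
    exact h0 hx.symm
  obtain ⟨v, hv⟩ := (bijective_frobenius K 2).2 (c * bar n x / x)
  have hv2 : v * v = c * bar n x / x := by
    rw [← hv, frobenius_def, sq]
  have hNv : N n v = 1 := by
    have h1 : N n v * N n v = 1 := by
      rw [← N_mul, hv2, div_eq_mul_inv, N_mul, N_mul, N_inv, hc, N_bar hq, one_mul,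
        mul_inv_cancel₀ (N_ne_zero hx0)]
    have h2 : (N n v + 1) * (N n v + 1) = 0 := by
      have : (N n v + 1) * (N n v + 1) = (N n v * N n v + 1) + (N n v + N n v) := by ring
      rw [this, h1, Field.add_self, Field.add_self, add_zero]
    exact Field.add_eq_zero.mp (mul_self_eq_zero.mp h2)
  have hv0 : v ≠ 0 := by
    rintro rfl
    rw [N_zero] at hNv
    exact zero_ne_one hNv
  refine ⟨x * v, ?_, by rw [N_mul, hNv, mul_one, hx]⟩
  have h1 : v * bar n v = 1 := hNv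
  have h2 : c * bar n x = x * (v * v) := by
    rw [hv2]; field_simp
  calc c * bar n (x * v) = (c * bar n x) * bar n v := by rw [bar_mul, mul_assoc]
    _ = x * v * (v * bar n v) := by rw [h2]; ring
    _ = x * v := by rw [h1, mul_one]

variable {D : Pre G K n} (F : Fld D)

/-- an outer involution of `C(t)` normalising `P`. -/
structure Inv (e : G) : Prop where
  t : e * D.t = D.t * e
  P : ∀ p ∈ D.P, e * p * e⁻¹ ∈ D.P
  sq : e * e = 1
  ch : ch F e = barE D.hq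

variable {F} {e : G}

theorem Inv.inv (he : Inv F e) : e⁻¹ = e := by rw [inv_eq_iff_mul_eq_one, he.sq]

theorem Inv.line (he : Inv F e) : ∃ c : K, c ≠ 0 ∧ N n c = 1 ∧
    (∀ p ∈ D.P, D.ca (e * p * e⁻¹) = c * bar n (D.ca p)) ∧
    ∀ b, bar n b = b → e * D.z b * e⁻¹ = D.z b := by
  obtain ⟨c, hc, h1, h2⟩ := ch_ca F he.t he.P
  have h1' : ∀ p ∈ D.P, D.ca (e * p * e⁻¹) = c * bar n (D.ca p) := by
    intro p hp
    rw [h1 p hp, he.ch]; rfl
  have hNc : N n c = 1 := by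
    obtain ⟨y1, hy1, hy1'⟩ := D.ca_surj 1
    have e1 := h1' _ (he.P y1 hy1)
    have e2 : e * (e * y1 * e⁻¹) * e⁻¹ = y1 := by
      rw [he.inv]
      have : e * (e * y1 * e) * e = (e * e) * y1 * (e * e) := by group
      rw [this, he.sq]; group
    rw [e2, h1' y1 hy1, hy1', bar_one, mul_one] at e1
    exact e1.symm
  refine ⟨c, hc, hNc, h1', ?_⟩
  intro b hb
  rw [h2 b hb, he.ch]
  show D.z (N n c * bar n b) = D.z b
  rw [hNc, one_mul, hb]

/-- conjugating by an element of `P`. -/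
theorem Inv.conj_P (he : Inv F e) {y : G} (hy : y ∈ D.P) : Inv F (y * e * y⁻¹) := by
  have hyt := P_t (D := D) hy
  refine ⟨?_, ?_, ?_, ?_⟩
  · exact comm_mul (comm_mul hyt he.t) (comm_inv hyt)
  · intro p hp
    have e1 : y * e * y⁻¹ * p * (y * e * y⁻¹)⁻¹ = y * (e * (y⁻¹ * p * y) * e⁻¹) * y⁻¹ := by group
    rw [e1]
    exact mul_mem (mul_mem hy (he.P _ (mul_mem (mul_mem (inv_mem hy) hp) hy))) (inv_mem hy)
  · have e1 : y * e * y⁻¹ * (y * e * y⁻¹) = y * (e * e) * y⁻¹ := by group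
    rw [e1, he.sq]; group
  · rw [ch_conj F hyt he.t, he.ch]

theorem mul_mem_cls {x : G} (he : Inv F e) (h : (x * e) * (x * e) = 1) :
    e * x * e⁻¹ = x⁻¹ := by
  rw [he.inv]
  have : x * (e * x * e) = 1 := by rw [← h]; group
  exact (inv_eq_of_mul_eq_one_right this).symm

/-- the involutions of `P e` are conjugate under `P`. -/
theorem Inv.conj_of_sq (he : Inv F e) {p : G} (hp : p ∈ D.P) (h : (p * e) * (p * e) = 1) :
    ∃ y ∈ D.P, p * e = y * e * y⁻¹ := by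
  obtain ⟨c, hc, hNc, h1, h2⟩ := he.line
  have h3 := mul_mem_cls he h
  have hline : c * bar n (D.ca p) = D.ca p := by
    rw [← h1 p hp, h3, ca_inv D hp]
  obtain ⟨ε, hε⟩ := exists_Tr_one D.hq
  obtain ⟨y, hy, hye⟩ := D.ca_surj (D.ca p * ε)
  set! f := y⁻¹ * e * y with hf
  have hfe : f = y⁻¹ * e * y⁻¹⁻¹ := by rw [hf, inv_inv]
  have hfI : Inv F f := by rw [hfe]; exact he.conj_P (inv_mem hy)
  set! r := f * e with hr
  have hr' : r = y⁻¹ * (e * y * e⁻¹) := by rw [hr, hf, he.inv]; group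
  have hrP : r ∈ D.P := by rw [hr']; exact mul_mem (inv_mem hy) (he.P y hy)
  have hca : D.ca r = D.ca p := by
    rw [hr', D.ca_mul _ (inv_mem hy) _ (he.P y hy), ca_inv D hy, h1 y hy, hye, bar_mul, ← mul_assoc,
      hline, ← mul_add]
    have : ε + bar n ε = 1 := hε
    rw [this, mul_one]
  obtain ⟨b, hb, hbr⟩ := eq_z_mul D hp hrP hca.symm
  have hpf : p * e = D.z b * f := by
    rw [hbr, hr]
    have : D.z b * (f * e) * e = D.z b * f * (e * e) := by group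
    rw [this, he.sq, mul_one]
  -- `c'` for `f`
  have h1f : ∀ x ∈ D.P, D.ca (f * x * f⁻¹) = c * bar n (D.ca x) := by
    intro x hx
    have e1 : f * x * f⁻¹ = r * (e * x * e⁻¹) * r⁻¹ := by
      rw [hr]
      have : f * e * (e * x * e⁻¹) * (f * e)⁻¹ = f * (e * e) * x * (e * e)⁻¹ * f⁻¹ := by group
      rw [this, he.sq]; group
    rw [e1, D.ca_mul _ (mul_mem hrP (he.P x hx)) _ (inv_mem hrP), D.ca_mul _ hrP _ (he.P x hx),
      ca_inv D hrP, h1 x hx]
    have : D.ca r + c * bar n (D.ca x) + D.ca r = c * bar n (D.ca x) + (D.ca r + D.ca r) := by ring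
    rw [this, Field.add_self, add_zero]
  obtain ⟨a', ha', hNa'⟩ := exists_on_line D.hq hNc hb
  obtain ⟨y', hy', hye'⟩ := D.ca_surj (a' * ε)
  set! r' := y'⁻¹ * (f * y' * f⁻¹) with hr2
  have hr2P : r' ∈ D.P := mul_mem (inv_mem hy') (hfI.P y' hy')
  have hca' : D.ca r' = a' := by
    rw [hr2, D.ca_mul _ (inv_mem hy') _ (hfI.P y' hy'), ca_inv D hy', h1f y' hy', hye', bar_mul,
      ← mul_assoc, ha', ← mul_add]
    have : ε + bar n ε = 1 := hε
    rw [this, mul_one]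
  have hfr : f * r' * f⁻¹ = r'⁻¹ := by
    rw [hr2, hfI.inv]
    have e1 : f * (y'⁻¹ * (f * y' * f)) * f = f * y'⁻¹ * f * y' * (f * f) := by group
    rw [e1, hfI.sq, mul_one]
    have e2 : (y'⁻¹ * (f * y' * f))⁻¹ = f⁻¹ * y'⁻¹ * f⁻¹ * y' := by group
    rw [e2, hfI.inv]
  have hconj : r' * f * r'⁻¹ = D.z b * f := by
    have e1 : r' * f * r'⁻¹ = r' * (f * r' * f⁻¹)⁻¹ * f := by group
    rw [e1, hfr, inv_inv, D.P_sq r' hr2P, hca', hNa']
  refine ⟨r' * y⁻¹, mul_mem hr2P (inv_mem hy), ?_⟩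
  rw [hpf, ← hconj, hf]; group

/-- the standing assumptions on `e`. -/
structure Hyp (F : Fld D) (e : G) : Prop extends Inv F e where
  mem : e ∈ F.Sg
  conj : ∃ g, g * D.t * g⁻¹ = e
  not : ∀ g, g * D.t * g⁻¹ ≠ e * D.t

theorem Hyp.conj_P (he : Hyp F e) {x : G} (hx : x ∈ D.P ∨ x * D.t ∈ D.P) {g : G}
    (hg : x * e = g * D.t * g⁻¹) : ∃ y ∈ D.P, x * e = y * e * y⁻¹ := by
  have hsq : (x * e) * (x * e) = 1 := by
    rw [hg]
    have : g * D.t * g⁻¹ * (g * D.t * g⁻¹) = g * (D.t * D.t) * g⁻¹ := by group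
    rw [this, D.t_sq]; group
  rcases hx with hx | hx
  · exact he.toInv.conj_of_sq hx hsq
  · exfalso
    have h1 : x * D.t * e = x * e * D.t := by rw [mul_assoc, ← he.t, mul_assoc]
    have hxt : x * D.t = D.t * x := by
      have := P_t (D := D) hx
      calc x * D.t = (x * D.t * D.t) * D.t := by rw [mul_assoc x, D.t_sq, mul_one]
        _ = D.t * x * (D.t * D.t) := by rw [this]; group
        _ = D.t * x := by rw [D.t_sq, mul_one]
    have h2 : (x * D.t * e) * (x * D.t * e) = 1 := by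
      have h3 : D.t * (x * e) = x * e * D.t := by
        rw [← mul_assoc, ← hxt, mul_assoc, ← he.t, mul_assoc]
      rw [h1]
      have : x * e * D.t * (x * e * D.t) = x * e * (D.t * (x * e)) * D.t := by group
      rw [this, h3]
      have : x * e * (x * e * D.t) * D.t = (x * e) * (x * e) * (D.t * D.t) := by group
      rw [this, hsq, D.t_sq, mul_one]
    obtain ⟨y, hy, h4⟩ := he.toInv.conj_of_sq hx h2
    have h5 : x * e = y * (e * D.t) * y⁻¹ := by
      have h6 : x * e = x * D.t * e * D.t := by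
        rw [h1, mul_assoc (x * e), D.t_sq, mul_one]
      rw [h6, h4]
      have h7 : y⁻¹ * D.t = D.t * y⁻¹ := P_t (D := D) (inv_mem hy)
      calc y * e * y⁻¹ * D.t = y * e * (y⁻¹ * D.t) := by group
        _ = y * (e * D.t) * y⁻¹ := by rw [h7]; group
    apply he.not (y⁻¹ * g)
    have : y⁻¹ * g * D.t * (y⁻¹ * g)⁻¹ = y⁻¹ * (g * D.t * g⁻¹) * y := by group
    rw [this, ← hg, h5]; group

theorem hyp_of (hS : e ∈ F.Sg) (hch : ch F e = barE D.hq) (hconj : ∃ g, g * D.t * g⁻¹ = e)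
    (hnot : ∀ g, g * D.t * g⁻¹ ≠ e * D.t) : Hyp F e where
  t := F.Sg_t e hS
  P := F.Sg_P e hS
  sq := by
    obtain ⟨g, rfl⟩ := hconj
    have : g * D.t * g⁻¹ * (g * D.t * g⁻¹) = g * (D.t * D.t) * g⁻¹ := by group
    rw [this, D.t_sq]; group
  ch := hch
  mem := hS
  conj := hconj
  not := hnot

/-- the torus of `C(⟨t, e⟩)`. -/
theorem Hyp.exists_torus (he : Hyp F e) {l : Kˣ} (hl : bar n (l : K) = l) :
    ∃ m, m * D.t = D.t * m ∧ m * e = e * m ∧
      ∀ x ∈ D.P, m * x * m⁻¹ ∈ D.P ∧ D.ca (m * x * m⁻¹) = l * D.ca x := by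
  obtain ⟨c, hc, hNc, h1, h2⟩ := he.line
  obtain ⟨g0, hg0⟩ := he.conj
  have hw : w n l = l := by
    unfold w
    rw [hl, sq, mul_assoc, mul_inv_cancel₀ l.ne_zero, mul_one]
  set! a := D.h l with ha
  have hat : a * D.t = D.t * a := (D.t_h l).symm
  have haP : ∀ x ∈ D.P, a * x * a⁻¹ ∈ D.P := D.h_P l
  have haca : ∀ x ∈ D.P, D.ca (a * x * a⁻¹) = l * D.ca x := by
    intro x hx
    rw [D.h_ca l x hx, hw]
  -- the inverse of `a`
  have haP' : ∀ x ∈ D.P, a⁻¹ * x * a ∈ D.P := by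
    intro x hx
    have h3 := F.ti a⁻¹ (comm_inv hat)
    by_cases hb : ∀ b, bar n b = b → D.z b = 1
    · exfalso
      exact one_ne_zero (D.z_inj 1 (bar_one n) (hb 1 (bar_one n)))
    · push Not at hb
      obtain ⟨b, hb, hb1⟩ := hb
      have h4 := h3 (a * D.z b * a⁻¹) (haP _ (D.z_mem b)) (by
        intro h5
        apply hb1
        have : D.z b = a⁻¹ * (a * D.z b * a⁻¹) * a := by group
        rw [this, h5]; group) (by
        have : a⁻¹ * (a * D.z b * a⁻¹) * a⁻¹⁻¹ = D.z b := by group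
        rw [this]; exact D.z_mem b) x hx
      rwa [inv_inv] at h4
  have haca' : ∀ x ∈ D.P, D.ca (a⁻¹ * x * a) = (l : K)⁻¹ * D.ca x := by
    intro x hx
    have h3 := haca _ (haP' x hx)
    have : a * (a⁻¹ * x * a) * a⁻¹ = x := by group
    rw [this] at h3
    rw [h3, ← mul_assoc, inv_mul_cancel₀ l.ne_zero, one_mul]
  set! r := a * e * a⁻¹ * e⁻¹ with hr
  have hrt : r * D.t = D.t * r :=
    comm_mul (comm_mul (comm_mul hat he.t) (comm_inv hat)) (comm_inv he.t)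
  obtain ⟨x, hx, k, hk, hrk⟩ := F.amb.dec r hrt (by
    intro p hp
    have hp1 : e⁻¹ * p * e ∈ D.P := by
      have := he.P p hp
      rwa [he.inv] at this ⊢
    have e1 : r * p * r⁻¹ = a * (e * (a⁻¹ * (e⁻¹ * p * e) * a) * e⁻¹) * a⁻¹ := by
      rw [hr]; group
    have hp2 := haP' _ hp1
    have hp3 := he.P _ hp2
    refine ⟨by rw [e1]; exact haP _ hp3, ?_⟩
    rw [e1, haca _ hp3, h1 _ hp2, haca' _ hp1]
    have e2 : D.ca p = c * bar n (D.ca (e⁻¹ * p * e)) := by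
      rw [← h1 _ hp1]
      congr 1
      group
    rw [bar_mul, bar_inv, hl, e2]
    have : (l : K) * (c * ((l : K)⁻¹ * bar n (D.ca (e⁻¹ * p * e)))) =
      ((l : K) * (l : K)⁻¹) * (c * bar n (D.ca (e⁻¹ * p * e))) := by ring
    rw [this, mul_inv_cancel₀ l.ne_zero, one_mul])
  have hkt := F.amb.O_t k hk
  have hxt : x * D.t = D.t * x := by
    have : x = r * k⁻¹ := by rw [hrk]; group
    rw [this]
    exact comm_mul hrt (comm_inv hkt)
  have hxP := D.Q_T x hx hxt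
  have hae : a * e * a⁻¹ = x * k * e := by
    rw [← hrk, hr]; group
  -- `k` commutes with `⟨t⟩ P`
  have hkcls : ∀ y, (y ∈ D.P ∨ y * D.t ∈ D.P) → k * y = y * k := by
    rintro y (hy | hy)
    · exact F.amb.O_P k hk y hy
    · have h3 := F.amb.O_P k hk _ hy
      have e1 : y = y * D.t * D.t := by rw [mul_assoc, D.t_sq, mul_one]
      rw [e1]
      calc k * (y * D.t * D.t) = (k * (y * D.t)) * D.t := by group
        _ = (y * D.t) * (k * D.t) := by rw [h3]; group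
        _ = y * D.t * D.t * k := by rw [hkt]; group
  have hex : e * x * e⁻¹ ∈ D.P ∨ e * x * e⁻¹ * D.t ∈ D.P := by
    rcases hxP with h3 | h3
    · exact Or.inl (he.P x h3)
    · right
      have e1 : e * x * e⁻¹ * D.t = e * (x * D.t) * e⁻¹ := by
        have h4 : e⁻¹ * D.t = D.t * e⁻¹ := comm_inv he.t
        calc e * x * e⁻¹ * D.t = e * x * (e⁻¹ * D.t) := by group
          _ = _ := by rw [h4]; group
      rw [e1]; exact he.P _ h3
  have hcls_Q : ∀ y, (y ∈ D.P ∨ y * D.t ∈ D.P) → y ∈ D.Q := by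
    rintro y (hy | hy)
    · exact D.P_le hy
    · have e1 : y = y * D.t * D.t := by rw [mul_assoc, D.t_sq, mul_one]
      rw [e1]
      exact mul_mem (D.P_le hy) D.Q_t
  have hsq : (x * (e * x * e⁻¹)) * (k * (e * k * e⁻¹)) = 1 := by
    have h3 : (a * e * a⁻¹) * (a * e * a⁻¹) = 1 := by
      have : (a * e * a⁻¹) * (a * e * a⁻¹) = a * (e * e) * a⁻¹ := by group
      rw [this, he.sq]; group
    have h4 := hkcls _ hex
    rw [← h3, hae]
    have e1 : x * k * e * (x * k * e) = x * (k * (e * x * e⁻¹)) * (e * k * e⁻¹) * (e * e) := by group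
    rw [e1, h4, he.sq, mul_one]; group
  have hkk : k * (e * k * e⁻¹) ∈ F.O := mul_mem hk (F.O_conj e he.t k hk)
  have hxx : x * (e * x * e⁻¹) = 1 := by
    have h3 : x * (e * x * e⁻¹) ∈ F.O := by
      rw [eq_inv_of_mul_eq_one_left hsq]
      exact inv_mem hkk
    obtain ⟨j, hj⟩ := D.Q_two ⟨x * (e * x * e⁻¹), mul_mem hx (hcls_Q _ hex)⟩
    exact Next.eq_one_of_O D F.amb h3 (congrArg Subtype.val hj)
  have hkk1 : e * k * e⁻¹ = k⁻¹ := by
    rw [hxx, one_mul] at hsq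
    exact (inv_eq_of_mul_eq_one_right hsq).symm
  obtain ⟨i, hi⟩ := F.amb.odd
  set! j := k ^ (i + 1) with hj
  have hjj : j * j = k := by
    rw [hj, ← pow_add]
    have : i + 1 + (i + 1) = (2 * i + 1) + 1 := by ring
    rw [this, pow_succ, ← hi, Next.pow_card_O hk, one_mul]
  have hjO : j ∈ F.O := pow_mem hk _
  have hje : e * j * e⁻¹ = j⁻¹ := by
    rw [hj, ← conj_pow, hkk1, inv_pow]
  have hjke : j * e * j⁻¹ = k * e := by
    have e1 : j * e * j⁻¹ = j * (e * j * e⁻¹)⁻¹ * e := by group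
    rw [e1, hje, inv_inv, hjj]
  have hjx : j * x = x * j := by
    have : Commute k x := hkcls x hxP
    exact this.pow_left _
  have hconj : j⁻¹ * a * e * (j⁻¹ * a)⁻¹ = x * e := by
    have e1 : j⁻¹ * a * e * (j⁻¹ * a)⁻¹ = j⁻¹ * (a * e * a⁻¹) * j := by group
    have hjx' : j⁻¹ * x = x * j⁻¹ := comm_inv (x := j) (d := x) hjx
    rw [e1, hae]
    calc j⁻¹ * (x * k * e) * j = (j⁻¹ * x) * (k * e) * j := by group
      _ = x * e := by rw [hjx', ← hjke]; group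
  obtain ⟨y, hy, hye⟩ := he.conj_P hxP (g := j⁻¹ * a * g0) (by
    rw [← hconj, ← hg0]; group)
  have hyt := P_t (D := D) hy
  have hjt := F.amb.O_t j hjO
  refine ⟨y⁻¹ * (j⁻¹ * a), comm_mul (comm_inv hyt) (comm_mul (comm_inv hjt) hat), ?_, ?_⟩
  · have e1 : y⁻¹ * (j⁻¹ * a) * e = y⁻¹ * (j⁻¹ * a * e * (j⁻¹ * a)⁻¹) * (j⁻¹ * a) := by group
    rw [e1, hconj, hye]; group
  · intro p hp
    have hap := haP p hp
    have hjp : j⁻¹ * (a * p * a⁻¹) * j = a * p * a⁻¹ := by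
      have h3 := F.amb.O_P j hjO _ hap
      rw [mul_assoc, ← h3]; group
    have e1 : y⁻¹ * (j⁻¹ * a) * p * (y⁻¹ * (j⁻¹ * a))⁻¹ =
        y⁻¹ * (j⁻¹ * (a * p * a⁻¹) * j) * y := by group
    rw [e1, hjp]
    refine ⟨mul_mem (mul_mem (inv_mem hy) hap) hy, ?_⟩
    rw [D.ca_mul _ (mul_mem (inv_mem hy) hap) _ hy, D.ca_mul _ (inv_mem hy) _ hap, ca_inv D hy,
      haca p hp]
    have : D.ca y + l * D.ca p + D.ca y = l * D.ca p + (D.ca y + D.ca y) := by ring
    rw [this, Field.add_self, add_zero]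

/-- `t ∈ A` is impossible. -/
theorem cls_mem {x : G} (hx : x ∈ D.P ∨ x * D.t ∈ D.P) (hxA : x ∈ F.A) : x ∈ D.P := by
  rcases hx with hx | hx
  · exact hx
  · exfalso
    apply F.t_A
    have : D.t = x⁻¹ * (x * D.t) := by group
    rw [this]
    exact mul_mem (inv_mem hxA) (F.P_A hx)

theorem A_conj' {g : G} (hg : g * D.t = D.t * g) {a : G} (ha : a ∈ F.A) : g⁻¹ * a * g ∈ F.A := by
  have := F.A_norm g⁻¹ (comm_inv hg) a ha
  rwa [inv_inv] at this

/-- a 2-subgroup of `C(t)` containing `P` and without Galois component, or a conjugate of `P`. -/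
theorem exists_conj_fix [Finite G] {x : G} (hxt : x * D.t = D.t * x) (hx2 : ∃ k, x ^ (2 ^ k) = 1)
    (hxP : ∀ p ∈ D.P, x * p * x⁻¹ ∈ D.P) :
    ∃ g, g * D.t = D.t * g ∧ (∀ p ∈ D.P, g * p * g⁻¹ ∈ D.P) ∧ g⁻¹ * x * g ∈ F.Sg := by
  classical
  have : Fact (Nat.Prime 2) := ⟨Nat.prime_two⟩
  -- the group `P ⟨x⟩`
  have hnorm : Subgroup.zpowers x ≤ Subgroup.normalizer (D.P : Set G) := by
    rw [Subgroup.zpowers_le, Subgroup.mem_normalizer_iff]
    intro p
    refine ⟨fun hp => hxP p hp, fun hp => ?_⟩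
    have h2 : D.P.map (MulAut.conj x).toMonoidHom ≤ D.P := by
      rintro _ ⟨g, hg, rfl⟩
      exact hxP g hg
    have h3 : D.P.map (MulAut.conj x).toMonoidHom = D.P := by
      apply Subgroup.eq_of_le_of_card_ge h2
      rw [Subgroup.card_map_of_injective (MulAut.conj x).injective]
    have hp' : x * p * x⁻¹ ∈ D.P.map (MulAut.conj x).toMonoidHom := by rw [h3]; exact hp
    obtain ⟨y, hy, he⟩ := hp'
    have : y = p := by
      have h4 : x * y * x⁻¹ = x * p * x⁻¹ := he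
      exact mul_left_cancel (mul_right_cancel h4)
    rw [← this]; exact hy
  have hP2 : IsPGroup 2 D.P := D.Q_two.to_le D.P_le
  have hx2' : IsPGroup 2 (Subgroup.zpowers x) := by
    obtain ⟨k, hk⟩ := hx2
    rintro ⟨y, hy⟩
    obtain ⟨m, rfl⟩ := Subgroup.mem_zpowers_iff.mp hy
    refine ⟨k, Subtype.ext ?_⟩
    show (x ^ m) ^ (2 ^ k) = 1
    rw [← zpow_natCast, ← zpow_mul, mul_comm, zpow_mul, zpow_natCast, hk, one_zpow]
  have hX2 : IsPGroup 2 (D.P ⊔ Subgroup.zpowers x : Subgroup G) :=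
    IsPGroup.to_sup_of_normal_left' hP2 hx2' hnorm
  have hXt : ∀ y ∈ (D.P ⊔ Subgroup.zpowers x : Subgroup G), y * D.t = D.t * y := by
    have h1 : (D.P ⊔ Subgroup.zpowers x : Subgroup G) ≤ centralizer ({D.t} : Set G) := by
      rw [sup_le_iff, Subgroup.zpowers_le]
      exact ⟨fun p hp => mem_cent (P_t (D := D) hp), mem_cent hxt⟩
    intro y hy
    exact mem_centralizer_singleton_iff.mp (h1 hy)
  obtain ⟨g, hg, hgX⟩ := F.Sg_conj _ hX2 hXt
  refine ⟨g, hg, ?_, hgX x (Subgroup.mem_sup_right (Subgroup.mem_zpowers x))⟩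
  have h5 : ∀ p ∈ D.P, g⁻¹ * p * g ∈ D.P := by
    intro p hp
    have h6 := hgX p (Subgroup.mem_sup_left hp)
    have h7 : ch F (g⁻¹ * p * g) = 1 := by
      have := ch_conj F (comm_inv hg) (P_t (D := D) hp)
      rw [inv_inv] at this
      rw [this, ch_P F hp]
    exact cls_mem (ch_ker F h6 h7) (A_conj' hg (F.P_A hp))
  intro p hp
  have h2 : D.P.map (MulAut.conj g⁻¹).toMonoidHom ≤ D.P := by
    rintro _ ⟨y, hy, rfl⟩
    show g⁻¹ * y * g⁻¹⁻¹ ∈ D.P
    rw [inv_inv]; exact h5 y hy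
  have h3 : D.P.map (MulAut.conj g⁻¹).toMonoidHom = D.P := by
    apply Subgroup.eq_of_le_of_card_ge h2
    rw [Subgroup.card_map_of_injective (MulAut.conj g⁻¹).injective]
  rw [← h3] at hp
  obtain ⟨y, hy, rfl⟩ := hp
  have : g * (MulAut.conj g⁻¹).toMonoidHom y * g⁻¹ = y := by
    show g * (g⁻¹ * y * g⁻¹⁻¹) * g⁻¹ = y
    group
  rw [this]; exact hy

/-- 2-elements of `C(t)` normalising `P` without Galois component. -/
theorem cls_of_ch [Finite G] {x : G} (hxt : x * D.t = D.t * x) (hx2 : ∃ k, x ^ (2 ^ k) = 1)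
    (hxP : ∀ p ∈ D.P, x * p * x⁻¹ ∈ D.P) (hch : ch F x = 1) : x ∈ D.P ∨ x * D.t ∈ D.P := by
  obtain ⟨g, hg, hgP, hgx⟩ := exists_conj_fix (F := F) hxt hx2 hxP
  have h1 : ch F (g⁻¹ * x * g) = 1 := by
    have := ch_conj F (comm_inv hg) hxt
    rw [inv_inv] at this
    rw [this, hch]
  rcases ch_ker F hgx h1 with h | h
  · left
    have : x = g * (g⁻¹ * x * g) * g⁻¹ := by group
    rw [this]; exact hgP _ h
  · right
    have h2 : g * D.t * g⁻¹ = D.t := by rw [hg]; group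
    have : x * D.t = g * (g⁻¹ * x * g * D.t) * g⁻¹ := by
      calc x * D.t = x * (g * D.t * g⁻¹) := by rw [h2]
        _ = _ := by group
    rw [this]; exact hgP _ h

theorem z_inv (b : K) : (D.z b)⁻¹ = D.z b := by
  rw [inv_eq_iff_mul_eq_one, ← D.z_add, Field.add_self, z_zero]

theorem z_sq (b : K) : D.z b * D.z b = 1 := by rw [← D.z_add, Field.add_self, z_zero]

theorem Inv.ze (he : Inv F e) {b : K} (hb : bar n b = b) : D.z b * e = e * D.z b := by
  obtain ⟨c, hc, hNc, hline, hez⟩ := he.line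
  have := hez b hb
  rw [mul_inv_eq_iff_eq_mul] at this
  exact this.symm

/-- the group `Z`. -/
def Z (D : Pre G K n) : Subgroup G where
  carrier := {x | ∃ b, bar n b = b ∧ x = D.z b}
  one_mem' := ⟨0, bar_zero n, (z_zero D).symm⟩
  mul_mem' := by
    rintro _ _ ⟨b, hb, rfl⟩ ⟨b', hb', rfl⟩
    exact ⟨b + b', fixed_add hb hb', (D.z_add b b').symm⟩
  inv_mem' := by
    rintro _ ⟨b, hb, rfl⟩
    exact ⟨b, hb, z_inv b⟩

/-- `Z ≤ A_e`, more precisely -/
theorem Hyp.exists_g [Finite G] (he : Hyp F e) : ∃ g, g * D.t * g⁻¹ = e ∧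
    (∀ b, bar n b = b → g⁻¹ * D.z b * g ∈ D.P) := by
  classical
  obtain ⟨g0, hg0⟩ := he.conj
  obtain ⟨l, hl, hl1⟩ := exists_fixed_ne D.hq
  obtain ⟨m, hmt, hme, hmP⟩ := he.exists_torus hl
  -- action of `m` on `Z`
  have hmz : ∀ b, bar n b = b → m * D.z b * m⁻¹ = D.z ((l : K) ^ 2 * b) := by
    intro b hb
    obtain ⟨a, ha⟩ := exists_norm D.hq hb
    obtain ⟨x, hx, rfl⟩ := D.ca_surj a
    have h1 := D.P_sq x hx
    have h2 := D.P_sq _ (hmP x hx).1
    rw [(hmP x hx).2, N_mul, N_of_fixed hl, ha] at h2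
    rw [ha] at h1
    rw [← h2, ← h1]; group
  have hl2 : (l : K) ^ 2 + 1 ≠ 0 := by
    intro h
    have h1 : ((l : K) + 1) * ((l : K) + 1) = 0 := by
      have : ((l : K) + 1) * ((l : K) + 1) = ((l : K) ^ 2 + 1) + ((l : K) + l) := by ring
      rw [this, h, Field.add_self, add_zero]
    exact hl1 (Field.add_eq_zero.mp (mul_self_eq_zero.mp h1))
  have hZ2 : IsPGroup 2 (Z D) := isPGroup_of_sq (by
    rintro _ ⟨b, hb, rfl⟩
    exact z_sq b)
  obtain ⟨g, hgt, hgZ⟩ : ∃ g, g * D.t * g⁻¹ = e ∧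
      (∀ b, bar n b = b → g⁻¹ * D.z b * g ∈ F.Sg) := by
    obtain ⟨g', hg't, hg'Z⟩ := exists_conj_Sg F (y := g0) hZ2 (by
      rintro _ ⟨b, hb, rfl⟩
      rw [hg0]
      exact he.ze hb)
    refine ⟨g'⁻¹, ?_, fun b hb => ?_⟩
    · rw [← hg't, hg0]; group
    · rw [inv_inv]
      exact hg'Z _ ⟨b, hb, rfl⟩
  have hcomm : ∀ x, x * e = e * x → (g⁻¹ * x * g) * D.t = D.t * (g⁻¹ * x * g) := by
    intro x hx
    have h1 : D.t = g⁻¹ * e * g := by rw [← hgt]; group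
    rw [h1]
    calc g⁻¹ * x * g * (g⁻¹ * e * g) = g⁻¹ * (x * e) * g := by group
      _ = _ := by rw [hx]; group
  refine ⟨g, hgt, ?_⟩
  have hmt' := hcomm m hme
  -- `Z = [Z, m]`
  have hdec : ∀ b, bar n b = b → ∃ b', bar n b' = b' ∧
      g⁻¹ * D.z b * g = (g⁻¹ * m * g) * (g⁻¹ * D.z b' * g) * (g⁻¹ * m * g)⁻¹ *
        (g⁻¹ * D.z b' * g)⁻¹ := by
    intro b hb
    refine ⟨b * ((l : K) ^ 2 + 1)⁻¹, ?_, ?_⟩
    · apply fixed_mul hb
      apply fixed_inv
      apply fixed_add _ (bar_one n)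
      rw [bar_pow, hl]
    · set b' := b * ((l : K) ^ 2 + 1)⁻¹ with hb'
      have hfix : bar n b' = b' := by
        apply fixed_mul hb
        apply fixed_inv
        apply fixed_add _ (bar_one n)
        rw [bar_pow, hl]
      have hbb : b = (l : K) ^ 2 * b' + b' := by
        rw [hb']
        field_simp
      have h1 : D.z b = m * D.z b' * m⁻¹ * (D.z b')⁻¹ := by
        rw [hmz b' hfix, z_inv, ← D.z_add, ← hbb]
      rw [h1]; group
  have hch1 : ∀ b, bar n b = b → ch F (g⁻¹ * D.z b * g) = 1 := by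
    intro b hb
    obtain ⟨b', hb', h2⟩ := hdec b hb
    have hyt := hcomm _ (he.ze hb')
    rw [h2, ch_mul F (comm_mul (comm_mul hmt' hyt) (comm_inv hmt')) (comm_inv hyt),
      ch_conj F hmt' hyt, ch_inv F hyt, mul_inv_cancel]
  intro b hb
  obtain ⟨b', hb', h2⟩ := hdec b hb
  apply cls_mem (F := F) (ch_ker F (hgZ b hb) (hch1 b hb))
  rw [h2]
  set y := g⁻¹ * D.z b' * g with hy
  set m' := g⁻¹ * m * g with hm'
  rcases ch_ker F (hgZ b' hb') (hch1 b' hb') with h3 | h3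
  · exact mul_mem (F.A_norm _ hmt' _ (F.P_A h3)) (inv_mem (F.P_A h3))
  · have h4 : m' * y * m'⁻¹ * y⁻¹ = m' * (y * D.t) * m'⁻¹ * (y * D.t)⁻¹ := by
      have h5 : D.t * m'⁻¹ * D.t⁻¹ = m'⁻¹ := by
        rw [← comm_inv hmt']; group
      calc m' * y * m'⁻¹ * y⁻¹ = m' * y * (D.t * m'⁻¹ * D.t⁻¹) * y⁻¹ := by rw [h5]
        _ = _ := by group
    rw [h4]
    exact mul_mem (F.A_norm _ hmt' _ (F.P_A h3)) (inv_mem (F.P_A h3))

/-- `y` interchanges `t` and `e`, normalises `Z`, and `y²` normalises `P`. -/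
structure Swap (D : Pre G K n) (e y : G) : Prop where
  te : y * D.t * y⁻¹ = e
  et : y * e * y⁻¹ = D.t
  z : ∀ b, bar n b = b → ∃ c, bar n c = c ∧ y * D.z b * y⁻¹ = D.z c
  P : ∀ p ∈ D.P, y * (y * p * y⁻¹) * y⁻¹ ∈ D.P

/-- **the swapping element**. -/
theorem Hyp.exists_swap [Finite G] (he : Hyp F e) : ∃ y, Swap D e y := by
  classical
  obtain ⟨g, hgt, hzP⟩ := he.exists_g
  have hcomm : ∀ x, x * e = e * x → (g⁻¹ * x * g) * D.t = D.t * (g⁻¹ * x * g) := by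
    intro x hx
    have h1 : D.t = g⁻¹ * e * g := by rw [← hgt]; group
    rw [h1]
    calc g⁻¹ * x * g * (g⁻¹ * e * g) = g⁻¹ * (x * e) * g := by group
      _ = _ := by rw [hx]; group
  have hzz : ∀ b, bar n b = b → ∃ c, bar n c = c ∧ g⁻¹ * D.z b * g = D.z c := by
    intro b hb
    apply D.exists_z _ (hzP b hb)
    apply ca_zero_of_sq (hzP b hb)
    have : g⁻¹ * D.z b * g * (g⁻¹ * D.z b * g) = g⁻¹ * (D.z b * D.z b) * g := by group
    rw [this, z_sq]; group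
  -- the other direction
  have hzz' : ∀ b, bar n b = b → ∃ c, bar n c = c ∧ g * D.z b * g⁻¹ = D.z c := by
    have h2 : (Z D).map (MulAut.conj g⁻¹).toMonoidHom ≤ Z D := by
      rintro _ ⟨_, ⟨b, hb, rfl⟩, rfl⟩
      show g⁻¹ * D.z b * g⁻¹⁻¹ ∈ Z D
      rw [inv_inv]; exact hzz b hb
    have h3 : (Z D).map (MulAut.conj g⁻¹).toMonoidHom = Z D := by
      apply Subgroup.eq_of_le_of_card_ge h2
      rw [Subgroup.card_map_of_injective (MulAut.conj g⁻¹).injective]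
    intro b hb
    have h4 : D.z b ∈ Z D := ⟨b, hb, rfl⟩
    rw [← h3] at h4
    obtain ⟨y, hy, hyb⟩ := h4
    have : g * D.z b * g⁻¹ = y := by
      rw [← hyb]
      show g * (g⁻¹ * y * g⁻¹⁻¹) * g⁻¹ = y
      group
    rw [this]; exact hy
  -- an element of `Z`
  obtain ⟨b0, hb0, hb01⟩ : ∃ b, bar n b = b ∧ D.z b ≠ 1 :=
    ⟨1, bar_one n, fun h => one_ne_zero (D.z_inj 1 (bar_one n) h)⟩
  set! t' := g⁻¹ * D.t * g with ht'
  have ht't : t' * D.t = D.t * t' := hcomm _ he.t.symm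
  have ht'sq : t' * t' = 1 := by
    have : t' * t' = g⁻¹ * (D.t * D.t) * g := by rw [ht']; group
    rw [this, D.t_sq]; group
  have ht'P : ∀ p ∈ D.P, t' * p * t'⁻¹ ∈ D.P := by
    obtain ⟨c0, hc0, hc0'⟩ := hzz' b0 hb0
    have hh := hzz c0 hc0
    -- `t'` centralises `D.z b0`
    have h1 : t' * D.z b0 * t'⁻¹ = D.z b0 := by
      have h2 : D.t * D.z c0 = D.z c0 * D.t := D.t_P _ (D.z_mem c0)
      have h3 : D.z b0 = g⁻¹ * D.z c0 * g := by rw [← hc0']; group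
      rw [h3, ht']
      have : g⁻¹ * D.t * g * (g⁻¹ * D.z c0 * g) * (g⁻¹ * D.t * g)⁻¹ =
        g⁻¹ * (D.t * D.z c0) * D.t⁻¹ * g := by group
      rw [this, h2]; group
    exact F.ti t' ht't (D.z b0) (D.z_mem b0) hb01 (by rw [h1]; exact D.z_mem b0)
  have ht'2 : ∃ k, t' ^ (2 ^ k) = 1 := ⟨1, by rw [pow_one, pow_two, ht'sq]⟩
  have hch' : ch F t' = barE D.hq := by
    apply eq_bar D.hq
    · rw [← ch_mul F ht't ht't, ht'sq, ch_one]
    · intro h1
      have hback : D.t = g * t' * g⁻¹ := by rw [ht']; group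
      rcases cls_of_ch ht't ht'2 ht'P h1 with h2 | h2
      · obtain ⟨b, hb, hbt⟩ := D.exists_z t' h2 (ca_zero_of_sq h2 ht'sq)
        obtain ⟨b', hb', hbt'⟩ := hzz' b hb
        apply D.t_not
        rw [hback, hbt, hbt']
        exact D.z_mem b'
      · have h3 : t' * D.t * (t' * D.t) = 1 := by
          calc t' * D.t * (t' * D.t) = t' * (D.t * t') * D.t := by group
            _ = (t' * t') * (D.t * D.t) := by rw [← ht't]; group
            _ = 1 := by rw [ht'sq, D.t_sq, mul_one]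
        obtain ⟨b, hb, hbt⟩ := D.exists_z _ h2 (ca_zero_of_sq h2 h3)
        obtain ⟨b', hb', hbt'⟩ := hzz' b hb
        have h4 : e = D.t * D.z b' := by
          have h5 : t' = D.z b * D.t := by
            rw [← hbt, mul_assoc, D.t_sq, mul_one]
          have h6 : D.t = D.z b' * e := by
            calc D.t = g * t' * g⁻¹ := hback
              _ = (g * D.z b * g⁻¹) * (g * D.t * g⁻¹) := by rw [h5]; group
              _ = D.z b' * e := by rw [hbt', hgt]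
          calc e = (D.z b' * D.z b') * e := by rw [z_sq, one_mul]
            _ = D.z b' * (D.z b' * e) := by group
            _ = D.z b' * D.t := by rw [← h6]
            _ = D.t * D.z b' := (D.t_P _ (D.z_mem b')).symm
        have h8 := he.ch
        rw [h4, ch_mul F rfl (P_t (D := D) (D.z_mem b')), ch_t, ch_P F (D.z_mem b'), one_mul] at h8
        exact barE_ne_one D.hq h8.symm
  -- move `t'` into `Sg`
  obtain ⟨g2, hg2t, hg2P, hg2S⟩ := exists_conj_fix (F := F) ht't ht'2 ht'P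
  set t2 := g2⁻¹ * t' * g2 with ht2
  have hcht2 : ch F t2 = barE D.hq := by
    have := ch_conj F (comm_inv hg2t) ht't
    rw [inv_inv] at this
    rw [ht2, this, hch']
  have het := he.t
  obtain ⟨y, hy, hye⟩ := he.conj_P (x := t2 * e⁻¹)
    (ch_ker F (mul_mem hg2S (inv_mem he.mem)) (by
      rw [ch_mul F (F.Sg_t _ hg2S) (comm_inv het), ch_inv F het, hcht2, he.ch, mul_inv_cancel]))
    (g := g2⁻¹ * g⁻¹) (by rw [inv_mul_cancel_right, ht2, ht']; group)
  rw [inv_mul_cancel_right] at hye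
  have hyt := P_t (D := D) hy
  have h1 : g * g2 * y * D.t * (g * g2 * y)⁻¹ = e := by
    calc g * g2 * y * D.t * (g * g2 * y)⁻¹ = g * g2 * (y * D.t) * y⁻¹ * g2⁻¹ * g⁻¹ := by group
      _ = g * (g2 * D.t) * g2⁻¹ * g⁻¹ := by rw [hyt]; group
      _ = g * D.t * g⁻¹ := by rw [hg2t]; group
      _ = e := hgt
  have h2 : g * g2 * y * e * (g * g2 * y)⁻¹ = D.t := by
    calc g * g2 * y * e * (g * g2 * y)⁻¹ = g * g2 * (y * e * y⁻¹) * g2⁻¹ * g⁻¹ := by group
      _ = D.t := by rw [← hye, ht2, ht']; group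
  have h3 : ∀ b, bar n b = b → ∃ c, bar n c = c ∧
      g * g2 * y * D.z b * (g * g2 * y)⁻¹ = D.z c := by
    intro b hb
    have e1 : y * D.z b * y⁻¹ = D.z b := by
      rw [D.Q_Z y (D.P_le hy)]; group
    obtain ⟨b', hb', e2⟩ := D.exists_z _ (hg2P _ (D.z_mem b)) (by
      apply ca_zero_of_sq (hg2P _ (D.z_mem b))
      have : g2 * D.z b * g2⁻¹ * (g2 * D.z b * g2⁻¹) = g2 * (D.z b * D.z b) * g2⁻¹ := by group
      rw [this, z_sq]; group)
    obtain ⟨c, hc, e3⟩ := hzz' b' hb'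
    refine ⟨c, hc, ?_⟩
    calc g * g2 * y * D.z b * (g * g2 * y)⁻¹ = g * (g2 * (y * D.z b * y⁻¹) * g2⁻¹) * g⁻¹ := by group
      _ = D.z c := by rw [e1, e2, e3]
  refine ⟨g * g2 * y, h1, h2, h3, ?_⟩
  set Y := g * g2 * y with hY
  have h4 : (Y * Y) * D.t = D.t * (Y * Y) := by
    have : Y * Y * D.t * (Y * Y)⁻¹ = D.t := by
      have : Y * Y * D.t * (Y * Y)⁻¹ = Y * (Y * D.t * Y⁻¹) * Y⁻¹ := by group
      rw [this, h1, h2]
    rw [mul_inv_eq_iff_eq_mul] at this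
    exact this
  obtain ⟨b1, hb1, h5⟩ := h3 b0 hb0
  obtain ⟨b2, hb2, h6⟩ := h3 b1 hb1
  have h7 : ∀ p, Y * Y * p * (Y * Y)⁻¹ = Y * (Y * p * Y⁻¹) * Y⁻¹ := by
    intro p; group
  intro p hp
  rw [← h7]
  exact F.ti (Y * Y) h4 (D.z b0) (D.z_mem b0) hb01 (by rw [h7, h5, h6]; exact D.z_mem b2) p hp

theorem Swap.pow {y : G} (h : Swap D e y) (i : ℕ) : Swap D e (y ^ (2 * i + 1)) := by
  have h2t : (y * y) * D.t * (y * y)⁻¹ = D.t := by
    have : y * y * D.t * (y * y)⁻¹ = y * (y * D.t * y⁻¹) * y⁻¹ := by group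
    rw [this, h.te, h.et]
  induction i with
  | zero => simpa using h
  | succ i ih =>
    have e1 : y ^ (2 * (i + 1) + 1) = (y * y) * y ^ (2 * i + 1) := by
      rw [← pow_two, ← pow_add]
      congr 1
      ring
    set Y := y ^ (2 * i + 1) with hY
    have hc : y * y * Y = Y * (y * y) := by
      have : Commute (y * y) Y := by
        rw [hY]
        exact ((Commute.refl y).mul_left (Commute.refl y)).pow_right _
      exact this
    rw [e1]
    refine ⟨?_, ?_, ?_, ?_⟩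
    · rw [hc]
      have : Y * (y * y) * D.t * (Y * (y * y))⁻¹ = Y * ((y * y) * D.t * (y * y)⁻¹) * Y⁻¹ := by group
      rw [this, h2t, ih.te]
    · have : y * y * Y * e * (y * y * Y)⁻¹ = (y * y) * (Y * e * Y⁻¹) * (y * y)⁻¹ := by group
      rw [this, ih.et, h2t]
    · intro b hb
      obtain ⟨c, hc, e2⟩ := ih.z b hb
      obtain ⟨c', hc', e3⟩ := h.z c hc
      obtain ⟨c'', hc'', e4⟩ := h.z c' hc'
      refine ⟨c'', hc'', ?_⟩
      have : y * y * Y * D.z b * (y * y * Y)⁻¹ = y * (y * (Y * D.z b * Y⁻¹) * y⁻¹) * y⁻¹ := by group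
      rw [this, e2, e3, e4]
    · intro p hp
      have e2 : y * y * Y * (y * y * Y * p * (y * y * Y)⁻¹) * (y * y * Y)⁻¹ =
          y * (y * (y * (y * (Y * (Y * p * Y⁻¹) * Y⁻¹) * y⁻¹) * y⁻¹) * y⁻¹) * y⁻¹ := by
        have e3 : y * y * Y * (y * y * Y * p * (y * y * Y)⁻¹) * (y * y * Y)⁻¹ =
          (y * y) * (Y * (y * y)) * Y * p * ((y * y) * (Y * (y * y)) * Y)⁻¹ := by group
        rw [e3, ← hc]; group
      rw [e2]
      exact h.P _ (h.P _ (ih.P p hp))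

/-- the swapping element can be chosen to be a 2-element, in any subgroup containing one. -/
theorem Swap.two [Finite G] {y : G} (h : Swap D e y) :
    ∃ i, Swap D e (y ^ (2 * i + 1)) ∧ ∃ k, (y ^ (2 * i + 1)) ^ (2 ^ k) = 1 := by
  obtain ⟨k, m, hm, hk⟩ := Nat.exists_eq_two_pow_mul_odd (n := orderOf y) (orderOf_pos y).ne'
  obtain ⟨i, hi⟩ := hm
  refine ⟨i, h.pow i, k, ?_⟩
  rw [← hi, ← pow_mul, mul_comm, ← hk, pow_orderOf_eq_one]

/-- `P_e = P^y` -/
def Pe (D : Pre G K n) (y : G) : Subgroup G := D.P.map (MulAut.conj y).toMonoidHom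

theorem mem_Pe {y x : G} : x ∈ Pe D y ↔ y⁻¹ * x * y ∈ D.P := by
  constructor
  · rintro ⟨p, hp, rfl⟩
    have : y⁻¹ * (MulAut.conj y).toMonoidHom p * y = p := by
      show y⁻¹ * (y * p * y⁻¹) * y = p
      group
    rw [this]; exact hp
  · intro h
    refine ⟨_, h, ?_⟩
    show y * (y⁻¹ * x * y) * y⁻¹ = x
    group

theorem Swap.Pe_e {y : G} (h : Swap D e y) {x : G} (hx : x ∈ Pe D y) : x * e = e * x := by
  have h1 := P_t (D := D) (mem_Pe.mp hx)
  have h2 : e = y * D.t * y⁻¹ := h.te.symm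
  rw [h2]
  calc x * (y * D.t * y⁻¹) = y * (y⁻¹ * x * y * D.t) * y⁻¹ := by group
    _ = _ := by rw [h1]; group

/-- `t` acts on `P_e` as `e` on `P`. -/
theorem Swap.t_Pe {y : G} (h : Swap D e y) (he : Inv F e) {x : G} (hx : x ∈ Pe D y) :
    D.t * x * D.t⁻¹ ∈ Pe D y ∧ y⁻¹ * (D.t * x * D.t⁻¹) * y = e * (y⁻¹ * x * y) * e⁻¹ := by
  have h1 : y⁻¹ * (D.t * x * D.t⁻¹) * y = e * (y⁻¹ * x * y) * e⁻¹ := by
    rw [← h.et]; group
  refine ⟨?_, h1⟩
  rw [mem_Pe, h1]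
  exact he.P _ (mem_Pe.mp hx)

theorem Swap.Z_Pe [Finite G] {y : G} (h : Swap D e y) {b : K} (hb : bar n b = b) :
    ∃ c, bar n c = c ∧ y⁻¹ * D.z b * y = D.z c := by
  have h2 : (Z D).map (MulAut.conj y).toMonoidHom ≤ Z D := by
    rintro _ ⟨_, ⟨b, hb, rfl⟩, rfl⟩
    exact h.z b hb
  have h3 : (Z D).map (MulAut.conj y).toMonoidHom = Z D := by
    apply Subgroup.eq_of_le_of_card_ge h2
    rw [Subgroup.card_map_of_injective (MulAut.conj y).injective]
  have h4 : D.z b ∈ Z D := ⟨b, hb, rfl⟩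
  rw [← h3] at h4
  obtain ⟨x, hx, hyb⟩ := h4
  have : y⁻¹ * D.z b * y = x := by
    rw [← hyb]
    show y⁻¹ * (y * x * y⁻¹) * y = x
    group
  rw [this]; exact hx

theorem Swap.conj_Pe {y : G} (h : Swap D e y) {x : G} (hx : x ∈ Pe D y) : y * x * y⁻¹ ∈ D.P := by
  have := h.P _ (mem_Pe.mp hx)
  have e1 : y * (y * (y⁻¹ * x * y) * y⁻¹) * y⁻¹ = y * x * y⁻¹ := by group
  rwa [e1] at this

theorem Swap.conj_P {y : G} {x : G} (hx : x ∈ D.P) : y * x * y⁻¹ ∈ Pe D y := by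
  rw [mem_Pe]
  have e1 : y⁻¹ * (y * x * y⁻¹) * y = x := by group
  rw [e1]; exact hx

end Cfsg.Agent.StdU3.Swap
end
end
end
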