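import Mathlib
import Cfsg.Agent.StdU3.URelModel
import Cfsg.Agent.StdU3.MainDef_m3
import Cfsg.Agent.StdSz.FromStd
import Cfsg.Agent.FastGrp
import Cfsg.Agent.Prune
set_option linter.all false

section
prune_inst 0x7f00000000000000000000000000000000000000000000000000000000000000000000000000000000000000000000000000000000000000000000000000000000000000000000000000000000000000003fffffffffffffffffffffffffffbeffbdffffffff

-- part: StdU3/Semi
section
set_option linter.all false
open scoped Cfsg.Agent.FastGrp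

-- part: StdU3/URelAut
section
/-!
# Automorphisms of `PSU₃(q)` normalising `P` and trivial on `P / Z(P)` are inner
-/

set_option autoImplicit false
set_option linter.unusedSectionVars false
set_option linter.dupNamespace false

namespace Cfsg.Agent.StdU3.URelAut

open Cfsg.Agent.LieRecognition Cfsg.Agent.LieRecognition.HermHeis Cfsg.Agent.StdU3.URel

variable {F : Type*} [Field F] [CharP F 2] {σ : F →+* F} [hσ : Fact (∀ x, σ (σ x) = x)]
variable {J : Type*} [Group J] (R : URel J σ)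

/-- The facts on the field used below. -/
structure FieldOK (σ : F →+* F) : Prop where
  /-- a fixed scalar different from one -/
  fixed : ∃ l : Fˣ, σ (l : F) = l ∧ l ≠ 1
  /-- a torus element acting trivially on `Z` and without fixed points on `P / Z` -/
  norm : ∃ k : Fˣ, nm σ k = 1 ∧ wt σ k ≠ 1
  /-- norm is surjective -/
  surj : ∀ b : F, σ b = b → ∃ a : F, a * σ a = b
  /-- trace is surjective -/
  tr : ∀ b : F, σ b = b → ∃ c : F, c + σ c = b

theorem act_fixed_eq_one {l : Fˣ} (h1 : wt σ l ≠ 1) (h2 : nm σ l ≠ 1) {x : Heis σ}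
    (h : act l x = x) : x = 1 := by
  have ha := congrArg Heis.a h
  have hb := congrArg Heis.b h
  rw [act_a] at ha
  rw [act_b] at hb
  have h3 : x.a = 0 := by
    by_contra h0
    exact h1 (mul_right_cancel₀ h0 (by rw [ha, one_mul]))
  have h4 : x.b = 0 := by
    by_contra h0
    exact h2 (mul_right_cancel₀ h0 (by rw [hb, one_mul]))
  ext
  · exact h3
  · exact h4

variable [Finite F]

theorem finite_heis : Finite (Heis σ) := by
  have h : Function.Injective (fun x : Heis σ => (x.a, x.b)) := by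
    intro x y h
    ext
    · exact congrArg Prod.fst h
    · exact congrArg Prod.snd h
  exact Finite.of_injective _ h

theorem exists_comm_eq {l : Fˣ} (h1 : wt σ l ≠ 1) (h2 : nm σ l ≠ 1) (x : Heis σ) :
    ∃ y, y * (act l y)⁻¹ = x := by
  have := finite_heis (σ := σ)
  have hinj : Function.Injective (fun y : Heis σ => y * (act l y)⁻¹) := by
    intro y z h
    have h : y * (act l y)⁻¹ = z * (act l z)⁻¹ := h
    have h3 : act l (z⁻¹ * y) = z⁻¹ * y := by
      rw [act_mul, act_inv]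
      have h4 : z⁻¹ * y = (act l z)⁻¹ * act l y := by
        rw [inv_mul_eq_iff_eq_mul]
        calc y = y * (act l y)⁻¹ * act l y := by group
          _ = z * (act l z)⁻¹ * act l y := by rw [h]
          _ = z * ((act l z)⁻¹ * act l y) := by group
      rw [h4]
    have h4 := act_fixed_eq_one h1 h2 h3
    exact (inv_mul_eq_one.mp h4).symm
  exact (Finite.surjective_of_injective hinj) x

/-- the data preserved: `φ` maps `T` to itself, trivially modulo the centre. -/
def Triv (φ : MulAut J) : Prop := ∀ x, ∃ y, φ (R.u x) = R.u y ∧ y.a = x.a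

variable {R}

theorem Triv.conj_mul {φ : MulAut J} (h : Triv R φ) (x : Heis σ) :
    Triv R (MulAut.conj (R.u x) * φ) := by
  intro y
  obtain ⟨z, hz, ha⟩ := h y
  refine ⟨x * z * x⁻¹, ?_, ?_⟩
  · rw [MulAut.mul_apply, hz, MulAut.conj_apply, map_mul, map_mul, map_inv]
  · rw [mul_a, mul_a, inv_a, ha]
    have := CharTwo.add_self_eq_zero x.a
    linear_combination this

theorem Triv.map_T [Finite J] {φ : MulAut J} (h : Triv R φ) : R.T.map (φ : J ≃* J).toMonoidHom = R.T := by
  apply Subgroup.eq_of_le_of_card_ge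
  · rintro _ ⟨_, ⟨x, rfl⟩, rfl⟩
    obtain ⟨y, hy, -⟩ := h x
    exact ⟨y, hy.symm⟩
  · exact (Nat.card_congr (R.T.equivMapOfInjective _ (φ : J ≃* J).injective).toEquiv).le

theorem Triv.map_B [Finite J] {φ : MulAut J} (h : Triv R φ) (hF : FieldOK σ) {b : J}
    (hb : b ∈ R.B) : φ b ∈ R.B := by
  obtain ⟨a, ha⟩ := hF.surj 1 (map_one σ)
  obtain ⟨c, hc⟩ := hF.tr (a * σ a) (by rw [ha, map_one])
  have hex : ∃ x : Heis σ, x ≠ 1 := by
    refine ⟨⟨a, c, hc⟩, fun h1 => ?_⟩
    have h2 : a = 0 := congrArg Heis.a h1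
    rw [h2, zero_mul] at ha
    exact zero_ne_one ha
  apply R.norm_eq hex
  have h1 := R.B_le hb
  rw [Subgroup.mem_normalizer_iff] at h1 ⊢
  intro x
  have hT := h.map_T
  have key : ∀ y, φ y ∈ R.T ↔ y ∈ R.T := by
    intro y
    constructor
    · intro hy
      rw [← hT] at hy
      obtain ⟨z, hz, hzy⟩ := hy
      have : z = y := (φ : J ≃* J).injective hzy
      rwa [← this]
    · intro hy
      rw [← hT]
      exact ⟨y, hy, rfl⟩
  obtain ⟨x, rfl⟩ := (φ : J ≃* J).surjective x
  have e : φ b * (φ : J ≃* J) x * (φ b)⁻¹ = φ (b * x * b⁻¹) := by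
    rw [map_mul, map_mul, map_inv]
  rw [e]
  exact ((key x).trans (h1 x)).trans (key _).symm

theorem Triv.map_d [Finite J] {φ : MulAut J} (h : Triv R φ) (hF : FieldOK σ) (l : Fˣ) :
    ∃ x, φ (R.d l) = R.u x * R.d l := by
  obtain ⟨x, m, hx⟩ := h.map_B hF (R.d_mem_B l)
  refine ⟨x, ?_⟩
  -- test element
  obtain ⟨a, ha⟩ := hF.surj 1 (map_one σ)
  obtain ⟨c, hc⟩ := hF.tr (a * σ a) (by rw [ha, map_one])
  have ha0 : a ≠ 0 := by
    rintro rfl
    rw [zero_mul] at ha
    exact zero_ne_one ha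
  let p : Heis σ := ⟨a, c, hc⟩
  have hp : p.a = a := rfl
  obtain ⟨p', hp', hpa⟩ := h p
  obtain ⟨r, hr, hra⟩ := h (act l p)
  have h1 : φ (R.u (act l p)) = R.u x * R.d m * R.u p' * (R.u x * R.d m)⁻¹ := by
    rw [R.u_act, map_mul, map_mul, map_inv, hx, hp']
  rw [hr, R.conj_a_of_B] at h1
  have h2 := congrArg Heis.a (R.u_inj h1)
  rw [hra, mul_a, mul_a, inv_a, act_a, act_a, hpa, hp] at h2
  have h3 : wt σ m = wt σ l := by
    apply mul_right_cancel₀ ha0
    have := CharTwo.add_self_eq_zero x.a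
    linear_combination -h2 - this
  have h4 : R.d (l⁻¹ * m) = 1 := by
    apply R.d_one_of
    rw [wt_mul, h3, wt_inv, inv_mul_cancel₀ (wt_ne_zero σ l)]
  rw [map_mul, map_inv, inv_mul_eq_one] at h4
  rw [hx, h4]

/-- Conjugating by an element of `T`, `φ` centralises the torus. -/
theorem Triv.exists_conj [Finite J] {φ : MulAut J} (h : Triv R φ) (hF : FieldOK σ) :
    ∃ y, Triv R (MulAut.conj (R.u y) * φ) ∧ ∀ l, (MulAut.conj (R.u y) * φ) (R.d l) = R.d l := by
  obtain ⟨l, hl, hl1⟩ := hF.fixed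
  have hl1' : (l : F) ≠ 1 := fun h => hl1 (Units.ext h)
  have hw : wt σ l ≠ 1 := by rwa [wt_of_fixed σ hl]
  have hn : nm σ l ≠ 1 := by
    rw [nm_of_fixed σ hl]
    intro h
    apply hl1'
    have h1 : ((l : F) - 1) ^ 2 = 0 := by
      have := CharTwo.two_eq_zero (R := F)
      linear_combination h - ((l : F) - 1) * this
    have h2 := (pow_eq_zero_iff (two_ne_zero)).mp h1
    exact sub_eq_zero.mp h2
  obtain ⟨x, hx⟩ := h.map_d hF l
  obtain ⟨y, hy⟩ := exists_comm_eq hw hn x
  have hψ := h.conj_mul y⁻¹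
  have hd : (MulAut.conj (R.u y⁻¹) * φ) (R.d l) = R.d l := by
    rw [MulAut.mul_apply, hx, MulAut.conj_apply, ← hy, map_mul, map_inv, map_inv, R.u_act]
    group
  refine ⟨y⁻¹, hψ, ?_⟩
  intro m
  obtain ⟨v, hv⟩ := hψ.map_d hF m
  set ψ := MulAut.conj (R.u y⁻¹) * φ with hψdef
  -- commute with `d l`
  have h1 : R.d l * (R.u v * R.d m) = (R.u v * R.d m) * R.d l := by
    rw [← hv, ← hd, ← map_mul, ← map_mul, ← map_mul, ← map_mul, mul_comm]
  have h2 : R.u (act l v) * R.d (l * m) = R.u v * R.d (m * l) := by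
    rw [map_mul, map_mul, ← mul_assoc, ← mul_assoc, ← R.d_u, mul_assoc, h1]
  have h3 := (R.ud_inj h2).1
  have h4 := act_fixed_eq_one hw hn h3
  rw [hv, h4, map_one, one_mul]

/-- An automorphism centralising the torus and trivial on `P / Z` centralises `T`. -/
theorem Triv.fix_T {φ : MulAut J} (h : Triv R φ) (hF : FieldOK σ)
    (hd : ∀ l, φ (R.d l) = R.d l) (x : Heis σ) : φ (R.u x) = R.u x := by
  choose y hy hya using h
  -- `e x = y x * x⁻¹`
  let e : Heis σ → Heis σ := fun x => x⁻¹ * y x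
  have he : ∀ x, φ (R.u x) = R.u (x * e x) := by
    intro x
    rw [hy, mul_inv_cancel_left]
  have hea : ∀ x, (e x).a = 0 := by
    intro x
    show (x⁻¹ * y x).a = 0
    rw [mul_a, inv_a, hya]
    exact CharTwo.add_self_eq_zero _
  have hcent : ∀ x z, z * e x = e x * z := by
    intro x z
    rw [commute_iff, hea, map_zero, mul_zero, zero_mul]
  have hmul : ∀ x z, e (x * z) = e x * e z := by
    intro x z
    have h1 : x * z * e (x * z) = (x * e x) * (z * e z) := by
      apply R.u_inj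
      rw [← he, map_mul, map_mul, he, he, ← map_mul]
    have h2 : (x * e x) * (z * e z) = x * z * (e x * e z) := by
      rw [mul_assoc, ← mul_assoc (e x), ← hcent x z]
      group
    rw [h2] at h1
    exact mul_left_cancel h1
  have hsq : ∀ x, e x * e x = 1 := by
    intro x
    rw [HermHeis.mul_self_eq_one_iff]
    exact hea x
  obtain ⟨k, hk1, hk2⟩ := hF.norm
  have hact : ∀ x, e (act k x) = e x := by
    intro x
    have h1 : φ (R.u (act k x)) = R.u (act k (x * e x)) := by
      rw [R.u_act, map_mul, map_mul, map_inv, hd, he, R.u_act]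
    rw [he] at h1
    have h2 := R.u_inj h1
    rw [act_mul] at h2
    have h3 := mul_left_cancel h2
    rw [h3]
    ext
    · rw [act_a, hea, mul_zero]
    · rw [act_b, hk1, one_mul]
  -- `e` vanishes on the centre
  have hz : ∀ z : Heis σ, z.a = 0 → e z = 1 := by
    intro z hz0
    have hfix : σ z.b = z.b := b_fixed_of_a_eq_zero hz0
    obtain ⟨a, ha⟩ := hF.surj z.b hfix
    obtain ⟨c, hc⟩ := hF.tr (a * σ a) (by rw [ha, hfix])
    let p : Heis σ := ⟨a, c, hc⟩
    have h1 : z = p * p := by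
      ext
      · rw [hz0, mul_a]; exact (CharTwo.add_self_eq_zero _).symm
      · rw [mul_b]
        show z.b = c + c + a * σ a
        rw [ha, CharTwo.add_self_eq_zero, zero_add]
    rw [h1, hmul, hsq]
  have hone : ∀ x, e x = 1 := by
    intro x
    have hne : wt σ k + 1 ≠ 0 := by
      intro h0
      apply hk2
      have := CharTwo.two_eq_zero (R := F)
      linear_combination h0 - this
    -- `y` with `(wt k + 1) y.a = x.a`
    obtain ⟨c, hc⟩ := hF.tr ((x.a / (wt σ k + 1)) * σ (x.a / (wt σ k + 1))) (by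
      rw [map_mul, HermHeis.sig, mul_comm])
    let p : Heis σ := ⟨x.a / (wt σ k + 1), c, hc⟩
    have h1 : (act k p * p).a = x.a := by
      rw [mul_a, act_a]
      show wt σ k * (x.a / (wt σ k + 1)) + x.a / (wt σ k + 1) = x.a
      field_simp
    have h2 : ((act k p * p)⁻¹ * x).a = 0 := by
      rw [mul_a, inv_a, h1]
      exact CharTwo.add_self_eq_zero _
    have h3 := hz _ h2
    have h4 : x = (act k p * p) * ((act k p * p)⁻¹ * x) := by group
    rw [h4, hmul, hmul, hact, hsq, h3, one_mul]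
  rw [he, hone, mul_one]

/-- An automorphism centralising `T` and the torus is trivial. -/
theorem eq_one_of_fix {φ : MulAut J} (hF : FieldOK σ) (hT : ∀ x, φ (R.u x) = R.u x)
    (hd : ∀ l, φ (R.d l) = R.d l) : φ = 1 := by
  obtain ⟨l, hl, hl1⟩ := hF.fixed
  have hl1' : (l : F) ≠ 1 := fun h => hl1 (Units.ext h)
  have hw : wt σ l ≠ 1 := by rwa [wt_of_fixed σ hl]
  have hsq1 : ∀ m : Fˣ, (m : F) ^ 2 = 1 → m = 1 := by
    intro m h
    have h1 : ((m : F) - 1) ^ 2 = 0 := by
      have := CharTwo.two_eq_zero (R := F)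
      linear_combination h - ((m : F) - 1) * this
    have h2 := (pow_eq_zero_iff (two_ne_zero)).mp h1
    exact Units.ext (sub_eq_zero.mp h2)
  have hn : nm σ l ≠ 1 := by
    rw [nm_of_fixed σ hl]
    intro h
    exact hl1 (hsq1 l h)
  have hhat : hat σ l = l⁻¹ := by
    apply Units.ext
    rw [hat_val, hl, Units.val_inv_eq_inv_val]
  have hw2 : wt σ (hat σ l) ≠ 1 := by
    rw [hhat, wt_inv]
    intro h
    exact hw (inv_eq_one.mp h)
  have hn2 : nm σ (hat σ l) ≠ 1 := by
    rw [hhat]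
    intro h
    apply hn
    have h1 : nm σ (l⁻¹ * l) = nm σ l⁻¹ * nm σ l := nm_mul σ _ _
    rw [inv_mul_cancel, nm_one, h, one_mul] at h1
    exact h1.symm
  -- `w⁻¹ φ w` commutes with the torus
  set c := R.w * φ R.w with hc
  have hcomm : c * R.d l = R.d l * c := by
    have h1 : φ R.w * R.d l = R.d (hat σ l) * φ R.w := by
      have h2 := congrArg φ (R.w_d l)
      rwa [map_mul, map_mul, hd, hd] at h2
    calc c * R.d l = R.w * (φ R.w * R.d l) := by rw [hc]; group
      _ = (R.w * R.d (hat σ l)) * φ R.w := by rw [h1]; group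
      _ = R.d (hat σ (hat σ l)) * c := by rw [R.w_d, hc]; group
      _ = R.d l * c := by
        congr 2
        apply Units.ext
        rw [hat_val, hat_val, map_inv₀, HermHeis.sig, inv_inv]
  -- hence in the torus
  obtain ⟨m, hm⟩ : ∃ m, c = R.d m := by
    rcases R.bruhat c with ⟨x, m, h⟩ | ⟨x, y, m, h⟩
    · refine ⟨m, ?_⟩
      rw [h] at hcomm
      have h1 : R.u x * R.d (m * l) = R.u (act l x) * R.d (l * m) := by
        rw [map_mul, map_mul, ← mul_assoc, ← mul_assoc, ← R.d_u, hcomm, mul_assoc]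
      have h2 := act_fixed_eq_one hw hn (R.ud_inj h1).1.symm
      rw [h, h2, map_one, one_mul]
    · exfalso
      rw [h] at hcomm
      have e1 : R.d l * (R.u x * R.w * (R.u y * R.d m)) =
          R.u (act l x) * R.w * (R.u (act (hat σ l) y) * R.d (hat σ l * m)) := by
        have e2 : R.d l * R.w = R.w * R.d (hat σ l) := by
          rw [R.w_d]
          congr 2
          apply Units.ext
          rw [hat_val, hat_val, map_inv₀, HermHeis.sig, inv_inv]
        calc R.d l * (R.u x * R.w * (R.u y * R.d m))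
            = (R.d l * R.u x) * R.w * (R.u y * R.d m) := by group
          _ = R.u (act l x) * (R.d l * R.w) * (R.u y * R.d m) := by rw [R.d_u]; group
          _ = R.u (act l x) * R.w * ((R.d (hat σ l) * R.u y) * R.d m) := by rw [e2]; group
          _ = R.u (act l x) * R.w * (R.u (act (hat σ l) y) * R.d (hat σ l * m)) := by
              rw [R.d_u, map_mul]; group
      have e3 : R.u x * R.w * (R.u y * R.d m) * R.d l =
          R.u x * R.w * (R.u y * R.d (m * l)) := by rw [map_mul]; group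
      rw [e3, e1] at hcomm
      obtain ⟨h1, h2⟩ := R.big_inj (R.mem_B.mpr ⟨y, m * l, rfl⟩)
        (R.mem_B.mpr ⟨act (hat σ l) y, hat σ l * m, rfl⟩) hcomm
      obtain ⟨-, h4⟩ := R.ud_inj h2
      rw [mul_comm m l, map_mul, map_mul] at h4
      have h5 := mul_right_cancel h4
      have h7 : R.d (l * l) = 1 := by
        rw [map_mul]
        nth_rewrite 2 [h5]
        rw [hhat, map_inv, mul_inv_cancel]
      -- `d (l²) = 1` acts trivially
      obtain ⟨a, ha⟩ := hF.surj 1 (map_one σ)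
      obtain ⟨c, hc⟩ := hF.tr (a * σ a) (by rw [ha, map_one])
      have ha0 : a ≠ 0 := by
        rintro rfl
        rw [zero_mul] at ha
        exact zero_ne_one ha
      let p : Heis σ := ⟨a, c, hc⟩
      have h8 := R.u_act (l * l) p
      rw [h7, one_mul, inv_one, mul_one] at h8
      have h9 := congrArg Heis.a (R.u_inj h8)
      rw [act_a] at h9
      have h10 : wt σ (l * l) = 1 := mul_right_cancel₀ ha0 (by rw [one_mul]; exact h9)
      rw [wt_mul, wt_of_fixed σ hl, ← sq] at h10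
      exact hl1 (hsq1 l h10)
  have hφw : φ R.w = R.w * R.d m := by
    rw [← hm, hc, ← mul_assoc, R.w_w, one_mul]
  -- the relation of rank one
  obtain ⟨a, ha⟩ := hF.surj 1 (map_one σ)
  obtain ⟨c', hc'⟩ := hF.tr (a * σ a) (by rw [ha, map_one])
  have ha0 : a ≠ 0 := by
    rintro rfl
    rw [zero_mul] at ha
    exact zero_ne_one ha
  let p : Heis σ := ⟨a, c', hc'⟩
  have hp1 : p ≠ 1 := fun h => ha0 (congrArg Heis.a h)
  have hnB : R.w * R.u p * R.w ∉ R.B := fun h => hp1 (R.eq_one_of_conj h)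
  obtain ⟨x, y, k, hx⟩ := (R.bruhat (R.w * R.u p * R.w)).resolve_left (by
    rintro ⟨x, k, h⟩
    exact hnB ⟨x, k, h⟩)
  -- `w u(x) w = u(p) w b`
  set b := R.u y * R.d k with hb
  have hbB : b ∈ R.B := ⟨y, k, rfl⟩
  have hxw : R.w * R.u x * R.w = R.u p * R.w * b⁻¹ := by
    rw [eq_mul_inv_iff_mul_eq]
    calc R.w * R.u x * R.w * b = R.w * (R.u x * R.w * b) := by group
      _ = R.w * (R.w * R.u p * R.w) := by rw [hx]
      _ = (R.w * R.w) * (R.u p * R.w) := by group
      _ = R.u p * R.w := by rw [R.w_w, one_mul]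
  have hφB : ∀ b ∈ R.B, φ b = b := by
    rintro _ ⟨x, k, rfl⟩
    rw [map_mul, hT, hd]
  -- apply `φ`
  have h1 : R.w * R.d m * R.u x * (R.w * R.d m) = R.u p * (R.w * R.d m) * b⁻¹ := by
    have := congrArg φ hxw
    rw [map_mul, map_mul, map_mul, map_mul, hφw, hT, hT, hφB _ (inv_mem hbB)] at this
    exact this
  -- the other expression
  have h2 : R.w * R.d m * R.u x * (R.w * R.d m) =
      R.u (act (hat σ m) p) * R.w * (R.d m * b⁻¹ * R.d m) := by
    have e0 : R.w * R.d m = R.d (hat σ m) * R.w := R.w_d m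
    calc R.w * R.d m * R.u x * (R.w * R.d m)
        = (R.d (hat σ m) * R.w) * R.u x * (R.w * R.d m) := by rw [e0]
      _ = R.d (hat σ m) * (R.w * R.u x * R.w) * R.d m := by group
      _ = R.d (hat σ m) * (R.u p * R.w * b⁻¹) * R.d m := by rw [hxw]
      _ = (R.d (hat σ m) * R.u p) * R.w * b⁻¹ * R.d m := by group
      _ = R.u (act (hat σ m) p) * (R.d (hat σ m) * R.w) * b⁻¹ * R.d m := by rw [R.d_u]; group
      _ = R.u (act (hat σ m) p) * (R.w * R.d m) * b⁻¹ * R.d m := by rw [e0]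
      _ = R.u (act (hat σ m) p) * R.w * (R.d m * b⁻¹ * R.d m) := by group
  rw [h1] at h2
  have h3 : R.u p * R.w * (R.d m * b⁻¹) =
      R.u (act (hat σ m) p) * R.w * (R.d m * b⁻¹ * R.d m) := by
    rw [← h2]; group
  have h4 := (R.big_inj (mul_mem (R.d_mem_B m) (inv_mem hbB))
    (mul_mem (mul_mem (R.d_mem_B m) (inv_mem hbB)) (R.d_mem_B m)) h3).2
  have h5 : R.d m = 1 := mul_eq_left.mp h4.symm
  rw [h5, mul_one] at hφw
  ext g
  rw [MulAut.one_apply]
  rcases R.bruhat g with ⟨x, k, rfl⟩ | ⟨x, y, k, rfl⟩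
  · exact hφB _ ⟨x, k, rfl⟩
  · rw [map_mul, map_mul, hT, hφw, hφB _ ⟨y, k, rfl⟩]

/-- **Automorphisms normalising `T` and trivial on `T / Z(T)` are induced by elements of `T`.** -/
theorem Triv.inner [Finite J] {φ : MulAut J} (h : Triv R φ) (hF : FieldOK σ) :
    ∃ x, φ = MulAut.conj (R.u x) := by
  obtain ⟨y, h1, h2⟩ := h.exists_conj hF
  have h3 := eq_one_of_fix (R := R) hF (h1.fix_T hF h2) h2
  refine ⟨y⁻¹, ?_⟩
  rw [map_inv, map_inv]
  exact (inv_eq_of_mul_eq_one_right h3).symm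

end Cfsg.Agent.StdU3.URelAut
end

-- part: StdU3/Semi
section
/-!
# Elements normalising `W × P`, `P ≅ Heis σ`, act semilinearly on `P / Z(P)`
-/

set_option autoImplicit false
set_option linter.unusedSectionVars false
set_option linter.dupNamespace false

namespace Cfsg.Agent.StdU3.Semi

open Cfsg.Agent.LieRecognition Cfsg.Agent.LieRecognition.HermHeis Cfsg.Agent.StdU3.URel
  Cfsg.Agent.StdU3.Field Cfsg.Agent.StdU3.FieldAut

variable {F : Type*} [Field F] [Fintype F] [CharP F 2] {σ : F →+* F}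
  [hσ : Fact (∀ x, σ (σ x) = x)] {n : ℕ}

/-- `σ` is the `q`-power map on `F_{q²}`, `q = 2 ^ n ≥ 4`. -/
structure Sg (σ : F →+* F) (n : ℕ) : Prop where
  hq : Qd F n
  eq : ∀ x, σ x = bar n x

theorem sg_tr (h : Sg σ n) (b : F) (hb : σ b = b) : ∃ c : F, c + σ c = b := by
  obtain ⟨e, he⟩ := exists_Tr_one h.hq
  refine ⟨b * e, ?_⟩
  rw [map_mul, hb, h.eq, ← mul_add]
  rw [Tr_def] at he
  rw [he, mul_one]

theorem fieldOK (h : Sg σ n) : URelAut.FieldOK σ where
  fixed := by
    obtain ⟨l, h1, h2⟩ := exists_fixed_ne h.hq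
    exact ⟨l, by rw [h.eq, h1], fun h0 => h2 (by rw [h0, Units.val_one])⟩
  norm := by
    obtain ⟨k, h1, h2, -⟩ := exists_norm_one h.hq
    refine ⟨k, ?_, ?_⟩
    · unfold nm; rw [h.eq]; exact h1
    · unfold wt
      intro h3
      apply h2
      have h4 : σ (k : F) ≠ 0 := sig_ne σ k
      rw [mul_inv_eq_one₀ h4] at h3
      have h5 : (k : F) * σ k = 1 := by rw [h.eq]; exact h1
      rw [← h3] at h5
      calc (k : F) ^ 3 = k * k ^ 2 := by ring
        _ = 1 := h5
  surj := by
    intro b hb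
    obtain ⟨a, ha⟩ := Field.exists_norm h.hq (b := b) (by rw [← h.eq, hb])
    exact ⟨a, by rw [h.eq]; exact ha⟩
  tr := sg_tr h

/-- an element of `Heis σ` with given first coordinate -/
theorem exists_a (h : Sg σ n) (a : F) : ∃ x : Heis σ, x.a = a := by
  obtain ⟨c, hc⟩ := sg_tr h (a * σ a) (by rw [map_mul, HermHeis.sig, mul_comm])
  exact ⟨⟨a, c, hc⟩, rfl⟩

theorem sq_a (x : Heis σ) : (x * x).a = 0 := CharTwo.add_self_eq_zero _

theorem sq_b (x : Heis σ) : (x * x).b = x.a * σ x.a := by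
  rw [mul_b, CharTwo.add_self_eq_zero, zero_add]

theorem ext_z {x y : Heis σ} (hx : x.a = 0) (hy : y.a = 0) (h : x.b = y.b) : x = y := by
  ext
  · rw [hx, hy]
  · exact h

/-- central elements are squares -/
theorem exists_sq (h : Sg σ n) {z : Heis σ} (hz : z.a = 0) : ∃ x : Heis σ, z = x * x := by
  obtain ⟨a, ha⟩ := (fieldOK h).surj z.b (b_fixed_of_a_eq_zero hz)
  obtain ⟨x, hx⟩ := exists_a h a
  exact ⟨x, ext_z hz (sq_a x) (by rw [sq_b, hx, ha])⟩

theorem comm_of_a_eq_zero {z : Heis σ} (hz : z.a = 0) (x : Heis σ) : z * x = x * z := by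
  rw [commute_iff, hz, map_zero, mul_zero, zero_mul]

variable {G : Type*} [Group G] (p : Heis σ →* G) (W : Subgroup G)

/-- `W` is an elementary abelian group centralising `P` and disjoint from it -/
structure PW : Prop where
  inj : Function.Injective p
  comm : ∀ r ∈ W, ∀ x, r * p x = p x * r
  sq : ∀ r ∈ W, r * r = 1
  disj : ∀ x, p x ∈ W → x = 1

/-- `s` acts on `W P / W Z(P)` as the semilinear map `c τ`. -/
def SL (s : G) (c : F) (τ : F ≃+* F) : Prop :=
  ∀ x, ∃ y, ∃ r ∈ W, s * p x * s⁻¹ = r * p y ∧ y.a = c * τ x.a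

/-- `s` maps `P` into `W P`. -/
def Nm (s : G) : Prop := ∀ x, ∃ y, ∃ r ∈ W, s * p x * s⁻¹ = r * p y

variable {p W}

theorem PW.cancel (H : PW p W) {r r' : G} (hr : r ∈ W) (hr' : r' ∈ W) {y y' : Heis σ}
    (h : r * p y = r' * p y') : r = r' ∧ y = y' := by
  have h1 : r'⁻¹ * r = p (y' * y⁻¹) := by
    rw [map_mul, map_inv, eq_mul_inv_iff_mul_eq, mul_assoc, h, inv_mul_cancel_left]
  have h2 : y' * y⁻¹ = 1 := H.disj _ (by rw [← h1]; exact mul_mem (inv_mem hr') hr)
  have h3 : y' = y := mul_inv_eq_one.mp h2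
  subst h3
  exact ⟨mul_right_cancel h, rfl⟩

theorem PW.mul (H : PW p W) {r r' : G} (hr' : r' ∈ W) (y y' : Heis σ) :
    (r * p y) * (r' * p y') = (r * r') * p (y * y') := by
  calc (r * p y) * (r' * p y') = r * (p y * r') * p y' := by group
    _ = r * (r' * p y) * p y' := by rw [H.comm r' hr']
    _ = (r * r') * p (y * y') := by rw [map_mul]; group

theorem SL.nm {s : G} {c : F} {τ : F ≃+* F} (h : SL p W s c τ) : Nm p W s := by
  intro x
  obtain ⟨y, r, hr, h, -⟩ := h x
  exact ⟨y, r, hr, h⟩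

/-- the centre of `P` is mapped to itself -/
theorem Nm.z (hS : Sg σ n) (H : PW p W) {s : G} (h : Nm p W s) {z : Heis σ} (hz : z.a = 0) :
    ∃ z' : Heis σ, z'.a = 0 ∧ s * p z * s⁻¹ = p z' := by
  obtain ⟨x, rfl⟩ := exists_sq hS hz
  obtain ⟨y, r, hr, hy⟩ := h x
  refine ⟨y * y, sq_a y, ?_⟩
  have e : s * p (x * x) * s⁻¹ = (s * p x * s⁻¹) * (s * p x * s⁻¹) := by rw [map_mul]; group
  rw [e, hy, H.mul hr, H.sq r hr, one_mul]

/-- **semilinearity** -/
theorem Nm.exists_SL (hS : Sg σ n) (H : PW p W) {s : G} (h : Nm p W s) :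
    ∃ c : F, c ≠ 0 ∧ ∃ τ : F ≃+* F, SL p W s c τ ∧
      ∀ z : Heis σ, z.a = 0 → ∃ z' : Heis σ, z'.a = 0 ∧ z'.b = (c * σ c) * τ z.b ∧
        s * p z * s⁻¹ = p z' := by
  classical
  choose y r hr hy using h
  have hmul : ∀ x x', y (x * x') = y x * y x' := by
    intro x x'
    have h1 : r (x * x') * p (y (x * x')) = (r x * r x') * p (y x * y x') := by
      rw [← hy, ← H.mul (hr x'), ← hy, ← hy, map_mul]; group
    exact (H.cancel (hr _) (mul_mem (hr x) (hr x')) h1).2
  have hz : ∀ z : Heis σ, z.a = 0 → (y z).a = 0 ∧ r z = 1 := by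
    intro z hz
    obtain ⟨z', hz', h1⟩ := Nm.z hS H (fun x => ⟨y x, r x, hr x, hy x⟩) hz
    rw [hy, ← one_mul (p z')] at h1
    obtain ⟨h2, h3⟩ := H.cancel (hr _) (one_mem W) h1
    exact ⟨by rw [h3]; exact hz', h2⟩
  choose sec hsec using exists_a hS
  have hdep : ∀ x x' : Heis σ, x.a = x'.a → (y x).a = (y x').a := by
    intro x x' hxx
    have h1 : (x'⁻¹ * x).a = 0 := by
      rw [mul_a, inv_a, hxx]; exact CharTwo.add_self_eq_zero _
    have h2 := hmul x' (x'⁻¹ * x)
    rw [mul_inv_cancel_left] at h2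
    rw [h2, mul_a, (hz _ h1).1, add_zero]
  let A : F →+ F :=
    { toFun := fun a => (y (sec a)).a
      map_zero' := (hz _ (hsec 0)).1
      map_add' := fun a b => by
        show (y (sec (a + b))).a = (y (sec a)).a + (y (sec b)).a
        rw [← mul_a, ← hmul]
        apply hdep
        rw [hsec, mul_a, hsec, hsec] }
  have hA : ∀ x : Heis σ, (y x).a = A x.a := fun x => hdep _ _ (hsec x.a).symm
  have hinj : Function.Injective A := by
    rw [injective_iff_map_eq_zero]
    intro a ha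
    have h1 : (y (sec a)).a = 0 := ha
    have h2 : (s * p (sec a) * s⁻¹) * (s * p (sec a) * s⁻¹) = 1 := by
      have h3 : y (sec a) * y (sec a) = 1 := by
        rw [HermHeis.mul_self_eq_one_iff]; exact h1
      rw [hy, H.mul (hr _), H.sq _ (hr _), h3, map_one, one_mul]
    have h3 : p (sec a * sec a) = 1 := by
      have e : (s * p (sec a) * s⁻¹) * (s * p (sec a) * s⁻¹) = s * p (sec a * sec a) * s⁻¹ := by
        rw [map_mul]; group
      rw [e, mul_inv_eq_one, mul_eq_left] at h2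
      exact h2
    have h4 : sec a * sec a = 1 := H.inj (by rw [h3, map_one])
    rw [HermHeis.mul_self_eq_one_iff, hsec] at h4
    exact h4
  -- the map on the centre
  have hfix : ∀ b : F, barE hS.hq b = b → σ b = b := by
    intro b hb
    rw [hS.eq]; exact hb
  let θ : F → F := fun b => if hb : σ b = b then (y (zet b hb)).b else 0
  have hθ : ∀ z : Heis σ, z.a = 0 → (y z).b = θ z.b := by
    intro z hz0
    have hb := b_fixed_of_a_eq_zero hz0
    show _ = if hb : σ z.b = z.b then (y (zet z.b hb)).b else 0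
    rw [dif_pos hb]
    congr 2
    exact ext_z hz0 rfl rfl
  have hzetmul : ∀ (b c : F) (hb : σ b = b) (hc : σ c = c) (hbc : σ (b + c) = b + c),
      (zet (b + c) hbc : Heis σ) = zet b hb * zet c hc := by
    intro b c hb hc hbc
    ext
    · simp
    · simp
  obtain ⟨c, hc, τ, h1, h2⟩ := Semilinear.exists_semilinear (barE hS.hq) (fun x => bar_bar hS.hq x)
    (by
      by_contra hcon
      push Not at hcon
      exact barE_ne_one hS.hq (RingEquiv.ext hcon)) A hinj θ
    (by
      intro b c hb hc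
      have hb' := hfix b hb
      have hc' := hfix c hc
      have hbc' : σ (b + c) = b + c := by rw [map_add, hb', hc']
      show (if h : σ (b + c) = b + c then (y (zet (b + c) h)).b else 0) =
        (if h : σ b = b then (y (zet b h)).b else 0) + (if h : σ c = c then (y (zet c h)).b else 0)
      rw [dif_pos hbc', dif_pos hb', dif_pos hc', hzetmul b c hb' hc' hbc', hmul, mul_b,
        (hz _ (zet_a b hb')).1, zero_mul, add_zero])
    (by
      intro b
      have h3 : σ (b * σ b) = b * σ b := by rw [map_mul, HermHeis.sig, mul_comm]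
      have e1 : barE hS.hq b = σ b := (hS.eq b).symm
      have e2 : barE hS.hq (A b) = σ (A b) := (hS.eq _).symm
      rw [e1, e2]
      have h4 := hθ (sec b * sec b) (sq_a _)
      rw [hmul, sq_b, sq_b, hsec] at h4
      exact h4)
  refine ⟨c, hc, τ, ?_, ?_⟩
  · intro x
    refine ⟨y x, r x, hr x, hy x, ?_⟩
    rw [hA, h1]
  · intro z hz0
    refine ⟨y z, (hz z hz0).1, ?_, ?_⟩
    · rw [hθ z hz0, h2 z.b (by
        show bar n z.b = z.b
        rw [← hS.eq]; exact b_fixed_of_a_eq_zero hz0)]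
      have e2 : barE hS.hq c = σ c := (hS.eq _).symm
      rw [e2]
    · rw [hy, (hz z hz0).2, one_mul]

theorem SL.unique (hS : Sg σ n) (H : PW p W) {s : G} {c c' : F} {τ τ' : F ≃+* F}
    (h : SL p W s c τ) (h' : SL p W s c' τ') : c = c' ∧ τ = τ' := by
  have key : ∀ a, c * τ a = c' * τ' a := by
    intro a
    obtain ⟨x, rfl⟩ := exists_a hS a
    obtain ⟨y, r, hr, h1, h2⟩ := h x
    obtain ⟨y', r', hr', h1', h2'⟩ := h' x
    rw [h1] at h1'
    rw [← h2, ← h2', (H.cancel hr hr' h1').2]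
  have h1 := key 1
  rw [map_one, map_one, mul_one, mul_one] at h1
  subst h1
  by_cases hc : c = 0
  · subst hc
    -- impossible: `SL` with `c = 0`
    exfalso
    obtain ⟨x, hx⟩ := exists_a hS (1 : F)
    obtain ⟨y, r, hr, h1, h2⟩ := h x
    rw [zero_mul] at h2
    have h3 : (s * p x * s⁻¹) * (s * p x * s⁻¹) = 1 := by
      have h4 : y * y = 1 := by rw [HermHeis.mul_self_eq_one_iff]; exact h2
      rw [h1, H.mul hr, H.sq r hr, h4, map_one, one_mul]
    have e : (s * p x * s⁻¹) * (s * p x * s⁻¹) = s * p (x * x) * s⁻¹ := by rw [map_mul]; group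
    rw [e, mul_inv_eq_one, mul_eq_left] at h3
    have h4 : x * x = 1 := H.inj (by rw [h3, map_one])
    rw [HermHeis.mul_self_eq_one_iff, hx] at h4
    exact one_ne_zero h4
  · refine ⟨rfl, ?_⟩
    ext a
    exact mul_left_cancel₀ hc (key a)

/-- composition; `W` is normalised -/
theorem SL.mul (H : PW p W) {s s' : G} {c c' : F} {τ τ' : F ≃+* F}
    (hW : ∀ r ∈ W, ∃ y, ∃ r' ∈ W, s * r * s⁻¹ = r' * p y ∧ y.a = 0)
    (h : SL p W s c τ) (h' : SL p W s' c' τ') : SL p W (s * s') (c * τ c') (τ * τ') := by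
  intro x
  obtain ⟨y, r, hr, h1, h2⟩ := h' x
  obtain ⟨z, r', hr', h3, h4⟩ := h y
  obtain ⟨v, r'', hr'', h5, h6⟩ := hW r hr
  refine ⟨v * z, r'' * r', mul_mem hr'' hr', ?_, ?_⟩
  · calc s * s' * p x * (s * s')⁻¹ = s * (s' * p x * s'⁻¹) * s⁻¹ := by group
      _ = (s * r * s⁻¹) * (s * p y * s⁻¹) := by rw [h1]; group
      _ = r'' * r' * p (v * z) := by rw [h5, h3, H.mul hr']
  · rw [mul_a, h6, zero_add, h4, h2, map_mul, mul_assoc]; rfl

theorem SL.one : SL p W 1 1 1 := by
  intro x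
  exact ⟨x, 1, one_mem W, by rw [inv_one, mul_one], by rw [one_mul]; rfl⟩

end Cfsg.Agent.StdU3.Semi
end

private theorem dce_7ce682c01e01 : _root_.True := by
  try have : _root_.True := by simp only [_root_.Cfsg.Agent.StdU3.FieldAut.barE.congr_simp]
  try have : _root_.True := by simp only [_root_.Cfsg.Agent.LieRecognition.HermHeis.zet.congr_simp]
  exact _root_.True.intro
end

-- part: StdU3/Base
section
set_option linter.all false
open scoped Cfsg.Agent.FastGrp

/-!
# Coordinates of a Sylow 2-subgroup of a perfect central extension `X` of `PSU₃(q)` by a group of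
odd order, and the action of the normalizer of `A` on it.
-/

set_option autoImplicit false
set_option linter.unusedSectionVars false
set_option linter.dupNamespace false

namespace Cfsg.Agent.StdU3.Base

open Subgroup Cfsg.Agent.LieRecognition.HermHeis Cfsg.Agent.StdU3.URel Cfsg.Agent.StdU3.Semi
  Cfsg.Agent.StdU3.Field Cfsg.Agent.ThreePrime.AutQuot Cfsg.Agent.StdSz.Base

variable {F : Type*} [Field F] [Fintype F] [CharP F 2] {σ : F →+* F}
  [hσ : Fact (∀ x, σ (σ x) = x)] {n : ℕ}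

section Model

variable {J : Type*} [Group J] (R : URel.URel J σ)

include R in
theorem odd_d (hS : Sg σ n) (l : Fˣ) : Odd (orderOf (R.d l)) := by
  have h1 : orderOf (R.d l) ∣ orderOf l := orderOf_map_dvd R.d l
  have h2 : orderOf l ∣ Nat.card Fˣ := orderOf_dvd_natCard l
  refine Odd.of_dvd_nat ?_ (h1.trans h2)
  rw [Nat.card_units, Nat.card_eq_fintype_card, hS.hq.hK]
  refine Nat.Even.sub_odd (Nat.one_le_pow _ _ (by positivity)) ?_ odd_one
  have := hS.hq.hn
  exact (Nat.even_pow' (by norm_num)).mpr ((Nat.even_pow' (by omega)).mpr even_two)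

theorem heis_pow_four (x : Heis σ) : x ^ 4 = 1 := by
  have h1 : x ^ 4 = (x * x) * (x * x) := by
    rw [← pow_two, ← pow_two, ← pow_mul]
  rw [h1, Cfsg.Agent.LieRecognition.HermHeis.mul_self_eq_one_iff]
  exact sq_a x

theorem T_two : IsPGroup 2 R.T := by
  rintro ⟨_, x, rfl⟩
  refine ⟨2, Subtype.ext ?_⟩
  show R.u x ^ 2 ^ 2 = 1
  have : (2 : ℕ) ^ 2 = 4 := by norm_num
  rw [this, ← map_pow, heis_pow_four, map_one]

theorem exists_z_ne : ∃ z : Heis σ, z.a = 0 ∧ z ≠ 1 := by
  refine ⟨zet 1 (map_one σ), rfl, fun h => ?_⟩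
  have h1 : (1 : F) = 0 := congrArg Heis.b h
  exact one_ne_zero h1

/-- `T` is a Sylow 2-subgroup -/
theorem exists_sylow_eq [Finite J] (hS : Sg σ n) : ∃ P : Sylow 2 J, (P : Subgroup J) = R.T := by
  have : Fact (Nat.Prime 2) := ⟨Nat.prime_two⟩
  obtain ⟨P, hP⟩ := (T_two R).exists_le_sylow
  obtain ⟨z0, hz0, hz1⟩ := exists_z_ne (σ := σ)
  have hu1 : R.u z0 ≠ 1 := fun h => hz1 (R.u_inj (by rw [h, map_one]))
  refine ⟨P, le_antisymm ?_ hP⟩
  -- elements of `P ∩ B` are in `T`
  have key : ∀ g ∈ (P : Subgroup J), g ∈ R.B → g ∈ R.T := by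
    rintro g hg ⟨x, k, rfl⟩
    have h1 : R.d k ∈ (P : Subgroup J) := by
      have := mul_mem (inv_mem (hP (R.u_mem x))) hg
      rwa [inv_mul_cancel_left] at this
    have h2 : R.d k = 1 := by
      obtain ⟨m, hm⟩ := P.isPGroup' ⟨R.d k, h1⟩
      have hm' : R.d k ^ 2 ^ m = 1 := congrArg Subtype.val hm
      exact eq_one_of_two_odd hm' (odd_d R hS k) dvd_rfl
    rw [h2, mul_one]
    exact R.u_mem x
  have hnt : Nontrivial (P : Subgroup J) := by
    refine ⟨⟨⟨R.u z0, hP (R.u_mem z0)⟩, 1, ?_⟩⟩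
    intro h
    exact hu1 (congrArg Subtype.val h)
  have hc := P.isPGroup'.center_nontrivial
  obtain ⟨⟨⟨x, hxP⟩, hxc⟩, hx1⟩ := exists_ne (1 : Subgroup.center (P : Subgroup J))
  have hx1 : x ≠ 1 := by
    rintro rfl
    exact hx1 rfl
  rw [Subgroup.mem_center_iff] at hxc
  have hxc : ∀ g ∈ (P : Subgroup J), g * x = x * g := fun g hg => congrArg Subtype.val (hxc ⟨g, hg⟩)
  have hxT : x ∈ R.T := by
    refine key x hxP ?_
    refine R.mem_B_of (R.u_mem z0) hu1 ?_
    rw [← hxc _ (hP (R.u_mem z0)), mul_inv_cancel_right]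
    exact R.u_mem z0
  intro g hg
  refine key g hg (R.mem_B_of hxT hx1 ?_)
  rw [hxc g hg, mul_inv_cancel_right]
  exact hxT

include R in
/-- `J` is not commutative -/
theorem exists_not_comm (hS : Sg σ n) : ∃ x y : J, x * y ≠ y * x := by
  obtain ⟨e, he⟩ := exists_Tr_one hS.hq
  obtain ⟨x, hx⟩ := exists_a hS e
  obtain ⟨y, hy⟩ := exists_a hS (1 : F)
  refine ⟨R.u x, R.u y, fun h => ?_⟩
  rw [← map_mul, ← map_mul] at h
  have h1 := R.u_inj h
  rw [commute_iff, hx, hy, map_one, mul_one, one_mul, hS.eq] at h1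
  rw [Tr_def, ← h1, CharTwo.add_self_eq_zero] at he
  exact zero_ne_one he

end Model

section Lift

variable {X : Type*} [Group X] [Finite X] (R : URel.URel (X ⧸ center X) σ)

include R in
theorem exists_lift (hS : Sg σ n) (hZ : Odd (Nat.card (center X))) :
    ∃ (P1 : Sylow 2 X) (q : Heis σ →* X), (∀ x, x ∈ (P1 : Subgroup X) ↔ ∃ y, q y = x) ∧
      (∀ y, (QuotientGroup.mk (q y) : X ⧸ center X) = R.u y) ∧
      (∀ w : X, (∃ k : ℕ, w ^ 2 ^ k = 1) → ∀ y, (QuotientGroup.mk w : X ⧸ center X) = R.u y →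
        w = q y) := by
  have : Fact (Nat.Prime 2) := ⟨Nat.prime_two⟩
  obtain ⟨PJ, hPJ⟩ := exists_sylow_eq R hS
  have hsurj : Function.Surjective (QuotientGroup.mk' (center X)) := QuotientGroup.mk'_surjective _
  obtain ⟨P1, hP1⟩ := Sylow.mapSurjective_surjective hsurj 2 PJ
  have hmap : (P1 : Subgroup X).map (QuotientGroup.mk' (center X)) = R.T := by
    rw [← hPJ, ← hP1]; rfl
  have hex : ∀ y, ∃ x ∈ (P1 : Subgroup X), (QuotientGroup.mk x : X ⧸ center X) = R.u y := by
    intro y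
    have h1 : R.u y ∈ R.T := R.u_mem y
    rw [← hmap] at h1
    obtain ⟨x, hx, hxy⟩ := h1
    exact ⟨x, hx, hxy⟩
  choose q hq hqu using hex
  have htwo : ∀ x ∈ (P1 : Subgroup X), ∃ k : ℕ, x ^ 2 ^ k = 1 := by
    intro x hx
    obtain ⟨k, hk⟩ := P1.isPGroup' ⟨x, hx⟩
    exact ⟨k, congrArg Subtype.val hk⟩
  have huniq : ∀ w : X, (∃ k : ℕ, w ^ 2 ^ k = 1) → ∀ y,
      (QuotientGroup.mk w : X ⧸ center X) = R.u y → w = q y := by
    rintro w ⟨k, hk⟩ y h
    obtain ⟨l, hl⟩ := htwo _ (hq y)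
    exact eq_of_mk_eq hZ hk hl (by rw [h, hqu])
  let Q : Heis σ →* X :=
    { toFun := q
      map_one' := (huniq 1 ⟨0, one_pow _⟩ 1 (by rw [QuotientGroup.mk_one, map_one])).symm
      map_mul' := fun x y => (huniq (q x * q y) (htwo _ (mul_mem (hq x) (hq y))) (x * y) (by
        rw [QuotientGroup.mk_mul, hqu, hqu, map_mul])).symm }
  refine ⟨P1, Q, ?_, hqu, huniq⟩
  intro x
  constructor
  · intro hx
    have h1 : (QuotientGroup.mk x : X ⧸ center X) ∈ R.T := by
      rw [← hmap]; exact ⟨x, hx, rfl⟩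
    obtain ⟨y, hy⟩ := h1
    exact ⟨y, (huniq x (htwo x hx) y hy.symm).symm⟩
  · rintro ⟨y, rfl⟩
    exact hq y

end Lift

section Group

variable {G : Type*} [Group G] {A : Subgroup G} [Finite G] (R : URel.URel (A ⧸ center A) σ)

/-- An element of `N(A)` acting on the unipotent subgroup of `A / Z(A)` trivially modulo its
centre lies in `P C(A)`. -/
theorem exists_of_triv (hS : Sg σ n) (hA : Group.IsPerfect A) {s : G}
    (hs : s ∈ normalizer (A : Set G)) (q : Heis σ → A)
    (hq : ∀ x, (QuotientGroup.mk (q x) : A ⧸ center A) = R.u x)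
    (h : ∀ x, ∃ y, s * (q x : G) * s⁻¹ = q y ∧ y.a = x.a) :
    ∃ x, (q x : G)⁻¹ * s ∈ centralizer (A : Set G) := by
  set φ := autQuot A (A.normalizerMonoidHom ⟨s, hs⟩) with hφ
  have h1 : URelAut.Triv R φ := by
    intro x
    obtain ⟨y, hy, hya⟩ := h x
    refine ⟨y, ?_, hya⟩
    rw [← hq, hφ, autQuot_mk, ← hq]
    congr 1
    apply Subtype.ext
    rw [normalizerMonoidHom_apply]
    exact hy
  obtain ⟨x, hx⟩ := h1.inner (fieldOK hS)
  refine ⟨x, inv_mul_mem_of_autQuot hA ⟨s, hs⟩ (q x) ?_⟩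
  rw [← hφ, hx, hq]

end Group

end Cfsg.Agent.StdU3.Base
end
end
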