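import Cfsg.Agent.StdU3.MainDef_m3
import Cfsg.Agent.Lib.SylowNormalInf
import Cfsg.Prelude.Def_TwoFusion
import Cfsg.Agent.StdU3.EndLie
import Cfsg.Agent.S1169
import Cfsg.Agent.S0222
import Cfsg.Agent.StdSz.Reduce
import Cfsg.Agent.S0280
import Cfsg.Agent.StdL2.Assemble_m3
import Cfsg.Agent.FixBN.ReduceMain_m3
import Cfsg.Agent.OddHalf.Known
import Cfsg.Agent.StdU3.Tower.Final_mg_m3
import Cfsg.Agent.StdU3.LZeroTop_m3
import Cfsg.Agent.StdU3.GOneALem
import Mathlib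
import Cfsg.Agent.FastGrp
import Cfsg.Agent.Prune
set_option linter.all false
prune_inst 0x7ffcfefbaff8addedfff7e7ffed8dffe39d5dfffffdffb4bffece9ffcf9f03023be57b8f1de058ff0ef6e2b630b87803fb7ec67fea6bdc7ffffd5ff45ffbee0fe5f7bd8951d688340fbc0fff03f077ce7f3fffffffffffffffffffffffffffbeffffffffffff
open scoped Cfsg.Agent.FastGrp

-- part: StdU3/OutN
section
/-!
# The output in the case where no outer involution of `C_G(t)` is conjugate to `t`
-/

set_option autoImplicit false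
set_option linter.unusedSectionVars false
set_option linter.dupNamespace false

namespace Cfsg.Agent.StdU3.OutN

open Subgroup Cfsg.Agent.StdU3.Field Cfsg.Agent.StdU3.PreDef Cfsg.Agent.StdU3.FldDef
open Cfsg.Agent.StdU3.LevelOne Cfsg.Agent.StdU3.FieldAut Cfsg.Agent.StdU3.Rank
open Cfsg.Agent.StdU3.OutInv Cfsg.Agent.StdU3.TermDef Cfsg.Agent.StdU3.LemC
open Cfsg.Agent.StdU3.EndN
open Cfsg.Agent.StdU3.NormQ hiding barE

variable {G : Type*} [Group G] [Finite G] {K : Type*} [Field K] [Fintype K] [CharP K 2] {n : ℕ}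
variable {D : Pre G K n} (F : Fld D) (T : Term D)

theorem U_not_comm : ∃ x ∈ T.U, ∃ y ∈ T.U, x * y ≠ y * x := by
  obtain ⟨b, hb⟩ := exists_Tr_one D.hq
  obtain ⟨x, hx, hxa⟩ := D.ca_surj b
  obtain ⟨y, hy, hya⟩ := D.ca_surj 1
  refine ⟨x, T.P_le hx, y, T.P_le hy, fun h => ?_⟩
  have h1 := D.P_comm x hx y hy
  rw [hxa, hya, bar_one, mul_one, hb, h] at h1
  have h2 : D.z 1 = 1 := (mul_eq_right.mp h1.symm)
  exact one_ne_zero (D.z_inj 1 (bar_one n) h2)

theorem card_U : 16 ≤ Nat.card T.U := by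
  have h1 : Nat.card K ≤ Nat.card T.U := by
    have hs : Function.Surjective (fun x : T.U => D.ca x) := by
      intro b
      obtain ⟨x, hx, hxa⟩ := D.ca_surj b
      exact ⟨⟨x, T.P_le hx⟩, hxa⟩
    exact Nat.card_le_card_of_surjective _ hs
  have h2 := D.hq.hK
  have h3 := four_le D.hq
  rw [← Nat.card_eq_fintype_card] at h2
  have h4 : 4 * 4 ≤ 2 ^ n * 2 ^ n := Nat.mul_le_mul h3 h3
  calc 16 ≤ 2 ^ n * 2 ^ n := h4
    _ = Nat.card K := by rw [h2, sq]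
    _ ≤ Nat.card T.U := h1

/-- **the output in case (n)** -/
theorem out (hU : ∀ s ∈ F.Sg, ∀ g ∈ T.U, s * g * s⁻¹ ∈ T.U) (hn : ∀ s ∈ F.Sg, Norm D s)
    (hno : NoOut F) {E : Subgroup G} [hEn : E.Normal] (hE : commutator E = ⊤)
    (hUE : T.U ≤ E) :
    D.t ∉ E ∧ ∃ (S : Sylow 2 E) (U : Subgroup E),
      Cfsg.IsStronglyClosed U (S : Subgroup E) ∧ ¬ IsMulCommutative U ∧
      ⁅(⊤ : Subgroup U), ⊤⁆ ≤ Subgroup.center U ∧ 16 ≤ Nat.card U := by
  have : Fact (Nat.Prime 2) := ⟨Nat.prime_two⟩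
  refine ⟨t_not_mem F T hU hn hno hE, ?_⟩
  obtain ⟨S, hS⟩ := exists_sylow F T hU hn hno
  let SE : Sylow 2 E := (Lib.SylowNormalInf.isPGroup_subgroupOf S E).toSylow
    (Lib.SylowNormalInf.not_dvd_relIndex S E)
  have hSE : (SE : Subgroup E) = (S : Subgroup G).subgroupOf E := rfl
  have hmem : ∀ x : E, x ∈ (SE : Subgroup E) ↔ x ∈ T.U.subgroupOf E := by
    intro x
    rw [hSE, mem_subgroupOf, mem_subgroupOf, hS]
    exact ⟨fun h => inf_eq F T hU hn hno hE hUE h x.2, fun h => U_le_S2 F T hU h⟩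
  have hcard : Nat.card (T.U.subgroupOf E) = Nat.card T.U :=
    Nat.card_congr (subgroupOfEquivOfLe hUE).toEquiv
  refine ⟨SE, T.U.subgroupOf E, ⟨fun x hx => (hmem x).mpr hx, fun x _ g h => (hmem _).mp h⟩,
    ?_, ?_, ?_⟩
  · intro hcomm
    obtain ⟨x, hx, y, hy, hxy⟩ := U_not_comm T
    apply hxy
    have h1 := hcomm.is_comm.comm (⟨⟨x, hUE hx⟩, hx⟩ : T.U.subgroupOf E) ⟨⟨y, hUE hy⟩, hy⟩
    exact congrArg (fun z : T.U.subgroupOf E => ((z : E) : G)) h1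
  · rw [Subgroup.commutator_le]
    intro a _ b _
    rw [Subgroup.mem_center_iff]
    intro c
    apply Subtype.ext
    apply Subtype.ext
    exact (T.class_two a a.2 b b.2 c c.2).symm
  · rw [hcard]; exact card_U T

end Cfsg.Agent.StdU3.OutN
end

-- part: StdU3/FinalAb
section
/-!
# The abelian output: Goldschmidt and Bender
-/

set_option autoImplicit false
set_option linter.unusedSectionVars false

namespace Cfsg.Agent.StdU3.FinalAb

open scoped Pointwise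
open Cfsg Subgroup Cfsg.Agent.StdSz.Out Cfsg.Agent.StdSz.OutLie

universe u

/-- a simple group of order divisible by 3, with noncommutative Sylow 2-subgroups, one of them with a
non-trivial abelian strongly closed subgroup, is of Lie type in characteristic 2. -/
theorem lie_of_ab {L : Type u} [Group L] [Finite L] [IsSimpleGroup L] (S : Sylow 2 L)
    (hS : ¬ IsMulCommutative (S : Subgroup L)) (W : Subgroup L) (hne : W ≠ ⊥)
    (hcomm : IsMulCommutative W) (hcl : IsStronglyClosed W (S : Subgroup L))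
    (h3 : 3 ∣ Nat.card L) : IsLieTypeChar 2 L := by
  rcases Cfsg.Agent.S1169.result S W hne hcomm hcl with h | ⟨H, hH⟩
  · exact absurd h hS
  · have hna : ∃ a b : L, a * b ≠ b * a := by
      by_contra hcon
      push Not at hcon
      exact hS ⟨⟨fun a b => Subtype.ext (hcon a b)⟩⟩
    rcases Cfsg.Agent.S0222.result hna H hH with ⟨F, _, _, hchar, h4, he⟩ | h |
      ⟨F, _, _, q, hq, heven, h4, he⟩
    · left
      exact ⟨F, inferInstance, inferInstance, hchar, 2, le_rfl, fun _ => h4, he⟩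
    · exact absurd h3 (EndLie.not_three_dvd_suzuki h)
    · have hev : Even (Fintype.card F) := by
        rw [hq, pow_two]; exact heven.mul_left q
      right; right; left
      exact ⟨F, inferInstance, inferInstance, charP_two_of_even hev, 3, q, hq, le_rfl,
        fun h => by omega, he⟩

/-- **both outputs.** -/
theorem lie_of_out {G : Type u} [Group G] [Finite G] (h1170 : S1170Stmt.{u}) {E P : Subgroup G}
    [IsSimpleGroup E] (hP : IsPGroup 2 P) (hPE : P ≤ E) (hPc : ∃ x ∈ P, ∃ y ∈ P, x * y ≠ y * x)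
    (h3 : 3 ∣ Nat.card E) (h : MainDef.NonAb E ∨ MainDef.Ab E) : IsLieTypeChar 2 E := by
  have : Fact (Nat.Prime 2) := ⟨Nat.prime_two⟩
  rcases h with ⟨S, U, h1, h2, h3', h4⟩ | ⟨S, W, h1, h2, h3', -⟩
  · exact EndLie.lie_of_closed h1170 S U h1 h2 h3' h4 h3
  · refine lie_of_ab S ?_ W h3' h2 h1 h3
    intro hc
    obtain ⟨x, hx, y, hy, hxy⟩ := hPc
    have h5 : IsPGroup 2 (P.subgroupOf E) := hP.comap_subtype
    obtain ⟨T, hT⟩ := h5.exists_le_sylow
    obtain ⟨g, hg⟩ := MulAction.exists_smul_eq E T S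
    have hmem : ∀ z (hz : z ∈ P), g * ⟨z, hPE hz⟩ * g⁻¹ ∈ (S : Subgroup E) := by
      intro z hz
      rw [← hg]
      have h6 : (⟨z, hPE hz⟩ : E) ∈ (T : Subgroup E) := hT (mem_subgroupOf.mpr hz)
      exact Subgroup.smul_mem_pointwise_smul (⟨z, hPE hz⟩ : E) (MulAut.conj g)
        (T : Subgroup E) h6
    apply hxy
    have h7 := hc.is_comm.comm (⟨_, hmem x hx⟩ : (S : Subgroup E)) ⟨_, hmem y hy⟩
    have h8 : g * ⟨x, hPE hx⟩ * g⁻¹ * (g * ⟨y, hPE hy⟩ * g⁻¹) =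
      g * ⟨y, hPE hy⟩ * g⁻¹ * (g * ⟨x, hPE hx⟩ * g⁻¹) := congrArg Subtype.val h7
    have h9 : (⟨x, hPE hx⟩ : E) * ⟨y, hPE hy⟩ = ⟨y, hPE hy⟩ * ⟨x, hPE hx⟩ := by
      calc (⟨x, hPE hx⟩ : E) * ⟨y, hPE hy⟩ =
          g⁻¹ * (g * ⟨x, hPE hx⟩ * g⁻¹ * (g * ⟨y, hPE hy⟩ * g⁻¹)) * g := by group
        _ = g⁻¹ * (g * ⟨y, hPE hy⟩ * g⁻¹ * (g * ⟨x, hPE hx⟩ * g⁻¹)) * g := by rw [h8]
        _ = ⟨y, hPE hy⟩ * ⟨x, hPE hx⟩ := by group
    exact congrArg Subtype.val h9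

end Cfsg.Agent.StdU3.FinalAb
end

-- part: StdU3/FinalRed
section
/-!
# Standard subgroups of type `U₃(2ⁿ)`: final assembly

`main`: the statement S1771 from S1170 and the existence of a strongly closed class two subgroup in
a Sylow 2-subgroup of the (simple) layer, together with `t ∉ E(G)`.
-/

set_option autoImplicit false
set_option linter.unusedSectionVars false

namespace Cfsg.Agent.StdU3.FinalRed

open Cfsg Subgroup Cfsg.Agent.StdSz Cfsg.Agent.StdSz.Out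

universe u v

/-- the arithmetic: `3` divides the order of `PSU₃(q)`. -/
theorem three_dvd {q N : ℕ} (hq : ¬ 3 ∣ q) (hq0 : 0 < q)
    (h : Nat.gcd 3 (q + 1) * N = q ^ 3 * ((q ^ 2 - 1) * (q ^ 3 + 1))) : 3 ∣ N := by
  rcases (Nat.dvd_prime Nat.prime_three).mp (Nat.gcd_dvd_left 3 (q + 1)) with hg | hg
  · rw [hg, one_mul] at h
    rw [h]
    refine Dvd.dvd.mul_left (Dvd.dvd.mul_right ?_ _) _
    have h1 : q % 3 = 1 ∨ q % 3 = 2 := by omega
    rcases h1 with h1 | h1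
    · obtain ⟨r, rfl⟩ : ∃ r, q = 3 * r + 1 := ⟨q / 3, by omega⟩
      refine ⟨3 * r ^ 2 + 2 * r, ?_⟩
      rw [Nat.sub_eq_iff_eq_add (by nlinarith only [_root_.Nat.cast_nonneg (α := ℤ) (r)])]; ring
    · obtain ⟨r, rfl⟩ : ∃ r, q = 3 * r + 2 := ⟨q / 3, by omega⟩
      refine ⟨3 * r ^ 2 + 4 * r + 1, ?_⟩
      rw [Nat.sub_eq_iff_eq_add (by nlinarith only [_root_.Nat.cast_nonneg (α := ℤ) (r)])]; ring
  · rw [hg] at h
    have h2 : 3 ∣ q + 1 := by rw [← hg]; exact Nat.gcd_dvd_right 3 (q + 1)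
    obtain ⟨r, rfl⟩ : ∃ r, q = 3 * r + 2 := ⟨q / 3, by omega⟩
    have h3 : (3 * r + 2) ^ 2 - 1 = 3 * (3 * r ^ 2 + 4 * r + 1) := by
      rw [Nat.sub_eq_iff_eq_add (by nlinarith only [_root_.Nat.cast_nonneg (α := ℤ) (r)])]; ring
    rw [h3] at h
    have h4 : (3 * r + 2) ^ 3 + 1 = 3 * (9 * r ^ 3 + 18 * r ^ 2 + 12 * r + 3) := by ring
    rw [h4] at h
    refine ⟨(3 * r + 2) ^ 3 * ((3 * r ^ 2 + 4 * r + 1) * (9 * r ^ 3 + 18 * r ^ 2 + 12 * r + 3)), ?_⟩
    have h5 : (0 : ℕ) < 3 := by norm_num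
    refine Nat.eq_of_mul_eq_mul_left h5 ?_
    rw [h]; ring

theorem three_dvd_psu {F : Type*} [Field F] [Fintype F] {a : ℕ}
    (hF : Fintype.card F = 4 ^ a) : 3 ∣ Nat.card (Cfsg.PSU 3 F (2 ^ a)) := by
  have hF' : Fintype.card F = (2 ^ a) ^ 2 := by
    rw [hF, ← pow_mul, mul_comm, pow_mul]; norm_num
  have h1 := Cfsg.Agent.S0280.result hF' 3 (by norm_num)
  norm_num only [Finset.prod_range_succ, Nat.even_iff, _root_.Finset.range_one, _root_.Finset.prod_singleton, _root_.pow_one, _root_.ite_true, _root_.ite_false] at h1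
  refine three_dvd (q := 2 ^ a) ?_ (by positivity) ?_
  · intro h
    have := Nat.prime_three.dvd_of_dvd_pow h
    omega
  · generalize 2 ^ a = q at h1 ⊢
    generalize Nat.card (Cfsg.PSU 3 F q) = N at h1 ⊢
    generalize Nat.gcd 3 (q + 1) = g at h1 ⊢
    refine Nat.eq_of_mul_eq_mul_left (show 0 < q + 1 by omega) ?_
    calc (q + 1) * (g * N) = g * ((q + 1) * N) := by ring
      _ = _ := h1
      _ = _ := by ring

/-- What the local analysis has to deliver. -/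
structure Out (G : Type u) [Group G] [Finite G] (t : G) : Prop where
  not_mem : t ∉ Cfsg.layer G
  closed : ∃ (S : Sylow 2 ↥(Cfsg.layer G)) (U : Subgroup ↥(Cfsg.layer G)),
    IsStronglyClosed U (S : Subgroup ↥(Cfsg.layer G)) ∧ ¬ IsMulCommutative U ∧
    ⁅(⊤ : Subgroup U), ⊤⁆ ≤ Subgroup.center U ∧ 16 ≤ Nat.card U

end Cfsg.Agent.StdU3.FinalRed
end

-- part: StdU3/FinalGen
section
/-!
# The final reduction of S1771 to groups `G = E ⟨t⟩`
-/

set_option autoImplicit false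
set_option linter.unusedSectionVars false
set_option linter.style.haveILetI false

namespace Cfsg.Agent.StdU3.FinalGen

open scoped commutatorElement
open Cfsg Subgroup Cfsg.Agent.SignalizersComponents
open Cfsg.Agent.StdL2.Setup Cfsg.Agent.StdL2.Assemble Cfsg.Agent.StdSz Cfsg.Agent.StdSz.Out

universe u v

variable {H : Type u} [Group H] [Finite H] {L A : Subgroup H} {t : H}

theorem layer_eq (C : Conf L A t) : layer H = L := by
  haveI := C.normal
  haveI := C.simple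
  have hL : IsComponent L :=
    ⟨Normal.isSubnormal inferInstance, Cfsg.Agent.FixBN.BTheorem.isQuasisimple_of_simple C.not_comm⟩
  apply le_antisymm
  · refine sSup_le ?_
    intro K hK
    have hK' : IsComponent K := hK
    by_cases h : K = L
    · rw [h]
    · exfalso
      have h1 := Components.component_le_centralizer_of_ne hK' hL h
      rw [C.cent, le_bot_iff] at h1
      have h2 : Nontrivial K := by
        have h3 := hK'.2.2
        obtain ⟨x, y, hxy⟩ := h3.toNontrivial.exists_pair_ne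
        obtain ⟨x, rfl⟩ := QuotientGroup.mk_surjective x
        obtain ⟨y, rfl⟩ := QuotientGroup.mk_surjective y
        exact ⟨x, y, fun h => hxy (by rw [h])⟩
      rw [h1] at h2
      exact not_nontrivial _ h2
  · exact le_sSup hL

/-- normal subgroups not containing `L` are trivial -/
theorem eq_bot_of_normal (C : Conf L A t) {N : Subgroup H} (hN : N.Normal) (h : ¬ L ≤ N) :
    N = ⊥ := by
  haveI := C.normal
  haveI := C.simple
  have h1 : (N.subgroupOf L).Normal := inferInstance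
  rcases h1.eq_bot_or_eq_top with h2 | h2
  · rw [← le_bot_iff, ← C.cent]
    have h3 : N ⊓ L = ⊥ := by
      rw [Subgroup.subgroupOf_eq_bot] at h2
      exact h2.eq_bot
    intro x hx
    rw [mem_centralizer_iff]
    intro y hy
    have h4 : x * y * x⁻¹ * y⁻¹ ∈ N ⊓ L := by
      rw [mem_inf]
      refine ⟨?_, ?_⟩
      · have : x * (y * x⁻¹ * y⁻¹) ∈ N := mul_mem hx (hN.conj_mem _ (inv_mem hx) y)
        simpa only [mul_assoc] using this
      · exact mul_mem (C.normal.conj_mem y hy x) (inv_mem hy)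
    rw [h3, mem_bot, mul_inv_eq_one, mul_inv_eq_iff_eq_mul] at h4
    exact h4.symm
  · exact absurd (subgroupOf_eq_top.mp h2) h

/-- the reduced configuration is again a configuration of the original kind. -/
theorem simple_of_conf (C : Conf L A t) (h2 : 2 ∣ Nat.card A) : Reduce.Simple A where
  std := C.std
  not_normal := by
    intro hn
    have h1 : L ≤ A := by
      by_contra h
      have h3 := eq_bot_of_normal C hn h
      rw [h3, Subgroup.card_bot] at h2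
      omega
    have h4 : t ∈ Subgroup.centralizer (L : Set H) :=
      Subgroup.centralizer_le h1 C.htA
    rw [C.cent, mem_bot] at h4
    have h5 := C.ht
    rw [h4, orderOf_one] at h5
    omega
  oddCore := by
    apply eq_bot_of_normal C (Lib.Cores.pPrimeCore_normal 2)
    intro h
    have h1 := Lib.Cores.pPrimeCore_coprime (G := H) 2
    have h3 : 2 ∣ Nat.card (pPrimeCore 2 H) := h2.trans (Subgroup.card_dvd_of_le (C.le.trans h))
    have h4 := Nat.Coprime.eq_one_of_dvd h1.symm h3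
    omega
  pCore := by
    haveI : Fact (Nat.Prime 2) := ⟨Nat.prime_two⟩
    haveI := C.simple
    apply eq_bot_of_normal C (Lib.Cores.pCore_normal 2)
    intro h
    have h1 : IsPGroup 2 L := (Lib.Cores.pCore_isPGroup 2).to_le h
    apply C.not_comm
    have h3 : Nontrivial (center L) := h1.center_nontrivial
    rcases (inferInstance : (center L).Normal).eq_bot_or_eq_top with h4 | h4
    · rw [h4] at h3
      exact absurd h3 (not_nontrivial _)
    · refine ⟨⟨fun a b => ?_⟩⟩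
      have : a ∈ center L := by rw [h4]; trivial
      rw [mem_center_iff] at this
      exact (this b).symm
  centralizer := by rw [layer_eq C]; exact C.cent
  le_layer := by rw [layer_eq C]; exact C.le
  simple := by rw [layer_eq C]; exact C.simple
  not_comm := by rw [layer_eq C]; exact C.not_comm

theorem glob_of_conf (C : Conf L A t) : MainDef.Glob t L where
  normal := C.normal
  gen := by
    haveI := C.normal
    intro g
    have h1 : g ∈ L ⊔ Subgroup.zpowers t := by rw [C.gen]; trivial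
    obtain ⟨x, hx, y, hy, rfl⟩ := Subgroup.mem_sup_of_normal_left.mp h1
    have htt : t * t = 1 := by
      have := pow_orderOf_eq_one t
      rwa [C.ht, pow_two] at this
    have h2 : y = 1 ∨ y = t := by
      obtain ⟨k, rfl⟩ := Subgroup.mem_zpowers_iff.mp hy
      have h4 : t ^ (2 : ℤ) = 1 := by
        rw [show (2 : ℤ) = ((2 : ℕ) : ℤ) by norm_num, zpow_natCast, pow_two, htt]
      rcases Int.even_or_odd' k with ⟨c, h | h⟩
      · left
        rw [h, zpow_mul, h4, one_zpow]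
      · right
        rw [h, zpow_add, zpow_mul, h4, one_zpow, one_mul, zpow_one]
    rcases h2 with rfl | rfl
    · left
      rw [mul_one]; exact hx
    · right
      have h3 := C.normal.conj_mem x hx y
      have h4 : y * (x * y) = y * x * y⁻¹ := by
        have : y⁻¹ = y := inv_eq_of_mul_eq_one_right htt
        rw [this, mul_assoc]
      rw [h4]; exact h3
  perf := by
    haveI := C.simple
    rcases (inferInstance : (commutator L).Normal).eq_bot_or_eq_top with h | h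
    · exfalso
      apply C.not_comm
      refine ⟨⟨fun a b => ?_⟩⟩
      have h1 : ⁅a, b⁆ ∈ commutator L := Subgroup.commutator_mem_commutator (mem_top a) (mem_top b)
      rw [h, mem_bot, commutatorElement_eq_one_iff_mul_comm] at h1
      exact h1
    · exact h

theorem two_dvd_psu {F : Type*} [Field F] [Fintype F] {a : ℕ} (ha : 2 ≤ a)
    (hF : Fintype.card F = 4 ^ a) : 2 ∣ Nat.card (Cfsg.PSU 3 F (2 ^ a)) := by
  have hF' : Fintype.card F = (2 ^ a) ^ 2 := by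
    rw [hF, ← pow_mul, mul_comm, pow_mul]; norm_num
  have h1 := Cfsg.Agent.S0280.result hF' 3 (by norm_num)
  norm_num only [Finset.prod_range_succ, Nat.even_iff, _root_.Finset.range_one, _root_.Finset.prod_singleton, _root_.pow_one, _root_.ite_true, _root_.ite_false] at h1
  have h2 : 2 ∣ 2 ^ a := dvd_pow_self 2 (by omega)
  generalize 2 ^ a = q at h1 h2 ⊢
  generalize Nat.card (Cfsg.PSU 3 F q) = N at h1 ⊢
  have h3 : Nat.gcd 3 (q + 1) * N = q ^ 3 * ((q ^ 2 - 1) * (q ^ 3 + 1)) := by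
    generalize Nat.gcd 3 (q + 1) = g at h1 ⊢
    refine Nat.eq_of_mul_eq_mul_left (show 0 < q + 1 by omega) ?_
    calc (q + 1) * (g * N) = g * ((q + 1) * N) := by ring
      _ = _ := h1
      _ = _ := by ring
  have h4 : 2 ∣ Nat.gcd 3 (q + 1) * N := by
    rw [h3]
    exact Dvd.dvd.mul_right (dvd_pow h2 (by norm_num)) _
  rcases (Nat.dvd_prime Nat.prime_three).mp (Nat.gcd_dvd_left 3 (q + 1)) with hg | hg
  · rwa [hg, one_mul] at h4
  · rw [hg] at h4
    exact (Nat.Coprime.dvd_mul_left (by norm_num)).mp h4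

/-- **The final reduction.** -/
theorem main {G : Type u} [Group G] [Finite G] (h1170 : S1170Stmt.{u})
    (hO : Cfsg.oddCore G = ⊥) (A : Subgroup G) (hA : Cfsg.IsStandardSubgroup A) (hnA : ¬ A.Normal)
    (hR : ∀ R : Sylow 2 ↥(Subgroup.centralizer (A : Set G)),
      IsCyclic ↥(R : Subgroup ↥(Subgroup.centralizer (A : Set G))))
    (t : G) (ht : orderOf t = 2) (htA : t ∈ Subgroup.centralizer (A : Set G))
    {F : Type v} [Field F] [Fintype F] (a : ℕ) (ha : 2 ≤ a) (hF : Fintype.card F = 4 ^ a)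
    (hAX : Nonempty (↥A ⧸ Subgroup.center ↥A ≃* Cfsg.PSU 3 F (2 ^ a)))
    (hout : ∀ (H : Type u) [Group H] [Finite H] (L A : Subgroup H) (t : H), Conf L A t →
      Reduce.Simple A → MainDef.Glob t L →
      Nonempty (↥A ⧸ Subgroup.center ↥A ≃* Cfsg.PSU 3 F (2 ^ a)) →
      t ∉ L ∧ (MainDef.NonAb L ∨ MainDef.Ab L) ∧
        ∃ P ≤ L, IsPGroup 2 P ∧ ∃ x ∈ P, ∃ y ∈ P, x * y ≠ y * x) :
    Nonempty (↥(Cfsg.layer G) ≃* ↥A × ↥A) ∨ (IsLieTypeChar 2 ↥(Cfsg.layer G) ∧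
      ¬ (∃ e : G, e ∈ Cfsg.layer G ∧ ∀ x ∈ Cfsg.layer G, t * x * t⁻¹ = e * x * e⁻¹)) := by
  rcases Reduce.prod_or_simple hA hnA hO ht htA with h | S
  · exact Or.inl h
  have C := conf_of_simple S ht htA hR
  have hLH : Cfsg.layer G ≤ Cfsg.layer G ⊔ Subgroup.zpowers t := le_sup_left
  have hAH : A ≤ Cfsg.layer G ⊔ Subgroup.zpowers t := S.le_layer.trans hLH
  have eL := subgroupOfEquivOfLe hLH
  have eA := subgroupOfEquivOfLe hAH
  have hAX' : Nonempty (↥(A.subgroupOf (Cfsg.layer G ⊔ Subgroup.zpowers t)) ⧸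
      Subgroup.center ↥(A.subgroupOf (Cfsg.layer G ⊔ Subgroup.zpowers t)) ≃*
        Cfsg.PSU 3 F (2 ^ a)) := by
    obtain ⟨f⟩ := hAX
    refine ⟨(QuotientGroup.congr _ _ eA ?_).trans f⟩
    ext x
    constructor
    · rintro ⟨y, hy, rfl⟩
      rw [mem_center_iff]
      intro g
      have h1 := mem_center_iff.mp hy (eA.symm g)
      have h2 := congrArg eA h1
      simpa only [_root_.MonoidHom.coe_coe, _root_.map_mul, _root_.MulEquiv.apply_symm_apply] using h2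
    · intro hx
      refine ⟨eA.symm x, ?_, by simp⟩
      rw [SetLike.mem_coe, mem_center_iff]
      intro g
      have h1 := mem_center_iff.mp hx (eA g)
      have h2 := congrArg eA.symm h1
      simpa only [_root_.map_mul, _root_.MulEquiv.symm_apply_apply] using h2
  have hcardA : Nat.card (Cfsg.PSU 3 F (2 ^ a)) ∣
      Nat.card ↥(A.subgroupOf (Cfsg.layer G ⊔ Subgroup.zpowers t)) := by
    obtain ⟨f⟩ := hAX'
    rw [← Nat.card_congr f.toEquiv]
    exact Subgroup.card_quotient_dvd_card _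
  obtain ⟨h1, h2, P, hP, hP2, hPc⟩ := hout _ _ _ _ C
    (simple_of_conf C ((two_dvd_psu ha hF).trans hcardA)) (glob_of_conf C) hAX'
  haveI := C.simple
  right
  constructor
  · refine Cfsg.Agent.OddHalf.Known.isLieTypeChar_congr eL
      (FinalAb.lie_of_out h1170 hP2 hP hPc ?_ h2)
    exact ((FinalRed.three_dvd_psu hF).trans hcardA).trans (Subgroup.card_dvd_of_le C.le)
  · apply S.not_inner
    intro h
    exact h1 (mem_subgroupOf.mpr h)

end Cfsg.Agent.StdU3.FinalGen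
end

-- part: StdU3/Main
section
/-!
# The local analysis: final assembly

`G = E ⟨t⟩`, `E` normal and perfect. Output: `t ∉ E` and a strongly closed subgroup in a Sylow
2-subgroup of `E`.
-/

set_option autoImplicit false
set_option linter.unusedSectionVars false
set_option linter.dupNamespace false
set_option linter.style.haveILetI false

namespace Cfsg.Agent.StdU3.Main

open Subgroup Cfsg.Agent.StdU3.Field Cfsg.Agent.StdU3.PreDef Cfsg.Agent.StdU3.FldDef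
open Cfsg.Agent.StdU3.LevelOne Cfsg.Agent.StdU3.TermDef Cfsg.Agent.StdU3.LevelOneW
open Cfsg.Agent.StdU3.MainDef Cfsg.Agent.StdU3.EndN Cfsg.Agent.StdU3.Next Cfsg.Agent.StdU3.NormQ

universe u v

section

variable {G : Type u} [Group G] [Finite G] {K : Type*} [Field K] [Fintype K] [CharP K 2] {n : ℕ}
variable {D : Pre G K n} (F : Fld D) {E : Subgroup G}

/-- `U ≤ E` for the terminal groups. -/
theorem U_le {E : Subgroup G} (hG : Glob D.t E) (hAE : F.A ≤ E) (T : Term D)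
    (h : ∀ (M : Type u) [CommGroup M] (f : G →* M), (∀ p ∈ D.P, f p = 1) → ∀ x ∈ T.U, f x = 1) :
    T.U ≤ E := by
  haveI := hG.normal
  intro x hx
  exact Gen.mem_of_gen hG.gen (fun p hp => hAE (F.P_A hp)) (fun M _ f hf => h M f hf x hx)

/-- the terminal group. -/
theorem exists_term (hG : Glob D.t E) (hAE : F.A ≤ E) :
    ∃ T : Term D, (∀ s ∈ F.Sg, ∀ g ∈ T.U, s * g * s⁻¹ ∈ T.U) ∧ T.U ≤ E := by
  rcases TermExists.cases F F.Sg_norm with ⟨T, hTU, h⟩ | ⟨hg, X, T, hTU, hsurj, -, h⟩ | ⟨hg, -⟩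
  · refine ⟨T, fun s hs => h s (F.Sg_norm s hs), U_le F hG hAE T ?_⟩
    intro M _ f hf x hx
    rw [hTU] at hx
    exact Gen.gen_V D f hf hx
  · refine ⟨T, h, U_le F hG hAE T ?_⟩
    intro M _ f hf x hx
    rw [hTU] at hx
    exact Gen.gen_U D f hf hg F.amb X hsurj hx
  · obtain ⟨T, h1, h2, -⟩ := Tower.Final.exists_term F hg
    exact ⟨T, h1, U_le F hG hAE T (fun M _ f hf x hx => h2 f hf x hx)⟩

/-- **case (n)** -/
theorem case_n (hG : Glob D.t E) (hAE : F.A ≤ E) (hno : NoOut F) : D.t ∉ E ∧ NonAb E := by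
  haveI := hG.normal
  obtain ⟨T, hU, hUE⟩ := exists_term F hG hAE
  exact OutN.out F T hU F.Sg_norm hno hG.perf hUE

/-- the outer involution when `NoOut` fails -/
theorem exists_e (hno : ¬ NoOut F) : ∃ e ∈ F.Sg, e * e = 1 ∧ Rank.ch F e = FieldAut.barE D.hq ∧
    ∃ y, y * D.t * y⁻¹ = e := by
  unfold NoOut at hno
  push Not at hno
  obtain ⟨x, h1, h2, h3, y, hy⟩ := hno
  exact ⟨x, h1, h2, h3, y, hy⟩

/-- the remaining constructions: type `g0` -/
def ConsZero (F : Fld D) : Prop :=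
  ∀ (e g : G) (c r : K), e ∈ F.Sg → OuterA.Dat F e g c r → gam D = 0 →
    (∀ X : Next D F.O, ∀ c, ∃ s ∈ X.S, a D (s * D.t * s⁻¹) = c) →
    ∃ Z : GZeroDef.GZero G K n, Z.t = D.t

/-- the remaining constructions: type `g1` -/
def ConsOne (F : Fld D) (E : Subgroup G) : Prop :=
  ∀ (e g : G) (c r : K), e ∈ F.Sg → OuterA.Dat F e g c r → gam D = 1 → Glob D.t E → F.A ≤ E →
    Out D.t E

/-- **The local analysis.** -/
theorem out (hG : Glob D.t E) (hAE : F.A ≤ E) (h0 : ConsZero F) (h1 : ConsOne F E) :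
    Out D.t E := by
  by_cases hno : NoOut F
  · obtain ⟨h2, h3⟩ := case_n F hG hAE hno
    exact ⟨h2, Or.inl h3⟩
  · obtain ⟨e, he, hee, hch, y, hy⟩ := exists_e F hno
    have hI : Swap.Inv F e := ⟨F.Sg_t e he, F.Sg_P e he, hee, hch⟩
    obtain ⟨g, c, r, hD⟩ := OuterA.exists_dat F.Sg_norm hI (F.Sg_norm e he) hy
    rcases hD.cases with ⟨hg, hs⟩ | ⟨hg, -⟩
    · obtain ⟨Z, hZ⟩ := h0 e g c r he hD hg hs
      haveI := hG.normal
      obtain ⟨h4, S, V, h5, h6, -, h7, -⟩ := GZeroOut.out Z hG.perf (by rw [hZ]; exact hG.gen)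
      rw [hZ] at h4
      refine ⟨h4, Or.inr ⟨S, V, h5, h6, ?_, ?_⟩⟩
      · rintro rfl
        rw [Subgroup.card_bot] at h7
        omega
      · exact h7.trans (Subgroup.card_le_of_le h5.1)
    · exact h1 e g c r he hD hg hG hAE

include F in
theorem P_not_comm : ∃ x ∈ D.P, ∃ y ∈ D.P, x * y ≠ y * x := by
  obtain ⟨b, hb⟩ := exists_Tr_one D.hq
  obtain ⟨x, hx, hxa⟩ := D.ca_surj b
  obtain ⟨y, hy, hya⟩ := D.ca_surj 1
  refine ⟨x, hx, y, hy, fun h => ?_⟩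
  have h1 := D.P_comm x hx y hy
  rw [hxa, hya, bar_one, mul_one, hb, h] at h1
  have h2 : D.z 1 = 1 := (mul_eq_right.mp h1.symm)
  exact one_ne_zero (D.z_inj 1 (bar_one n) h2)

end

/-- **S1771** from S1170 and the two constructions. -/
theorem main {G : Type u} [Group G] [Finite G] (h1170 : StdSz.Out.S1170Stmt.{u})
    (hO : Cfsg.oddCore G = ⊥) (A : Subgroup G) (hA : Cfsg.IsStandardSubgroup A) (hnA : ¬ A.Normal)
    (hR : ∀ R : Sylow 2 ↥(Subgroup.centralizer (A : Set G)),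
      IsCyclic ↥(R : Subgroup ↥(Subgroup.centralizer (A : Set G))))
    (t : G) (ht : orderOf t = 2) (htA : t ∈ Subgroup.centralizer (A : Set G))
    {F : Type v} [Field F] [Fintype F] (a : ℕ) (ha : 2 ≤ a) (hF : Fintype.card F = 4 ^ a)
    (hAX : Nonempty (↥A ⧸ Subgroup.center ↥A ≃* Cfsg.PSU 3 F (2 ^ a)))
    (h0 : ∀ (H : Type u) [Group H] [Finite H] [CharP F 2] (D : Pre H F a) (Fl : Fld D), ConsZero Fl)
    (h1 : ∀ (H : Type u) [Group H] [Finite H] [CharP F 2] (D : Pre H F a) (Fl : Fld D)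
      (E : Subgroup H), ConsOne Fl E) :
    Nonempty (↥(Cfsg.layer G) ≃* ↥A × ↥A) ∨ (IsLieTypeChar 2 ↥(Cfsg.layer G) ∧
      ¬ (∃ e : G, e ∈ Cfsg.layer G ∧ ∀ x ∈ Cfsg.layer G, t * x * t⁻¹ = e * x * e⁻¹)) := by
  refine FinalGen.main h1170 hO A hA hnA hR t ht htA a ha hF hAX ?_
  intro H _ _ L A t C S hGl hAX'
  haveI := LZeroTop.charP_two hF
  obtain ⟨D, Fl, hDt, hDA, -⟩ := LZeroTop.exists_fld S C.ht C.htA C.cyc ha hF hAX'
  have hAE : Fl.A ≤ L := by rw [hDA]; exact C.le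
  have hG : Glob D.t L := by rw [hDt]; exact hGl
  obtain ⟨h2, h3⟩ := out Fl hG hAE (h0 H D Fl) (h1 H D Fl L)
  rw [hDt] at h2
  exact ⟨h2, h3, D.P, fun p hp => hAE (Fl.P_A hp), D.Q_two.to_le D.P_le, P_not_comm Fl⟩

end Cfsg.Agent.StdU3.Main
end

-- part: StdU3/GOneA
section
/-!
# Type `g1`, `n` even: `[P, P_e] = 1`

The lines: the conjugates `W^g`, `g ∈ N_G(U)`, of `W = [U, t] Z`, with the planes `P^g`.
(a1) two commuting lines `W^g`, `W^g'` are equal or `W^g' ≤ P^g`; (a2) every element of `P - Z` is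
contained in a line `≤ P`. If `[P, P_e] ≠ 1` this gives three pairwise commuting lines.
-/

set_option autoImplicit false
set_option linter.unusedSectionVars false
set_option linter.dupNamespace false

namespace Cfsg.Agent.StdU3.GOneA

open Subgroup Cfsg.Agent.StdU3.Field Cfsg.Agent.StdU3.PreDef Cfsg.Agent.StdU3.FldDef
open Cfsg.Agent.StdU3.LevelOne Cfsg.Agent.StdU3.TermDef Cfsg.Agent.StdU3.GOneSyl
open Cfsg.Agent.StdU3.Tower.Cen Cfsg.Agent.StdU3.Tower.TwoCl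
open Cfsg.Agent.StdU3.Swap (Pe mem_Pe)

variable {G : Type*} [Group G] [Finite G] {K : Type*} [Field K] [Fintype K] [CharP K 2] {n : ℕ}
variable {D : Pre G K n}

/-- for `n` even the weight of the torus is surjective. -/
theorem w_surj (hq : Qd K n) (hn : Even n) {b : K} (hb : b ≠ 0) : ∃ l : Kˣ, w n l = b := by
  let φ : Kˣ →* Kˣ := MonoidHom.mk' (fun l => l ^ 2 * (l ^ (2 ^ n))⁻¹) (fun x y => by
    simp only [mul_pow, mul_inv]
    exact mul_mul_mul_comm _ _ _ _)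
  have hφ : ∀ l, ((φ l : Kˣ) : K) = w n l := by
    intro l
    show ((l ^ 2 * (l ^ (2 ^ n))⁻¹ : Kˣ) : K) = (l : K) ^ 2 * (bar n (l : K))⁻¹
    push_cast
    rfl
  have hinj : Function.Injective φ := by
    rw [injective_iff_map_eq_one]
    intro l hl
    have h1 : l ^ 2 = l ^ (2 ^ n) := by
      have : l ^ 2 * (l ^ (2 ^ n))⁻¹ = 1 := hl
      exact mul_inv_eq_one.mp this
    have h2 : (l : K) ^ 2 = bar n (l : K) := by
      have := congrArg (fun x : Kˣ => (x : K)) h1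
      simpa only [bar_def, _root_.Units.val_pow_eq_pow_val] using this
    have h3 : (l : K) ^ 3 = 1 := by
      have h4 : (l : K) ^ 4 = l := by
        calc (l : K) ^ 4 = ((l : K) ^ 2) ^ 2 := by ring
          _ = bar n ((l : K) ^ 2) := by rw [bar_pow, h2]
          _ = bar n (bar n (l : K)) := by rw [h2]
          _ = l := bar_bar hq _
      have h5 : (l : K) * ((l : K) ^ 3) = l * 1 := by
        have h6 : (l : K) * (l : K) ^ 3 = (l : K) ^ 4 := by ring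
        rw [mul_one, h6, h4]
      exact mul_left_cancel₀ l.ne_zero h5
    have h6 : ∃ j, 2 ^ n = 3 * j + 1 := by
      obtain ⟨m, rfl⟩ := hn
      have h7 : 2 ^ (m + m) = 4 ^ m := by
        rw [← two_mul, pow_mul]; norm_num
      rw [h7]
      have h8 : 4 ^ m % 3 = 1 := by
        rw [Nat.pow_mod]; norm_num
      exact ⟨4 ^ m / 3, by omega⟩
    obtain ⟨j, hj⟩ := h6
    have h9 : (l : K) ^ 2 = l := by
      rw [h2, bar_def, hj, pow_succ, pow_mul, h3, one_pow, one_mul]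
    apply Units.val_injective
    rw [Units.val_one]
    have h10 : (l : K) * l = l * 1 := by rw [mul_one, ← sq]; exact h9
    exact mul_left_cancel₀ l.ne_zero h10
  have hsur : Function.Surjective φ := Finite.surjective_of_injective hinj
  obtain ⟨l, hl⟩ := hsur (Units.mk0 b hb)
  exact ⟨l, by rw [← hφ, hl, Units.val_mk0]⟩

theorem nor {T : Term D} {g u : G} (hg : g ∈ normalizer (T.U : Set G)) (hu : u ∈ T.U) :
    g * u * g⁻¹ ∈ T.U := (Subgroup.mem_normalizer_iff.mp hg u).mp hu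

theorem nor' {T : Term D} {g u : G} (hg : g ∈ normalizer (T.U : Set G)) (hu : u ∈ T.U) :
    g⁻¹ * u * g ∈ T.U := by
  have := nor (inv_mem hg) hu
  rwa [inv_inv] at this

/-- the configuration. -/
structure Ca (F : Fld D) (T : Term D) (e y : G) where
  H : G1 F T e y
  C : Cen D F.O
  A : Cl C
  hT : T.U = Tower.Cen.U C
  S : Sylow 2 G
  hS : G1.Syl H (S : Subgroup G)
  even : Even n

namespace Ca

variable {F : Fld D} {T : Term D} {e y : G} (c : Ca F T e y)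

include c

theorem mem_U {g : G} : g ∈ T.U ↔ g ∈ Tower.Cen.U c.C := by rw [c.hT]

/-! ### `Z` -/

theorem Zc {x u : G} (hx : x ∈ Card.Z D) (hu : u ∈ T.U) : x * u = u * x := by
  obtain ⟨b, -, rfl⟩ := hx
  exact (c.H.z_cen hu b).symm

theorem cmtZ {u v : G} (hu : u ∈ T.U) (hv : v ∈ T.U) : u * v * u⁻¹ * v⁻¹ ∈ Card.Z D := by
  obtain ⟨b, hb, h⟩ := c.H.cz hu hv
  refine ⟨b, hb, ?_⟩
  rw [h]; group

theorem Z_U {x : G} (hx : x ∈ Card.Z D) : x ∈ T.U := T.P_le (Card.Z_le_P D hx)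

theorem conjZ {g x : G} (hg : g ∈ normalizer (T.U : Set G)) (hx : x ∈ Card.Z D) :
    g * x * g⁻¹ ∈ Card.Z D := by
  obtain ⟨b, hb, rfl⟩ := hx
  obtain ⟨x, hx, hx1⟩ := D.ca_surj 1
  obtain ⟨y', hy'⟩ := exists_Tr_eq D.hq (one_ne_zero) hb
  obtain ⟨x', hx', hx1'⟩ := D.ca_surj y'
  have h1 := D.P_comm x hx x' hx'
  have h2 : x * x' * x⁻¹ * x'⁻¹ = D.z b := by
    rw [h1, hx1, hx1', hy']
    group
  rw [← h2]
  have h3 := c.cmtZ (nor hg (T.P_le hx)) (nor hg (T.P_le hx'))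
  have h4 : g * (x * x' * x⁻¹ * x'⁻¹) * g⁻¹ =
      (g * x * g⁻¹) * (g * x' * g⁻¹) * (g * x * g⁻¹)⁻¹ * (g * x' * g⁻¹)⁻¹ := by group
  rw [h4]; exact h3

theorem conjZ' {g x : G} (hg : g ∈ normalizer (T.U : Set G)) (hx : x ∈ Card.Z D) :
    g⁻¹ * x * g ∈ Card.Z D := by
  have := c.conjZ (inv_mem hg) hx
  rwa [inv_inv] at this

theorem memZ_conj {g x : G} (hg : g ∈ normalizer (T.U : Set G)) (hx : g⁻¹ * x * g ∈ Card.Z D) :
    x ∈ Card.Z D := by
  have := c.conjZ hg hx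
  have e1 : g * (g⁻¹ * x * g) * g⁻¹ = x := by group
  rwa [e1] at this

/-! ### `W` -/

theorem W_U {x : G} (hx : x ∈ c.A.W) : x ∈ T.U := by
  rw [c.mem_U]; exact Tower.Cen.M_le c.C (c.A.W_le hx)

theorem Z_W {x : G} (hx : x ∈ Card.Z D) : x ∈ c.A.W := by
  obtain ⟨b, -, rfl⟩ := hx
  exact c.A.z_W b

theorem W_P {x p : G} (hx : x ∈ c.A.W) (hp : p ∈ D.P) : x * p = p * x :=
  c.C.M_P x (c.A.W_le hx) p hp

theorem W_inf_P {x : G} (hx : x ∈ c.A.W) (hp : x ∈ D.P) : x ∈ Card.Z D :=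
  Tower.Cen.P_M c.C hp (c.A.W_le hx)

theorem u_ne {x : G} (hx : x ∈ c.A.W) (hxZ : x ∉ Card.Z D) : c.A.u x ≠ 0 := by
  intro h
  exact hxZ (c.A.u_ker x hx h)

/-- elements of `U` commuting with an element of `W - Z` commute with `W`. -/
theorem lin0 {v x x' : G} (hv : v ∈ T.U) (hx : x ∈ c.A.W) (hxZ : x ∉ Card.Z D) (hx' : x' ∈ c.A.W)
    (h : v * x = x * v) : v * x' = x' * v := by
  by_cases h0 : c.A.u x' = 0
  · exact (c.Zc (c.A.u_ker x' hx' h0) hv).symm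
  have hux := c.u_ne hx hxZ
  have hfix : bar n (c.A.u x' / c.A.u x) = c.A.u x' / c.A.u x := by
    rw [div_eq_mul_inv]
    exact fixed_mul (c.A.u_fixed x' hx') (fixed_inv (c.A.u_fixed x hx))
  obtain ⟨r0, hr0, h4⟩ := Outer.exists_fourth D.hq hfix
  have hr0' : r0 ≠ 0 := by
    rintro rfl
    rw [zero_pow (by norm_num)] at h4
    exact div_ne_zero h0 hux h4.symm
  set r : Kˣ := Units.mk0 (r0 ^ 2) (pow_ne_zero 2 hr0') with hr
  have hrf : bar n (r : K) = r := by rw [hr, Units.val_mk0, bar_pow, hr0]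
  have hW : cj c.C r x ∈ c.A.W := c.A.h_W r x hx
  have hrx : c.A.u (cj c.C r x) = c.A.u x' := by
    have e1 : c.A.u (cj c.C r x) = N n (r : K) * c.A.u x := c.A.u_h r x hx
    have e2 : (r : K) ^ 2 = r0 ^ 4 := by rw [hr, Units.val_mk0]; ring
    rw [e1, N_of_fixed hrf, e2, h4, div_mul_cancel₀ _ hux]
  have hz : (cj c.C r x)⁻¹ * x' ∈ Card.Z D := by
    apply c.A.u_ker _ (mul_mem (inv_mem hW) hx')
    rw [c.A.u_mul _ (inv_mem hW) _ hx']
    have e1 := c.A.u_mul _ hW _ (inv_mem hW)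
    rw [mul_inv_cancel] at e1
    have e2 : c.A.u (1 : G) = 0 := by
      have := c.A.u_mul 1 c.A.W.one_mem 1 c.A.W.one_mem
      rw [mul_one] at this
      exact left_eq_add.mp this
    rw [e2] at e1
    rw [Field.add_eq_zero.mp e1.symm] at hrx
    rw [hrx, Field.add_self]
  have h5 := comm_cj_U c.A F.amb hrf (c.mem_U.mp hv) (c.mem_U.mp (c.W_U hx)) h
  have h6 := c.Zc hz hv
  have e3 : x' = cj c.C r x * ((cj c.C r x)⁻¹ * x') := by group
  rw [e3]
  calc v * (cj c.C r x * ((cj c.C r x)⁻¹ * x')) = (v * cj c.C r x) * ((cj c.C r x)⁻¹ * x') := by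
        group
    _ = cj c.C r x * (v * ((cj c.C r x)⁻¹ * x')) := by rw [h5]; group
    _ = _ := by rw [← h6]; group

/-- the same for a line. -/
theorem lin {g v x x' : G} (hg : g ∈ normalizer (T.U : Set G)) (hv : v ∈ T.U)
    (hx : g⁻¹ * x * g ∈ c.A.W) (hxZ : x ∉ Card.Z D) (hx' : g⁻¹ * x' * g ∈ c.A.W)
    (h : v * x = x * v) : v * x' = x' * v := by
  have h1 := c.lin0 (v := g⁻¹ * v * g) (nor' hg hv) hx (fun h0 => hxZ (c.memZ_conj hg h0)) hx' (by
    calc g⁻¹ * v * g * (g⁻¹ * x * g) = g⁻¹ * (v * x) * g := by group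
      _ = g⁻¹ * (x * v) * g := by rw [h]
      _ = _ := by group)
  calc v * x' = g * ((g⁻¹ * v * g) * (g⁻¹ * x' * g)) * g⁻¹ := by group
    _ = g * ((g⁻¹ * x' * g) * (g⁻¹ * v * g)) * g⁻¹ := by rw [h1]
    _ = _ := by group

theorem Wg_U {g x : G} (hg : g ∈ normalizer (T.U : Set G)) (hx : g⁻¹ * x * g ∈ c.A.W) : x ∈ T.U := by
  have := nor hg (c.W_U hx)
  have e1 : g * (g⁻¹ * x * g) * g⁻¹ = x := by group
  rwa [e1] at this

theorem Pg_U {g x : G} (hg : g ∈ normalizer (T.U : Set G)) (hx : g⁻¹ * x * g ∈ D.P) : x ∈ T.U := by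
  have := nor hg (T.P_le hx)
  have e1 : g * (g⁻¹ * x * g) * g⁻¹ = x := by group
  rwa [e1] at this

/-- two lines with commuting elements commute. -/
theorem lin2 {g g' x x' z z' : G} (hg : g ∈ normalizer (T.U : Set G))
    (hg' : g' ∈ normalizer (T.U : Set G)) (hx : g⁻¹ * x * g ∈ c.A.W) (hxZ : x ∉ Card.Z D)
    (hz : g'⁻¹ * z * g' ∈ c.A.W) (hzZ : z ∉ Card.Z D) (h : x * z = z * x)
    (hx' : g⁻¹ * x' * g ∈ c.A.W) (hz' : g'⁻¹ * z' * g' ∈ c.A.W) : x' * z' = z' * x' := by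
  have h1 : x * z' = z' * x := c.lin hg' (c.Wg_U hg hx) hz hzZ hz' h
  exact (c.lin hg (c.Wg_U hg' hz') hx hxZ hx' h1.symm).symm

/-! ### The action of `t` -/

theorem tt : D.t * D.t = 1 := D.t_sq

theorem ti : D.t⁻¹ = D.t := inv_eq_of_mul_eq_one_left D.t_sq

/-- `[u, t] ∈ W` -/
theorem cmt_t {u : G} (hu : u ∈ T.U) : u * D.t * u⁻¹ * D.t⁻¹ ∈ c.A.W := by
  obtain ⟨p, hp, m, hm, rfl⟩ := c.mem_U.mp hu
  have h1 := c.A.a_mem m hm
  have h2 := D.t_P p hp
  have h3 := c.W_P h1 hp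
  have e1 : p * m * D.t * (p * m)⁻¹ * D.t⁻¹ = m * D.t * m⁻¹ * D.t := by
    have h4 : p⁻¹ * D.t = D.t * p⁻¹ := (D.t_P p⁻¹ (inv_mem hp)).symm
    calc p * m * D.t * (p * m)⁻¹ * D.t⁻¹ = p * (m * D.t * m⁻¹) * (p⁻¹ * D.t⁻¹) := by group
      _ = p * (m * D.t * m⁻¹) * (p⁻¹ * D.t) := by rw [c.ti]
      _ = p * (m * D.t * m⁻¹ * D.t) * p⁻¹ := by rw [h4]; group
      _ = _ := by rw [← h3]; group
  rw [e1]; exact h1

/-- `W = [U, t] Z` -/
theorem exists_cmt_t {x : G} (hx : x ∈ c.A.W) :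
    ∃ u ∈ T.U, ∃ s ∈ Card.Z D, x = u * D.t * u⁻¹ * D.t⁻¹ * s := by
  obtain ⟨m, hm, hem⟩ := c.A.e_surj (c.A.u x) (c.A.u_fixed x hx)
  have h1 := c.A.a_mem m hm
  refine ⟨m, c.mem_U.mpr (Tower.Cen.M_le c.C hm), (m * D.t * m⁻¹ * D.t)⁻¹ * x, ?_, ?_⟩
  · apply c.A.u_ker _ (mul_mem (inv_mem h1) hx)
    rw [c.A.u_mul _ (inv_mem h1) _ hx]
    have e1 := c.A.u_mul _ h1 _ (inv_mem h1)
    rw [mul_inv_cancel] at e1
    have e2 : c.A.u (1 : G) = 0 := by
      have := c.A.u_mul 1 c.A.W.one_mem 1 c.A.W.one_mem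
      rw [mul_one] at this
      exact left_eq_add.mp this
    rw [e2] at e1
    rw [← Field.add_eq_zero.mp e1.symm, c.A.u_a m hm, hem, Field.add_self]
  · rw [c.ti]; group

/-- elements commuting with `W` are centralized by `t` modulo `Z`. -/
theorem t_triv {v : G} (hv : v ∈ T.U) (h : ∀ x ∈ c.A.W, v * x = x * v) :
    D.t * v * D.t⁻¹ * v⁻¹ ∈ Card.Z D := by
  obtain ⟨p, hp, m, hm, rfl⟩ := c.mem_U.mp hv
  obtain ⟨x, hx, hx1⟩ := c.A.u_surj 1 (bar_one n)
  have h1 : m * x = x * m := by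
    have h2 := h x hx
    have h3 := c.W_P hx hp
    have : p * (m * x) = p * (x * m) := by
      calc p * (m * x) = p * m * x := by group
        _ = x * p * m := by rw [h2]; group
        _ = p * (x * m) := by rw [h3]; group
    exact mul_left_cancel this
  have h2 : c.A.e m = 0 := by
    have h3 := c.A.cm_eq m hm x hx 0 (bar_zero n) (by rw [z_zero, h1]; group)
    rw [hx1, mul_one, mul_zero] at h3
    exact h3.symm
  have h3 : m ∈ c.A.W := (c.A.e_ker m hm).mp h2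
  have h4 := c.A.W_inv m h3
  obtain ⟨b, hb, h5⟩ := c.A.sq m hm
  have h6 : D.t * (p * m) * D.t⁻¹ * (p * m)⁻¹ = p * (m * m)⁻¹ * p⁻¹ := by
    calc D.t * (p * m) * D.t⁻¹ * (p * m)⁻¹ = (D.t * p) * m * D.t⁻¹ * m⁻¹ * p⁻¹ := by group
      _ = p * (D.t * m * D.t⁻¹) * m⁻¹ * p⁻¹ := by rw [D.t_P p hp]; group
      _ = _ := by rw [h4]; group
  rw [h6, h5]
  apply c.conjZ (g := p)
  · exact le_normalizer (T.P_le hp)
  · exact inv_mem ⟨b, hb, rfl⟩

/-! ### The lines attached to involutions -/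

omit c in
theorem t_nor : D.t ∈ normalizer (T.U : Set G) := G1.mem_nor (fun _ hx => T.t_conj _ hx)

theorem y_nor : y ∈ normalizer (T.U : Set G) := G1.mem_nor (fun _ hx => c.H.y_U hx)

theorem e_nor : e ∈ normalizer (T.U : Set G) := G1.mem_nor (fun g hg => c.H.hU e c.H.he.mem g hg)

omit c in
/-- `[U, d] Z` -/
def Wd (T : Term D) (d x : G) : Prop :=
  ∃ u ∈ T.U, ∃ s ∈ Card.Z D, x = u * d * u⁻¹ * d⁻¹ * s

theorem Wd_t {x : G} : Wd T D.t x ↔ x ∈ c.A.W := by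
  constructor
  · rintro ⟨u, hu, s, hs, rfl⟩
    exact mul_mem (c.cmt_t hu) (c.Z_W hs)
  · intro hx
    exact c.exists_cmt_t hx

theorem Wd_conj {g d x : G} (hg : g ∈ normalizer (T.U : Set G)) :
    Wd T (g * d * g⁻¹) x ↔ Wd T d (g⁻¹ * x * g) := by
  constructor
  · rintro ⟨u, hu, s, hs, rfl⟩
    exact ⟨g⁻¹ * u * g, nor' hg hu, g⁻¹ * s * g, c.conjZ' hg hs, by group⟩
  · rintro ⟨u, hu, s, hs, h⟩
    refine ⟨g * u * g⁻¹, nor hg hu, g * s * g⁻¹, c.conjZ hg hs, ?_⟩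
    calc x = g * (g⁻¹ * x * g) * g⁻¹ := by group
      _ = _ := by rw [h]; group

omit c in
theorem Wd_mul {d x s : G} (h : Wd T d x) (hs : s ∈ Card.Z D) : Wd T d (x * s) := by
  obtain ⟨u, hu, s', hs', rfl⟩ := h
  exact ⟨u, hu, s' * s, mul_mem hs' hs, by group⟩

theorem Wd_U {d x : G} (hd : d ∈ normalizer (T.U : Set G)) (h : Wd T d x) : x ∈ T.U := by
  obtain ⟨u, hu, s, hs, rfl⟩ := h
  have h1 := nor hd (inv_mem hu)
  have e1 : u * d * u⁻¹ * d⁻¹ * s = u * (d * u⁻¹ * d⁻¹) * s := by group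
  rw [e1]
  exact mul_mem (mul_mem hu h1) (c.Z_U hs)

/-- the kernel of the action of `N_G(U)` on `U / Z` -/
def KV : Subgroup G where
  carrier := {k | k ∈ normalizer (T.U : Set G) ∧ ∀ u ∈ T.U, k * u * k⁻¹ * u⁻¹ ∈ Card.Z D}
  one_mem' := ⟨one_mem _, fun u _ => by simp⟩
  mul_mem' := by
    rintro a b ⟨ha, ha1⟩ ⟨hb, hb1⟩
    refine ⟨mul_mem ha hb, fun u hu => ?_⟩
    have e1 : a * b * u * (a * b)⁻¹ * u⁻¹ =
        (a * (b * u * b⁻¹ * u⁻¹) * a⁻¹) * (a * u * a⁻¹ * u⁻¹) := by group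
    rw [e1]
    exact mul_mem (c.conjZ ha (hb1 u hu)) (ha1 u hu)
  inv_mem' := by
    rintro a ⟨ha, ha1⟩
    refine ⟨inv_mem ha, fun u hu => ?_⟩
    have e1 : a⁻¹ * u * a⁻¹⁻¹ * u⁻¹ = a⁻¹ * (a * u * a⁻¹ * u⁻¹)⁻¹ * a := by group
    rw [e1]
    exact c.conjZ' ha (inv_mem (ha1 u hu))

theorem U_KV {u : G} (hu : u ∈ T.U) : u ∈ c.KV :=
  ⟨le_normalizer hu, fun _ hv => c.cmtZ hu hv⟩

theorem Wd_triv {k d x : G} (hk : k ∈ c.KV) (hd : d ∈ normalizer (T.U : Set G)) :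
    Wd T (k * d * k⁻¹) x ↔ Wd T d x := by
  rw [c.Wd_conj hk.1]
  have key : ∀ x ∈ T.U, ∃ s ∈ Card.Z D, k⁻¹ * x * k = x * s := by
    intro x hx
    have h1 := (inv_mem hk : k⁻¹ ∈ c.KV).2 x hx
    rw [inv_inv] at h1
    refine ⟨_, h1, ?_⟩
    rw [← c.Zc h1 hx]; group
  constructor
  · intro h
    have hx : x ∈ T.U := by
      have := nor hk.1 (c.Wd_U hd h)
      have e1 : k * (k⁻¹ * x * k) * k⁻¹ = x := by group
      rwa [e1] at this
    obtain ⟨s, hs, h1⟩ := key x hx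
    have h2 := Wd_mul h (inv_mem hs)
    rw [h1, mul_inv_cancel_right] at h2
    exact h2
  · intro h
    obtain ⟨s, hs, h1⟩ := key x (c.Wd_U hd h)
    rw [h1]
    exact Wd_mul h hs

theorem Wd_e {x : G} (h : Wd T e x) : x ∈ D.P := by
  obtain ⟨u, hu, s, hs, rfl⟩ := h
  obtain ⟨p, hp, r, hr, rfl⟩ := c.H.PPe u hu
  have h1 := c.H.hy.Pe_e hr
  have h2 := c.H.half.conj p⁻¹ (inv_mem hp)
  have e1 : p * r * e * (p * r)⁻¹ * e⁻¹ * s = p * (e * p⁻¹ * e⁻¹) * s := by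
    calc p * r * e * (p * r)⁻¹ * e⁻¹ * s = p * (r * e) * r⁻¹ * p⁻¹ * e⁻¹ * s := by group
      _ = _ := by rw [h1]; group
  rw [e1]
  exact mul_mem (mul_mem hp h2) (Card.Z_le_P D hs)

/-- `W^y ≤ P` -/
theorem yW {x : G} (hx : y⁻¹ * x * y ∈ c.A.W) : x ∈ D.P := by
  apply c.Wd_e
  rw [← c.H.hy.te, c.Wd_conj c.y_nor, c.Wd_t]
  exact hx

/-- `W ≤ P_e` -/
theorem W_Pe {x : G} (hx : x ∈ c.A.W) : y⁻¹ * x * y ∈ D.P := by
  apply c.Wd_e
  rw [← c.Wd_conj c.y_nor, c.H.hy.et, c.Wd_t]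
  exact hx

/-- **(a1)** -/
theorem a1 {g : G} (hg : g ∈ normalizer (T.U : Set G))
    (h : ∀ w ∈ c.A.W, ∀ x, g⁻¹ * x * g ∈ c.A.W → w * x = x * w) :
    (∀ x, g⁻¹ * x * g ∈ c.A.W → x ∈ c.A.W) ∨ (∀ x, g⁻¹ * x * g ∈ c.A.W → x ∈ D.P) := by
  have hp2 : Fact (Nat.Prime 2) := ⟨Nat.prime_two⟩
  set t1 := g * D.t * g⁻¹ with ht1
  have ht11 : t1 * t1 = 1 := by
    rw [ht1]
    calc g * D.t * g⁻¹ * (g * D.t * g⁻¹) = g * (D.t * D.t) * g⁻¹ := by group
      _ = 1 := by rw [D.t_sq]; group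
  have htn : D.t ∈ normalizer (T.U : Set G) := t_nor
  have ht1n : t1 ∈ normalizer (T.U : Set G) := mul_mem (mul_mem hg htn) (inv_mem hg)
  have hWd : ∀ x, g⁻¹ * x * g ∈ c.A.W ↔ Wd T t1 x := fun x => by rw [c.Wd_conj hg, c.Wd_t]
  -- `t t₁` and `t₁ t` induce the same on `U / Z`
  have key : ∀ u ∈ T.U, (D.t * t1) * u * (D.t * t1)⁻¹ * ((t1 * D.t) * u * (t1 * D.t)⁻¹)⁻¹ ∈
      Card.Z D := by
    intro u hu
    set a := t1 * u * t1⁻¹ * u⁻¹ with ha
    set b := D.t * u * D.t⁻¹ * u⁻¹ with hb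
    have haU : a ∈ T.U := mul_mem (nor ht1n hu) (inv_mem hu)
    have hbU : b ∈ T.U := mul_mem (nor htn hu) (inv_mem hu)
    have haW : g⁻¹ * a * g ∈ c.A.W := by
      have h1 := inv_mem (c.cmt_t (nor' hg hu))
      have e1 : (g⁻¹ * u * g * D.t * (g⁻¹ * u * g)⁻¹ * D.t⁻¹)⁻¹ = g⁻¹ * a * g := by
        rw [ha, ht1]; group
      rwa [e1] at h1
    have hbW : b ∈ c.A.W := by
      have h1 := inv_mem (c.cmt_t hu)
      have e1 : (u * D.t * u⁻¹ * D.t⁻¹)⁻¹ = b := by rw [hb]; group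
      rwa [e1] at h1
    have h1 : D.t * a * D.t⁻¹ * a⁻¹ ∈ Card.Z D := c.t_triv haU (fun w hw => (h w hw a haW).symm)
    have h2 : t1 * b * t1⁻¹ * b⁻¹ ∈ Card.Z D := by
      have h3 := c.t_triv (nor' hg hbU) (fun w hw => by
        have h4 := h b hbW (g * w * g⁻¹) (by
          have : g⁻¹ * (g * w * g⁻¹) * g = w := by group
          rw [this]; exact hw)
        calc g⁻¹ * b * g * w = g⁻¹ * (b * (g * w * g⁻¹)) * g := by group
          _ = g⁻¹ * ((g * w * g⁻¹) * b) * g := by rw [h4]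
          _ = _ := by group)
      have h5 := c.conjZ hg h3
      have e1 : g * (D.t * (g⁻¹ * b * g) * D.t⁻¹ * (g⁻¹ * b * g)⁻¹) * g⁻¹ =
          t1 * b * t1⁻¹ * b⁻¹ := by rw [ht1]; group
      rwa [e1] at h5
    have e1 : (D.t * t1) * u * (D.t * t1)⁻¹ * ((t1 * D.t) * u * (t1 * D.t)⁻¹)⁻¹ =
        (D.t * a * D.t⁻¹ * a⁻¹) * (a * b * a⁻¹ * b⁻¹) * (t1 * b * t1⁻¹ * b⁻¹)⁻¹ := by
      rw [ha, hb]; group
    rw [e1]
    exact mul_mem (mul_mem h1 (c.cmtZ haU hbU)) (inv_mem h2)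
  have hK : (D.t * t1) * (D.t * t1) ∈ c.KV := by
    refine ⟨mul_mem (mul_mem htn ht1n) (mul_mem htn ht1n), fun v hv => ?_⟩
    have hn := mul_mem htn ht1n
    have h1 := key _ (nor hn hv)
    have e0 : t1 * D.t = (D.t * t1)⁻¹ := by
      rw [mul_inv_rev, c.ti, inv_eq_of_mul_eq_one_left ht11]
    rw [e0] at h1
    have e1 : D.t * t1 * (D.t * t1) * v * (D.t * t1 * (D.t * t1))⁻¹ * v⁻¹ =
        D.t * t1 * (D.t * t1 * v * (D.t * t1)⁻¹) * (D.t * t1)⁻¹ *
          ((D.t * t1)⁻¹ * (D.t * t1 * v * (D.t * t1)⁻¹) * (D.t * t1)⁻¹⁻¹)⁻¹ := by group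
    rw [e1]; exact h1
  obtain ⟨k, hk, h2⟩ := GOneALem.exists_conj_two D.t_sq ht11 hK
  set t2 := k⁻¹ * t1 * k with ht2
  have ht2n : t2 ∈ normalizer (T.U : Set G) := mul_mem (mul_mem (inv_mem hk.1) ht1n) hk.1
  set L : Subgroup G := closure {D.t, t2} with hL
  have hLN : L ≤ normalizer (T.U : Set G) := by
    rw [hL, closure_le]
    rintro x (rfl | rfl)
    · exact htn
    · exact ht2n
  -- the Sylow subgroup
  have hSN : (c.S : Subgroup G) ≤ normalizer (T.U : Set G) := fun x hx => (c.hS.M0 hx).1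
  have h3 : IsPGroup 2 (L.subgroupOf (normalizer (T.U : Set G))) := h2.comap_subtype
  obtain ⟨Q, hQ⟩ := h3.exists_le_sylow
  obtain ⟨m, hm⟩ := MulAction.exists_smul_eq (normalizer (T.U : Set G)) Q (c.S.subtype hSN)
  have hmS : ∀ x ∈ L, (m : G) * x * (m : G)⁻¹ ∈ (c.S : Subgroup G) := by
    intro x hx
    have h4 : (m * ⟨x, hLN hx⟩ * m⁻¹ : normalizer (T.U : Set G)) ∈ (c.S.subtype hSN : Subgroup _) := by
      rw [← hm]
      exact ⟨⟨x, hLN hx⟩, hQ hx, rfl⟩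
    exact h4
  have htL : D.t ∈ L := subset_closure (by simp)
  have ht2L : t2 ∈ L := subset_closure (by simp)
  obtain ⟨x, hx, h5⟩ := c.hS.fus (hmS _ htL)
  set n0 := x⁻¹ * (m : G) with hn0
  have hn0N : n0 ∈ normalizer (T.U : Set G) := mul_mem (inv_mem (hSN hx)) m.2
  have hn0t : n0 * D.t = D.t * n0 := by
    calc n0 * D.t = x⁻¹ * ((m : G) * D.t * (m : G)⁻¹) * m := by rw [hn0]; group
      _ = D.t * n0 := by rw [h5, hn0]; group
  have h6 : n0 * t2 * n0⁻¹ ∈ (c.S : Subgroup G) := by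
    have := mul_mem (mul_mem (inv_mem hx) (hmS _ ht2L)) hx
    have e1 : x⁻¹ * ((m : G) * t2 * (m : G)⁻¹) * x = n0 * t2 * n0⁻¹ := by rw [hn0]; group
    rwa [e1] at this
  have e2 : (n0 * k⁻¹ * g) * D.t * (n0 * k⁻¹ * g)⁻¹ = n0 * t2 * n0⁻¹ := by
    rw [ht2, ht1]; group
  have h7 := c.hS.cl (n0 * k⁻¹ * g) (by rw [e2]; exact h6)
  rw [e2] at h7
  -- transport
  have h8 : ∀ x, g⁻¹ * x * g ∈ c.A.W → Wd T (n0 * t2 * n0⁻¹) (n0 * x * n0⁻¹) := by
    intro x hx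
    rw [c.Wd_conj hn0N]
    have e3 : n0⁻¹ * (n0 * x * n0⁻¹) * n0 = x := by group
    rw [e3, ← c.Wd_triv hk ht2n]
    have e4 : k * t2 * k⁻¹ = t1 := by rw [ht2]; group
    rw [e4, ← hWd]; exact hx
  rcases h7 with ⟨u, hu, h7⟩ | ⟨u, hu, h7⟩
  · left
    intro x hx
    have h9 := h8 x hx
    rw [← h7, c.Wd_triv (c.U_KV hu) htn] at h9
    have e3 : D.t = n0 * D.t * n0⁻¹ := by rw [hn0t]; group
    rw [e3, c.Wd_conj hn0N] at h9
    have e4 : n0⁻¹ * (n0 * x * n0⁻¹) * n0 = x := by group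
    rw [e4, c.Wd_t] at h9
    exact h9
  · right
    intro x hx
    have h9 := h8 x hx
    rw [← h7, c.Wd_triv (c.U_KV hu) c.e_nor] at h9
    have h10 := c.Wd_e h9
    have h11 := D.t_P _ h10
    apply T.comm_t
    · have := nor' hn0N (T.P_le h10)
      have e4 : n0⁻¹ * (n0 * x * n0⁻¹) * n0 = x := by group
      rwa [e4] at this
    · have h12 : D.t * n0⁻¹ = n0⁻¹ * D.t := by
        calc D.t * n0⁻¹ = n0⁻¹ * (n0 * D.t) * n0⁻¹ := by group
          _ = _ := by rw [hn0t]; group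
      calc x * D.t = n0⁻¹ * (n0 * x * n0⁻¹) * (n0 * D.t) := by group
        _ = n0⁻¹ * ((n0 * x * n0⁻¹) * D.t) * n0 := by rw [hn0t]; group
        _ = n0⁻¹ * (D.t * (n0 * x * n0⁻¹)) * n0 := by rw [h11]
        _ = (n0⁻¹ * D.t) * (n0 * x) := by group
        _ = D.t * x := by rw [← h12]; group

/-- **(a1)** for pairs. -/
theorem a1' {g g' : G} (hg : g ∈ normalizer (T.U : Set G)) (hg' : g' ∈ normalizer (T.U : Set G))
    (h : ∀ x x', g⁻¹ * x * g ∈ c.A.W → g'⁻¹ * x' * g' ∈ c.A.W → x * x' = x' * x) :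
    (∀ x, g'⁻¹ * x * g' ∈ c.A.W → g⁻¹ * x * g ∈ c.A.W) ∨
      (∀ x, g'⁻¹ * x * g' ∈ c.A.W → g⁻¹ * x * g ∈ D.P) := by
  have e1 : ∀ x, (g⁻¹ * g')⁻¹ * (g⁻¹ * x * g) * (g⁻¹ * g') = g'⁻¹ * x * g' := by
    intro x; group
  have h1 := c.a1 (g := g⁻¹ * g') (mul_mem (inv_mem hg) hg') (by
    intro w hw x hx
    have h2 := h (g * w * g⁻¹) (g * x * g⁻¹) (by
      have : g⁻¹ * (g * w * g⁻¹) * g = w := by group
      rw [this]; exact hw) (by
      rw [← e1]
      have : g⁻¹ * (g * x * g⁻¹) * g = x := by group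
      rw [this]; exact hx)
    calc w * x = g⁻¹ * ((g * w * g⁻¹) * (g * x * g⁻¹)) * g := by group
      _ = _ := by rw [h2]; group)
  rcases h1 with h1 | h1
  · left
    intro x hx
    exact h1 _ (by rw [e1]; exact hx)
  · right
    intro x hx
    exact h1 _ (by rw [e1]; exact hx)

/-! ### The planes -/

theorem h_nor (l : Kˣ) : c.C.h l ∈ normalizer (T.U : Set G) :=
  G1.mem_nor (fun x hx => by
    rw [c.mem_U] at hx ⊢
    exact cj_U c.C F.amb l hx)

theorem u_Z {x : G} (hx : x ∈ Card.Z D) : c.A.u x = 0 := by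
  obtain ⟨b, hb, rfl⟩ := hx
  have h1 := c.A.W_sq _ (c.A.z_W b)
  rw [z_self] at h1
  exact D.z_inj _ (c.A.u_fixed _ (c.A.z_W b)) h1.symm

theorem plane {x : G} (hx : x ∈ D.P) (hxZ : x ∉ Card.Z D) :
    ∃ g ∈ normalizer (T.U : Set G), g⁻¹ * x * g ∈ c.A.W ∧
      ∀ x', g⁻¹ * x' * g ∈ c.A.W → x' ∈ D.P := by
  obtain ⟨w1, hw1, h1⟩ := c.A.u_surj 1 (bar_one n)
  have hw1Z : w1 ∉ Card.Z D := fun h => one_ne_zero (h1.symm.trans (c.u_Z h))
  set p0 := y * w1 * y⁻¹ with hp0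
  have e0 : y⁻¹ * p0 * y = w1 := by rw [hp0]; group
  have hp0P : p0 ∈ D.P := c.yW (by rw [e0]; exact hw1)
  have hp0Z : p0 ∉ Card.Z D := by
    intro h
    have := c.conjZ' c.y_nor h
    rw [e0] at this
    exact hw1Z this
  have hca : D.ca p0 ≠ 0 := fun h => hp0Z (D.exists_z p0 hp0P h)
  have hcx : D.ca x ≠ 0 := fun h => hxZ (D.exists_z x hx h)
  obtain ⟨l, hl⟩ := w_surj D.hq c.even (b := D.ca x / D.ca p0) (div_ne_zero hcx hca)
  have h2 : cj c.C l p0 ∈ D.P := cj_P_mem c.C F.amb l hp0P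
  have h3 : D.ca (cj c.C l p0) = D.ca x := by
    rw [ca_cj c.C F.amb l hp0P, hl, div_mul_cancel₀ _ hca]
  have h4 : (cj c.C l p0)⁻¹ * x ∈ Card.Z D := by
    apply D.exists_z _ (mul_mem (inv_mem h2) hx)
    rw [D.ca_mul _ (inv_mem h2) _ hx, ca_inv D h2, h3, Field.add_self]
  refine ⟨c.C.h l * y, mul_mem (c.h_nor l) c.y_nor, ?_, ?_⟩
  · have h5 := c.conjZ' (mul_mem (c.h_nor l) c.y_nor) h4
    have e1 : (c.C.h l * y)⁻¹ * x * (c.C.h l * y) =
        w1 * ((c.C.h l * y)⁻¹ * ((cj c.C l p0)⁻¹ * x) * (c.C.h l * y)) := by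
      rw [cj, hp0]; group
    rw [e1]
    exact mul_mem hw1 (c.Z_W h5)
  · intro x' hx'
    have h5 : (c.C.h l)⁻¹ * x' * c.C.h l ∈ D.P := by
      apply c.yW
      have e1 : y⁻¹ * ((c.C.h l)⁻¹ * x' * c.C.h l) * y = (c.C.h l * y)⁻¹ * x' * (c.C.h l * y) := by
        group
      rw [e1]; exact hx'
    have h6 := cj_P_mem c.C F.amb l h5
    have e1 : cj c.C l ((c.C.h l)⁻¹ * x' * c.C.h l) = x' := by rw [cj]; group
    rwa [e1] at h6

theorem plane' {g x : G} (hg : g ∈ normalizer (T.U : Set G)) (hx : g⁻¹ * x * g ∈ D.P)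
    (hxZ : x ∉ Card.Z D) :
    ∃ g' ∈ normalizer (T.U : Set G), g'⁻¹ * x * g' ∈ c.A.W ∧
      ∀ x', g'⁻¹ * x' * g' ∈ c.A.W → g⁻¹ * x' * g ∈ D.P := by
  obtain ⟨g1, hg1, h1, h2⟩ := c.plane hx (fun h => hxZ (c.memZ_conj hg h))
  have e1 : ∀ x', (g * g1)⁻¹ * x' * (g * g1) = g1⁻¹ * (g⁻¹ * x' * g) * g1 := by intro x'; group
  refine ⟨g * g1, mul_mem hg hg1, by rw [e1]; exact h1, fun x' hx' => h2 _ ?_⟩
  rw [← e1]; exact hx'

end Ca

end Cfsg.Agent.StdU3.GOneA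
end

-- part: StdU3/GOneAEnd
section
/-!
# Type `g1`, `n` even: `[P, P_e] = 1`, the end
-/

set_option autoImplicit false
set_option linter.unusedSectionVars false
set_option linter.dupNamespace false

namespace Cfsg.Agent.StdU3.GOneA

open Subgroup Cfsg.Agent.StdU3.Field Cfsg.Agent.StdU3.PreDef Cfsg.Agent.StdU3.FldDef
open Cfsg.Agent.StdU3.LevelOne Cfsg.Agent.StdU3.TermDef Cfsg.Agent.StdU3.GOneSyl
open Cfsg.Agent.StdU3.Tower.Cen Cfsg.Agent.StdU3.Tower.TwoCl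
open Cfsg.Agent.StdU3.Swap (Pe mem_Pe)

variable {G : Type*} [Group G] [Finite G] {K : Type*} [Field K] [Fintype K] [CharP K 2] {n : ℕ}
variable {D : Pre G K n}

namespace Ca

variable {F : Fld D} {T : Term D} {e y : G} (c : Ca F T e y)

include c

/-- the line `W^g` as a subgroup -/
def Wg (g : G) : Subgroup G := c.A.W.map (MulAut.conj g).toMonoidHom

theorem mem_Wg {g x : G} : x ∈ c.Wg g ↔ g⁻¹ * x * g ∈ c.A.W := by
  constructor
  · rintro ⟨w, hw, rfl⟩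
    have : g⁻¹ * ((MulAut.conj g).toMonoidHom w) * g = w := by
      simp only [MulEquiv.coe_toMonoidHom, MulAut.conj_apply]; group
    rw [this]; exact hw
  · intro hx
    refine ⟨_, hx, ?_⟩
    simp only [MulEquiv.coe_toMonoidHom, MulAut.conj_apply]; group

theorem card_Wg (g : G) : Nat.card (c.Wg g) = (2 ^ n) ^ 2 := by
  rw [← Tower.TwoCl.card_W c.A]
  exact (Nat.card_congr (c.A.W.equivMapOfInjective _ (MulAut.conj g).injective).toEquiv).symm

theorem W_Pc {x p g : G} (hx : g⁻¹ * x * g ∈ c.A.W) (hp : g⁻¹ * p * g ∈ D.P) : x * p = p * x := by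
  have h1 := c.W_P hx hp
  calc x * p = g * ((g⁻¹ * x * g) * (g⁻¹ * p * g)) * g⁻¹ := by group
    _ = g * ((g⁻¹ * p * g) * (g⁻¹ * x * g)) * g⁻¹ := by rw [h1]
    _ = _ := by group

/-- `P ∩ P_e = Z` -/
theorem P_R {x : G} (hx : x ∈ D.P) (hx' : y⁻¹ * x * y ∈ D.P) : x ∈ Card.Z D :=
  c.H.inf hx (mem_Pe.mpr hx')

/-- two lines of a plane intersect in `Z`. -/
theorem cap_P {g x z0 : G} (hg : g ∈ normalizer (T.U : Set G)) (hgP : ∀ x', g⁻¹ * x' * g ∈ c.A.W →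
    x' ∈ D.P) (hx : g⁻¹ * x * g ∈ c.A.W) (hxP0 : y⁻¹ * x * y ∉ c.A.W) (hz : g⁻¹ * z0 * g ∈ c.A.W)
    (hz' : y⁻¹ * z0 * y ∈ c.A.W) : z0 ∈ Card.Z D := by
  by_contra hz0
  rcases c.a1' c.y_nor hg (fun x x' hx hx' => c.lin2 c.y_nor hg hz' hz0 hz hz0 rfl hx hx') with h | h
  · exact hxP0 (h x hx)
  · exact hz0 (c.P_R (hgP z0 hz) (h z0 hz))

/-- if an element of `U` commutes with `P₀ = W^y` and with `x ∈ P - P₀`, it commutes with `P`. -/
theorem comm_P {x v : G} (hv : v ∈ T.U) (hx : x ∈ D.P) (hx0 : y⁻¹ * x * y ∉ c.A.W)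
    (hv0 : ∀ w, y⁻¹ * w * y ∈ c.A.W → v * w = w * v) (hvx : v * x = x * v) :
    ∀ p ∈ D.P, v * p = p * v := by
  have hxZ : x ∉ Card.Z D := fun h => hx0 (c.Z_W (c.conjZ' c.y_nor h))
  obtain ⟨g, hg, hgx, hgP⟩ := c.plane hx hxZ
  set DD : Subgroup G := D.P ⊓ centralizer {v} with hDD
  have h1 := GOneLem.card_le_mul (c.Wg y) (c.Wg g) (Card.Z D) DD
    (by
      intro a ha b hb
      rw [c.mem_Wg] at ha hb
      refine ⟨mul_mem (c.yW ha) (hgP b hb), mem_centralizer_singleton_iff.mpr ?_⟩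
      have h2 := hv0 a ha
      have h3 := c.lin hg hv hgx hxZ hb hvx
      calc a * b * v = a * (b * v) := by group
        _ = (a * v) * b := by rw [← h3]; group
        _ = v * (a * b) := by rw [← h2]; group)
    (by
      intro z0 hz hz'
      rw [c.mem_Wg] at hz hz'
      exact c.cap_P hg hgP hgx hx0 hz' hz)
  rw [c.card_Wg, c.card_Wg, Card.card_Z] at h1
  have h2 : Nat.card D.P ≤ Nat.card DD := by
    rw [Card.card_P]
    have h3 : (2 ^ n) ^ 3 * 2 ^ n ≤ Nat.card DD * 2 ^ n := by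
      calc (2 ^ n) ^ 3 * 2 ^ n = (2 ^ n) ^ 2 * (2 ^ n) ^ 2 := by ring
        _ ≤ _ := h1
    exact Nat.le_of_mul_le_mul_right h3 (by positivity)
  have h3 : DD = D.P := Subgroup.eq_of_le_of_card_ge inf_le_left h2
  intro p hp
  rw [← h3] at hp
  exact (mem_centralizer_singleton_iff.mp hp.2).symm

/-- `W^y` commutes with `P_e` -/
theorem P0_R {w r : G} (hw : y⁻¹ * w * y ∈ c.A.W) (hr : y⁻¹ * r * y ∈ D.P) : w * r = r * w :=
  c.W_Pc hw hr

/-- `x ∈ P - P₀`, `ψ ∈ P_e - W` do not commute if `[P, P_e] ≠ 1`. -/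
theorem claimA (hne : ¬ ∀ x ∈ D.P, ∀ r, y⁻¹ * r * y ∈ D.P → x * r = r * x) {x ψ : G} (hx : x ∈ D.P)
    (hx0 : y⁻¹ * x * y ∉ c.A.W) (hψ : y⁻¹ * ψ * y ∈ D.P) (hψW : ψ ∉ c.A.W) : x * ψ ≠ ψ * x := by
  intro hcomm
  apply hne
  have hψU : ψ ∈ T.U := c.Pg_U c.y_nor hψ
  have h1 := c.comm_P hψU hx hx0 (fun w hw => (c.P0_R hw hψ).symm) hcomm.symm
  have hψZ : ψ ∉ Card.Z D := fun h => hψW (c.Z_W h)
  obtain ⟨g, hg, hgψ, hgP⟩ := c.plane' c.y_nor hψ hψZ
  set RR : Subgroup G := Pe D y ⊓ centralizer (D.P : Set G) with hRR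
  have h2 := GOneLem.card_le_mul c.A.W (c.Wg g) (Card.Z D) RR
    (by
      intro a ha b hb
      rw [c.mem_Wg] at hb
      refine ⟨mul_mem (mem_Pe.mpr (c.W_Pe ha)) (mem_Pe.mpr (hgP b hb)), mem_centralizer_iff.mpr ?_⟩
      intro p hp
      have h3 := c.W_P ha hp
      have h4 := c.lin hg (T.P_le hp) hgψ hψZ hb (h1 p hp).symm
      calc p * (a * b) = (p * a) * b := by group
        _ = a * (p * b) := by rw [← h3]; group
        _ = a * b * p := by rw [h4]; group)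
    (by
      intro z0 hz hz'
      rw [c.mem_Wg] at hz'
      by_contra hz0
      have hone : (1 : G) ∈ normalizer (T.U : Set G) := one_mem _
      have e1 : ∀ x : G, (1 : G)⁻¹ * x * 1 = x := by intro x; group
      rcases c.a1' hone hg (fun x x' hx hx' => c.lin2 hone hg (by rw [e1]; exact hz) hz0 hz' hz0 rfl
        hx hx') with h | h
      · have := h ψ hgψ
        rw [e1] at this
        exact hψW this
      · have := h ψ hgψ
        rw [e1] at this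
        exact hψZ (c.P_R this hψ))
  rw [c.card_Wg, Tower.TwoCl.card_W c.A, Card.card_Z] at h2
  have hcR : Nat.card (Pe D y) = (2 ^ n) ^ 3 := by
    rw [← Card.card_P D]
    exact (Nat.card_congr (D.P.equivMapOfInjective _ (MulAut.conj y).injective).toEquiv).symm
  have h3 : Nat.card (Pe D y) ≤ Nat.card RR := by
    rw [hcR]
    have h4 : (2 ^ n) ^ 3 * 2 ^ n ≤ Nat.card RR * 2 ^ n := by
      calc (2 ^ n) ^ 3 * 2 ^ n = (2 ^ n) ^ 2 * (2 ^ n) ^ 2 := by ring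
        _ ≤ _ := h2
    exact Nat.le_of_mul_le_mul_right h4 (by positivity)
  have h4 : RR = Pe D y := Subgroup.eq_of_le_of_card_ge inf_le_left h3
  intro p hp r hr
  have hr' : r ∈ RR := by rw [h4]; exact mem_Pe.mpr hr
  exact mem_centralizer_iff.mp hr'.2 p hp

/-- **the span**: every element of `X Ψ` lies in a line. -/
theorem claimB (hne : ¬ ∀ x ∈ D.P, ∀ r, y⁻¹ * r * y ∈ D.P → x * r = r * x) {x ψ g1 g2 : G}
    (hx : x ∈ D.P) (hx0 : y⁻¹ * x * y ∉ c.A.W) (hg1 : g1 ∈ normalizer (T.U : Set G))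
    (hgx : g1⁻¹ * x * g1 ∈ c.A.W) (hψ : y⁻¹ * ψ * y ∈ D.P) (hψW : ψ ∉ c.A.W)
    (hg2 : g2 ∈ normalizer (T.U : Set G)) (hgψ : g2⁻¹ * ψ * g2 ∈ c.A.W) {x' ψ' : G}
    (hx' : g1⁻¹ * x' * g1 ∈ c.A.W) (hψ' : g2⁻¹ * ψ' * g2 ∈ c.A.W) (hv : x' * ψ' ∉ Card.Z D) :
    ∃ g5 ∈ normalizer (T.U : Set G), g5⁻¹ * (x' * ψ') * g5 ∈ c.A.W := by
  have hxZ : x ∉ Card.Z D := fun h => hx0 (c.Z_W (c.conjZ' c.y_nor h))
  have hψZ : ψ ∉ Card.Z D := fun h => hψW (c.Z_W h)
  have hψU : ψ ∈ T.U := c.Pg_U c.y_nor hψ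
  -- the plane of `X`
  set Pi : Subgroup G := D.P.map (MulAut.conj g1).toMonoidHom with hPi
  have memPi : ∀ z, z ∈ Pi ↔ g1⁻¹ * z * g1 ∈ D.P := by
    intro z
    constructor
    · rintro ⟨w, hw, rfl⟩
      have : g1⁻¹ * ((MulAut.conj g1).toMonoidHom w) * g1 = w := by
        simp only [MulEquiv.coe_toMonoidHom, MulAut.conj_apply]; group
      rw [this]; exact hw
    · intro hx
      refine ⟨_, hx, ?_⟩
      simp only [MulEquiv.coe_toMonoidHom, MulAut.conj_apply]; group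
  have hcPi : Nat.card Pi = (2 ^ n) ^ 3 := by
    rw [← Card.card_P D]
    exact (Nat.card_congr (D.P.equivMapOfInjective _ (MulAut.conj g1).injective).toEquiv).symm
  have h1 := Card.card_le_cent Pi (Card.Z D) ψ (fun z hz =>
    c.cmtZ (c.Pg_U hg1 ((memPi z).mp hz)) hψU)
  rw [hcPi, Card.card_Z] at h1
  obtain ⟨y0, hy0, hy0Z⟩ : ∃ y0 ∈ Pi ⊓ centralizer {ψ}, y0 ∉ Card.Z D := by
    by_contra hcon
    push Not at hcon
    have h2 : Nat.card (Pi ⊓ centralizer {ψ} : Subgroup G) ≤ 2 ^ n := by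
      rw [← Card.card_Z D]
      exact Nat.card_le_card_of_injective _ (inclusion_injective hcon)
    have h3 : (2 ^ n) ^ 3 ≤ 2 ^ n * 2 ^ n := h1.trans (Nat.mul_le_mul_right _ h2)
    have h4 := four_le D.hq
    have h5 : (2 ^ n) ^ 3 = 2 ^ n * (2 ^ n * 2 ^ n) := by ring
    rw [h5] at h3
    have h6 : 0 < 2 ^ n * 2 ^ n := by positivity
    nlinarith only [h3, h4]
  have hy0P := (memPi y0).mp hy0.1
  have hy0ψ : y0 * ψ = ψ * y0 := mem_centralizer_singleton_iff.mp hy0.2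
  obtain ⟨g4, hg4, hg4y, hg4P⟩ := c.plane' hg1 hy0P hy0Z
  -- `X ≤ P^g4`
  have hX : ∀ z, g1⁻¹ * z * g1 ∈ c.A.W → g4⁻¹ * z * g4 ∈ D.P := by
    rcases c.a1' hg4 hg1 (fun z z' hz hz' => (c.W_Pc hz' (hg4P z hz)).symm) with h | h
    · exfalso
      have h2 := hg4P x (h x hgx)
      exact hxZ (c.memZ_conj hg1 (c.W_inf_P hgx h2))
    · exact h
  -- `Ψ ≤ P^g4`
  have hPsi : ∀ z, g2⁻¹ * z * g2 ∈ c.A.W → g4⁻¹ * z * g4 ∈ D.P := by
    rcases c.a1' hg4 hg2 (fun z z' hz hz' =>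
      c.lin2 hg4 hg2 hg4y hy0Z hgψ hψZ hy0ψ hz hz') with h | h
    · exfalso
      have h2 := c.W_Pc (h ψ hgψ) (hX x hgx)
      exact c.claimA hne hx hx0 hψ hψW h2.symm
    · exact h
  have hvP : g4⁻¹ * (x' * ψ') * g4 ∈ D.P := by
    have := mul_mem (hX x' hx') (hPsi ψ' hψ')
    have e1 : g4⁻¹ * x' * g4 * (g4⁻¹ * ψ' * g4) = g4⁻¹ * (x' * ψ') * g4 := by group
    rwa [e1] at this
  obtain ⟨g5, hg5, h2, -⟩ := c.plane' hg4 hvP hv
  exact ⟨g5, hg5, h2⟩

theorem main : ∀ x ∈ D.P, ∀ r, y⁻¹ * r * y ∈ D.P → x * r = r * x := by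
  by_contra hne
  obtain ⟨x, hx, ψ, hψ, hxψ⟩ : ∃ x ∈ D.P, ∃ r, y⁻¹ * r * y ∈ D.P ∧ x * r ≠ r * x := by
    by_contra hcon
    push Not at hcon
    exact hne hcon
  have hx0 : y⁻¹ * x * y ∉ c.A.W := fun h => hxψ (c.P0_R h hψ)
  have hψW : ψ ∉ c.A.W := fun h => hxψ (c.W_P h hx).symm
  have hxZ : x ∉ Card.Z D := fun h => hx0 (c.Z_W (c.conjZ' c.y_nor h))
  have hψZ : ψ ∉ Card.Z D := fun h => hψW (c.Z_W h)
  have hψU : ψ ∈ T.U := c.Pg_U c.y_nor hψ
  obtain ⟨g1, hg1, hgx, hgP⟩ := c.plane hx hxZ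
  obtain ⟨g2, hg2, hgψ, hgψP⟩ := c.plane' c.y_nor hψ hψZ
  obtain ⟨p, hp, m, hm, hpm⟩ := c.mem_U.mp hψU
  have hmP : ∀ q ∈ D.P, m * q = q * m := c.C.M_P m hm
  -- `m ∉ P`
  have hmnP : m ∉ D.P := by
    intro h
    exact hψZ (c.P_R (by rw [hpm]; exact mul_mem hp h) hψ)
  -- `p ∈ P₀`
  have hp0 : y⁻¹ * p * y ∈ c.A.W := by
    by_contra hp0
    have h1 := c.comm_P (T.P_le hp) hp hp0 (by
      intro w hw
      have h2 := c.P0_R hw hψ
      have h3 := hmP w (c.yW hw)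
      rw [hpm] at h2
      have h4 : p * w * m = w * p * m := by
        calc p * w * m = p * (w * m) := by group
          _ = p * m * w := by rw [← h3]; group
          _ = w * p * m := by rw [← h2]; group
      exact mul_right_cancel h4) rfl
    have h2 : p ∈ Card.Z D := cent_P hp h1
    exact hp0 (c.Z_W (c.conjZ' c.y_nor h2))
  -- two elements of `X`
  obtain ⟨w1, hw1, h1⟩ := c.A.u_surj 1 (bar_one n)
  obtain ⟨ν, hν, hν1⟩ := exists_fixed_ne D.hq
  obtain ⟨w2, hw2, h2⟩ := c.A.u_surj (ν : K) hν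
  have hw1Z : w1 ∉ Card.Z D := fun h => one_ne_zero (h1.symm.trans (c.u_Z h))
  have hw2Z : w2 ∉ Card.Z D := fun h => ν.ne_zero (h2.symm.trans (c.u_Z h))
  have hw12 : w1⁻¹ * w2 ∉ Card.Z D := by
    intro h
    have h3 := c.u_Z h
    have h4 : c.A.u w2 = c.A.u w1 + c.A.u (w1⁻¹ * w2) := by
      rw [← c.A.u_mul _ hw1 _ (mul_mem (inv_mem hw1) hw2), mul_inv_cancel_left]
    rw [h3, add_zero, h1, h2] at h4
    exact hν1 h4
  -- `m x_i ∈ P^g1`
  have key : ∀ w ∈ c.A.W, w ∉ Card.Z D → g1⁻¹ * (m * (g1 * w * g1⁻¹)) * g1 ∈ D.P := by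
    intro w hw hwZ
    set z := g1 * w * g1⁻¹ with hz
    have hzW : g1⁻¹ * z * g1 ∈ c.A.W := by
      have : g1⁻¹ * z * g1 = w := by rw [hz]; group
      rw [this]; exact hw
    have hzZ : z ∉ Card.Z D := by
      intro h
      have := c.conjZ' hg1 h
      have e1 : g1⁻¹ * z * g1 = w := by rw [hz]; group
      rw [e1] at this
      exact hwZ this
    have hzP : z ∈ D.P := hgP z hzW
    have hz0 : y⁻¹ * z * y ∉ c.A.W := fun h => hzZ (c.cap_P hg1 hgP hgx hx0 hzW h)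
    -- `p⁻¹ z`
    have hpz : p⁻¹ * z ∈ D.P := mul_mem (inv_mem hp) hzP
    have hpz0 : y⁻¹ * (p⁻¹ * z) * y ∉ c.A.W := by
      intro h
      apply hz0
      have := mul_mem hp0 h
      have e1 : y⁻¹ * p * y * (y⁻¹ * (p⁻¹ * z) * y) = y⁻¹ * z * y := by group
      rwa [e1] at this
    have hpzZ : p⁻¹ * z ∉ Card.Z D := fun h => hpz0 (c.Z_W (c.conjZ' c.y_nor h))
    obtain ⟨g3, hg3, hg3z, -⟩ := c.plane hpz hpzZ
    -- `m z = (p⁻¹ z) (z⁻¹ ψ z)`
    have e1 : m * z = (p⁻¹ * z) * (z⁻¹ * ψ * z) := by rw [hpm]; group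
    have hψz : g2⁻¹ * (z⁻¹ * ψ * z) * g2 ∈ c.A.W := by
      have h3 := c.cmtZ (inv_mem (T.P_le hzP)) hψU
      rw [inv_inv] at h3
      have h4 := mul_mem (c.Z_W (c.conjZ' hg2 h3)) hgψ
      have e2 : g2⁻¹ * (z⁻¹ * ψ * z * ψ⁻¹) * g2 * (g2⁻¹ * ψ * g2) = g2⁻¹ * (z⁻¹ * ψ * z) * g2 := by
        group
      rwa [e2] at h4
    have hmzZ : m * z ∉ Card.Z D := by
      intro h
      apply hmnP
      have := mul_mem (Card.Z_le_P D h) (inv_mem hzP)
      rwa [mul_inv_cancel_right] at this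
    obtain ⟨g5, hg5, h5⟩ := c.claimB hne hpz hpz0 hg3 hg3z hψ hψW hg2 hgψ hg3z hψz
      (by rw [← e1]; exact hmzZ)
    rw [← e1] at h5
    have hcomm : z * (m * z) = (m * z) * z := by
      have := hmP z hzP
      calc z * (m * z) = (z * m) * z := by group
        _ = _ := by rw [← this]
    rcases c.a1' hg1 hg5 (fun a b ha hb => c.lin2 hg1 hg5 hzW hzZ h5 hmzZ hcomm ha hb) with h6 | h6
    · exfalso
      apply hmnP
      have := mul_mem (hgP _ (h6 _ h5)) (inv_mem hzP)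
      rwa [mul_inv_cancel_right] at this
    · exact h6 _ h5
  have h3 := key w1 hw1 hw1Z
  have h4 := key w2 hw2 hw2Z
  apply hw12
  apply c.W_inf_P (mul_mem (inv_mem hw1) hw2)
  have h5 := mul_mem (inv_mem h3) h4
  have e1 : (g1⁻¹ * (m * (g1 * w1 * g1⁻¹)) * g1)⁻¹ * (g1⁻¹ * (m * (g1 * w2 * g1⁻¹)) * g1) =
      w1⁻¹ * w2 := by group
  rwa [e1] at h5

end Ca

/-- **(A)** `[P, P_e] = 1` for `n` even. -/
theorem comm_of_even {F : Fld D} {T : Term D} {e y : G} (H : G1 F T e y) (C : Tower.Cen.Cen D F.O)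
    (A : Tower.Cen.Cl C) (hT : T.U = Tower.Cen.U C) (hn : Even n) :
    ∀ x ∈ D.P, ∀ r ∈ Pe D y, x * r = r * x := by
  obtain ⟨S, hS⟩ := H.exists_sylow
  have c : Ca F T e y := ⟨H, C, A, hT, S, hS, hn⟩
  intro x hx r hr
  exact c.main x hx r (mem_Pe.mp hr)

end Cfsg.Agent.StdU3.GOneA
end

-- part: StdU3/AutOdd
section
/-!
# Automorphisms of `F_q` and `F_{q²}`, `q = 2 ^ n`, `n` odd
-/

set_option autoImplicit false
set_option linter.unusedSectionVars false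
set_option linter.style.haveILetI false

namespace Cfsg.Agent.StdU3.AutOdd

open Cfsg.Agent.StdU3.Field Cfsg.Agent.StdU3.FieldAut

/-- the order of an automorphism of `F_{2^m}` divides `m`. -/
theorem pow_eq_one {F : Type*} [Field F] [Finite F] [CharP F 2] {m : ℕ} (hF : Nat.card F = 2 ^ m)
    (σ : F ≃+* F) : σ ^ m = 1 := by
  have : Fact (Nat.Prime 2) := ⟨Nat.prime_two⟩
  letI : Algebra (ZMod 2) F := ZMod.algebra F 2
  have hinj : Function.Injective (toGal (F := F) 2) := by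
    intro a b h
    ext x
    exact congrArg (fun f : F ≃ₐ[ZMod 2] F => f x) h
  have h1 : Nat.card (F ≃ₐ[ZMod 2] F) = Module.finrank (ZMod 2) F :=
    IsGalois.card_aut_eq_finrank (ZMod 2) F
  have h2 : Nat.card F = Nat.card (ZMod 2) ^ Module.finrank (ZMod 2) F :=
    Module.natCard_eq_pow_finrank
  rw [Nat.card_zmod, hF] at h2
  have h3 : Module.finrank (ZMod 2) F = m := (Nat.pow_right_injective le_rfl h2).symm
  apply hinj
  rw [map_pow, map_one, ← h3, ← h1]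
  exact pow_card_eq_one'

theorem eq_one_of_sq {F : Type*} [Field F] [Finite F] [CharP F 2] {m : ℕ} (hm : Odd m)
    (hF : Nat.card F = 2 ^ m) {σ : F ≃+* F} (h : σ * σ = 1) : σ = 1 := by
  have h1 := pow_eq_one hF σ
  obtain ⟨k, rfl⟩ := hm
  rwa [pow_succ, pow_mul, pow_two, h, one_pow, one_mul] at h1

/-- automorphisms of `F_{q²}` of 2-power order are involutions. -/
theorem sq_eq_one {K : Type*} [Field K] [Fintype K] [CharP K 2] {n : ℕ} (hn : Odd n) (hq : Qd K n)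
    {σ : K ≃+* K} {k : ℕ} (h : σ ^ 2 ^ k = 1) : σ * σ = 1 := by
  have hF : Nat.card K = 2 ^ (n * 2) := by
    rw [Nat.card_eq_fintype_card, hq.hK, pow_mul]
  have h1 := pow_eq_one hF σ
  have h2 : orderOf (σ ^ 2) ∣ n := orderOf_dvd_of_pow_eq_one (by rw [← pow_mul, mul_comm, h1])
  have h3 : orderOf (σ ^ 2) ∣ 2 ^ k := orderOf_dvd_of_pow_eq_one (by
    rw [← pow_mul, mul_comm, pow_mul, h, one_pow])
  have h4 : orderOf (σ ^ 2) ∣ Nat.gcd n (2 ^ k) := Nat.dvd_gcd h2 h3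
  have h5 : Nat.Coprime n (2 ^ k) := (Nat.coprime_two_right.mpr hn).pow_right k
  rw [h5.gcd_eq_one, Nat.dvd_one, orderOf_eq_one_iff, pow_two] at h4
  exact h4

/-- an involutory additive map with `θ (τ x * k y) = A x * B y` is the identity, `m` odd. -/
theorem theta_id {F : Type*} [Field F] [Finite F] [CharP F 2] {m : ℕ} (hm : Odd m)
    (hF : Nat.card F = 2 ^ m) {X Y : Type*} (θ : F → F) (hadd : ∀ a b, θ (a + b) = θ a + θ b)
    (hθ : ∀ a, θ (θ a) = a) (τ A : X → F) (k B : Y → F) (hτ : ∀ b, ∃ x, τ x = b)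
    (hk : ∃ y, k y ≠ 0) (hA : ∀ x, ∃ y, A x = k y) (h : ∀ x y, θ (τ x * k y) = A x * B y) (a : F) :
    θ a = a := by
  have h0 : θ 0 = 0 := by
    have := hadd 0 0
    rw [add_zero] at this
    exact left_eq_add.mp this
  obtain ⟨y0, hy0⟩ := hk
  have hb0 : B y0 ≠ 0 := by
    intro hb
    obtain ⟨x, hx⟩ := hτ (θ 1 * (k y0)⁻¹)
    have h1 := h x y0
    rw [hb, mul_zero, hx, mul_assoc, inv_mul_cancel₀ hy0, mul_one, hθ] at h1
    exact one_ne_zero h1
  have hks : ∀ b, ∃ y, k y = b := by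
    intro b
    obtain ⟨x, hx⟩ := hτ (θ (b * B y0) * (k y0)⁻¹)
    have h1 := h x y0
    rw [hx, mul_assoc, inv_mul_cancel₀ hy0, mul_one, hθ] at h1
    obtain ⟨y, hy⟩ := hA x
    exact ⟨y, by rw [← hy]; exact (mul_right_cancel₀ hb0 h1).symm⟩
  set g := θ 1 with hg
  have hg0 : g ≠ 0 := by
    intro hg0
    have h1 := hθ 1
    rw [← hg, hg0, h0] at h1
    exact zero_ne_one h1
  obtain ⟨x1, hx1⟩ := hτ 1
  obtain ⟨y1, hy1⟩ := hks 1
  have hmul : ∀ b c, θ (b * c) * g = θ b * θ c := by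
    intro b c
    obtain ⟨xb, hxb⟩ := hτ b
    obtain ⟨yc, hyc⟩ := hks c
    have e1 := h xb yc
    have e2 := h x1 y1
    have e3 := h xb y1
    have e4 := h x1 yc
    rw [hxb, hyc] at e1
    rw [hx1, hy1, one_mul, ← hg] at e2
    rw [hxb, hy1, mul_one] at e3
    rw [hx1, hyc, one_mul] at e4
    rw [e1, e2, e3, e4]; ring
  let f : F →+* F :=
    { toFun := fun b => θ b * g⁻¹
      map_one' := mul_inv_cancel₀ hg0
      map_zero' := by rw [h0, zero_mul]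
      map_add' := fun b c => by rw [hadd, add_mul]
      map_mul' := fun b c => by
        have := hmul b c
        field_simp
        rw [this] }
  have hf : ∀ b, f b = θ b * g⁻¹ := fun _ => rfl
  have hbij : Function.Bijective f := ⟨f.injective, Finite.surjective_of_injective f.injective⟩
  have hgg : θ g⁻¹ = g * g := by
    have h1 := hmul g g⁻¹
    rw [mul_inv_cancel₀ hg0, ← hg] at h1
    have h2 : θ g = 1 := hθ 1
    rw [h2, one_mul] at h1
    exact h1.symm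
  have hff : (RingEquiv.ofBijective f hbij) * (RingEquiv.ofBijective f hbij) = 1 := by
    ext b
    show f (f b) = b
    rw [hf, hf]
    have h1 := hmul (θ b) g⁻¹
    rw [hθ, hgg] at h1
    have h2 : θ (θ b * g⁻¹) = b * g := by
      apply mul_right_cancel₀ hg0
      rw [h1]; ring
    rw [h2, mul_assoc, mul_inv_cancel₀ hg0, mul_one]
  have hone := eq_one_of_sq hm hF hff
  have hfa : ∀ b, θ b * g⁻¹ = b := by
    intro b
    have h1 := congrArg (fun σ : F ≃+* F => σ b) hone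
    exact h1
  have hfb : ∀ b, θ b = b * g := by
    intro b
    have h1 := hfa b
    rw [mul_inv_eq_iff_eq_mul₀ hg0] at h1
    exact h1
  have hg1 : g = 1 := by
    have h1 := hfb g
    have h2 : θ g = 1 := hθ 1
    rw [h2] at h1
    have h3 : (g + 1) * (g + 1) = 0 := by
      have : (g + 1) * (g + 1) = g * g + 1 + (g + g) := by ring
      rw [this, ← h1, CharTwo.add_self_eq_zero, CharTwo.add_self_eq_zero, add_zero]
    exact CharTwo.add_eq_zero.mp (mul_self_eq_zero.mp h3)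
  rw [hfb, hg1, mul_one]

end Cfsg.Agent.StdU3.AutOdd
end

-- part: StdU3/GOneOdd
section
/-!
# Type `g1`, `n` odd: the Sylow 2-subgroup `S`

`Sg = P ⟨t, e⟩`, `|S| ≤ 8 |U|`, the squares of `S` are in `U ⟨t e⟩`, `t ∉ E`.
-/

set_option autoImplicit false
set_option linter.unusedSectionVars false
set_option linter.dupNamespace false
set_option linter.style.haveILetI false

namespace Cfsg.Agent.StdU3.GOneOdd

open Subgroup Cfsg.Agent.StdU3.Field Cfsg.Agent.StdU3.PreDef Cfsg.Agent.StdU3.FldDef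
open Cfsg.Agent.StdU3.LevelOne Cfsg.Agent.StdU3.FieldAut Cfsg.Agent.StdU3.Rank
open Cfsg.Agent.StdU3.OutInv Cfsg.Agent.StdU3.TermDef Cfsg.Agent.StdU3.LemC
open Cfsg.Agent.StdU3.Swap Cfsg.Agent.StdU3.EndN Cfsg.Agent.StdU3.GOneSyl
open Cfsg.Agent.StdU3.GOneSyl.G1 Cfsg.Agent.StdU3.MainDef
open Cfsg.Agent.StdU3.NormQ hiding barE

variable {G : Type*} [Group G] [Finite G] {K : Type*} [Field K] [Fintype K] [CharP K 2] {n : ℕ}
variable {D : Pre G K n}

/-- `U ⟨s⟩` -/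
def adj (U : Subgroup G) (s : G) (hss : s * s = 1) (hs : ∀ u ∈ U, s * u * s⁻¹ ∈ U) :
    Subgroup G where
  carrier := {x | x ∈ U ∨ x * s ∈ U}
  one_mem' := Or.inl U.one_mem
  mul_mem' := by
    have hi : s⁻¹ = s := by rw [inv_eq_iff_mul_eq_one, hss]
    have key : ∀ u ∈ U, s * u * s ∈ U := by
      intro u hu
      have := hs u hu
      rwa [hi] at this
    rintro x y (hx | hx) (hy | hy)
    · exact Or.inl (mul_mem hx hy)
    · right
      rw [mul_assoc]; exact mul_mem hx hy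
    · right
      have e : x * y * s = (x * s) * (s * y * s) := by
        calc x * y * s = x * (s * s) * y * s := by rw [hss, mul_one]
          _ = _ := by group
      rw [e]; exact mul_mem hx (key y hy)
    · left
      have e : x * y = (x * s) * (s * (y * s) * s) := by
        calc x * y = x * (s * s) * y * (s * s) := by rw [hss, mul_one, mul_one]
          _ = _ := by group
      rw [e]; exact mul_mem hx (key _ hy)
  inv_mem' := by
    have hi : s⁻¹ = s := by rw [inv_eq_iff_mul_eq_one, hss]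
    rintro x (hx | hx)
    · exact Or.inl (inv_mem hx)
    · right
      have h1 := hs _ (inv_mem hx)
      have e : s * (x * s)⁻¹ * s⁻¹ = x⁻¹ * s := by
        calc s * (x * s)⁻¹ * s⁻¹ = (s * s⁻¹) * x⁻¹ * s⁻¹ := by group
          _ = x⁻¹ * s := by rw [mul_inv_cancel, one_mul, hi]
      rwa [e] at h1

theorem ch_pow (F : Fld D) {s : G} (hs : s * D.t = D.t * s) (k : ℕ) :
    ch F (s ^ k) = ch F s ^ k := by
  induction k with
  | zero => rw [pow_zero, pow_zero, ch_one]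
  | succ k ih =>
    have : s ^ k * D.t = D.t * s ^ k := (Commute.pow_left (show Commute s D.t from hs) k)
    rw [pow_succ, pow_succ, ch_mul F this hs, ih]

theorem ch_Sg (F : Fld D) (hn : Odd n) {s : G} (hs : s ∈ F.Sg) :
    ch F s = 1 ∨ ch F s = barE D.hq := by
  obtain ⟨k, hk⟩ := F.Sg_two ⟨s, hs⟩
  have hk' : s ^ 2 ^ k = 1 := congrArg Subtype.val hk
  have h1 : ch F s ^ 2 ^ k = 1 := by rw [← ch_pow F (F.Sg_t s hs), hk', ch_one]
  have h2 := AutOdd.sq_eq_one hn D.hq h1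
  by_cases h : ch F s = 1
  · exact Or.inl h
  · exact Or.inr (eq_bar D.hq h2 h)

variable {F : Fld D} {T : Term D} {e y : G} (H : G1 F T e y)
include H

theorem te_te : (D.t * e) * (D.t * e) = 1 := by
  calc (D.t * e) * (D.t * e) = D.t * (e * D.t) * e := by group
    _ = (D.t * D.t) * (e * e) := by rw [H.e_t]; group
    _ = 1 := by rw [D.t_sq, H.e_sq, mul_one]

theorem e_U {u : G} (hu : u ∈ T.U) : e * u * e⁻¹ ∈ T.U := H.hU e H.he.mem u hu

theorem te_U {u : G} (hu : u ∈ T.U) : (D.t * e) * u * (D.t * e)⁻¹ ∈ T.U := by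
  have h1 := T.t_conj _ (e_U H hu)
  have e1 : D.t * (e * u * e⁻¹) * D.t⁻¹ = (D.t * e) * u * (D.t * e)⁻¹ := by group
  rwa [e1] at h1

/-- `N = U ⟨t e⟩` -/
def NN : Subgroup G := adj T.U (D.t * e) (te_te H) (fun _ hu => te_U H hu)

theorem te_not : D.t * e ∉ T.U := by
  intro h1
  have h2 := U_inf_Sg F T h1 (mul_mem F.t_Sg H.he.mem)
  have h3 := ch_P F h2
  rw [ch_mul F rfl H.he.t, ch_t, one_mul, H.he.ch] at h3
  exact barE_ne_one D.hq h3

theorem t_not_NN : D.t ∉ NN H := by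
  rintro (h | h)
  · exact T.t_not h
  · have e1 : D.t * (D.t * e) = e := by rw [← mul_assoc, D.t_sq, one_mul]
    rw [e1] at h
    have h2 := T.comm_t e h H.he.t
    have h3 := ch_P F h2
    rw [H.he.ch] at h3
    exact barE_ne_one D.hq h3

/-- `Sg = P ⟨t, e⟩` -/
theorem Sg_cases (hn : Odd n) {s : G} (hs : s ∈ F.Sg) :
    s ∈ D.P ∨ s * D.t ∈ D.P ∨ s * e ∈ D.P ∨ s * (D.t * e) ∈ D.P := by
  rcases ch_Sg F hn hs with h | h
  · rcases ch_ker F hs h with h1 | h1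
    · exact Or.inl h1
    · exact Or.inr (Or.inl h1)
  · have hse : s * e ∈ F.Sg := mul_mem hs H.he.mem
    have h2 : ch F (s * e) = 1 := by
      rw [ch_mul F (F.Sg_t s hs) H.he.t, h, H.he.ch]
      ext x
      show bar n (bar n x) = x
      exact bar_bar D.hq x
    rcases ch_ker F hse h2 with h1 | h1
    · exact Or.inr (Or.inr (Or.inl h1))
    · right; right; right
      rwa [← H.e_t, ← mul_assoc]

/-- the four cosets of `U` in `S2 = U Sg` -/
theorem S2_cases (hn : Odd n) {x : G} (hx : x ∈ S2 F T H.hU) :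
    x ∈ T.U ∨ x * D.t ∈ T.U ∨ x * e ∈ T.U ∨ x * (D.t * e) ∈ T.U := by
  obtain ⟨u, hu, s, hs, rfl⟩ := hx
  rcases Sg_cases H hn hs with h | h | h | h
  · exact Or.inl (mul_mem hu (T.P_le h))
  · right; left
    rw [mul_assoc]; exact mul_mem hu (T.P_le h)
  · right; right; left
    rw [mul_assoc]; exact mul_mem hu (T.P_le h)
  · right; right; right
    rw [mul_assoc]; exact mul_mem hu (T.P_le h)

omit [Finite G] H in
theorem conj_mem_of {U : Subgroup G} {s x : G} (hss : s * s = 1) (hs : ∀ u ∈ U, s * u * s⁻¹ ∈ U)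
    (h : s * x * s⁻¹ ∈ U) : x ∈ U := by
  have h1 := hs _ h
  have e : s * (s * x * s⁻¹) * s⁻¹ = (s * s) * x * (s * s)⁻¹ := by group
  rw [e, hss] at h1
  simpa using h1

omit [Finite G] H in
theorem sq_mem {U : Subgroup G} {s x : G} (hss : s * s = 1) (hs : ∀ u ∈ U, s * u * s⁻¹ ∈ U)
    (h : x * s ∈ U) : x * x ∈ U := by
  have hi : s⁻¹ = s := by rw [inv_eq_iff_mul_eq_one, hss]
  have h1 := mul_mem h (hs _ h)
  have e : x * s * (s * (x * s) * s⁻¹) = x * x := by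
    rw [hi]
    calc x * s * (s * (x * s) * s) = x * (s * s) * x * (s * s) := by group
      _ = x * x := by rw [hss, mul_one, mul_one]
  rwa [e] at h1

theorem sq_S2 (hn : Odd n) {x : G} (hx : x ∈ S2 F T H.hU) : x * x ∈ T.U := by
  rcases S2_cases H hn hx with h | h | h | h
  · exact mul_mem h h
  · exact sq_mem D.t_sq T.t_conj h
  · exact sq_mem H.e_sq (fun _ hu => e_U H hu) h
  · exact sq_mem (te_te H) (fun _ hu => te_U H hu) h

variable {H} {S : Subgroup G} (hS : Syl H S)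
include hS

theorem tS : D.t ∈ S := hS.le (t_mem_S2 F T H.hU)

theorem eS : e ∈ S := hS.le (Sg_le_S2 F T H.hU H.he.mem)

theorem US : T.U ≤ S := (U_le_S2 F T H.hU).trans hS.le

theorem S_U {x u : G} (hx : x ∈ S) (hu : u ∈ T.U) : x * u * x⁻¹ ∈ T.U := M0_U (hS.M0 hx) hu

theorem S_U' {x u : G} (hx : x ∈ S) (hu : u ∈ T.U) : x⁻¹ * u * x ∈ T.U := M0_U' (hS.M0 hx) hu

/-- the elements of `S` outside `U Sg` swap the classes -/
theorem swap {x : G} (hx : x ∈ S) (hx2 : x ∉ S2 F T H.hU) :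
    (∃ u ∈ T.U, x * D.t * x⁻¹ = u * e * u⁻¹) ∧ ∃ v ∈ T.U, x * e * x⁻¹ = v * D.t * v⁻¹ := by
  obtain ⟨u, hu, h1⟩ : ∃ u ∈ T.U, x * D.t * x⁻¹ = u * e * u⁻¹ := by
    rcases hS.cl x (mul_mem (mul_mem hx (tS hS)) (inv_mem hx)) with ⟨u, hu, h⟩ | ⟨u, hu, h⟩
    · exact absurd (hS.fix x hx u hu h.symm) hx2
    · exact ⟨u, hu, h.symm⟩
  refine ⟨⟨u, hu, h1⟩, ?_⟩
  obtain ⟨y1, hy1, h2⟩ := hS.y1
  have e1 : x * y1 * D.t * (x * y1)⁻¹ = x * e * x⁻¹ := by rw [← h2]; group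
  have hmem : x * y1 * D.t * (x * y1)⁻¹ ∈ S := by
    rw [e1]; exact mul_mem (mul_mem hx (eS hS)) (inv_mem hx)
  rcases hS.cl (x * y1) hmem with ⟨v, hv, h⟩ | ⟨v, hv, h⟩
  · exact ⟨v, hv, by rw [← e1, h]⟩
  · exfalso
    rw [e1] at h
    have hw : x⁻¹ * (u * v⁻¹) * x ∈ T.U := S_U' hS hx (mul_mem hu (inv_mem hv))
    apply H.not_conj (inv_mem hw)
    have h3 : D.t = (x⁻¹ * (u * v⁻¹) * x) * e * (x⁻¹ * (u * v⁻¹) * x)⁻¹ := by
      calc D.t = x⁻¹ * (x * D.t * x⁻¹) * x := by group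
        _ = x⁻¹ * (u * v⁻¹ * (v * e * v⁻¹) * v * u⁻¹) * x := by rw [h1]; group
        _ = _ := by rw [h]; group
    rw [inv_inv]
    calc (x⁻¹ * (u * v⁻¹) * x)⁻¹ * D.t * (x⁻¹ * (u * v⁻¹) * x) =
        (x⁻¹ * (u * v⁻¹) * x)⁻¹ * ((x⁻¹ * (u * v⁻¹) * x) * e * (x⁻¹ * (u * v⁻¹) * x)⁻¹) *
          (x⁻¹ * (u * v⁻¹) * x) := by rw [← h3]
      _ = e := by group

theorem swap_inv {x x' : G} (hx : x ∈ S) (hx2 : x ∉ S2 F T H.hU) (hx' : x' ∈ S)
    (hx2' : x' ∉ S2 F T H.hU) : x⁻¹ * x' ∈ S2 F T H.hU := by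
  obtain ⟨⟨u, hu, h1⟩, -⟩ := swap hS hx hx2
  obtain ⟨⟨v, hv, h2⟩, -⟩ := swap hS hx' hx2'
  apply hS.fix _ (mul_mem (inv_mem hx) hx') (x⁻¹ * (v * u⁻¹) * x)
    (S_U' hS hx (mul_mem hv (inv_mem hu)))
  calc x⁻¹ * x' * D.t * (x⁻¹ * x')⁻¹ = x⁻¹ * (x' * D.t * x'⁻¹) * x := by group
    _ = x⁻¹ * (v * u⁻¹ * (u * e * u⁻¹) * (v * u⁻¹)⁻¹) * x := by rw [h2]; group
    _ = x⁻¹ * (v * u⁻¹ * (x * D.t * x⁻¹) * (v * u⁻¹)⁻¹) * x := by rw [h1]
    _ = _ := by group

theorem swap_sq {x : G} (hx : x ∈ S) (hx2 : x ∉ S2 F T H.hU) : x * x ∈ S2 F T H.hU := by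
  have h : x⁻¹ ∉ S2 F T H.hU := fun h => hx2 (by
    have := inv_mem h
    rwa [inv_inv] at this)
  have := swap_inv hS (inv_mem hx) h hx hx2
  rwa [inv_inv] at this

/-- the squares of `S` are in `U ⟨t e⟩` -/
theorem sq_S (hn : Odd n) {x : G} (hx : x ∈ S) : x * x ∈ NN H := by
  by_cases hx2 : x ∈ S2 F T H.hU
  · exact Or.inl (sq_S2 H hn hx2)
  obtain ⟨⟨u, hu, h1⟩, v, hv, h2⟩ := swap hS hx hx2
  rcases S2_cases H hn (swap_sq hS hx hx2) with h | h | h | h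
  · exact Or.inl h
  · exfalso
    have h3 := S_U hS hx h
    have e1 : x * (x * x * D.t) * x⁻¹ = (x * x) * (x * D.t * x⁻¹) := by group
    rw [e1, h1] at h3
    have h4 : (x * x * D.t)⁻¹ * (x * x * (u * e * u⁻¹)) ∈ T.U := mul_mem (inv_mem h) h3
    have e2 : (x * x * D.t)⁻¹ * (x * x * (u * e * u⁻¹)) = (D.t⁻¹ * u * D.t⁻¹⁻¹) * (D.t⁻¹ * e) * u⁻¹ := by
      group
    have hti : D.t⁻¹ = D.t := by rw [inv_eq_iff_mul_eq_one, D.t_sq]
    rw [e2, hti] at h4
    have h5 : D.t * e ∈ T.U := by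
      have h6 := mul_mem (mul_mem (inv_mem (T.t_conj u hu)) h4) hu
      have e3 : (D.t * u * D.t⁻¹)⁻¹ * (D.t * u * D.t⁻¹ * (D.t * e) * u⁻¹) * u = D.t * e := by group
      rwa [e3] at h6
    exact te_not H h5
  · exfalso
    have h3 := S_U hS hx h
    have e1 : x * (x * x * e) * x⁻¹ = (x * x) * (x * e * x⁻¹) := by group
    rw [e1, h2] at h3
    have h4 : (x * x * e)⁻¹ * (x * x * (v * D.t * v⁻¹)) ∈ T.U := mul_mem (inv_mem h) h3
    have e2 : (x * x * e)⁻¹ * (x * x * (v * D.t * v⁻¹)) = (e⁻¹ * v * e⁻¹⁻¹) * (e⁻¹ * D.t) * v⁻¹ := by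
      group
    rw [e2, H.e_inv] at h4
    have h5 : D.t * e ∈ T.U := by
      have h6 := mul_mem (mul_mem (inv_mem (e_U H hv)) h4) hv
      have e3 : (e * v * e⁻¹)⁻¹ * (e * v * e⁻¹ * (e * D.t) * v⁻¹) * v = e * D.t := by group
      rwa [e3, H.e_t] at h6
    exact te_not H h5
  · exact Or.inr h

/-- `|S| ≤ 8 |U|` -/
theorem card_S (hn : Odd n) : Nat.card S ≤ 8 * Nat.card T.U := by
  have h1 : Nat.card S ≤ 2 * Nat.card (S2 F T H.hU) :=
    card_le_two (fun x hx hx' y hy hy' => swap_inv hS hx hx' hy hy')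
  have hti : D.t⁻¹ = D.t := by rw [inv_eq_iff_mul_eq_one, D.t_sq]
  have h2 : Nat.card (S2 F T H.hU) ≤ 2 * Nat.card (NN H) := by
    apply card_le_two
    intro x hx hx' y hy hy'
    have key : ∀ x ∈ S2 F T H.hU, x ∉ NN H → x * D.t ∈ T.U ∨ x * e ∈ T.U := by
      intro x hx hx'
      rcases S2_cases H hn hx with h | h | h | h
      · exact absurd (Or.inl h) hx'
      · exact Or.inl h
      · exact Or.inr h
      · exact absurd (Or.inr h) hx'
    rcases key x hx hx' with h | h <;> rcases key y hy hy' with h' | h'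
    · left
      apply conj_mem_of D.t_sq T.t_conj
      have h3 := mul_mem (inv_mem h) h'
      have e1 : (x * D.t)⁻¹ * (y * D.t) = D.t⁻¹ * (x⁻¹ * y) * D.t := by group
      rw [e1] at h3
      rwa [hti] at h3 ⊢
    · right
      apply conj_mem_of D.t_sq T.t_conj
      have h3 := mul_mem (inv_mem h) h'
      have e1 : (x * D.t)⁻¹ * (y * e) = D.t⁻¹ * (x⁻¹ * y) * e := by group
      rw [e1, hti] at h3
      have e2 : D.t * (x⁻¹ * y * (D.t * e)) * D.t⁻¹ = D.t * (x⁻¹ * y) * e := by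
        rw [← H.e_t]; group
      rwa [e2]
    · right
      apply conj_mem_of H.e_sq (fun _ hu => e_U H hu)
      have h3 := mul_mem (inv_mem h) h'
      have e1 : (x * e)⁻¹ * (y * D.t) = e⁻¹ * (x⁻¹ * y) * D.t := by group
      rw [e1, H.e_inv] at h3
      have e2 : e * (x⁻¹ * y * (D.t * e)) * e⁻¹ = e * (x⁻¹ * y) * D.t := by group
      rwa [e2]
    · left
      apply conj_mem_of H.e_sq (fun _ hu => e_U H hu)
      have h3 := mul_mem (inv_mem h) h'
      have e1 : (x * e)⁻¹ * (y * e) = e⁻¹ * (x⁻¹ * y) * e := by group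
      rw [e1] at h3
      rwa [H.e_inv] at h3 ⊢
  have h3 : Nat.card (NN H) ≤ 2 * Nat.card T.U := by
    apply card_le_two
    intro x hx hx' y hy hy'
    have h : x * (D.t * e) ∈ T.U := hx.resolve_left hx'
    have h' : y * (D.t * e) ∈ T.U := hy.resolve_left hy'
    apply conj_mem_of (te_te H) (fun _ hu => te_U H hu)
    have h4 := mul_mem (inv_mem h) h'
    have hi : (D.t * e)⁻¹ = D.t * e := by rw [inv_eq_iff_mul_eq_one, te_te H]
    have e1 : (x * (D.t * e))⁻¹ * (y * (D.t * e)) = (D.t * e)⁻¹ * (x⁻¹ * y) * (D.t * e) := by group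
    rw [e1] at h4
    rwa [hi] at h4 ⊢
  omega

/-- elements of `S` commuting with `t` are in `Sg` -/
theorem comm_Sg {x : G} (hx : x ∈ S) (h : x * D.t = D.t * x) : x ∈ F.Sg :=
  comm_S2 F T H.hU (hS.fix x hx 1 (one_mem _) (by rw [h]; group)) h

/-- **`t ∉ E`** -/
theorem t_not_E {E : Subgroup G} (hG : Glob D.t E) (hn : Odd n) (hodd : Odd S.index) :
    D.t ∉ E := by
  intro htE
  haveI := hG.normal
  have hPN : D.P ≤ NN H := fun x hx => Or.inl (T.P_le hx)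
  have hNS : NN H ≤ S := by
    rintro x (h | h)
    · exact US hS h
    · have h1 : D.t * e ∈ S := mul_mem (tS hS) (eS hS)
      have e1 : x = (x * (D.t * e)) * (D.t * e)⁻¹ := by group
      rw [e1]
      exact mul_mem (US hS h) (inv_mem h1)
  refine t_not_NN H (PsiTwo.mem_of_sq F hG.perf hodd (tS hS) ((Sg_le_S2 F T H.hU).trans hS.le)
    (fun x hx _ h => comm_Sg hS hx h) ?_ hPN (fun x hx => sq_S hS hn hx) hNS F.t_Sg htE)
  intro y hy
  obtain ⟨x, hx, h1⟩ := hS.fus hy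
  rcases hG.gen x with h | h
  · exact ⟨x, hx, h, h1.symm⟩
  · refine ⟨x * D.t, mul_mem hx (tS hS), ?_, ?_⟩
    · have h2 := hG.normal.conj_mem _ h D.t⁻¹
      have e1 : D.t⁻¹ * (D.t * x) * D.t⁻¹⁻¹ = x * D.t := by group
      rwa [e1] at h2
    · rw [h1]; group

end Cfsg.Agent.StdU3.GOneOdd
end

-- part: StdU3/GOneLDef
section
/-!
# The second wreath-like type (`g1`), case `[P, P_e] ≠ 1`: data

As in `GOneDef`, but `P` and `R = P_e` do not commute: `[p, r] = z (τ p * k r)` with additive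
`τ : P → F_q` (surjective), `k : R → F_q` (not zero).
-/

set_option autoImplicit false

namespace Cfsg.Agent.StdU3.GOneLDef

open Cfsg.Agent.StdU3.Field Cfsg.Agent.StdU3.PreDef

/-- **Type `g1`, `[P, P_e] ≠ 1`.** `Z = {z b | b ∈ F_q}`. -/
structure GOneL {G : Type*} [Group G] [Finite G] {K : Type*} [Field K] [Fintype K] [CharP K 2]
    {n : ℕ} (D : Pre G K n) (E : Subgroup G) (S : Sylow 2 G) (U R : Subgroup G) (e : G)
    (τ k : G → K) : Prop where
  n3 : 3 ≤ n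
  E_normal : E.Normal
  t_E : D.t ∉ E
  U_le : U ≤ (S : Subgroup G)
  U_norm : ∀ x ∈ S, ∀ u ∈ U, x * u * x⁻¹ ∈ U
  U_E : U ≤ E
  cardU : Nat.card U = (2 ^ n) ^ 5
  P_le : D.P ≤ U
  R_le : R ≤ U
  Z_R : ∀ b, bar n b = b → D.z b ∈ R
  PR : ∀ u ∈ U, ∃ p ∈ D.P, ∃ r ∈ R, u = p * r
  inf : ∀ x ∈ D.P, x ∈ R → ∃ b, bar n b = b ∧ x = D.z b
  /-- `Z` is central in `S` -/
  Zc : ∀ x ∈ S, ∀ b, bar n b = b → x * D.z b = D.z b * x
  /-- squares of `U` are in `Z` -/
  sqU : ∀ x ∈ U, ∃ b, bar n b = b ∧ x * x = D.z b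
  /-- commutators of `U` are in `Z` -/
  cmt : ∀ x ∈ U, ∀ y ∈ U, ∃ b, bar n b = b ∧ x * y * x⁻¹ * y⁻¹ = D.z b
  /-- the commutator form is nondegenerate -/
  surj : ∀ x ∈ U, (∀ b, bar n b = b → x ≠ D.z b) → ∀ b, bar n b = b →
    ∃ y ∈ U, x * y * x⁻¹ * y⁻¹ = D.z b
  tS : D.t ∈ S
  eS : e ∈ S
  ee : e * e = 1
  te : D.t * e = e * D.t
  /-- `C_U(e) = R` -/
  e_R : ∀ r ∈ R, e * r = r * e
  R_e : ∀ u ∈ U, u * e = e * u → u ∈ R
  /-- `C_U(t) = P` -/
  P_t : ∀ u ∈ U, u * D.t = D.t * u → u ∈ D.P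
  e_P : ∀ p ∈ D.P, e * p * e⁻¹ ∈ D.P
  t_R : ∀ r ∈ R, D.t * r * D.t⁻¹ ∈ R
  /-- `e` inverts `P_0 = {p | [e, p] ∈ Z}`, `[P_0, R] = 1`, the involutions of `P e` -/
  inv_P : ∀ p ∈ D.P, ∀ b, bar n b = b → e * p * e⁻¹ * p⁻¹ = D.z b →
    e * p * e⁻¹ = p⁻¹ ∧ τ p = 0 ∧ ∃ v ∈ D.P, v * e * v⁻¹ = p * e
  /-- `t` inverts `R_0 = {r | [t, r] ∈ Z}`, `[P, R_0] = 1`, the involutions of `R t` -/
  inv_R : ∀ r ∈ R, ∀ b, bar n b = b → D.t * r * D.t⁻¹ * r⁻¹ = D.z b →
    D.t * r * D.t⁻¹ = r⁻¹ ∧ k r = 0 ∧ ∃ v ∈ R, v * D.t * v⁻¹ = r * D.t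
  e_E : e ∉ E
  /-- all conjugates of `t` in `S` are `S`-conjugate to `t` -/
  fus : ∀ g : G, g * D.t * g⁻¹ ∈ S → ∃ x ∈ S, g * D.t * g⁻¹ = x * D.t * x⁻¹
  /-- `S` permutes the classes `t^U` and `e^U = e^P` -/
  cls : ∀ x ∈ S, (∃ u ∈ U, x * D.t * x⁻¹ = u * D.t * u⁻¹) ∨
    (∃ p ∈ D.P, x * D.t * x⁻¹ = p * e * p⁻¹)
  /-- `C_S(t) = P ⟨t, e⟩` -/
  Xi : ∀ x ∈ S, x * D.t = D.t * x → x ∈ D.P ∨ D.t * x ∈ D.P ∨ e * x ∈ D.P ∨ D.t * e * x ∈ D.P
  cardS : Nat.card S ≤ 8 * (2 ^ n) ^ 5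
  /-- `t e` is not conjugate into `Z` in `C_G(t)` (Galois component) -/
  fusC : ∀ c : G, c * D.t = D.t * c → ∀ b, bar n b = b → c * (D.t * e) * c⁻¹ ≠ D.z b
  /-- the commutators `[P, R]` -/
  τ_fix : ∀ p ∈ D.P, bar n (τ p) = τ p
  τ_mul : ∀ p ∈ D.P, ∀ p' ∈ D.P, τ (p * p') = τ p + τ p'
  τ_surj : ∀ b, bar n b = b → ∃ p ∈ D.P, τ p = b
  k_fix : ∀ r ∈ R, bar n (k r) = k r
  k_mul : ∀ r ∈ R, ∀ r' ∈ R, k (r * r') = k r + k r'
  k_ne : ∃ r ∈ R, k r ≠ 0
  cmt_PR : ∀ p ∈ D.P, ∀ r ∈ R, p * r * p⁻¹ * r⁻¹ = D.z (τ p * k r)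

end Cfsg.Agent.StdU3.GOneLDef
end

-- part: StdU3/IsoCard
section
/-!
# Totally isotropic subgroups of a class two group

`U` has class two with commutators in the central subgroup `Z`, `Z1` is of index two in `Z`, the
commutator form modulo `Z1` is nondegenerate on `U / Z`: a subgroup `H` with commutators in `Z1`
satisfies `|H|² ≤ |U| |Z|`.
-/

set_option autoImplicit false
set_option linter.unusedSectionVars false
set_option linter.dupNamespace false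

namespace Cfsg.Agent.StdU3.IsoCard

open scoped commutatorElement

theorem sum_hom_zero {A : Type*} [Group A] [Fintype A] (f : A → ℤ)
    (hf : ∀ a b, f (a * b) = f a * f b) {a0 : A} (h0 : f a0 = -1) : ∑ a, f a = 0 := by
  have h1 : ∑ a, f (a0 * a) = ∑ a, f a := Fintype.sum_equiv (Equiv.mulLeft a0) _ _ (fun _ => rfl)
  have h2 : ∑ a, f (a0 * a) = -∑ a, f a := by
    rw [← Finset.sum_neg_distrib]
    apply Finset.sum_congr rfl
    intro a _
    rw [hf, h0, neg_one_mul]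
  linarith

variable {G : Type*} [Group G]

theorem card_sq_le [Finite G] {U H Z Z1 : Subgroup G} (hHU : H ≤ U)
    (cmt : ∀ x ∈ U, ∀ y ∈ U, ⁅x, y⁆ ∈ Z) (Zc : ∀ x ∈ U, ∀ z ∈ Z, x * z = z * x)
    (hZ1 : Z1 ≤ Z) (ind : ∀ z ∈ Z, ∀ z' ∈ Z, z ∉ Z1 → z' ∉ Z1 → z * z' ∈ Z1)
    (hH : ∀ x ∈ H, ∀ y ∈ H, ⁅x, y⁆ ∈ Z1)
    (nd : ∀ v ∈ U, v ∉ Z → ∃ y ∈ U, ⁅v, y⁆ ∉ Z1) :
    Nat.card H * Nat.card H ≤ Nat.card U * Nat.card Z := by
  classical
  haveI := Fintype.ofFinite G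
  let χ : G → ℤ := fun z => if z ∈ Z1 then 1 else -1
  have χ1 : ∀ {z}, z ∈ Z1 → χ z = 1 := fun h => if_pos h
  have χ2 : ∀ {z}, z ∉ Z1 → χ z = -1 := fun h => if_neg h
  have hχ : ∀ a ∈ Z, ∀ b ∈ Z, χ (a * b) = χ a * χ b := by
    intro a ha b hb
    by_cases h1 : a ∈ Z1
    · by_cases h2 : b ∈ Z1
      · rw [χ1 h1, χ1 h2, χ1 (mul_mem h1 h2), one_mul]
      · rw [χ1 h1, χ2 h2, χ2 (fun h => h2 ((Subgroup.mul_mem_cancel_left Z1 h1).mp h)), one_mul]
    · by_cases h2 : b ∈ Z1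
      · rw [χ2 h1, χ1 h2, χ2 (fun h => h1 ((Subgroup.mul_mem_cancel_right Z1 h2).mp h)), mul_one]
      · rw [χ2 h1, χ2 h2, χ1 (ind a ha b hb h1 h2)]; norm_num
  -- commutators are multiplicative
  have cl : ∀ x ∈ U, ∀ y ∈ U, ∀ z ∈ U, ⁅x * y, z⁆ = ⁅y, z⁆ * ⁅x, z⁆ := by
    intro x hx y hy z hz
    have h1 : ⁅x * y, z⁆ = (x * ⁅y, z⁆) * x⁻¹ * ⁅x, z⁆ := by
      simp only [commutatorElement_def]; group
    rw [h1, Zc x hx _ (cmt y hy z hz), mul_inv_cancel_right]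
  have cr : ∀ x ∈ U, ∀ y ∈ U, ∀ z ∈ U, ⁅x, y * z⁆ = ⁅x, y⁆ * ⁅x, z⁆ := by
    intro x hx y hy z hz
    have h1 : ⁅x, y * z⁆ = ⁅x, y⁆ * ((y * ⁅x, z⁆) * y⁻¹) := by
      simp only [commutatorElement_def]; group
    rw [h1, Zc y hy _ (cmt x hx z hz), mul_inv_cancel_right]
  have inv_of : ∀ x y : G, ⁅x, y⁆⁻¹ = ⁅y, x⁆ := commutatorElement_inv
  -- sums over `U`
  have hU0 : ∀ h : H, (h : G) ∉ Z → ∑ x : U, χ ⁅(x : G), (h : G)⁆ = 0 := by
    intro h hh
    obtain ⟨y, hy, hy1⟩ := nd h (hHU h.2) hh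
    refine sum_hom_zero (fun x : U => χ ⁅(x : G), (h : G)⁆) ?_ (a0 := ⟨y, hy⟩) ?_
    · intro a b
      show χ ⁅(a : G) * b, (h : G)⁆ = χ ⁅(a : G), (h : G)⁆ * χ ⁅(b : G), (h : G)⁆
      rw [cl _ a.2 _ b.2 _ (hHU h.2), hχ _ (cmt _ b.2 _ (hHU h.2)) _ (cmt _ a.2 _ (hHU h.2)),
        mul_comm]
    · apply χ2
      rw [← inv_of]
      intro h2
      exact hy1 (by rwa [inv_mem_iff] at h2)
  have hU1 : ∀ h : H, (h : G) ∈ Z → ∑ x : U, χ ⁅(x : G), (h : G)⁆ = (Nat.card U : ℤ) := by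
    intro h hh
    have h1 : ∀ x : U, χ ⁅(x : G), (h : G)⁆ = 1 := by
      intro x
      have h2 : ⁅(x : G), (h : G)⁆ = 1 := by
        rw [commutatorElement_eq_one_iff_mul_comm]; exact Zc _ x.2 _ hh
      rw [h2]; exact χ1 (one_mem _)
    rw [Finset.sum_congr rfl (fun x _ => h1 x), Finset.sum_const, Finset.card_univ,
      Nat.card_eq_fintype_card]
    simp only [_root_.Int.nsmul_eq_mul, _root_.mul_one]
  -- sums over `H`
  have hH0 : ∀ x : U, 0 ≤ ∑ h : H, χ ⁅(x : G), (h : G)⁆ := by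
    intro x
    by_cases hx : ∀ h : H, ⁅(x : G), (h : G)⁆ ∈ Z1
    · apply Finset.sum_nonneg
      intro h _
      rw [χ1 (hx h)]; norm_num
    · push Not at hx
      obtain ⟨h0, hh0⟩ := hx
      rw [sum_hom_zero (fun h : H => χ ⁅(x : G), (h : G)⁆) ?_ (a0 := h0) (χ2 hh0)]
      intro a b
      show χ ⁅(x : G), (a : G) * b⁆ = χ ⁅(x : G), (a : G)⁆ * χ ⁅(x : G), (b : G)⁆
      rw [cr _ x.2 _ (hHU a.2) _ (hHU b.2), hχ _ (cmt _ x.2 _ (hHU a.2)) _ (cmt _ x.2 _ (hHU b.2))]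
  have hH1 : ∀ x : U, (x : G) ∈ H → ∑ h : H, χ ⁅(x : G), (h : G)⁆ = (Nat.card H : ℤ) := by
    intro x hx
    rw [Finset.sum_congr rfl (fun h _ => χ1 (hH _ hx _ h.2)), Finset.sum_const, Finset.card_univ,
      Nat.card_eq_fintype_card]
    simp only [_root_.Int.nsmul_eq_mul, _root_.mul_one]
  -- the total sum
  have h1 : ∑ x : U, ∑ h : H, χ ⁅(x : G), (h : G)⁆ = ∑ h : H, ∑ x : U, χ ⁅(x : G), (h : G)⁆ :=
    Finset.sum_comm
  have h2 : ∑ h : H, ∑ x : U, χ ⁅(x : G), (h : G)⁆ ≤ (Nat.card U : ℤ) * Nat.card Z := by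
    have h3 : ∀ h : H, ∑ x : U, χ ⁅(x : G), (h : G)⁆ =
        if (h : G) ∈ Z then (Nat.card U : ℤ) else 0 := by
      intro h
      by_cases hh : (h : G) ∈ Z
      · rw [if_pos hh]; exact hU1 h hh
      · rw [if_neg hh]; exact hU0 h hh
    rw [Finset.sum_congr rfl (fun h _ => h3 h), Finset.sum_ite, Finset.sum_const_zero, add_zero,
      Finset.sum_const, nsmul_eq_mul, mul_comm]
    have h4 : (Finset.univ.filter (fun h : H => (h : G) ∈ Z)).card ≤ Nat.card Z := by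
      rw [Nat.card_eq_fintype_card, ← Finset.card_univ]
      refine Finset.card_le_card_of_injOn (fun h : H => if hh : (h : G) ∈ Z then ⟨h, hh⟩ else 1)
        (fun _ _ => Finset.mem_univ _) ?_
      intro a ha b hb hab
      have ha' := (Finset.mem_filter.mp ha).2
      have hb' := (Finset.mem_filter.mp hb).2
      simp only [dif_pos ha', dif_pos hb'] at hab
      exact Subtype.ext (congrArg (Subtype.val : Z → G) hab)
    have h5 : ((Finset.univ.filter (fun h : H => (h : G) ∈ Z)).card : ℤ) ≤ Nat.card Z := by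
      exact_mod_cast h4
    exact mul_le_mul_of_nonneg_left h5 (by (clear * -; positivity))
  have h3 : (Nat.card H : ℤ) * Nat.card H ≤ ∑ x : U, ∑ h : H, χ ⁅(x : G), (h : G)⁆ := by
    have h4 : ∑ x ∈ Finset.univ.filter (fun x : U => (x : G) ∈ H),
        ∑ h : H, χ ⁅(x : G), (h : G)⁆ ≤ ∑ x : U, ∑ h : H, χ ⁅(x : G), (h : G)⁆ :=
      Finset.sum_le_sum_of_subset_of_nonneg (Finset.filter_subset _ _) (fun x _ _ => hH0 x)
    refine le_trans (le_of_eq ?_) h4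
    rw [Finset.sum_congr rfl (fun x hx => hH1 x (Finset.mem_filter.mp hx).2), Finset.sum_const,
      nsmul_eq_mul]
    congr 1
    norm_cast
    rw [Nat.card_eq_fintype_card, ← Finset.card_univ]
    refine Finset.card_bij' (fun (h : H) _ => (⟨h, hHU h.2⟩ : U))
      (fun (x : U) hx => (⟨x, (Finset.mem_filter.mp hx).2⟩ : H)) ?_ ?_ ?_ ?_
    · intro h _
      exact Finset.mem_filter.mpr ⟨Finset.mem_univ _, h.2⟩
    · intro x hx
      exact Finset.mem_univ _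
    · intro h _; rfl
    · intro x hx; rfl
  have h4 : (Nat.card H : ℤ) * Nat.card H ≤ (Nat.card U : ℤ) * Nat.card Z := h3.trans (h1 ▸ h2)
  exact_mod_cast h4

end Cfsg.Agent.StdU3.IsoCard
end

-- part: StdU3/GOneL
section
/-!
# Type `g1` with `[P, P_e] ≠ 1`: `Z` is strongly closed
-/

set_option autoImplicit false
set_option linter.unusedSectionVars false
set_option linter.dupNamespace false

namespace Cfsg.Agent.StdU3.GOneL

open Subgroup Cfsg.Agent.StdU3.Field Cfsg.Agent.StdU3.PreDef Cfsg.Agent.StdU3.GOneLDef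
open Cfsg.Agent.StdU3.LevelOne (z_zero z_self z_inv z_comm z_eq t_inv)
open Cfsg.Agent.StdU3.Fuse (Mx)
open scoped commutatorElement

section General

variable {G : Type*} [Group G] [Finite G]

/-- `S ∩ N` is a maximal 2-subgroup of `N ∩ C(z)` for `z` central in `S`. -/
theorem mx_inf (S : Sylow 2 G) (N : Subgroup G) (hN : N.Normal) {z : G}
    (hz : ∀ x ∈ S, x * z = z * x) :
    Mx (N ⊓ centralizer ({z} : Set G)) ((S : Subgroup G) ⊓ N) := by
  have : Fact (Nat.Prime 2) := ⟨Nat.prime_two⟩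
  refine ⟨S.isPGroup'.to_le inf_le_left, ?_, ?_⟩
  · rintro x ⟨hx, hxN⟩
    exact ⟨hxN, mem_centralizer_singleton_iff.mpr (hz x hx)⟩
  · intro Y hY hYC hle
    symm
    apply Subgroup.eq_of_le_of_card_ge hle
    obtain ⟨P, hP⟩ := hY.exists_le_sylow
    obtain ⟨g, hg⟩ := MulAction.exists_smul_eq G P S
    have h1 : Y.map (MulAut.conj g).toMonoidHom ≤ (S : Subgroup G) ⊓ N := by
      rintro _ ⟨y, hy, rfl⟩
      refine ⟨?_, hN.conj_mem _ (hYC hy).1 g⟩
      rw [← hg, Sylow.smul_def, Sylow.pointwise_smul_def]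
      exact Subgroup.smul_mem_pointwise_smul _ _ _ (hP hy)
    calc Nat.card Y = Nat.card (Y.map (MulAut.conj g).toMonoidHom) :=
          (Subgroup.card_map_of_injective (MulAut.conj g).injective).symm
      _ ≤ Nat.card ↥((S : Subgroup G) ⊓ N) := Subgroup.card_le_of_le h1

/-- fusion into a central element of `S`: change the conjugating element. -/
theorem exists_conj_into (S : Sylow 2 G) (N : Subgroup G) (hN : N.Normal) {z : G}
    (hz : ∀ x ∈ S, x * z = z * x) {y h : G} (hh : h ∈ N) (hyz : h * y * h⁻¹ = z) {X : Subgroup G}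
    (hX : IsPGroup 2 X) (hXN : X ≤ N) (hXy : ∀ x ∈ X, x * y = y * x) :
    ∃ g ∈ N, g * y * g⁻¹ = z ∧ ∀ x ∈ X, g * x * g⁻¹ ∈ S := by
  obtain ⟨c, hc, h1⟩ := (mx_inf S N hN hz).exists_conj
    (Y := X.map (MulAut.conj h).toMonoidHom) (hX.map _) (by
      rintro _ ⟨x, hx, rfl⟩
      have h1 : h * x * h⁻¹ ∈ centralizer ({z} : Set G) := by
        rw [mem_centralizer_singleton_iff, ← hyz]
        have e1 : h * x * h⁻¹ * (h * y * h⁻¹) = h * (x * y) * h⁻¹ := by group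
        have e2 : h * y * h⁻¹ * (h * x * h⁻¹) = h * (y * x) * h⁻¹ := by group
        rw [e1, e2, hXy x hx]
      exact ⟨hN.conj_mem _ (hXN hx) h, h1⟩)
  refine ⟨c⁻¹ * h, mul_mem (inv_mem hc.1) hh, ?_, ?_⟩
  · have h2 : c * z = z * c := mem_centralizer_singleton_iff.mp hc.2
    have e1 : c⁻¹ * h * y * (c⁻¹ * h)⁻¹ = c⁻¹ * (h * y * h⁻¹) * c := by group
    rw [e1, hyz, mul_assoc, ← h2]; group
  · intro x hx
    have h2 := (h1 (h * x * h⁻¹) ⟨x, hx, rfl⟩).1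
    have e1 : c⁻¹ * h * x * (c⁻¹ * h)⁻¹ = c⁻¹ * (h * x * h⁻¹) * c := by group
    rw [e1]; exact h2

/-- a proper subgroup of an elementary abelian 2-group lies in a subgroup of index two. -/
theorem exists_hyper {Z Z0 : Subgroup G} (hZ : ∀ z ∈ Z, z * z = 1)
    (hc : ∀ z ∈ Z, ∀ w ∈ Z, z * w = w * z) (h0 : Z0 ≤ Z)
    (hne : Z0 ≠ Z) : ∃ Z1 : Subgroup G, Z0 ≤ Z1 ∧ Z1 ≤ Z ∧ Z1 ≠ Z ∧
      ∀ z ∈ Z, ∀ w ∈ Z, z ∉ Z1 → w ∉ Z1 → z * w ∈ Z1 := by
  classical
  -- a maximal proper subgroup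
  have hfin : {X : Subgroup G | Z0 ≤ X ∧ X ≤ Z ∧ X ≠ Z}.Finite := Set.toFinite _
  obtain ⟨Z1, hZ1⟩ := hfin.exists_maximal ⟨Z0, le_rfl, h0, hne⟩
  obtain ⟨h1, h2, h3⟩ := hZ1.prop
  refine ⟨Z1, h1, h2, h3, ?_⟩
  intro z hz w hw hz1 hw1
  -- the group `Z1 ∪ z Z1`
  let X : Subgroup G :=
    { carrier := {x | x ∈ Z ∧ (x ∈ Z1 ∨ z * x ∈ Z1)}
      one_mem' := ⟨one_mem _, Or.inl (one_mem _)⟩
      mul_mem' := by
        rintro a b ⟨ha, ha'⟩ ⟨hb, hb'⟩
        refine ⟨mul_mem ha hb, ?_⟩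
        rcases ha' with ha' | ha'
        · rcases hb' with hb' | hb'
          · exact Or.inl (mul_mem ha' hb')
          · right
            rw [← mul_assoc, hc z hz a ha, mul_assoc]
            exact mul_mem ha' hb'
        · rcases hb' with hb' | hb'
          · right
            rw [← mul_assoc]
            exact mul_mem ha' hb'
          · left
            have h4 := mul_mem ha' hb'
            have h5 : z * a * (z * b) = a * b := by
              calc z * a * (z * b) = z * (a * z) * b := by group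
                _ = z * (z * a) * b := by rw [hc a ha z hz]
                _ = (z * z) * (a * b) := by group
                _ = a * b := by rw [hZ z hz, one_mul]
            rwa [h5] at h4
      inv_mem' := by
        rintro a ⟨ha, ha'⟩
        have : a⁻¹ = a := by rw [inv_eq_iff_mul_eq_one, hZ a ha]
        rw [this]
        exact ⟨ha, ha'⟩ }
  have hX0 : Z0 ≤ X := fun x hx => ⟨h0 hx, Or.inl (h1 hx)⟩
  have hXZ : X ≤ Z := fun x hx => hx.1
  have hlt : Z1 ≤ X := fun x hx => ⟨h2 hx, Or.inl hx⟩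
  have hXeq : X = Z := by
    by_contra hX
    have h4 := hZ1.le_of_ge ⟨hX0, hXZ, hX⟩ hlt
    have h5 : z ∈ X := ⟨hz, Or.inr (by rw [hZ z hz]; exact one_mem _)⟩
    exact hz1 (h4 h5)
  have hwX : w ∈ X := by rw [hXeq]; exact hw
  rcases hwX.2 with h4 | h4
  · exact absurd h4 hw1
  · exact h4

end General

variable {G : Type*} [Group G] [Finite G] {K : Type*} [Field K] [Fintype K] [CharP K 2]
  {n : ℕ} {D : Pre G K n} {E : Subgroup G} {S : Sylow 2 G} {U R : Subgroup G} {e : G}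
  {τ k : G → K} (H : GOneL D E S U R e τ k)

include H

theorem z_mem_U {b : K} : D.z b ∈ U := H.P_le (D.z_mem b)

theorem e_inv : e⁻¹ = e := by rw [inv_eq_iff_mul_eq_one, H.ee]

theorem ss : (D.t * e) * (D.t * e) = 1 := by
  calc (D.t * e) * (D.t * e) = D.t * (e * D.t) * e := by group
    _ = (D.t * D.t) * (e * e) := by rw [← H.te]; group
    _ = 1 := by rw [D.t_sq, H.ee, one_mul]

theorem cmtz {x y : G} (hx : x ∈ U) (hy : y ∈ U) : ⁅x, y⁆ ∈ Card.Z D := by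
  rw [commutatorElement_def]; exact H.cmt x hx y hy

/-- involutions of `s U` are conjugate to `s = t e` -/
theorem s_cls {u : G} (hu : u ∈ U) (h : (u * (D.t * e)) * (u * (D.t * e)) = 1) :
    ∃ v ∈ U, u * (D.t * e) = v * (D.t * e) * v⁻¹ := by
  obtain ⟨p, hp, r, hr, rfl⟩ := H.PR u hu
  set s := D.t * e with hs
  have hsp : s * p * s⁻¹ = e * p * e⁻¹ := by
    have h1 := D.t_P _ (H.e_P p hp)
    calc s * p * s⁻¹ = D.t * (e * p * e⁻¹) * D.t⁻¹ := by rw [hs]; group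
      _ = _ := by rw [h1]; group
  have hsr : s * r * s⁻¹ = D.t * r * D.t⁻¹ := by
    calc s * r * s⁻¹ = D.t * (e * r) * e⁻¹ * D.t⁻¹ := by rw [hs]; group
      _ = _ := by rw [H.e_R r hr]; group
  set p' := e * p * e⁻¹ with hp'
  set r' := D.t * r * D.t⁻¹ with hr'
  have hp'P : p' ∈ D.P := H.e_P p hp
  have hr'R : r' ∈ R := H.t_R r hr
  obtain ⟨b, hb, hcm⟩ := H.cmt r (H.R_le hr) p' (H.P_le hp'P)
  have hcm' : r * p' = D.z b * p' * r := by rw [← hcm]; group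
  have hzp : p * D.z b = D.z b * p := H.Zc _ (H.U_le (H.P_le hp)) b hb
  -- `p p' r r' ∈ Z`
  have h1 : D.z b * (p * p') * (r * r') = 1 := by
    calc D.z b * (p * p') * (r * r') = (D.z b * p) * p' * r * r' := by group
      _ = p * (D.z b * p' * r) * r' := by rw [← hzp]; group
      _ = p * r * p' * r' := by rw [← hcm']; group
      _ = (p * r) * ((s * p * s⁻¹) * (s * r * s⁻¹)) := by rw [hsp, hsr]; group
      _ = (p * r * s) * (p * r * s) * (s * s)⁻¹ := by group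
      _ = 1 := by rw [h, ss H, inv_one, mul_one]
  have h2 : p * p' ∈ R := by
    have : p * p' = (D.z b)⁻¹ * (r * r')⁻¹ :=
      eq_inv_mul_iff_mul_eq.mpr (eq_inv_of_mul_eq_one_left h1)
    rw [this]
    exact mul_mem (inv_mem (H.Z_R b hb)) (inv_mem (mul_mem hr hr'R))
  obtain ⟨c, hc, h3⟩ := H.inf _ (mul_mem hp hp'P) h2
  have h4 : r * r' = D.z (b + c) := by
    rw [h3, ← D.z_add] at h1
    have := eq_inv_of_mul_eq_one_right h1
    rw [this, z_inv]
  obtain ⟨d, hd, hd'⟩ := H.sqU p (H.P_le hp)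
  obtain ⟨f, hf, hf'⟩ := H.sqU r (H.R_le hr)
  have h5 : e * p * e⁻¹ * p⁻¹ = D.z (c + d) := by
    have e1 : p⁻¹ = p * (D.z d)⁻¹ := by rw [← hd']; group
    have e2 : p⁻¹ * D.z c = D.z c * p⁻¹ := H.Zc _ (inv_mem (H.U_le (H.P_le hp))) c hc
    have e3 : p' = D.z c * p⁻¹ := by rw [← e2, ← h3]; group
    rw [← hp', e3, D.z_add, mul_assoc, ← _root_.mul_inv_rev, hd', z_inv]
  have h6 : D.t * r * D.t⁻¹ * r⁻¹ = D.z (b + c + f) := by
    have e2 : r⁻¹ * D.z (b + c) = D.z (b + c) * r⁻¹ :=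
      H.Zc _ (inv_mem (H.U_le (H.R_le hr))) _ (fixed_add hb hc)
    have e3 : r' = D.z (b + c) * r⁻¹ := by rw [← e2, ← h4]; group
    rw [← hr', e3, D.z_add (b + c), mul_assoc, ← _root_.mul_inv_rev, hf', z_inv]
  obtain ⟨hi1, hτ, v, hv, hve⟩ := H.inv_P p hp _ (fixed_add hc hd) h5
  obtain ⟨hi2, hk, v', hv', hvt⟩ := H.inv_R r hr _ (fixed_add (fixed_add hb hc) hf) h6
  refine ⟨v * v', mul_mem (H.P_le hv) (H.R_le hv'), ?_⟩
  have e1 : v' * s * v'⁻¹ = r * s := by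
    calc v' * s * v'⁻¹ = (v' * D.t * v'⁻¹) * (v' * e) * v'⁻¹ := by rw [hs]; group
      _ = (r * D.t) * (e * v') * v'⁻¹ := by rw [hvt, H.e_R v' hv']
      _ = r * s := by rw [hs]; group
  have e2 : v * s * v⁻¹ = p * s := by
    calc v * s * v⁻¹ = (v * D.t) * e * v⁻¹ := by rw [hs]; group
      _ = D.t * (v * e * v⁻¹) := by rw [← D.t_P v hv]; group
      _ = (D.t * p) * e := by rw [hve]; group
      _ = p * s := by rw [D.t_P p hp, hs]; group
  have e3 : v * r * v⁻¹ = r := by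
    have h7 := H.cmt_PR v hv r hr
    rw [hk, mul_zero, z_zero, mul_inv_eq_one] at h7
    exact h7
  have e4 : p * r = r * p := by
    have h7 := H.cmt_PR p hp r hr
    rw [hτ, zero_mul, z_zero, mul_inv_eq_one, mul_inv_eq_iff_eq_mul] at h7
    exact h7
  calc p * r * s = r * p * s := by rw [e4]
    _ = r * (v * s * v⁻¹) := by rw [e2]; group
    _ = (v * r * v⁻¹) * (v * s * v⁻¹) := by rw [e3]
    _ = v * (r * s) * v⁻¹ := by group
    _ = v * (v' * s * v'⁻¹) * v⁻¹ := by rw [e1]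
    _ = v * v' * s * (v * v')⁻¹ := by group

/-- (ii) involutions of `U s` are not fused into `Z` -/
theorem not_s {u : G} (hu : u ∈ U) (h : (u * (D.t * e)) * (u * (D.t * e)) = 1) (g : G) {b : K}
    (hb : bar n b = b) : g * (u * (D.t * e)) * g⁻¹ ≠ D.z b := by
  intro hg
  obtain ⟨v, hv, h1⟩ := s_cls H hu h
  rw [h1] at hg
  have hz : ∀ x ∈ S, x * D.z b = D.z b * x := fun x hx => H.Zc x hx b hb
  have hX : IsPGroup 2 (zpowers D.t) := by
    intro x
    obtain ⟨x, hx⟩ := x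
    obtain ⟨i, rfl⟩ := mem_zpowers_iff.mp hx
    refine ⟨1, Subtype.ext ?_⟩
    show (D.t ^ i) ^ 2 ^ 1 = 1
    rw [← zpow_natCast, ← zpow_mul, mul_comm, zpow_mul, zpow_natCast, pow_one, pow_two, D.t_sq,
      one_zpow]
  obtain ⟨g', -, h2, h3⟩ := exists_conj_into S ⊤ inferInstance hz (y := D.t * e) (h := g * v)
    (mem_top _) (by rw [← hg]; group) hX le_top (by
      intro x hx
      obtain ⟨i, rfl⟩ := mem_zpowers_iff.mp hx
      have : Commute D.t (D.t * e) := (Commute.refl _).mul_right H.te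
      exact (this.zpow_left i).eq)
  obtain ⟨x, hx, h4⟩ := H.fus g' (h3 _ (mem_zpowers _))
  refine H.fusC (x⁻¹ * g') ?_ b hb ?_
  · have e1 : x⁻¹ * g' * D.t = x⁻¹ * (g' * D.t * g'⁻¹) * g' := by group
    rw [e1, h4]; group
  · have e1 : x⁻¹ * g' * (D.t * e) * (x⁻¹ * g')⁻¹ = x⁻¹ * (g' * (D.t * e) * g'⁻¹) * x := by group
    rw [e1, h2, mul_assoc, ← hz x hx]; group

/-- `|S ∩ E| ≤ 4 q^5` -/
theorem card_T : Nat.card ↥((S : Subgroup G) ⊓ E) ≤ 4 * (2 ^ n) ^ 5 := by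
  have h1 : Nat.card (E.subgroupOf (S : Subgroup G)) * (E.subgroupOf (S : Subgroup G)).index =
      Nat.card S := Subgroup.card_mul_index _
  have h2 : (E.subgroupOf (S : Subgroup G)).index ≠ 1 := by
    rw [ne_eq, Subgroup.index_eq_one]
    intro h
    have : (⟨D.t, H.tS⟩ : (S : Subgroup G)) ∈ E.subgroupOf (S : Subgroup G) := by
      rw [h]; exact mem_top _
    exact H.t_E (mem_subgroupOf.mp this)
  have h3 : (E.subgroupOf (S : Subgroup G)).index ≠ 0 := Subgroup.index_ne_zero_of_finite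
  have h4 : 2 ≤ (E.subgroupOf (S : Subgroup G)).index := by omega
  have h5 : Nat.card (E.subgroupOf (S : Subgroup G)) = Nat.card ↥((S : Subgroup G) ⊓ E) := by
    rw [← Subgroup.card_map_of_injective (S : Subgroup G).subtype_injective,
      Subgroup.subgroupOf_map_subtype, inf_comm]
  rw [h5] at h1
  have h6 := H.cardS
  rw [← h1] at h6
  have h7 : Nat.card ↥((S : Subgroup G) ⊓ E) * 2 ≤ 8 * (2 ^ n) ^ 5 :=
    (Nat.mul_le_mul_left _ h4).trans h6
  omega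

theorem card_cent {u : G} (hu : u ∈ U) :
    (2 ^ n) ^ 4 ≤ Nat.card ↥(U ⊓ centralizer ({u} : Set G)) := by
  have h1 := Card.card_le_cent U (Card.Z D) u (fun x hx => H.cmt x hx u hu)
  rw [H.cardU, Card.card_Z] at h1
  have h2 : (2 ^ n) ^ 5 = (2 ^ n) ^ 4 * 2 ^ n := by ring
  rw [h2] at h1
  exact Nat.le_of_mul_le_mul_right h1 (by positivity)

theorem card_iso {X Z0 : Subgroup G} (hX : X ≤ U) (hZ0 : Z0 ≤ Card.Z D) (hne : Z0 ≠ Card.Z D)
    (hc : ∀ x ∈ X, ∀ y ∈ X, ⁅x, y⁆ ∈ Z0) : Nat.card X ≤ (2 ^ n) ^ 3 := by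
  have hsq : ∀ z ∈ Card.Z D, z * z = 1 := by
    rintro _ ⟨b, -, rfl⟩; exact z_self D b
  have hcc : ∀ z ∈ Card.Z D, ∀ w ∈ Card.Z D, z * w = w * z := by
    rintro _ ⟨b, -, rfl⟩ _ ⟨c, -, rfl⟩; exact z_comm D b c
  obtain ⟨Z1, h1, h2, h3, h4⟩ := exists_hyper hsq hcc hZ0 hne
  have h5 := IsoCard.card_sq_le (U := U) (H := X) (Z := Card.Z D) (Z1 := Z1) hX
    (fun x hx y hy => cmtz H hx hy) (by
      rintro x hx _ ⟨b, hb, rfl⟩
      exact H.Zc x (H.U_le hx) b hb) h2 h4 (fun x hx y hy => h1 (hc x hx y hy)) (by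
      intro v hv hvZ
      -- an element of `Z` outside `Z1`
      have h6 : ∃ z ∈ Card.Z D, z ∉ Z1 := by
        by_contra hcon
        push Not at hcon
        exact h3 (le_antisymm h2 hcon)
      obtain ⟨_, ⟨b, hb, rfl⟩, h7⟩ := h6
      obtain ⟨y, hy, h8⟩ := H.surj v hv (fun b hb h => hvZ ⟨b, hb, h⟩) b hb
      exact ⟨y, hy, by rw [commutatorElement_def, h8]; exact h7⟩)
  rw [H.cardU, Card.card_Z] at h5
  have h6 : (2 ^ n) ^ 5 * 2 ^ n = (2 ^ n) ^ 3 * (2 ^ n) ^ 3 := by ring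
  rw [h6] at h5
  exact Nat.mul_self_le_mul_self_iff.mp h5

/-- (i) involutions of `U - Z` are not fused into `Z` by elements of `E` -/
theorem not_U {u : G} (hu : u ∈ U) (huZ : u ∉ Card.Z D) {h : G} (hh : h ∈ E) {b : K}
    (hb : bar n b = b) : h * u * h⁻¹ ≠ D.z b := by
  intro hz
  have hzS : ∀ x ∈ S, x * D.z b = D.z b * x := fun x hx => H.Zc x hx b hb
  set B := U ⊓ centralizer ({u} : Set G) with hB
  have hB2 : IsPGroup 2 B := (S.isPGroup'.to_le H.U_le).to_le inf_le_left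
  obtain ⟨g, hgE, h1, h2⟩ := exists_conj_into S E H.E_normal hzS hh hz hB2
    (inf_le_left.trans H.U_E) (fun x hx => mem_centralizer_singleton_iff.mp hx.2)
  have hc4 := card_cent H hu
  rw [← hB] at hc4
  -- the image of `B`
  set X := B.map (MulAut.conj g).toMonoidHom with hX
  have hXcard : Nat.card X = Nat.card B :=
    Subgroup.card_map_of_injective (MulAut.conj g).injective
  have hXT : X ≤ (S : Subgroup G) ⊓ E := by
    rintro _ ⟨x, hx, rfl⟩
    exact ⟨h2 x hx, H.E_normal.conj_mem _ (H.U_E hx.1) g⟩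
  -- `|X ∩ U| ≥ |X| / 4`
  have h3 : Nat.card X ≤ Nat.card ↥(X ⊓ U) * 4 := by
    have h4 : (U.relIndex X) ≤ 4 := by
      have h5 : U.relIndex X ≤ U.relIndex ((S : Subgroup G) ⊓ E) :=
        Subgroup.relIndex_le_of_le_right hXT Subgroup.index_ne_zero_of_finite
      have h6 : Nat.card U * U.relIndex ((S : Subgroup G) ⊓ E) =
          Nat.card ↥((S : Subgroup G) ⊓ E) := by
        have := Subgroup.relIndex_mul_relIndex (⊥ : Subgroup G) U ((S : Subgroup G) ⊓ E) bot_le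
          (le_inf H.U_le H.U_E)
        rwa [Subgroup.relIndex_bot_left, Subgroup.relIndex_bot_left] at this
      have h7 := card_T H
      rw [← h6, H.cardU, mul_comm] at h7
      have h8 : U.relIndex ((S : Subgroup G) ⊓ E) ≤ 4 :=
        Nat.le_of_mul_le_mul_right h7 (by positivity)
      exact h5.trans h8
    have h5 : Nat.card ↥(X ⊓ U) * U.relIndex X = Nat.card X := by
      have := Subgroup.relIndex_mul_relIndex (⊥ : Subgroup G) (U ⊓ X) X bot_le inf_le_right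
      rwa [Subgroup.relIndex_bot_left, Subgroup.relIndex_bot_left, Subgroup.inf_relIndex_right,
        inf_comm] at this
    rw [← h5]
    exact Nat.mul_le_mul_left _ h4
  -- commutators of `X ∩ U`
  let Z' : Subgroup G := (Card.Z D).map (MulAut.conj g).toMonoidHom
  have hZ' : ∀ x ∈ X, ∀ y ∈ X, ⁅x, y⁆ ∈ Z' := by
    rintro _ ⟨x, hx, rfl⟩ _ ⟨y, hy, rfl⟩
    refine ⟨⁅x, y⁆, cmtz H hx.1 hy.1, ?_⟩
    rw [map_commutatorElement]
  by_cases hne : Card.Z D ⊓ Z' = Card.Z D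
  · -- then `Z' = Z`, so `u ∈ Z`
    have h5 : Card.Z D ≤ Z' := by rw [← hne]; exact inf_le_right
    have h6 : Card.Z D = Z' := Subgroup.eq_of_le_of_card_ge h5
      (Subgroup.card_map_of_injective (MulAut.conj g).injective).le
    have h7 : D.z b ∈ Z' := by rw [← h6]; exact ⟨b, hb, rfl⟩
    obtain ⟨w, hw, h8⟩ := h7
    have h9 : w = u := by
      apply (MulAut.conj g).injective
      rw [show (MulAut.conj g) w = D.z b from h8, MulAut.conj_apply, h1]
    exact huZ (by rw [← h9]; exact hw)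
  · have h5 := card_iso H (X := X ⊓ U) inf_le_right inf_le_left hne
      (fun x hx y hy => ⟨cmtz H hx.2 hy.2, hZ' x hx.1 y hy.1⟩)
    have h6 : (2 ^ n) ^ 4 ≤ (2 ^ n) ^ 3 * 4 := by
      calc (2 ^ n) ^ 4 ≤ Nat.card B := hc4
        _ = Nat.card X := hXcard.symm
        _ ≤ Nat.card ↥(X ⊓ U) * 4 := h3
        _ ≤ (2 ^ n) ^ 3 * 4 := Nat.mul_le_mul_right _ h5
    have h7 : (2 ^ n) ^ 4 = (2 ^ n) ^ 3 * 2 ^ n := by ring
    rw [h7] at h6
    have h8 : 2 ^ n ≤ 4 := Nat.le_of_mul_le_mul_left h6 (by positivity)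
    have h9 : 2 ^ 3 ≤ 2 ^ n := Nat.pow_le_pow_right (by norm_num) H.n3
    omega

/-- the elements of `S ∩ E`: in `U`, in `U s`, or swaps. -/
theorem cases_T {x : G} (hx : x ∈ S) (hxE : x ∈ E) : x ∈ U ∨ (∃ u ∈ U, x = u * (D.t * e)) ∨
    ∃ p ∈ D.P, x * D.t * x⁻¹ = p * e * p⁻¹ := by
  rcases H.cls x hx with ⟨u, hu, h⟩ | h
  · have h1 : u⁻¹ * x * D.t = D.t * (u⁻¹ * x) := by
      have e1 : u⁻¹ * x * D.t = u⁻¹ * (x * D.t * x⁻¹) * x := by group
      rw [e1, h]; group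
    have hS : u⁻¹ * x ∈ S := mul_mem (inv_mem (H.U_le hu)) hx
    have hE : u⁻¹ * x ∈ E := mul_mem (inv_mem (H.U_E hu)) hxE
    have hPE : ∀ {y}, y ∈ D.P → y ∈ E := fun hy => H.U_E (H.P_le hy)
    rcases H.Xi _ hS h1 with h2 | h2 | h2 | h2
    · left
      have : x = u * (u⁻¹ * x) := by group
      rw [this]; exact mul_mem hu (H.P_le h2)
    · exfalso
      have h3 := mul_mem (hPE h2) (inv_mem hE)
      rw [mul_inv_cancel_right] at h3
      exact H.t_E h3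
    · exfalso
      have h3 := mul_mem (hPE h2) (inv_mem hE)
      rw [mul_inv_cancel_right] at h3
      exact H.e_E h3
    · right; left
      -- `u⁻¹ x = s p`
      set s := D.t * e with hs
      set p := s * (u⁻¹ * x) with hp
      have h3 : s * p * s⁻¹ ∈ U := H.U_norm s (mul_mem H.tS H.eS) p (H.P_le h2)
      refine ⟨u * (s * p * s⁻¹), mul_mem hu h3, ?_⟩
      have h4 : u⁻¹ * x = s * p := by
        rw [hp, ← mul_assoc, ss H, one_mul]
      calc x = u * (u⁻¹ * x) := by group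
        _ = u * (s * p) := by rw [h4]
        _ = _ := by group
  · exact Or.inr (Or.inr h)

/-- a swap conjugates `P` to `R` -/
theorem swap_P {x : G} (hx : x ∈ S) {p : G} (hp : p ∈ D.P)
    (h : x * D.t * x⁻¹ = p * e * p⁻¹) {v : G} (hv : v ∈ D.P) : x * v * x⁻¹ ∈ R := by
  have hu : x * v * x⁻¹ ∈ U := H.U_norm x hx v (H.P_le hv)
  have h1 : x * v * x⁻¹ * (p * e * p⁻¹) = (p * e * p⁻¹) * (x * v * x⁻¹) := by
    rw [← h]
    calc x * v * x⁻¹ * (x * D.t * x⁻¹) = x * (v * D.t) * x⁻¹ := by group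
      _ = x * (D.t * v) * x⁻¹ := by rw [D.t_P v hv]
      _ = _ := by group
  set w := x * v * x⁻¹ with hw
  have h2 : p⁻¹ * w * p ∈ R := by
    apply H.R_e
    · exact mul_mem (mul_mem (inv_mem (H.P_le hp)) hu) (H.P_le hp)
    · calc p⁻¹ * w * p * e = p⁻¹ * (w * (p * e * p⁻¹)) * p := by group
        _ = p⁻¹ * ((p * e * p⁻¹) * w) * p := by rw [h1]
        _ = e * (p⁻¹ * w * p) := by group
  -- `w = [w, p] ...` differs from `p⁻¹ w p` by an element of `Z`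
  obtain ⟨b, hb, h3⟩ := H.cmt w hu p⁻¹ (inv_mem (H.P_le hp))
  rw [inv_inv] at h3
  have h4 : w = D.z b * (p⁻¹ * w * p) := by
    have h5 : w⁻¹ * D.z b = D.z b * w⁻¹ := H.Zc _ (inv_mem (H.U_le hu)) b hb
    have h6 : p⁻¹ * w⁻¹ * p = w⁻¹ * D.z b := by rw [← h3]; group
    have h7 : (p⁻¹ * w * p)⁻¹ = D.z b * w⁻¹ := by
      rw [← h5, ← h6]; group
    have h8 : p⁻¹ * w * p = w * (D.z b)⁻¹ := by
      rw [← inv_inj, h7]; group
    rw [h8, z_inv, ← mul_assoc, ← H.Zc w (H.U_le hu) b hb, mul_assoc, z_self, mul_one]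
  rw [h4]
  exact mul_mem (H.Z_R b hb) h2

/-- swaps are conjugate to their products with elements of `Z` -/
theorem swap_z {w : G} (hw : w ∈ S) (hw2 : w * w = 1) {p : G} (hp : p ∈ D.P)
    (h : w * D.t * w⁻¹ = p * e * p⁻¹) {b : K} (hb : bar n b = b) :
    ∃ u ∈ U, u⁻¹ * w * u = w * D.z b := by
  have hR : ∀ {v}, v ∈ D.P → w * v * w⁻¹ ∈ R := fun hv => swap_P H hw hp h hv
  have hwi : w⁻¹ = w := by rw [inv_eq_iff_mul_eq_one, hw2]
  -- symmetry
  have hsym : ∀ v ∈ D.P, ∀ v' ∈ D.P, τ v * k (w * v' * w⁻¹) = τ v' * k (w * v * w⁻¹) := by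
    intro v hv v' hv'
    have h1 := H.cmt_PR v hv _ (hR hv')
    have h2 := H.cmt_PR v' hv' _ (hR hv)
    have hf1 : bar n (τ v * k (w * v' * w⁻¹)) = τ v * k (w * v' * w⁻¹) :=
      fixed_mul (H.τ_fix v hv) (H.k_fix _ (hR hv'))
    have hf2 : bar n (τ v' * k (w * v * w⁻¹)) = τ v' * k (w * v * w⁻¹) :=
      fixed_mul (H.τ_fix v' hv') (H.k_fix _ (hR hv))
    apply z_eq D hf1 hf2
    rw [← h1, ← z_inv D (τ v' * k (w * v * w⁻¹)), ← h2]
    -- conjugate the second one by `w`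
    have h3 : w * (v' * (w * v * w⁻¹) * v'⁻¹ * (w * v * w⁻¹)⁻¹)⁻¹ * w⁻¹ =
        (v' * (w * v * w⁻¹) * v'⁻¹ * (w * v * w⁻¹)⁻¹)⁻¹ := by
      rw [h2, z_inv, H.Zc w hw _ hf2, mul_inv_cancel_right]
    rw [← h3]
    have h4 : w * (w * v * w⁻¹) * w⁻¹ = v := by
      calc w * (w * v * w⁻¹) * w⁻¹ = (w * w) * v * (w * w)⁻¹ := by group
        _ = v := by rw [hw2]; group
    calc v * (w * v' * w⁻¹) * v⁻¹ * (w * v' * w⁻¹)⁻¹
        = (w * (w * v * w⁻¹) * w⁻¹) * (w * v' * w⁻¹) * (w * (w * v * w⁻¹) * w⁻¹)⁻¹ *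
            (w * v' * w⁻¹)⁻¹ := by rw [h4]
      _ = w * (v' * (w * v * w⁻¹) * v'⁻¹ * (w * v * w⁻¹)⁻¹)⁻¹ * w⁻¹ := by group
  obtain ⟨v1, hv1, hτ1⟩ := H.τ_surj 1 (bar_one n)
  set c := k (w * v1 * w⁻¹) with hc
  have hcf : bar n c = c := H.k_fix _ (hR hv1)
  have hlin : ∀ v ∈ D.P, k (w * v * w⁻¹) = c * τ v := by
    intro v hv
    have := hsym v1 hv1 v hv
    rw [hτ1, one_mul] at this
    rw [this, hc, mul_comm]
  -- `c ≠ 0`: `R` is the image of `P`
  have hc0 : c ≠ 0 := by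
    intro h0
    obtain ⟨r, hr, hkr⟩ := H.k_ne
    apply hkr
    -- `w⁻¹ r w ∈ P`
    have h1 : w⁻¹ * r * w ∈ D.P := by
      have hu : w⁻¹ * r * w ∈ U := by
        have := H.U_norm _ (inv_mem hw) r (H.R_le hr)
        rwa [inv_inv] at this
      apply H.P_t _ hu
      -- `r` commutes with `p e p⁻¹`
      have h2 : r * (p * e * p⁻¹) = (p * e * p⁻¹) * r := by
        obtain ⟨b', hb', h3⟩ := H.cmt p⁻¹ (inv_mem (H.P_le hp)) r (H.R_le hr)
        rw [inv_inv] at h3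
        have h4 : p⁻¹ * r * p = D.z b' * r := by rw [← h3]; group
        have h5 : D.z b' * r ∈ R := mul_mem (H.Z_R b' hb') hr
        have h6 : e * (p⁻¹ * r * p) = (p⁻¹ * r * p) * e := by rw [h4]; exact H.e_R _ h5
        calc r * (p * e * p⁻¹) = p * ((p⁻¹ * r * p) * e) * p⁻¹ := by group
          _ = p * (e * (p⁻¹ * r * p)) * p⁻¹ := by rw [h6]
          _ = _ := by group
      rw [← h] at h2
      calc w⁻¹ * r * w * D.t = w⁻¹ * (r * (w * D.t * w⁻¹)) * w := by group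
        _ = w⁻¹ * ((w * D.t * w⁻¹) * r) * w := by rw [h2]
        _ = D.t * (w⁻¹ * r * w) := by group
    have h2 := hlin _ h1
    rw [h0, zero_mul] at h2
    have e1 : w * (w⁻¹ * r * w) * w⁻¹ = r := by group
    rwa [e1] at h2
  -- choose `v` with `c (τ v)² = b`
  obtain ⟨x0, hx0, hx0'⟩ : ∃ x : K, bar n x = x ∧ c * (x * x) = b := by
    have hbc : bar n (b / c) = b / c := by
      rw [div_eq_mul_inv]; exact fixed_mul hb (fixed_inv hcf)
    -- square roots of fixed elements are fixed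
    obtain ⟨x, hx⟩ : ∃ x : K, x * x = b / c := by
      obtain ⟨x, hx⟩ := FiniteField.isSquare_of_char_two (ringChar.eq K 2) (b / c)
      exact ⟨x, hx.symm⟩
    refine ⟨x, ?_, ?_⟩
    · have h1 : (bar n x) * (bar n x) = x * x := by rw [← bar_mul, hx, hbc]
      have h2 : (bar n x + x) * (bar n x + x) = 0 := by
        have := add_self (K := K) (x * x)
        have h3 := add_self (K := K) (bar n x * x)
        linear_combination h1 + h3 + this
      have h3 := mul_self_eq_zero.mp h2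
      exact Field.add_eq_zero.mp h3
    · rw [hx]; field_simp
  obtain ⟨v, hv, hτv⟩ := H.τ_surj x0 hx0
  refine ⟨v * (w * v * w⁻¹), mul_mem (H.P_le hv) (H.R_le (hR hv)), ?_⟩
  set v' := w * v * w⁻¹ with hv'
  have h1 := H.cmt_PR v⁻¹ (inv_mem hv) v'⁻¹ (inv_mem (hR hv))
  have hτi : τ v⁻¹ = τ v := by
    have h2 := H.τ_mul v hv v⁻¹ (inv_mem hv)
    have h3 := H.τ_mul 1 (one_mem _) 1 (one_mem _)
    rw [one_mul] at h3
    rw [mul_inv_cancel, left_eq_add.mp h3] at h2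
    exact (Field.add_eq_zero.mp h2.symm).symm
  have hki : k v'⁻¹ = k v' := by
    have h2 := H.k_mul v' (hR hv) v'⁻¹ (inv_mem (hR hv))
    have h3 := H.k_mul 1 (one_mem _) 1 (one_mem _)
    rw [one_mul] at h3
    rw [mul_inv_cancel, left_eq_add.mp h3] at h2
    exact (Field.add_eq_zero.mp h2.symm).symm
  rw [hτi, hki, hlin v hv, hτv, inv_inv, inv_inv] at h1
  have h2 : x0 * (c * x0) = b := by rw [← hx0']; ring
  rw [h2] at h1
  have h3 : w * v' * w⁻¹ = v := by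
    rw [hv']
    calc w * (w * v * w⁻¹) * w⁻¹ = (w * w) * v * (w * w)⁻¹ := by group
      _ = v := by rw [hw2]; group
  calc (v * v')⁻¹ * w * (v * v') = v'⁻¹ * v⁻¹ * (w * v * w⁻¹) * (w * v' * w⁻¹) * w := by group
    _ = v'⁻¹ * v⁻¹ * v' * v * w := by rw [h3]
    _ = D.z b * w := by
        have h4 : v'⁻¹ * v⁻¹ * v' * v = (v⁻¹ * v'⁻¹ * v * v')⁻¹ := by group
        rw [h4, h1, z_inv]
    _ = w * D.z b := (H.Zc w hw b hb).symm

/-- (iii) swaps are not fused into `Z` by elements of `E` -/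
theorem not_swap {y : G} (hy : y ∈ S) (hyE : y ∈ E) (hy2 : y * y = 1) {p : G} (hp : p ∈ D.P)
    (hsw : y * D.t * y⁻¹ = p * e * p⁻¹) {h : G} (hh : h ∈ E) {b : K} (hb : bar n b = b) :
    h * y * h⁻¹ ≠ D.z b := by
  intro hz
  have hyi : y⁻¹ = y := by rw [inv_eq_iff_mul_eq_one, hy2]
  have hti : D.t⁻¹ = D.t := t_inv D
  have hzS : ∀ x ∈ S, x * D.z b = D.z b * x := fun x hx => H.Zc x hx b hb
  set y' := D.t * y * D.t⁻¹ with hy'
  have hy'2 : y' * y' = 1 := by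
    calc y' * y' = D.t * (y * y) * D.t⁻¹ := by rw [hy']; group
      _ = 1 := by rw [hy2]; group
  have hy'i : y'⁻¹ = y' := by rw [inv_eq_iff_mul_eq_one, hy'2]
  have hy'S : y' ∈ S := mul_mem (mul_mem H.tS hy) (inv_mem H.tS)
  have hy'E : y' ∈ E := H.E_normal.conj_mem _ hyE D.t
  -- `y y' = u s`
  set u := p * (e * p⁻¹ * e⁻¹) with hu
  have huU : u ∈ U := mul_mem (H.P_le hp) (H.P_le (H.e_P _ (inv_mem hp)))
  have hyy : y * y' = u * (D.t * e) := by
    calc y * y' = (y * D.t * y⁻¹) * (y * y) * D.t⁻¹ := by rw [hy']; group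
      _ = (p * e * p⁻¹) * D.t := by rw [hsw, hy2, hti, mul_one]
      _ = (p * e) * (D.t * p⁻¹) := by rw [D.t_P _ (inv_mem hp)]; group
      _ = p * (D.t * e) * p⁻¹ := by rw [H.te]; group
      _ = (p * D.t) * e * p⁻¹ := by group
      _ = (D.t * p) * e * p⁻¹ := by rw [D.t_P p hp]
      _ = D.t * (p * (e * p⁻¹ * e⁻¹)) * e := by group
      _ = D.t * u * e := by rw [hu]
      _ = u * D.t * e := by rw [D.t_P u (mul_mem hp (H.e_P _ (inv_mem hp)))]
      _ = u * (D.t * e) := by group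
  have hinv : (y * y') * (y * y') = 1 := by
    -- `d = p e p⁻¹` commutes with `t`
    have h1 : (p * e * p⁻¹) * D.t = D.t * (p * e * p⁻¹) := by
      calc (p * e * p⁻¹) * D.t = p * e * (D.t * p⁻¹) := by rw [D.t_P _ (inv_mem hp)]; group
        _ = p * (D.t * e) * p⁻¹ := by rw [H.te]; group
        _ = (D.t * p) * e * p⁻¹ := by rw [D.t_P p hp]; group
        _ = _ := by group
    have h2 : y * y' = (p * e * p⁻¹) * D.t := by
      calc y * y' = (y * D.t * y⁻¹) * (y * y) * D.t⁻¹ := by rw [hy']; group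
        _ = (p * e * p⁻¹) * D.t := by rw [hsw, hy2, hti, mul_one]
    rw [h2]
    calc (p * e * p⁻¹) * D.t * ((p * e * p⁻¹) * D.t)
        = (p * e * p⁻¹) * (D.t * (p * e * p⁻¹)) * D.t := by group
      _ = (p * e * p⁻¹) * ((p * e * p⁻¹) * D.t) * D.t := by rw [h1]
      _ = p * (e * e) * p⁻¹ * (D.t * D.t) := by group
      _ = 1 := by rw [H.ee, D.t_sq]; group
  have hcomm : y' * y = y * y' := by
    have : (y * y')⁻¹ = y * y' := by rw [inv_eq_iff_mul_eq_one, hinv]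
    rw [← this, _root_.mul_inv_rev, hyi, hy'i]
  have hns : ∀ (g : G) {c : K}, bar n c = c → g * (y * y') * g⁻¹ ≠ D.z c := by
    intro g c hc
    rw [hyy]
    exact not_s H huU (by rw [← hyy]; exact hinv) g hc
  -- conjugate
  have hX : IsPGroup 2 (zpowers y') := by
    intro x
    obtain ⟨x, hx⟩ := x
    obtain ⟨i, rfl⟩ := mem_zpowers_iff.mp hx
    refine ⟨1, Subtype.ext ?_⟩
    show (y' ^ i) ^ 2 ^ 1 = 1
    rw [← zpow_natCast, ← zpow_mul, mul_comm, zpow_mul, zpow_natCast, pow_one, pow_two, hy'2,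
      one_zpow]
  obtain ⟨g, hgE, h1, h2⟩ := exists_conj_into S E H.E_normal hzS hh hz hX
    (by rw [zpowers_le]; exact hy'E) (by
      intro x hx
      obtain ⟨i, rfl⟩ := mem_zpowers_iff.mp hx
      exact (Commute.zpow_left (show Commute y' y from hcomm) i).eq)
  set w := g * y' * g⁻¹ with hw
  have hwS : w ∈ S := h2 _ (mem_zpowers _)
  have hwE : w ∈ E := H.E_normal.conj_mem _ hy'E g
  have hw2 : w * w = 1 := by
    calc w * w = g * (y' * y') * g⁻¹ := by rw [hw]; group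
      _ = 1 := by rw [hy'2]; group
  -- `w` is fused to `z b`
  set g1 := (D.t * h * D.t⁻¹) * g⁻¹ with hg1
  have hg1E : g1 ∈ E := mul_mem (H.E_normal.conj_mem _ hh D.t) (inv_mem hgE)
  have hwz : g1 * w * g1⁻¹ = D.z b := by
    calc g1 * w * g1⁻¹ = D.t * (h * y * h⁻¹) * D.t⁻¹ := by rw [hg1, hw, hy']; group
      _ = D.z b := by rw [hz, hzS _ H.tS, mul_inv_cancel_right]
  have hzw : D.z b * w = g * (y * y') * g⁻¹ := by rw [← h1, hw]; group
  rcases cases_T H hwS hwE with h3 | ⟨v, hv, h3⟩ | ⟨p', hp', h3⟩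
  · by_cases h4 : w ∈ Card.Z D
    · obtain ⟨c, hc, h5⟩ := h4
      rw [h5, ← D.z_add] at hzw
      exact hns g (fixed_add hb hc) hzw.symm
    · exact not_U H h3 h4 hg1E hb hwz
  · refine not_s H hv (by rw [← h3]; exact hw2) g1 hb ?_
    rw [← h3]; exact hwz
  · obtain ⟨v, hv, h4⟩ := swap_z H hwS hw2 hp' h3 hb
    rw [hzS w hwS, hzw] at h4
    -- `v⁻¹ w v = g (y y') g⁻¹`
    refine hns (g1 * v * g) hb ?_
    calc g1 * v * g * (y * y') * (g1 * v * g)⁻¹ = g1 * v * (g * (y * y') * g⁻¹) * v⁻¹ * g1⁻¹ := by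
          group
      _ = g1 * v * (v⁻¹ * w * v) * v⁻¹ * g1⁻¹ := by rw [h4]
      _ = g1 * w * g1⁻¹ := by group
      _ = D.z b := hwz

/-- **`Z` is strongly closed in `S ∩ E` with respect to `E`.** -/
theorem closed {x : G} (hx : x ∈ Card.Z D) {g : G} (hg : g ∈ E) (hS : g * x * g⁻¹ ∈ S) :
    g * x * g⁻¹ ∈ Card.Z D := by
  obtain ⟨b, hb, rfl⟩ := hx
  by_contra hcon
  have hE : g * D.z b * g⁻¹ ∈ E := H.E_normal.conj_mem _ (H.U_E (z_mem_U H)) g
  have h2 : (g * D.z b * g⁻¹) * (g * D.z b * g⁻¹) = 1 := by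
    calc (g * D.z b * g⁻¹) * (g * D.z b * g⁻¹) = g * (D.z b * D.z b) * g⁻¹ := by group
      _ = 1 := by rw [z_self]; group
  have hback : g⁻¹ * (g * D.z b * g⁻¹) * g⁻¹⁻¹ = D.z b := by group
  rcases cases_T H hS hE with h3 | ⟨v, hv, h3⟩ | ⟨p', hp', h3⟩
  · exact not_U H h3 hcon (inv_mem hg) hb hback
  · refine not_s H hv (by rw [← h3]; exact h2) g⁻¹ hb ?_
    rw [← h3]; exact hback
  · exact not_swap H hS hE h2 hp' h3 (inv_mem hg) hb hback

end Cfsg.Agent.StdU3.GOneL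
end

-- part: StdU3/GOneLAb
section
/-!
# Type `g1` with `[P, P_e] ≠ 1`: the output
-/

set_option autoImplicit false
set_option linter.unusedSectionVars false
set_option linter.dupNamespace false

namespace Cfsg.Agent.StdU3.GOneLAb

open Subgroup Cfsg.Agent.StdU3.Field Cfsg.Agent.StdU3.PreDef Cfsg.Agent.StdU3.GOneLDef
  Cfsg.Agent.StdU3.MainDef

/-- the abelian output from elementwise data in `G`. -/
theorem ab_of {G : Type*} [Group G] [Finite G] (S : Sylow 2 G) (E : Subgroup G) (hE : E.Normal)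
    (W : Subgroup G) (hWS : W ≤ S) (hWE : W ≤ E) (hW : ∀ x ∈ W, ∀ y ∈ W, x * y = y * x)
    (hne : W ≠ ⊥) (hcl : ∀ x ∈ W, ∀ g ∈ E, g * x * g⁻¹ ∈ S → g * x * g⁻¹ ∈ W)
    (hcard : 16 ≤ Nat.card ↥((S : Subgroup G) ⊓ E)) : Ab E := by
  have : Fact (Nat.Prime 2) := ⟨Nat.prime_two⟩
  let T : Sylow 2 E := (Lib.SylowNormalInf.isPGroup_subgroupOf S E).toSylow
    (Lib.SylowNormalInf.not_dvd_relIndex S E)
  have hT : (T : Subgroup E) = (S : Subgroup G).subgroupOf E := rfl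
  refine ⟨T, W.subgroupOf E, ⟨?_, ?_⟩, ?_, ?_, ?_⟩
  · rw [hT]
    intro x hx
    exact mem_subgroupOf.mpr (hWS (mem_subgroupOf.mp hx))
  · rintro x hx g hg
    rw [hT, mem_subgroupOf] at hg
    exact mem_subgroupOf.mpr (hcl x (mem_subgroupOf.mp hx) g g.2 hg)
  · refine ⟨⟨?_⟩⟩
    rintro ⟨x, hx⟩ ⟨y, hy⟩
    apply Subtype.ext
    apply Subtype.ext
    exact hW x (mem_subgroupOf.mp hx) y (mem_subgroupOf.mp hy)
  · intro h
    apply hne
    rw [Subgroup.eq_bot_iff_forall]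
    intro x hx
    have h1 : (⟨x, hWE hx⟩ : E) ∈ W.subgroupOf E := mem_subgroupOf.mpr hx
    rw [h, mem_bot] at h1
    exact congrArg Subtype.val h1
  · have h5 : Nat.card ((S : Subgroup G).subgroupOf E) = Nat.card ↥((S : Subgroup G) ⊓ E) := by
      rw [← Subgroup.card_map_of_injective E.subtype_injective, Subgroup.subgroupOf_map_subtype]
    show 16 ≤ Nat.card ↥((S : Subgroup G).subgroupOf E)
    rw [h5]; exact hcard

variable {G : Type*} [Group G] [Finite G] {K : Type*} [Field K] [Fintype K] [CharP K 2]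
  {n : ℕ} {D : Pre G K n} {E : Subgroup G} {S : Sylow 2 G} {U R : Subgroup G} {e : G}
  {τ k : G → K}

/-- **(B)** -/
theorem ab (H : GOneL D E S U R e τ k) : Ab E := by
  have hn := H.n3
  have h8 : 8 ≤ 2 ^ n := by
    calc 8 = 2 ^ 3 := by norm_num
      _ ≤ 2 ^ n := Nat.pow_le_pow_right (by norm_num) hn
  have hZU : Card.Z D ≤ U := by
    rintro _ ⟨b, -, rfl⟩; exact GOneL.z_mem_U H
  refine ab_of S E H.E_normal (Card.Z D) (hZU.trans H.U_le) (hZU.trans H.U_E) ?_ ?_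
    (fun x hx g hg h => GOneL.closed H hx hg h) ?_
  · rintro _ ⟨b, -, rfl⟩ _ ⟨c, -, rfl⟩
    exact LevelOne.z_comm D b c
  · intro h
    have h1 := Card.card_Z D
    rw [h, Subgroup.card_bot] at h1
    omega
  · calc 16 ≤ 8 ^ 5 := by norm_num
      _ ≤ (2 ^ n) ^ 5 := Nat.pow_le_pow_left h8 5
      _ = Nat.card U := H.cardU.symm
      _ ≤ _ := Subgroup.card_le_of_le (le_inf H.U_le H.U_E)

theorem out (H : GOneL D E S U R e τ k) : Out D.t E := ⟨H.t_E, Or.inr (ab H)⟩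

end Cfsg.Agent.StdU3.GOneLAb
end

-- part: StdU3/GOneLMk
section
/-!
# Type `g1`, `[P, P_e] ≠ 1`, `n` odd: the structure `GOneL`
-/

set_option autoImplicit false
set_option linter.unusedSectionVars false
set_option linter.dupNamespace false
set_option linter.style.haveILetI false

namespace Cfsg.Agent.StdU3.GOneLMk

open Subgroup Cfsg.Agent.StdU3.Field Cfsg.Agent.StdU3.PreDef Cfsg.Agent.StdU3.FldDef
open Cfsg.Agent.StdU3.LevelOne Cfsg.Agent.StdU3.FieldAut Cfsg.Agent.StdU3.Rank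
open Cfsg.Agent.StdU3.OutInv Cfsg.Agent.StdU3.TermDef Cfsg.Agent.StdU3.LemC
open Cfsg.Agent.StdU3.Swap Cfsg.Agent.StdU3.EndN Cfsg.Agent.StdU3.GOneSyl
open Cfsg.Agent.StdU3.GOneSyl.G1 Cfsg.Agent.StdU3.MainDef Cfsg.Agent.StdU3.GOneOdd
open Cfsg.Agent.StdU3.GOneLDef Cfsg.Agent.StdU3.Tower.Cen Cfsg.Agent.StdU3.Tower.Two
open Cfsg.Agent.StdU3.NormQ hiding barE

variable {G : Type*} [Group G] [Finite G] {K : Type*} [Field K] [Fintype K] [CharP K 2] {n : ℕ}
variable {D : Pre G K n} {F : Fld D} {T : Term D} {e y : G} (H : G1 F T e y)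

/-! ### Squares and commutators of `U` -/

include H

theorem sq_Pe {r : G} (hr : r ∈ Pe D y) : ∃ b, bar n b = b ∧ r * r = D.z b := by
  obtain ⟨c, hc, h⟩ := H.hy.z _ (fixed_N D.hq (D.ca (y⁻¹ * r * y)))
  refine ⟨c, hc, ?_⟩
  rw [← h, ← D.P_sq _ (mem_Pe.mp hr)]; group

theorem sq_U {x : G} (hx : x ∈ T.U) : ∃ b, bar n b = b ∧ x * x = D.z b := by
  obtain ⟨p, hp, r, hr, rfl⟩ := H.PPe x hx
  obtain ⟨c, hc, h1⟩ := H.cz (H.Pe_le hr) (T.P_le hp)
  obtain ⟨b, hb, h2⟩ := sq_Pe H hr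
  refine ⟨N n (D.ca p) + b + c, fixed_add (fixed_add (fixed_N D.hq _) hb) hc, ?_⟩
  have h3 := H.z_cen (T.P_le hp) c
  calc p * r * (p * r) = p * (r * p) * r := by group
    _ = (p * D.z c) * p * (r * r) := by rw [h1]; group
    _ = D.z c * (p * p) * (r * r) := by rw [h3]; group
    _ = D.z c * D.z (N n (D.ca p)) * D.z b := by rw [D.P_sq p hp, h2]
    _ = _ := by rw [← D.z_add, ← D.z_add]; congr 1; ring

theorem cmt_U {x x' : G} (hx : x ∈ T.U) (hx' : x' ∈ T.U) :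
    ∃ b, bar n b = b ∧ x * x' * x⁻¹ * x'⁻¹ = D.z b := by
  obtain ⟨c, hc, h⟩ := H.cz hx hx'
  exact ⟨c, hc, by rw [h]; group⟩

/-- `|U| = q⁵` -/
theorem card_U : Nat.card T.U = (2 ^ n) ^ 5 := by
  -- `P × P_e → U` has fibres of size `q`
  have hP := Card.card_P D
  have hPe : Nat.card (Pe D y) = (2 ^ n) ^ 3 := by
    unfold Pe
    rw [Subgroup.card_map_of_injective (MulAut.conj y).injective, hP]
  have hZ := Card.card_Z D
  let f : (D.P × Pe D y) → T.U := fun x => ⟨(x.1 : G) * (x.2 : G), mul_mem (T.P_le x.1.2) (H.Pe_le x.2.2)⟩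
  have hf : ∀ x, ((f x : T.U) : G) = (x.1 : G) * (x.2 : G) := fun x => rfl
  choose g hg using (fun u : T.U => H.PPe u u.2)
  choose hgP r hr hgr using hg
  have hinf : ∀ x, x ∈ D.P → x ∈ Pe D y → x ∈ Card.Z D := by
    intro x hx hx'
    obtain ⟨b, hb, h⟩ := H.inf hx hx'
    exact ⟨b, hb, h⟩
  -- bijection `U × Z ≃ P × P_e`
  let φ : (T.U × Card.Z D) → (D.P × Pe D y) := fun x =>
    (⟨g x.1 * (x.2 : G), mul_mem (hgP x.1) (Card.Z_le_P D x.2.2)⟩,
      ⟨(x.2 : G)⁻¹ * r x.1, mul_mem (inv_mem (by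
        obtain ⟨b, hb, h⟩ := x.2.2
        rw [h]; exact H.z_mem_Pe hb)) (hr x.1)⟩)
  have hφ : Function.Bijective φ := by
    constructor
    · rintro ⟨u, z⟩ ⟨u', z'⟩ h
      have h1 : g u * (z : G) = g u' * (z' : G) := congrArg (fun t => ((t.1 : D.P) : G)) h
      have h2 : (z : G)⁻¹ * r u = (z' : G)⁻¹ * r u' := congrArg (fun t => ((t.2 : Pe D y) : G)) h
      have h3 : (u : G) = u' := by
        rw [hgr u, hgr u']
        calc g u * r u = (g u * (z : G)) * ((z : G)⁻¹ * r u) := by group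
          _ = (g u' * (z' : G)) * ((z' : G)⁻¹ * r u') := by rw [h1, h2]
          _ = _ := by group
      have h4 : u = u' := Subtype.ext h3
      subst h4
      have h5 : (z : G) = z' := mul_left_cancel h1
      rw [Subtype.ext h5]
    · rintro ⟨p, s⟩
      have hu : (p : G) * (s : G) ∈ T.U := mul_mem (T.P_le p.2) (H.Pe_le s.2)
      set u : T.U := ⟨(p : G) * (s : G), hu⟩ with hu'
      have h1 : (p : G) * s = g u * r u := hgr u
      have h2 : (g u)⁻¹ * p = r u * (s : G)⁻¹ := by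
        rw [eq_mul_inv_iff_mul_eq, mul_assoc, h1]; group
      have h3 : (g u)⁻¹ * (p : G) ∈ Card.Z D := by
        apply hinf _ (mul_mem (inv_mem (hgP u)) p.2)
        rw [h2]; exact mul_mem (hr u) (inv_mem s.2)
      refine ⟨(u, ⟨(g u)⁻¹ * p, h3⟩), ?_⟩
      apply Prod.ext
      · apply Subtype.ext
        show g u * ((g u)⁻¹ * (p : G)) = p
        group
      · apply Subtype.ext
        show ((g u)⁻¹ * (p : G))⁻¹ * r u = s
        rw [h2]; group
  have h1 := Nat.card_congr (Equiv.ofBijective φ hφ)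
  rw [Nat.card_prod, Nat.card_prod, hP, hPe, hZ] at h1
  have h2 : Nat.card T.U * 2 ^ n = (2 ^ n) ^ 5 * 2 ^ n := by rw [h1]; ring
  exact Nat.eq_of_mul_eq_mul_right (by positivity) h2

/-! ### Coordinates -/

variable {C : Cen D F.O} (hTU : T.U = Tower.Cen.U C)
include hTU

theorem exists_out : ∃ c, c ≠ 0 ∧ N n c = 1 ∧ Tower.OuterU.OutU C e c := by
  obtain ⟨c, hc, hNc, h1, -⟩ := H.he.line
  refine ⟨c, hc, hNc, H.he.t, H.e_sq, H.he.P, h1, ?_⟩
  intro g hg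
  rw [← hTU] at hg ⊢
  exact e_U H hg

/-- the `P`-part of the elements of `P_e` is on the line of `e`. -/
theorem al_line {c : K} (ho : Tower.OuterU.OutU C e c) {x : G} (hx : x ∈ Pe D y) :
    c * bar n (al C x) = al C x := by
  have hxU := H.Pe_le hx
  rw [hTU] at hxU
  obtain ⟨p, hp, m, hm, h1⟩ := hxU
  have h2 := H.hy.Pe_e hx
  have h3 : x = (e * p * e⁻¹) * (e * m * e⁻¹) := by
    calc x = e * x * e⁻¹ := by rw [← h2, mul_inv_cancel_right]
      _ = _ := by rw [h1]; group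
  have h4 := al_eq C (ho.P_mem p hp) (ho.M_mem hm)
  rw [← h3, ho.ca_conj p hp] at h4
  have h5 := al_eq C hp hm
  rw [← h1] at h5
  rw [h5, ← h4, h5]

omit [Finite G] in
/-- the commutators `[P, U]`. -/
theorem cmt_PU {p x : G} (hp : p ∈ D.P) (hx : x ∈ T.U) :
    p * x * p⁻¹ * x⁻¹ = D.z (Tr n (D.ca p * bar n (al C x))) := by
  rw [hTU] at hx
  obtain ⟨p', hp', m, hm, rfl⟩ := hx
  rw [al_eq C hp' hm]
  have h1 := C.M_P m hm p hp
  have h2 : p * (p' * m) = D.z (Tr n (D.ca p * bar n (D.ca p'))) * (p' * m * p) := by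
    calc p * (p' * m) = (p * p') * m := by group
      _ = D.z (Tr n (D.ca p * bar n (D.ca p'))) * (p' * (p * m)) := by
          rw [D.P_comm p hp p' hp']; group
      _ = _ := by rw [← h1]; group
  rw [h2]; group

/-- the commutator form of `U` is nondegenerate -/
theorem surj (A : Cl C) {x : G} (hx : x ∈ T.U) (hxz : ∀ b, bar n b = b → x ≠ D.z b) {b : K}
    (hb : bar n b = b) : ∃ x' ∈ T.U, x * x' * x⁻¹ * x'⁻¹ = D.z b := by
  have hxC := hx
  rw [hTU] at hxC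
  have hsw : ∀ {v w : G} {b : K}, v * w * v⁻¹ * w⁻¹ = D.z b → w * v * w⁻¹ * v⁻¹ = D.z b := by
    intro v w b h
    have e1 : w * v * w⁻¹ * v⁻¹ = (v * w * v⁻¹ * w⁻¹)⁻¹ := by group
    rw [e1, h, Swap.z_inv]
  by_cases h0 : al C x = 0
  · have hxM := al_ker C hxC h0
    by_cases hxW : x ∈ A.W
    · -- `x ∈ W ∖ Z`
      have hu0 : A.u x ≠ 0 := by
        intro h
        obtain ⟨b', hb', h'⟩ := A.u_ker x hxW h
        exact hxz b' hb' h'
      obtain ⟨m, hm, he⟩ := A.e_surj (b * b * (A.u x)⁻¹)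
        (fixed_mul (fixed_mul hb hb) (fixed_inv (A.u_fixed x hxW)))
      obtain ⟨c, hc, h1⟩ := C.cm_mem m hm x hxM
      have h2 := A.cm_eq m hm x hxW c hc h1
      rw [he, mul_assoc, inv_mul_cancel₀ hu0, mul_one] at h2
      have h3 : c = b := by
        have h4 : (c + b) * (c + b) = 0 := by
          have : (c + b) * (c + b) = c * c + b * b + (b * c + b * c) := by ring
          rw [this, h2, Field.add_self, Field.add_self, add_zero]
        exact Field.add_eq_zero.mp (mul_self_eq_zero.mp h4)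
      subst h3
      refine ⟨m, ?_, hsw h1⟩
      rw [hTU]; exact M_le C hm
    · -- `x ∈ M ∖ W`
      have he0 : A.e x ≠ 0 := fun h => hxW ((A.e_ker x hxM).mp h)
      obtain ⟨w, hw, hu⟩ := A.u_surj ((A.e x)⁻¹ * (b * b))
        (fixed_mul (fixed_inv (A.e_fixed x hxM)) (fixed_mul hb hb))
      obtain ⟨c, hc, h1⟩ := C.cm_mem x hxM w (A.W_le hw)
      have h2 := A.cm_eq x hxM w hw c hc h1
      rw [hu, ← mul_assoc, mul_inv_cancel₀ he0, one_mul] at h2
      have h3 : c = b := by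
        have h4 : (c + b) * (c + b) = 0 := by
          have : (c + b) * (c + b) = c * c + b * b + (b * c + b * c) := by ring
          rw [this, h2, Field.add_self, Field.add_self, add_zero]
        exact Field.add_eq_zero.mp (mul_self_eq_zero.mp h4)
      subst h3
      refine ⟨w, ?_, h1⟩
      rw [hTU]; exact M_le C (A.W_le hw)
  · obtain ⟨a, ha⟩ := exists_Tr_eq D.hq h0 hb
    obtain ⟨p, hp, rfl⟩ := D.ca_surj a
    refine ⟨p, T.P_le hp, hsw ?_⟩
    rw [cmt_PU H hTU hp hx, Tr_comm D.hq, ha]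

/-- `[t, r] ∈ Z` implies `[P, r] = 1` -/
theorem al_of_t (A : Cl C) {r : G} (hr : r ∈ Pe D y) {b : K} (hb : bar n b = b)
    (h : D.t * r * D.t⁻¹ * r⁻¹ = D.z b) : al C r = 0 := by
  have hrU := H.Pe_le hr
  rw [hTU] at hrU
  obtain ⟨p, hp, m, hm, hrpm⟩ := hrU
  have htp := D.t_P p hp
  have hti : D.t⁻¹ = D.t := by rw [inv_eq_iff_mul_eq_one, D.t_sq]
  -- `[m, t] ∈ Z`
  have h1 : D.t * m * D.t⁻¹ = D.z b * m := by
    have e1 : D.t * r * D.t⁻¹ = p * (D.t * m * D.t⁻¹) := by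
      rw [hrpm]
      calc D.t * (p * m) * D.t⁻¹ = (D.t * p) * m * D.t⁻¹ := by group
        _ = _ := by rw [htp]; group
    have e2 : D.t * r * D.t⁻¹ = D.z b * r := by
      rw [← h]; group
    have e3 : p * (D.t * m * D.t⁻¹) = p * (D.z b * m) := by
      rw [← e1, e2, hrpm]
      have := H.z_cen (T.P_le hp) b
      rw [← mul_assoc, ← this]; group
    exact mul_left_cancel e3
  have h2 : m * D.t * m⁻¹ * D.t = D.z b := by
    have e1 : m * D.t * m⁻¹ * D.t = (D.t * m * D.t⁻¹ * m⁻¹)⁻¹ := by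
      rw [hti]
      have e2 : (D.t * m * D.t * m⁻¹)⁻¹ = m * D.t⁻¹ * m⁻¹ * D.t⁻¹ := by group
      rw [e2, hti]
    rw [e1, h1, mul_inv_cancel_right, Swap.z_inv]
  have h3 : A.e m = 0 := by
    rw [← A.u_a m hm, h2]
    have h4 := A.W_sq _ (A.z_W b)
    rw [z_self] at h4
    exact D.z_inj _ (A.u_fixed _ (A.z_W b)) h4.symm
  have hmW := (A.e_ker m hm).mp h3
  have h4 := A.W_inv m hmW
  -- `t r t⁻¹ = r⁻¹`
  have h5 : D.t * r * D.t⁻¹ = r⁻¹ :=
    (SwapHalf.half_Pe H.he.toInv H.hy).inv r hr (by rw [h]; exact ⟨b, hb, rfl⟩)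
  have h6 : D.t * r * D.t⁻¹ = p * m⁻¹ := by
    rw [hrpm, ← h4]
    calc D.t * (p * m) * D.t⁻¹ = (D.t * p) * m * D.t⁻¹ := by group
      _ = _ := by rw [htp]; group
  have h7 : p * m⁻¹ = p⁻¹ * m⁻¹ := by
    rw [← h6, h5, hrpm, mul_inv_rev, C.M_P _ (inv_mem hm) _ (inv_mem hp)]
  have h8 : p * p = 1 := by
    have := mul_right_cancel h7
    nth_rewrite 1 [this]; group
  rw [hrpm, al_eq C hp hm]
  exact ca_zero_of_sq hp h8

/-! ### the functions `τ` and `k` -/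

omit [Finite G] H hTU in
/-- `τ` -/
noncomputable def tau (D : Pre G K n) (a0 : K) (p : G) : K := Tr n (D.ca p * bar n a0)

omit [Finite G] H hTU in
/-- `k` -/
noncomputable def kk (C : Cen D F.O) (a0 : K) (r : G) : K := al C r * a0⁻¹

omit [Finite G] H hTU in
theorem tau_fix (a0 : K) (p : G) : bar n (tau D a0 p) = tau D a0 p := fixed_Tr D.hq _

omit [Finite G] H hTU in
theorem tau_mul (a0 : K) {p p' : G} (hp : p ∈ D.P) (hp' : p' ∈ D.P) :
    tau D a0 (p * p') = tau D a0 p + tau D a0 p' := by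
  unfold tau
  rw [D.ca_mul p hp p' hp', add_mul, Tr_add]

omit [Finite G] H hTU in
theorem tau_surj {a0 : K} (h0 : a0 ≠ 0) {b : K} (hb : bar n b = b) : ∃ p ∈ D.P, tau D a0 p = b := by
  obtain ⟨a, ha⟩ := exists_Tr_eq D.hq h0 hb
  obtain ⟨p, hp, rfl⟩ := D.ca_surj a
  refine ⟨p, hp, ?_⟩
  unfold tau
  rw [Tr_comm D.hq, ha]

theorem kk_fix {c : K} (ho : Tower.OuterU.OutU C e c) {a0 : K} (h0 : a0 ≠ 0)
    (hl : c * bar n a0 = a0) {r : G} (hr : r ∈ Pe D y) : bar n (kk C a0 r) = kk C a0 r := by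
  have h1 := al_line H hTU ho hr
  have hc := ho.c_ne
  have hb0 : bar n a0 ≠ 0 := by
    intro h
    rw [h, mul_zero] at hl
    exact h0 hl.symm
  unfold kk
  rw [bar_mul, bar_inv]
  have h3 : a0⁻¹ = c⁻¹ * (bar n a0)⁻¹ := by rw [← mul_inv, hl]
  have h2 : c * (bar n (al C r) * (bar n a0)⁻¹) = c * (al C r * a0⁻¹) := by
    rw [← mul_assoc, h1, h3]
    calc al C r * (bar n a0)⁻¹ = (c * c⁻¹) * (al C r * (bar n a0)⁻¹) := by
          rw [mul_inv_cancel₀ hc, one_mul]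
      _ = _ := by ring
  exact mul_left_cancel₀ hc h2

theorem kk_mul (a0 : K) {r r' : G} (hr : r ∈ Pe D y) (hr' : r' ∈ Pe D y) :
    kk C a0 (r * r') = kk C a0 r + kk C a0 r' := by
  have h1 := H.Pe_le hr
  have h2 := H.Pe_le hr'
  rw [hTU] at h1 h2
  unfold kk
  rw [al_mul C h1 h2, add_mul]

theorem cmt_PR {c : K} (ho : Tower.OuterU.OutU C e c) {a0 : K} (h0 : a0 ≠ 0)
    (hl : c * bar n a0 = a0) {p r : G} (hp : p ∈ D.P) (hr : r ∈ Pe D y) :
    p * r * p⁻¹ * r⁻¹ = D.z (tau D a0 p * kk C a0 r) := by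
  rw [cmt_PU H hTU hp (H.Pe_le hr)]
  have h1 : al C r = kk C a0 r * a0 := by
    unfold kk
    rw [mul_assoc, inv_mul_cancel₀ h0, mul_one]
  have h2 := kk_fix H hTU ho h0 hl hr
  congr 1
  rw [h1, bar_mul, h2]
  unfold tau
  rw [mul_comm (Tr n _), ← Tr_mul_fixed h2]
  congr 1
  ring

omit hTU in
theorem S2_z (hn : Odd n) {x : G} (hx : x ∈ S2 F T H.hU) {b : K} (hb : bar n b = b) :
    x * D.z b = D.z b * x := by
  have h1 : Commute D.t (D.z b) := D.t_P _ (D.z_mem b)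
  have h2 : Commute e (D.z b) := (H.he.toInv.ze hb).symm
  have h3 : ∀ u ∈ T.U, Commute u (D.z b) := fun u hu => H.z_cen hu b
  rcases S2_cases H hn hx with h | h | h | h
  · exact h3 x h
  · have h4 : Commute ((x * D.t) * D.t⁻¹) (D.z b) := (h3 _ h).mul_left h1.inv_left
    rwa [mul_inv_cancel_right] at h4
  · have h4 : Commute ((x * e) * e⁻¹) (D.z b) := (h3 _ h).mul_left h2.inv_left
    rwa [mul_inv_cancel_right] at h4
  · have h4 : Commute ((x * (D.t * e)) * (D.t * e)⁻¹) (D.z b) :=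
      (h3 _ h).mul_left (h1.mul_left h2).inv_left
    rwa [mul_inv_cancel_right] at h4

/-- **`Z` is central in `S`** -/
theorem Zc {c : K} (ho : Tower.OuterU.OutU C e c) {a0 : K} (h0 : a0 ≠ 0)
    (hl : c * bar n a0 = a0) (hn : Odd n) (hk : ∃ r ∈ Pe D y, kk C a0 r ≠ 0) {S : Subgroup G}
    (hS : Syl H S) {x : G} (hx : x ∈ S) {b : K} (hb : bar n b = b) :
    x * D.z b = D.z b * x := by
  by_cases hx2 : x ∈ S2 F T H.hU
  · exact S2_z H hn hx2 hb
  obtain ⟨⟨u, hu, h1⟩, v, hv, h2⟩ := swap hS hx hx2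
  have hxM := hS.M0 hx
  have hxP : ∀ p ∈ D.P, x * p * x⁻¹ ∈ Pe D y := fun p hp => H.swap_P hxM hu h1 hp
  have hxPe : ∀ r ∈ Pe D y, x * r * x⁻¹ ∈ D.P := fun r hr => H.swap_Pe hxM hv h2 hr
  have hz : ∀ b : Tower.GBase.Fq K n, ∃ d : Tower.GBase.Fq K n,
      x * D.z b * x⁻¹ = D.z d := by
    intro b
    obtain ⟨d, hd, h3⟩ := H.inf (hxPe _ (H.z_mem_Pe b.2)) (hxP _ (D.z_mem b))
    exact ⟨⟨d, hd⟩, h3⟩
  choose θ hθ using hz
  have hcard : Nat.card (Tower.GBase.Fq K n) = 2 ^ n := Card.card_Fq D.hq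
  have hzeq : ∀ {a b : Tower.GBase.Fq K n}, D.z (a : K) = D.z (b : K) → a = b := by
    intro a b h
    exact Subtype.ext (z_eq D a.2 b.2 h)
  have key := AutOdd.theta_id hn hcard (X := D.P) (Y := Pe D y) θ
    (by
      intro a b
      apply hzeq
      show D.z (θ (a + b) : K) = D.z ((θ a : K) + (θ b : K))
      rw [D.z_add, ← hθ, ← hθ, ← hθ]
      show x * D.z ((a : K) + (b : K)) * x⁻¹ = _
      rw [D.z_add]; group)
    (by
      intro a
      apply hzeq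
      rw [← hθ, ← hθ]
      have e1 : x * (x * D.z (a : K) * x⁻¹) * x⁻¹ = (x * x) * D.z (a : K) * (x * x)⁻¹ := by group
      rw [e1, S2_z H hn (swap_sq hS hx hx2) a.2, mul_inv_cancel_right])
    (fun p => ⟨tau D a0 p, tau_fix a0 _⟩)
    (fun p => ⟨kk C a0 (x * p * x⁻¹), kk_fix H hTU ho h0 hl (hxP p p.2)⟩)
    (fun r => ⟨kk C a0 r, kk_fix H hTU ho h0 hl r.2⟩)
    (fun r => ⟨tau D a0 (x * r * x⁻¹), tau_fix a0 _⟩)
    (by
      rintro ⟨b, hb⟩
      obtain ⟨p, hp, h⟩ := tau_surj (D := D) h0 hb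
      exact ⟨⟨p, hp⟩, Subtype.ext h⟩)
    (by
      obtain ⟨r, hr, hr0⟩ := hk
      exact ⟨⟨r, hr⟩, fun h => hr0 (congrArg Subtype.val h)⟩)
    (fun p => ⟨⟨x * p * x⁻¹, hxP p p.2⟩, rfl⟩)
    (by
      rintro ⟨p, hp⟩ ⟨r, hr⟩
      apply hzeq
      rw [← hθ]
      show x * D.z (tau D a0 p * kk C a0 r) * x⁻¹ =
        D.z (kk C a0 (x * p * x⁻¹) * tau D a0 (x * r * x⁻¹))
      rw [← cmt_PR H hTU ho h0 hl hp hr, mul_comm (kk C a0 _),
        ← cmt_PR H hTU ho h0 hl (hxPe r hr) (hxP p hp)]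
      have h3 := cmt_PR H hTU ho h0 hl (hxPe r hr) (hxP p hp)
      have e1 : x * (p * r * p⁻¹ * r⁻¹) * x⁻¹ =
          (x * r * x⁻¹ * (x * p * x⁻¹) * (x * r * x⁻¹)⁻¹ * (x * p * x⁻¹)⁻¹)⁻¹ := by group
      rw [e1, h3, Swap.z_inv])
    ⟨b, hb⟩
  have h3 := hθ ⟨b, hb⟩
  rw [key] at h3
  exact mul_inv_eq_iff_eq_mul.mp h3

/-- **The constructor** -/
theorem exists_goneL (A : Cl C) {E : Subgroup G} (hG : Glob D.t E) (hUE : T.U ≤ E) (hn : Odd n)
    (hne : ∃ p ∈ D.P, ∃ r ∈ Pe D y, p * r ≠ r * p) (S : Sylow 2 G) (hS : Syl H (S : Subgroup G)) :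
    ∃ τ k, GOneL D E S T.U (Pe D y) e τ k := by
  have : Fact (Nat.Prime 2) := ⟨Nat.prime_two⟩
  have hodd : Odd (S : Subgroup G).index := by
    have h6 := S.not_dvd_index
    rwa [← even_iff_two_dvd, Nat.not_even_iff_odd] at h6
  have htE := t_not_E hS hG hn hodd
  obtain ⟨c, hc, hNc, ho⟩ := exists_out H hTU
  obtain ⟨a0, hl, hN0⟩ := exists_on_line D.hq hNc (bar_one n)
  have h0 : a0 ≠ 0 := by
    rintro rfl
    rw [N_zero] at hN0
    exact zero_ne_one hN0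
  have hk : ∃ r ∈ Pe D y, kk C a0 r ≠ 0 := by
    obtain ⟨p, hp, r, hr, h⟩ := hne
    refine ⟨r, hr, fun h1 => h ?_⟩
    have h2 := cmt_PR H hTU ho h0 hl hp hr
    rw [h1, mul_zero, z_zero, mul_inv_eq_one, mul_inv_eq_iff_eq_mul] at h2
    exact h2
  refine ⟨tau D a0, kk C a0, ?_⟩
  exact
    { n3 := by
        have h2 := D.hq.hn
        obtain ⟨k, hk⟩ := hn
        omega
      E_normal := hG.normal
      t_E := htE
      U_le := US hS
      U_norm := fun x hx u hu => S_U hS hx hu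
      U_E := hUE
      cardU := card_U H
      P_le := T.P_le
      R_le := H.Pe_le
      Z_R := fun b hb => H.z_mem_Pe hb
      PR := H.PPe
      inf := fun x hx hx' => H.inf hx hx'
      Zc := fun x hx b hb => Zc H hTU ho h0 hl hn hk hS hx hb
      sqU := fun x hx => sq_U H hx
      cmt := fun x hx y hy => cmt_U H hx hy
      surj := fun x hx hxz b hb => surj H hTU A hx hxz hb
      tS := tS hS
      eS := eS hS
      ee := H.e_sq
      te := H.e_t.symm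
      e_R := fun r hr => (H.hy.Pe_e hr).symm
      R_e := fun u hu h => H.mem_Pe_of_comm hu h
      P_t := T.comm_t
      e_P := H.he.P
      t_R := fun r hr => (H.hy.t_Pe H.he.toInv hr).1
      inv_P := by
        intro p hp b hb h
        have h1 : e * p * e⁻¹ = p⁻¹ := H.half.inv p hp (by rw [h]; exact ⟨b, hb, rfl⟩)
        have hline : c * bar n (D.ca p) = D.ca p := by
          rw [← ho.ca_conj p hp, h1, ca_inv D hp]
        refine ⟨h1, ?_, ?_⟩
        · unfold tau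
          exact Outer.Tr_line D.hq hNc hline hl
        · obtain ⟨v, hv, h2⟩ := H.he.toInv.conj_of_sq hp (by
            have e1 : p * e * (p * e) = p * (e * p * e⁻¹) * (e * e) := by group
            rw [e1, h1, H.e_sq, mul_inv_cancel, mul_one])
          exact ⟨v, hv, h2.symm⟩
      inv_R := by
        intro r hr b hb h
        have h1 : D.t * r * D.t⁻¹ = r⁻¹ :=
          (SwapHalf.half_Pe H.he.toInv H.hy).inv r hr (by rw [h]; exact ⟨b, hb, rfl⟩)
        refine ⟨h1, ?_, ?_⟩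
        · unfold kk
          rw [al_of_t H hTU A hr hb h, zero_mul]
        · have e0 : y⁻¹ * D.t * y = e := by rw [← H.hy.et]; group
          obtain ⟨v, hv, h2⟩ := H.he.toInv.conj_of_sq (mem_Pe.mp hr) (by
            calc y⁻¹ * r * y * e * (y⁻¹ * r * y * e) =
                y⁻¹ * r * y * (y⁻¹ * D.t * y) * (y⁻¹ * r * y * (y⁻¹ * D.t * y)) := by rw [e0]
              _ = y⁻¹ * (r * (D.t * r * D.t⁻¹) * (D.t * D.t)) * y := by group
              _ = 1 := by rw [h1, D.t_sq, mul_inv_cancel, mul_one]; group)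
          refine ⟨y * v * y⁻¹, Swap.conj_P hv, ?_⟩
          calc y * v * y⁻¹ * D.t * (y * v * y⁻¹)⁻¹ = y * (v * (y⁻¹ * D.t * y) * v⁻¹) * y⁻¹ := by group
            _ = y * (y⁻¹ * r * y * (y⁻¹ * D.t * y)) * y⁻¹ := by rw [e0, h2]
            _ = r * D.t := by group
      e_E := by
        intro he
        apply htE
        have h1 := hG.normal.conj_mem _ he y
        rwa [H.hy.et] at h1
      fus := fun g hg => hS.fus hg
      cls := by
        intro x hx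
        rcases hS.cl x (mul_mem (mul_mem hx (tS hS)) (inv_mem hx)) with ⟨u, hu, h⟩ | ⟨u, hu, h⟩
        · exact Or.inl ⟨u, hu, h.symm⟩
        · right
          obtain ⟨p, hp, r, hr, rfl⟩ := H.PPe u hu
          refine ⟨p, hp, ?_⟩
          rw [← h]
          have h1 := H.hy.Pe_e hr
          calc p * r * e * (p * r)⁻¹ = p * (r * e) * r⁻¹ * p⁻¹ := by group
            _ = _ := by rw [h1]; group
      Xi := by
        intro x hx h
        have hti : D.t⁻¹ = D.t := by rw [inv_eq_iff_mul_eq_one, D.t_sq]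
        rcases Sg_cases H hn (comm_Sg hS hx h) with h1 | h1 | h1 | h1
        · exact Or.inl h1
        · right; left
          rwa [← h]
        · right; right; left
          have h2 := H.he.P _ h1
          have e1 : e * (x * e) * e⁻¹ = e * x := by group
          rwa [e1] at h2
        · right; right; right
          have h2 := H.he.P _ h1
          have e1 : e * (x * (D.t * e)) * e⁻¹ = D.t * e * x := by
            calc e * (x * (D.t * e)) * e⁻¹ = e * (x * D.t) := by group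
              _ = (e * D.t) * x := by rw [h]; group
              _ = _ := by rw [H.e_t]
          rwa [e1] at h2
      cardS := by
        have h1 := card_S hS hn
        rwa [card_U H] at h1
      fusC := by
        intro g hg b hb h
        have h1 := ch_conj F hg (comm_mul rfl H.he.t : (D.t * e) * D.t = D.t * (D.t * e))
        rw [h, ch_P F (D.z_mem b), ch_mul F rfl H.he.t, ch_t, one_mul, H.he.ch] at h1
        exact barE_ne_one D.hq h1.symm
      τ_fix := fun p _ => tau_fix a0 p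
      τ_mul := fun p hp p' hp' => tau_mul a0 hp hp'
      τ_surj := fun b hb => tau_surj h0 hb
      k_fix := fun r hr => kk_fix H hTU ho h0 hl hr
      k_mul := fun r hr r' hr' => kk_mul H hTU a0 hr hr'
      k_ne := hk
      cmt_PR := fun p hp r hr => cmt_PR H hTU ho h0 hl hp hr }

/-- **the output**, `[P, P_e] ≠ 1`, `n` odd. -/
theorem out (A : Cl C) {E : Subgroup G} (hG : Glob D.t E) (hUE : T.U ≤ E) (hn : Odd n)
    (hne : ∃ p ∈ D.P, ∃ r ∈ Pe D y, p * r ≠ r * p) : Out D.t E := by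
  obtain ⟨S, hS⟩ := H.exists_sylow
  obtain ⟨τ, k, h⟩ := exists_goneL H hTU A hG hUE hn hne S hS
  exact GOneLAb.out h

end Cfsg.Agent.StdU3.GOneLMk
end

-- part: StdU3/GOneMain
section
/-!
# Type `g1`: final glue
-/

set_option autoImplicit false
set_option linter.unusedSectionVars false
set_option linter.dupNamespace false

namespace Cfsg.Agent.StdU3.GOneMain

open Subgroup Cfsg.Agent.StdU3.Field Cfsg.Agent.StdU3.PreDef Cfsg.Agent.StdU3.FldDef
open Cfsg.Agent.StdU3.LevelOne Cfsg.Agent.StdU3.TermDef Cfsg.Agent.StdU3.LevelOneW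
open Cfsg.Agent.StdU3.MainDef Cfsg.Agent.StdU3.Swap Cfsg.Agent.StdU3.GOneSyl
open Cfsg.Agent.StdU3.Tower.GBase Cfsg.Agent.StdU3.Tower.End Cfsg.Agent.StdU3.Tower.Cen
open Cfsg.Agent.StdU3.OuterC

variable {G : Type*} [Group G] [Finite G] {K : Type*} [Field K] [Fintype K] [CharP K 2] {n : ℕ}
variable {D : Pre G K n} {F : Fld D}

/-- **type `g1`**: this is `Main.ConsOne F E`. -/
theorem consOne (F : Fld D) (E : Subgroup G) :
    ∀ (e g : G) (c r : K), e ∈ F.Sg → OuterA.Dat F e g c r → gam D = 1 → Glob D.t E → F.A ≤ E →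
    Out D.t E := by
  intro e g c r heS h hg hG hAE
  have hch : Rank.ch F e = FieldAut.barE D.hq := h.inv.ch
  obtain ⟨E3, y, c', r', h', H⟩ := GOneMk.exists_g1 hg heS hch h.cj.te
  have hUE : (T3 E3).U ≤ E := by
    haveI := hG.normal
    intro x hx
    exact Gen.mem_of_gen hG.gen (fun p hp => hAE (F.P_A hp))
      (fun M _ f hf => OuterC.gen E3 f hf (by rwa [T3_U] at hx))
  have hcard : Nat.card (T3 E3).U = (2 ^ n) ^ 5 := card_U3 E3
  have A := Tower.Inst.clIII E3.V le_rfl E3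
  by_cases hPR : ∀ x ∈ D.P, ∀ r ∈ Pe D y, x * r = r * x
  · exact (GOneMkA.false_of_comm H hG hUE hcard hPR).elim
  · rcases Nat.even_or_odd n with hn | hn
    · exact absurd (GOneA.comm_of_even H (C3 E3) A (T3_U E3) hn) hPR
    · push Not at hPR
      exact GOneLMk.out H (T3_U E3) A hG hUE hn hPR

end Cfsg.Agent.StdU3.GOneMain
end

private theorem dce_aa07faeabe4c : _root_.True := by
  try have : _root_.True := by simp only [_root_.Cfsg.Agent.StdU3.Tower.TwoCl.cj.eq_1]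
  exact _root_.True.intro
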